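import Cfsg.Agent.H916.LowNondegGeo
import Cfsg.Agent.H926.NondegLow
import Cfsg.Agent.H926.MinusA
import Cfsg.Agent.H888.SubfieldMax
import Mathlib
import Cfsg.Agent.H884.ExtB5
import Cfsg.Agent.H884.ExtGL
import Cfsg.Statements.S5825
set_option linter.all false

-- part: H179/FourTwo
section
/-!
Maximality in `E Q = Ω(Q)` of the stabiliser of a nondegenerate 4-space in an 8-dimensional space of minus type,
over the field with two elements (one of the two complementary 4-spaces has plus type, the other minus type).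
-/

set_option autoImplicit false

namespace Cfsg.Agent.H179.FourTwo

open QuadraticMap hiding proj
open Cfsg.Agent.LieClassical.OrthCore Cfsg.Agent.LieClassical.OrthTrans
  Cfsg.Agent.LieClassical.OrthFinite Cfsg.Agent.LieClassical.OrthSimple Cfsg.Agent.H885.RootT
  Cfsg.Agent.H885.Irr Cfsg.Agent.H885.Nondeg Cfsg.Agent.H883.Bridge Cfsg.Agent.H916.LowNondeg

variable {F V : Type*} [Field F] [AddCommGroup V] [Module F V] {Q : QuadraticForm F V}
  {W U : Submodule F V} {M : Subgroup (V ≃ₗ[F] V)}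

/-- `a, c` span a totally singular line. -/
structure Line (Q : QuadraticForm F V) (a c : V) : Prop where
  left : Q a = 0
  right : Q c = 0
  perp : polar Q a c = 0
  indep : LinearIndependent F ![a, c]

theorem Line.left_ne {a c : V} (h : Line Q a c) : a ≠ 0 := by
  simpa using h.indep.ne_zero 0

theorem Line.right_ne {a c : V} (h : Line Q a c) : c ≠ 0 := by
  simpa using h.indep.ne_zero 1

theorem Line.sum_ne {a c : V} (h : Line Q a c) : a + c ≠ 0 := by
  intro h0
  have := LinearIndependent.pair_iff.1 h.indep 1 1 (by rw [one_smul, one_smul]; exact h0)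
  exact one_ne_zero this.1

theorem Line.sing {a c : V} (h : Line Q a c) (s t : F) : Q (s • a + t • c) = 0 := by
  rw [Q_add, QuadraticMap.map_smul, QuadraticMap.map_smul, polar_smul_left, polar_smul_right, h.left, h.right,
    h.perp]
  simp

/-- Every singular vector of `U` is orthogonal to a totally singular line of `U`. -/
theorem exists_line {l₁ l₂ : V} (hl₁ : l₁ ∈ U) (hl₂ : l₂ ∈ U) (hl : Line Q l₁ l₂) {u : V} (hu : u ∈ U)
    (hQu : Q u = 0) : ∃ a ∈ U, ∃ c ∈ U, Line Q a c ∧ polar Q a u = 0 ∧ polar Q c u = 0 := by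
  by_cases hm : ∃ s t : F, u = s • l₁ + t • l₂
  · obtain ⟨s, t, rfl⟩ := hm
    refine ⟨l₁, hl₁, l₂, hl₂, hl, ?_, ?_⟩
    · rw [polar_add_right, polar_smul_right, polar_smul_right, polar_self_of_sing hl.left, hl.perp]
      simp
    · rw [polar_add_right, polar_smul_right, polar_smul_right, polar_comm Q l₂ l₁,
        polar_self_of_sing hl.right, hl.perp]
      simp
  · push Not at hm
    have key : ∀ s t : F, (s ≠ 0 ∨ t ≠ 0) → polar Q u (s • l₁ + t • l₂) = 0 →
        ∃ a ∈ U, ∃ c ∈ U, Line Q a c ∧ polar Q a u = 0 ∧ polar Q c u = 0 := by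
      intro s t hst h0
      refine ⟨u, hu, s • l₁ + t • l₂, U.add_mem (U.smul_mem _ hl₁) (U.smul_mem _ hl₂),
        ⟨hQu, hl.sing s t, h0, ?_⟩, polar_self_of_sing hQu, by rw [polar_comm]; exact h0⟩
      rw [LinearIndependent.pair_iff]
      intro x y hxy
      have hx : x = 0 := by
        by_contra hx
        apply hm (-(x⁻¹ * y * s)) (-(x⁻¹ * y * t))
        have : u = x⁻¹ • (x • u) := by rw [smul_smul, inv_mul_cancel₀ hx, one_smul]
        rw [this, eq_neg_of_add_eq_zero_left hxy]
        module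
      refine ⟨hx, ?_⟩
      rw [hx, zero_smul, zero_add] at hxy
      rcases smul_eq_zero.1 hxy with h | h
      · exact h
      · exfalso
        have h2 := LinearIndependent.pair_iff.1 hl.indep s t h
        rcases hst with h3 | h3
        · exact h3 h2.1
        · exact h3 h2.2
    by_cases h1 : polar Q u l₁ = 0
    · exact key 1 0 (Or.inl one_ne_zero) (by rw [one_smul, zero_smul, add_zero]; exact h1)
    · refine key (polar Q u l₂) (-(polar Q u l₁)) (Or.inr (neg_ne_zero.2 h1)) ?_
      rw [polar_add_right, polar_smul_right, polar_smul_right]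
      simp only [smul_eq_mul]
      ring

/-- **Uniqueness**: `g ∈ M` mapping a nonzero singular vector of `U` into `U` preserves `U`. -/
theorem map_le (S : Setup Q W U M) [Module.Finite F V] {l₁ l₂ : V} (hl₁ : l₁ ∈ U) (hl₂ : l₂ ∈ U)
    (hl : Line Q l₁ l₂) {g : V ≃ₗ[F] V} (hg : g ∈ M) {p : V} (hp : p ∈ U) (hp0 : p ≠ 0) (hQp : Q p = 0)
    (hgp : g p ∈ U) {v : V} (hv : v ∈ U) : g v ∈ U := by
  have hUn : NdOn Q U := S.split.ndOn_right S.nondeg
  have hgO := S.hMO hg
  have step : ∀ p ∈ U, p ≠ 0 → Q p = 0 → g p ∈ U → ∀ v ∈ U, polar Q p v = 0 → g v ∈ U := by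
    intro p hp hp0 hQp hgp v hv hpv
    have hQgp : Q (g p) = 0 := by rw [mem_O.1 hgO]; exact hQp
    have h1 := T_conj hg hgO (S.mem_T hQp hp hv hpv) hQgp
    exact S.mem_U hQgp hgp (fun h0 => hp0 (by simpa using h0)) h1
  obtain ⟨a, ha, c, hc, hac, hap, hcp⟩ := exists_line hl₁ hl₂ hl hp hQp
  -- a singular vector orthogonal to `p`, not a multiple of it
  obtain ⟨d, hd, hQd, hpd, hdp⟩ : ∃ d ∈ U, Q d = 0 ∧ polar Q p d = 0 ∧ ∀ k : F, d ≠ k • p := by
    by_cases h1 : ∃ k : F, a = k • p
    · obtain ⟨k, hk⟩ := h1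
      refine ⟨c, hc, hac.right, by rw [polar_comm]; exact hcp, ?_⟩
      rintro k' rfl
      have hk0 : k ≠ 0 := by
        rintro rfl
        rw [zero_smul] at hk
        exact hac.left_ne hk
      have h2 := LinearIndependent.pair_iff.1 hac.indep k' (-k) (by
        rw [hk, smul_smul, smul_smul, ← add_smul]
        rw [show k' * k + -k * k' = 0 by ring, zero_smul])
      exact hk0 (neg_eq_zero.1 h2.2)
    · push Not at h1
      exact ⟨a, ha, hac.left, by rw [polar_comm]; exact hap, h1⟩
  have hd0 : d ≠ 0 := by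
    have := hdp 0
    rwa [zero_smul] at this
  have hgd : g d ∈ U := step p hp hp0 hQp hgp d hd hpd
  by_contra hgv
  obtain ⟨k, hk⟩ := eq_smul_of_perp hUn hp hp0 hQp hd fun b hb hpb => by
    by_contra hdb
    apply hgv
    have h1 : g b ∈ U := step p hp hp0 hQp hgp b hb hpb
    have h2 := step d hd hd0 hQd hgd (v - ((polar Q d b)⁻¹ * polar Q d v) • b)
      (U.sub_mem hv (U.smul_mem _ hb)) (by
        rw [polar_sub_right, polar_smul_right, smul_eq_mul]
        field_simp
        ring)
    rw [map_sub, map_smul] at h2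
    have h3 := U.add_mem h2 (U.smul_mem ((polar Q d b)⁻¹ * polar Q d v) h1)
    rwa [sub_add_cancel] at h3
  exact hdp k hk

/-- An element of `M` moving `U` maps no nonzero singular vector of `U` to a vector orthogonal to a totally
singular line of `U`. -/
theorem not_perp_line (S : Setup Q W U M) [Module.Finite F V]
    (hW : ∀ a ∈ W, ∀ c ∈ W, ¬ Line Q a c) {g : V ≃ₗ[F] V} (hg : g ∈ M)
    {v : V} (hv : v ∈ U) (hgv : g v ∉ U) {x : V} (hx : x ∈ U) (hx0 : x ≠ 0) (hQx : Q x = 0)
    {a c : V} (ha : a ∈ U) (hc : c ∈ U) (hac : Line Q a c) (h1 : polar Q a (g x) = 0)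
    (h2 : polar Q c (g x) = 0) : False := by
  have hgO := S.hMO hg
  have hgO' : g⁻¹ ∈ O Q := (O Q).inv_mem hgO
  have hs := (S.split.SM_right ha hc hac.left hac.perp).mem hac.left hac.perp
  set s := siegel Q a c hac.left hac.perp with hsdef
  have hsM : s ∈ M := S.hM hs
  have hsx : s (g x) = g x := by
    rw [hsdef, siegel_apply, h1, h2]
    simp
  -- `g⁻¹ s g` fixes `x`
  have hm : g⁻¹ * s * g ∈ M := M.mul_mem (M.mul_mem (M.inv_mem hg) hsM) hg
  have hgi : ∀ z, g⁻¹ (g z) = z := fun z => LinearEquiv.symm_apply_apply g z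
  have hgi' : ∀ z, g (g⁻¹ z) = z := fun z => LinearEquiv.apply_symm_apply g z
  have hmx : (g⁻¹ * s * g) x ∈ U := by
    show g⁻¹ (s (g x)) ∈ U
    rw [hsx, hgi]
    exact hx
  have hzero : ∀ y ∈ U, polar Q a (g y) • c - polar Q c (g y) • a = 0 := by
    intro y hy
    have h3 : g⁻¹ (s (g y)) ∈ U := map_le S ha hc hac hm hx hx0 hQx hmx hy
    have e : s (g y) = g y + (polar Q a (g y) • c - polar Q c (g y) • a) := by
      rw [hsdef, siegel_apply, hac.right]
      module
    set t := polar Q a (g y) • c - polar Q c (g y) • a with ht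
    have htU : t ∈ U := U.sub_mem (U.smul_mem _ hc) (U.smul_mem _ ha)
    have h4 : g⁻¹ t ∈ U := by
      rw [e, map_add, hgi] at h3
      have := U.sub_mem h3 hy
      rwa [add_sub_cancel_left] at this
    by_contra ht0
    have hQt : Q t = 0 := by
      rw [ht, show polar Q a (g y) • c - polar Q c (g y) • a =
        (-polar Q c (g y)) • a + polar Q a (g y) • c by module]
      exact hac.sing _ _
    apply hgv
    refine map_le S ha hc hac hg h4 (fun h0 => ht0 ?_) (by rw [mem_O.1 hgO']; exact hQt) (by rw [hgi']; exact htU) hv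
    have := hgi' t
    rw [h0, map_zero] at this
    exact this.symm
  have hperp : ∀ y ∈ U, polar Q a (g y) = 0 ∧ polar Q c (g y) = 0 := by
    intro y hy
    have h3 := LinearIndependent.pair_iff.1 hac.indep (-polar Q c (g y)) (polar Q a (g y)) (by
      rw [← hzero y hy]
      module)
    exact ⟨h3.2, neg_eq_zero.1 h3.1⟩
  have hmem : ∀ z, (∀ y ∈ U, polar Q z (g y) = 0) → g⁻¹ z ∈ W := by
    intro z hz
    rw [S.split.mem_left_iff S.nondeg]
    intro y hy
    have h3 := hz y hy
    rw [← hgi' z, polar_map hgO] at h3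
    first
      | exact h3
      | (rw [polar_comm]; exact h3)
  refine hW _ (hmem a fun y hy => (hperp y hy).1) _ (hmem c fun y hy => (hperp y hy).2)
    ⟨by rw [mem_O.1 hgO']; exact hac.left, by rw [mem_O.1 hgO']; exact hac.right,
      by rw [polar_map hgO']; exact hac.perp, ?_⟩
  rw [LinearIndependent.pair_iff]
  intro p q hpq
  rw [← map_smul, ← map_smul, ← map_add] at hpq
  exact LinearIndependent.pair_iff.1 hac.indep p q ((g⁻¹ : V ≃ₗ[F] V).injective (by rw [hpq, map_zero]))

/-- Over the field with two elements: `M` preserves `U`. -/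
theorem map_mem (hF : ∀ c : F, c = 0 ∨ c = 1) (S : Setup Q W U M) [Module.Finite F V]
    (hW4 : 4 ≤ Module.finrank F W) (hW : ∀ a ∈ W, ∀ c ∈ W, ¬ Line Q a c) {l₁ l₂ : V} (hl₁ : l₁ ∈ U) (hl₂ : l₂ ∈ U)
    (hl : Line Q l₁ l₂) {g : V ≃ₗ[F] V} (hg : g ∈ M) {v : V} (hv : v ∈ U) : g v ∈ U := by
  by_contra hgv
  have hgO := S.hMO hg
  have hgi : ∀ z, g⁻¹ (g z) = z := fun z => LinearEquiv.symm_apply_apply g z
  have hgi' : ∀ z, g (g⁻¹ z) = z := fun z => LinearEquiv.apply_symm_apply g z
  have h2 : (2 : F) = 0 := by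
    rcases hF 2 with h | h
    · exact h
    · exfalso
      have : (1 : F) + 1 = 1 := by rw [one_add_one_eq_two]; exact h
      simp at this
  have hneg : ∀ a : F, -a = a := fun a => by
    have : a + a = 0 := by rw [← two_mul, h2, zero_mul]
    exact (eq_neg_of_add_eq_zero_left this).symm
  have hone : ∀ a : F, a ≠ 0 → a = 1 := fun a ha => (hF a).resolve_left ha
  have hself : ∀ w : V, polar Q w w = 0 := fun w => by rw [polar_self, two_smul, ← two_mul, h2, zero_mul]
  -- components of singular vectors of `g U`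
  have comp : ∀ x ∈ U, x ≠ 0 → Q x = 0 → ∀ w ∈ W, ∀ u ∈ U, w + u = g x → Q w = 1 := by
    intro x hx hx0 hQx w hw u hu e
    have hu0 : Q u ≠ 0 := by
      intro hQu
      obtain ⟨a, ha, c, hc, hac, hau, hcu⟩ := exists_line hl₁ hl₂ hl hu hQu
      refine not_perp_line S hW hg hv hgv hx hx0 hQx ha hc hac ?_ ?_
      · rw [← e, polar_add_right, S.split.perp' ha hw, hau, add_zero]
      · rw [← e, polar_add_right, S.split.perp' hc hw, hcu, add_zero]
    have h3 : Q (g x) = 0 := by rw [mem_O.1 hgO]; exact hQx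
    rw [← e, Q_add, S.split.perp w hw u hu, add_zero, hone _ hu0] at h3
    rw [eq_neg_of_add_eq_zero_left h3, hneg]
  obtain ⟨w₁, hw₁, u₁, hu₁, e₁⟩ := S.split.exists_add (g l₁)
  obtain ⟨w₂, hw₂, u₂, hu₂, e₂⟩ := S.split.exists_add (g l₂)
  have q1 := comp l₁ hl₁ hl.left_ne hl.left w₁ hw₁ u₁ hu₁ e₁
  have q2 := comp l₂ hl₂ hl.right_ne hl.right w₂ hw₂ u₂ hu₂ e₂
  have q3 := comp (l₁ + l₂) (U.add_mem hl₁ hl₂) hl.sum_ne
    (by have := hl.sing 1 1; rwa [one_smul, one_smul] at this) (w₁ + w₂) (W.add_mem hw₁ hw₂) (u₁ + u₂)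
    (U.add_mem hu₁ hu₂) (by rw [map_add, ← e₁, ← e₂]; abel)
  have q12 : polar Q w₁ w₂ = 1 := by
    rw [Q_add, q1, q2] at q3
    linear_combination q3 - h2
  -- a singular vector of `W` orthogonal to `w₁, w₂`
  obtain ⟨z, hz, hz0, hQz, hz1, hz2⟩ : ∃ z ∈ W, z ≠ 0 ∧ Q z = 0 ∧ polar Q z w₁ = 0 ∧ polar Q z w₂ = 0 := by
    by_contra hcon
    push Not at hcon
    have hcon' : ∀ z ∈ W, z ≠ 0 → polar Q w₁ z = 0 → polar Q w₂ z = 0 → Q z = 1 := by
      intro z hz hz0 hz1 hz2
      apply hone
      intro hQz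
      exact hcon z hz hz0 hQz (by rw [polar_comm]; exact hz1) (by rw [polar_comm]; exact hz2)
    obtain ⟨z₁, hz₁, hz₁0, hz₁p⟩ := exists_mem_perp (Q := Q) ![w₁, w₂] W (by omega)
    have a1 : polar Q w₁ z₁ = 0 := hz₁p 0
    have a2 : polar Q w₂ z₁ = 0 := hz₁p 1
    have hz₁Q := hcon' z₁ hz₁ hz₁0 a1 a2
    -- a second vector, not orthogonal to... outside the line of `z₁`
    obtain ⟨z₂, hz₂, hz₂1, b1, b2⟩ : ∃ z₂ ∈ W, (z₂ ≠ 0 ∧ z₂ ≠ z₁) ∧ polar Q w₁ z₂ = 0 ∧ polar Q w₂ z₂ = 0 := by
      let f : W →ₗ[F] (Fin 2 → F) := LinearMap.pi fun i => (polarBilin Q (![w₁, w₂] i)).comp W.subtype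
      have e1 := LinearMap.finrank_range_add_finrank_ker f
      have e2 : Module.finrank F (LinearMap.range f) ≤ 2 := by
        refine le_trans (Submodule.finrank_le _) ?_
        rw [Module.finrank_fin_fun]
      have e3 : ∃ k ∈ LinearMap.ker f, k ∉ Submodule.span F {(⟨z₁, hz₁⟩ : W)} := by
        by_contra hcon2
        push Not at hcon2
        have e4 : LinearMap.ker f ≤ Submodule.span F {(⟨z₁, hz₁⟩ : W)} := hcon2
        have e5 := Submodule.finrank_mono e4
        have e6 : Module.finrank F (Submodule.span F {(⟨z₁, hz₁⟩ : W)}) ≤ 1 := by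
          have := finrank_span_le_card (R := F) ({(⟨z₁, hz₁⟩ : W)} : Set W)
          simpa using this
        omega
      obtain ⟨k, hk, hk1⟩ := e3
      have hk' := LinearMap.mem_ker.1 hk
      refine ⟨k, k.2, ⟨?_, ?_⟩, ?_, ?_⟩
      · intro h0
        apply hk1
        have : k = 0 := Subtype.ext h0
        rw [this]
        exact Submodule.zero_mem _
      · intro h0
        apply hk1
        have : k = ⟨z₁, hz₁⟩ := Subtype.ext h0
        rw [this]
        exact Submodule.mem_span_singleton_self _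
      · have := congrFun hk' 0
        simpa [f] using this
      · have := congrFun hk' 1
        simpa [f] using this
    have hz₂Q := hcon' z₂ hz₂ hz₂1.1 b1 b2
    have hz₃Q := hcon' (z₁ + z₂) (W.add_mem hz₁ hz₂) (fun h0 => hz₂1.2 (by
        have h3 := eq_neg_of_add_eq_zero_right h0
        have h4 : (2 : F) • z₁ = 0 := by rw [h2, zero_smul]
        rw [h3]
        rw [two_smul] at h4
        exact (eq_neg_of_add_eq_zero_left h4).symm))
      (by rw [polar_add_right, a1, b1, add_zero]) (by rw [polar_add_right, a2, b2, add_zero])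
    have h12 : polar Q z₁ z₂ = 1 := by
      rw [Q_add, hz₁Q, hz₂Q] at hz₃Q
      linear_combination hz₃Q - h2
    refine hW (w₁ + z₁) (W.add_mem hw₁ hz₁) (w₂ + z₂) (W.add_mem hw₂ hz₂) ⟨?_, ?_, ?_, ?_⟩
    · rw [Q_add, q1, hz₁Q, a1]
      linear_combination h2
    · rw [Q_add, q2, hz₂Q, b2]
      linear_combination h2
    · rw [polar_add_left, polar_add_right, polar_add_right, q12, h12, b1, polar_comm Q z₁ w₂, a2]
      linear_combination h2
    · rw [LinearIndependent.pair_iff]
      intro s t hst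
      have c1 : polar Q w₂ (s • (w₁ + z₁) + t • (w₂ + z₂)) = 0 := by rw [hst, polar_zero_right]
      have c2 : polar Q w₁ (s • (w₁ + z₁) + t • (w₂ + z₂)) = 0 := by rw [hst, polar_zero_right]
      have c3 : polar Q w₁ w₁ = 0 := hself _
      have c4 : polar Q w₂ w₂ = 0 := hself _
      rw [polar_add_right, polar_smul_right, polar_smul_right, polar_add_right, polar_add_right,
        polar_comm Q w₂ w₁, q12, a2, b2, c4] at c1
      rw [polar_add_right, polar_smul_right, polar_smul_right, polar_add_right, polar_add_right,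
        q12, a1, b1, c3] at c2
      simp only [smul_eq_mul] at c1 c2
      exact ⟨by linear_combination c1, by linear_combination c2⟩
  -- the Siegel transformation `s = siegel z w₁` fixes `g l₁`
  have hs := (Split.SM_left (Q := Q) hz hw₁ hQz hz1).mem hQz hz1
  set s := siegel Q z w₁ hQz hz1 with hsdef
  have hsM : s ∈ M := S.hM hs
  have hzU : ∀ u ∈ U, polar Q z u = 0 := fun u hu => S.split.perp z hz u hu
  have hwU : ∀ u ∈ U, polar Q w₁ u = 0 := fun u hu => S.split.perp w₁ hw₁ u hu
  have hsx : s (g l₁) = g l₁ := by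
    rw [hsdef, siegel_apply, ← e₁, polar_add_right, hz1, hzU _ hu₁, polar_add_right, hwU _ hu₁, hself]
    simp
  have hm : g⁻¹ * s * g ∈ M := M.mul_mem (M.mul_mem (M.inv_mem hg) hsM) hg
  have hmx : (g⁻¹ * s * g) l₁ ∈ U := by
    show g⁻¹ (s (g l₁)) ∈ U
    rw [hsx, hgi]
    exact hl₁
  have h3 : g⁻¹ (s (g l₂)) ∈ U := map_le S hl₁ hl₂ hl hm hl₁ hl.left_ne hl.left hmx hl₂
  have e : s (g l₂) = g l₂ - z := by
    rw [hsdef, siegel_apply, ← e₂, polar_add_right, hz2, hzU _ hu₂, polar_add_right, hwU _ hu₂, q12]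
    module
  rw [e, map_sub, hgi] at h3
  have h4 : g⁻¹ z ∈ U := by
    have := U.sub_mem hl₂ h3
    rwa [sub_sub_cancel] at this
  refine not_perp_line S hW hg hv hgv h4 (fun h0 => hz0 ?_) (by rw [mem_O.1 ((O Q).inv_mem hgO)]; exact hQz)
    hl₁ hl₂ hl ?_ ?_
  · have := hgi' z
    rw [h0, map_zero] at this
    exact this.symm
  · rw [hgi', S.split.perp' hl₁ hz]
  · rw [hgi', S.split.perp' hl₂ hz]

/-- **Maximality of the stabiliser of a nondegenerate 4-space of minus type, orthogonal to a 4-space of plus type,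
over the field with two elements.** -/
theorem maximal [Finite F] [Module.Finite F V] (hF : ∀ c : F, c = 0 ∨ c = 1) (h : Split Q W U) (hG : Good Q)
    (hU4 : 4 ≤ Module.finrank F U) (hW4 : 4 ≤ Module.finrank F W)
    (hW : ∀ a ∈ W, ∀ c ∈ W, ¬ Line Q a c) {l₁ l₂ : V} (hl₁ : l₁ ∈ U) (hl₂ : l₂ ∈ U)
    (hl : Line Q l₁ l₂) :
    Cfsg.Geo.IsMaximalIn (E Q) (stab W ⊓ E Q) := by
  have hQ := hG.nondeg
  refine ⟨lt_of_le_of_ne inf_le_right ?_, fun M hM hME => ?_⟩
  · -- properness
    intro heq
    have hW0 : W ≠ ⊥ := by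
      rintro rfl
      rw [finrank_bot] at hW4
      omega
    obtain ⟨w, hw, hw0⟩ := Submodule.exists_mem_ne_zero_of_ne_bot hW0
    obtain ⟨w', hw', hww'⟩ := (h.ndOn_left hQ).exists_ne hw hw0
    have hxw : polar Q l₁ w = 0 := h.perp' hl₁ hw
    have hm : siegel Q l₁ w hl.left hxw ∈ stab W ⊓ E Q := by
      rw [heq]; exact siegel_mem_E _ _
    have h1 := (hm.1 w').1 hw'
    rw [siegel_apply, h.perp' hl₁ hw'] at h1
    have h2 : polar Q w w' • l₁ ∈ W := by
      have h3 := W.sub_mem hw' h1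
      have e : w' - (w' + (0 : F) • w - polar Q w w' • l₁ - (Q w * 0) • l₁) =
          polar Q w w' • l₁ := by module
      rwa [e] at h3
    have h3 : l₁ ∈ W := (W.smul_mem_iff hww').1 h2
    have h4 : l₁ ∈ W ⊓ U := ⟨h3, hl₁⟩
    rw [h.inf hQ, Submodule.mem_bot] at h4
    exact hl.left_ne h4
  · have hMO : M ≤ O Q := hME.trans E_le_O
    by_cases hT : ∀ (a w : V) (hQa : Q a = 0), a ∈ U → a ≠ 0 → w ∈ W → w ∈ T M Q a hQa → w = 0
    · left
      have S : Setup Q W U M := ⟨h, hQ, hM, hMO, hU4, hT⟩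
      refine le_antisymm (fun g hg => ⟨?_, hME hg⟩) hM
      refine (h.mem_stab_iff hQ (hMO hg)).2 (mem_stab_of_le ?_)
      intro v hv
      exact map_mem hF S hW4 hW hl₁ hl₂ hl hg hv
    · right
      push Not at hT
      obtain ⟨a, w, hQa, ha, ha0, hw, hwT, hw0⟩ := hT
      refine le_antisymm hME (E_le_of_mem_T' h hG hU4 ?_ hM hMO ha ha0 hQa hw hw0 hwT)
      rintro ⟨-, h2, -⟩
      omega

end Cfsg.Agent.H179.FourTwo
end

-- part: H179/Om8
section
/-!
Parts of the list of geometric maximal subgroups of `Ω₈⁻(q)`.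
-/

set_option autoImplicit false

namespace Cfsg.Agent.H179.Om8

open QuadraticMap Cfsg.Geo
open Cfsg.Agent.LieClassical.OrthCore Cfsg.Agent.LieClassical.OrthTrans
  Cfsg.Agent.LieClassical.OrthFinite Cfsg.Agent.LieClassical.OrthSimple Cfsg.Agent.H885.RootT
  Cfsg.Agent.H885.Irr Cfsg.Agent.H885.Nondeg Cfsg.Agent.H885.NondegGeo Cfsg.Agent.H883.Bridge
  Cfsg.Agent.H916.LowNondeg Cfsg.Agent.H179.FourTwo

variable {F : Type*} [Field F] [Fintype F]

theorem part1 {Q : (Fin 8 → F) → F} (hQ : IsNondegenerateQuadraticForm Q) (hminus : ¬ IsPlusTypeOn Q ⊤)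
    (W : Submodule F (Fin 8 → F)) (hW0 : W ≠ ⊥) (hW : IsTotallySingularQuad Q W) :
    IsMaximalIn (omegaGL Q) (subspaceStabilizer W ⊓ omegaGL Q) :=
  Cfsg.Agent.H926.NondegLow.singular_minus (by norm_num) (by decide) Q hQ hminus W hW0 hW

theorem part2 {Q : (Fin 8 → F) → F} (hQ : IsNondegenerateQuadraticForm Q) (hq : Odd (Fintype.card F))
    (W : Submodule F (Fin 8 → F)) (hW0 : W ≠ ⊥) (hW1 : W ≠ ⊤) (ho : Odd (Module.finrank F W))
    (hW : IsNondegenerateOn (QuadraticMap.polar Q) W) :
    IsMaximalIn (omegaGL Q) (subspaceStabilizer W ⊓ omegaGL Q) := by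
  refine Cfsg.Agent.H916.LowNondegGeo.subspaceStabilizer_nondegenerate_maximal_low hQ (by simp) ?_ W hW0 hW1 hW
    ?_ ?_
  · have h1 := Fintype.one_lt_card (α := F)
    obtain ⟨k, hk⟩ := hq
    omega
  · rintro ⟨-, U, hU, -, -, h⟩
    obtain ⟨k, hk⟩ := ho
    rcases h with rfl | ⟨-, h⟩
    · omega
    · rw [Fintype.card_fin] at h
      omega
  · obtain ⟨k, hk⟩ := ho
    rw [Fintype.card_fin]
    omega

/-- Nondegenerate 2-spaces, except hyperbolic planes over a field with two or three elements. -/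
theorem part34 {Q : (Fin 8 → F) → F} (hQ : IsNondegenerateQuadraticForm Q)
    (W : Submodule F (Fin 8 → F)) (h2 : Module.finrank F W = 2)
    (hW : IsNondegenerateOn (QuadraticMap.polar Q) W) (hex : ¬ (Fintype.card F ≤ 3 ∧ IsPlusTypeOn Q W)) :
    IsMaximalIn (omegaGL Q) (subspaceStabilizer W ⊓ omegaGL Q) := by
  refine subspaceStabilizer_maximal hQ (by simp) W fun Q' hQ' hG => ?_
  subst hQ'
  have hs := split_perp (ndOn_of_geo hW)
  have hfr := hs.finrank hG.nondeg
  rw [Module.finrank_fintype_fun_eq_card, Fintype.card_fin, h2] at hfr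
  refine hs.maximal hG.nondeg (by omega) (by omega) ?_ ?_ ?_
  · rintro rfl
    simp at h2
  · rintro ⟨h3, -, x, hx, hx0, hQx⟩
    rw [Nat.card_eq_fintype_card] at h3
    exact hex ⟨h3, plusType_of_sing h2 hx hx0 hQx⟩
  · intro g _ heq
    have h1 := LinearEquiv.finrank_map_eq g (perp Q' W)
    rw [heq] at h1
    omega

theorem part6 {Q : (Fin 8 → F) → F} (hQ : IsNondegenerateQuadraticForm Q) (hchar : ¬ Odd (Fintype.card F))
    (v : Fin 8 → F) (hv : Q v ≠ 0) :
    IsMaximalIn (omegaGL Q) (subspaceStabilizer (Submodule.span F {v}) ⊓ omegaGL Q) :=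
  Cfsg.Agent.H926.NondegLow.nonsingular_vector (by simp) Q hQ hchar v hv

theorem part8 {Q : (Fin 8 → F) → F} (hQ : IsNondegenerateQuadraticForm Q) (F₀ : Subfield F) (r : ℕ)
    (P : Matrix.GeneralLinearGroup (Fin 8) F) (ζ : F) (hr : r.Prime)
    (hcard : Fintype.card F = Nat.card F₀ ^ r) (hζ : ζ ≠ 0)
    (hP : IsQuadFormRationalStructure (fun v : Fin 8 → F => ζ * Q v) F₀ P) :
    IsMaximalIn (omegaGL Q) (subfieldSubgroup F₀ P ⊓ omegaGL Q) :=
  Cfsg.Agent.H888.SubfieldMax.subfield_maximal (by simp) Q hQ F₀ r hr hcard P ζ hζ hP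

/-! ### Nondegenerate 4-spaces -/

variable {Q : QuadraticForm F (Fin 8 → F)} {W U : Submodule F (Fin 8 → F)}

/-- Isometric complementary halves force plus type. -/
theorem plus_of_map_eq (hQ : IsNondegenerateQuadraticForm Q) (hs : Split Q W U) (hnd : Nondeg Q)
    (h4 : Module.finrank F W = 4) {g : (Fin 8 → F) ≃ₗ[F] (Fin 8 → F)} (hg : g ∈ O Q)
    (heq : U.map (g : (Fin 8 → F) →ₗ[F] (Fin 8 → F)) = W) : IsPlusTypeOn Q ⊤ := by
  classical
  have hfr := hs.finrank hnd
  rw [Module.finrank_fintype_fun_eq_card, Fintype.card_fin, h4] at hfr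
  have hU4 : Module.finrank F U = 4 := by omega
  by_cases h2 : (2 : F) = 0
  · -- the graph
    let L : U →ₗ[F] (Fin 8 → F) := U.subtype + (g : (Fin 8 → F) →ₗ[F] (Fin 8 → F)) ∘ₗ U.subtype
    have hL : ∀ u : U, L u = (u : Fin 8 → F) + g (u : Fin 8 → F) := fun u => rfl
    have hgW : ∀ u : U, g (u : Fin 8 → F) ∈ W := fun u => by
      rw [← heq]
      exact ⟨u, u.2, rfl⟩
    have hinj : Function.Injective L := by
      rw [← LinearMap.ker_eq_bot, eq_bot_iff]
      intro u hu
      rw [LinearMap.mem_ker, hL] at hu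
      have h1 : (u : Fin 8 → F) ∈ W ⊓ U := by
        refine ⟨?_, u.2⟩
        rw [eq_neg_of_add_eq_zero_left hu]
        exact W.neg_mem (hgW u)
      rw [hs.inf hnd, Submodule.mem_bot] at h1
      exact (Submodule.mem_bot F).2 (Subtype.ext h1)
    refine ⟨LinearMap.range L, le_top, ?_, ?_⟩
    · rintro _ ⟨u, rfl⟩
      rw [hL, Q_add, mem_O.1 hg, hs.perp' u.2 (hgW u), add_zero, ← two_mul, h2, zero_mul]
    · rw [LinearMap.finrank_range_of_inj hinj, hU4, finrank_top, Module.finrank_fintype_fun_eq_card,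
        Fintype.card_fin]
  · -- determinants
    let D : Fin 2 → Submodule F (Fin 8 → F) := ![W, U]
    let e : U ≃ₗ[F] W := (g.submoduleMap U).trans (LinearEquiv.ofEq _ _ heq)
    have he : ∀ u : U, ((e u : W) : Fin 8 → F) = g (u : Fin 8 → F) := fun u => rfl
    have hUW : AreIsometricFor Q U W := ⟨e, fun u => by rw [he, mem_O.1 hg]⟩
    have hWU : AreIsometricFor Q W U := ⟨e.symm, fun w => by
      have h1 := he (e.symm w)
      rw [LinearEquiv.apply_symm_apply] at h1
      rw [h1, mem_O.1 hg]⟩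
    have hdis : Disjoint W U := disjoint_iff.2 (hs.inf hnd)
    have hD : IsOrthogonalMDecomposition Q 4 D := by
      refine ⟨⟨⟨le_rfl, by norm_num, ?_, ?_, ?_⟩, ?_, ?_⟩, ?_⟩
      · intro i
        fin_cases i
        · exact h4
        · exact hU4
      · rw [iSupIndep_pair (i := (0 : Fin 2)) (j := 1) (by decide) (by decide)]
        exact hdis
      · rw [eq_top_iff, ← hs.sup]
        exact sup_le (le_iSup D 0) (le_iSup D 1)
      · intro i
        fin_cases i
        · exact geo_of_ndOn (hs.ndOn_left hnd)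
        · exact geo_of_ndOn (hs.ndOn_right hnd)
      · intro i j hij
        fin_cases i <;> fin_cases j
        · exact absurd rfl hij
        · exact fun u hu v hv => hs.perp u hu v hv
        · exact fun u hu v hv => hs.perp' hu hv
        · exact absurd rfl hij
      · intro i j
        fin_cases i <;> fin_cases j
        · exact ⟨LinearEquiv.refl _ _, fun _ => rfl⟩
        · exact hWU
        · exact hUW
        · exact ⟨LinearEquiv.refl _ _, fun _ => rfl⟩
    obtain ⟨B, hB⟩ := H925.det_isometric hQ hD 0 (Module.finBasisOfFinrankEq F (D 0) h4)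
    refine Cfsg.Agent.H926.plus_of_det hQ h2 (m := 4) (by simp) B
      (s := (LinearMap.BilinForm.toMatrix (Module.finBasisOfFinrankEq F (D 0) h4)
        (Cfsg.Agent.H922.resBilin hQ.polar_bilinear (D 0))).det) ?_
    rw [hB]
    ring

omit [Fintype F] in
/-- Four independent pairwise orthogonal singular vectors. -/
theorem plus_of_four {v : Fin 4 → (Fin 8 → F)} (hv : LinearIndependent F v) (h0 : ∀ i, Q (v i) = 0)
    (h1 : ∀ i j, i < j → polar Q (v i) (v j) = 0) : IsPlusTypeOn Q ⊤ := by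
  refine ⟨Submodule.span F (Set.range v), le_top, ?_, ?_⟩
  · intro u hu
    obtain ⟨x, rfl⟩ := (Submodule.mem_span_range_iff_exists_fun F).1 hu
    rw [Fin.sum_univ_four, Q_add, Q_add, Q_add, QuadraticMap.map_smul, QuadraticMap.map_smul,
      QuadraticMap.map_smul, QuadraticMap.map_smul, h0, h0, h0, h0]
    simp only [polar_add_left, polar_smul_left, polar_smul_right]
    rw [h1 0 1 (by decide), h1 0 2 (by decide), h1 0 3 (by decide), h1 1 2 (by decide), h1 1 3 (by decide),
      h1 2 3 (by decide)]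
    simp
  · rw [finrank_span_eq_card hv, finrank_top, Module.finrank_fintype_fun_eq_card, Fintype.card_fin,
      Fintype.card_fin]

omit [Fintype F] in
/-- Two orthogonal totally singular lines. -/
theorem plus_of_lines (hs : Split Q W U) (hnd : Nondeg Q) {a b c d : Fin 8 → F} (ha : a ∈ W) (hb : b ∈ W)
    (hc : c ∈ U) (hd : d ∈ U) (hab : Line Q a b) (hcd : Line Q c d) : IsPlusTypeOn Q ⊤ := by
  refine plus_of_four (v := ![a, b, c, d]) ?_ ?_ ?_
  · rw [Fintype.linearIndependent_iff]
    intro k hk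
    rw [Fin.sum_univ_four] at hk
    have e : k 0 • a + k 1 • b = -(k 2 • c + k 3 • d) := by
      apply eq_neg_of_add_eq_zero_left
      rw [← hk]
      simp only [Matrix.cons_val]
      abel
    have h1 : k 0 • a + k 1 • b ∈ W ⊓ U := by
      refine ⟨W.add_mem (W.smul_mem _ ha) (W.smul_mem _ hb), ?_⟩
      rw [e]
      exact U.neg_mem (U.add_mem (U.smul_mem _ hc) (U.smul_mem _ hd))
    rw [hs.inf hnd, Submodule.mem_bot] at h1
    have h2 := LinearIndependent.pair_iff.1 hab.indep _ _ h1
    rw [h1, eq_comm, neg_eq_zero] at e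
    have h3 := LinearIndependent.pair_iff.1 hcd.indep _ _ e
    intro i
    fin_cases i
    · exact h2.1
    · exact h2.2
    · exact h3.1
    · exact h3.2
  · intro i
    fin_cases i
    · exact hab.left
    · exact hab.right
    · exact hcd.left
    · exact hcd.right
  · intro i j hij
    fin_cases i <;> fin_cases j <;> first | exact absurd hij (by decide) | skip
    · exact hab.perp
    · exact hs.perp a ha c hc
    · exact hs.perp a ha d hd
    · exact hs.perp b hb c hc
    · exact hs.perp b hb d hd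
    · exact hcd.perp

/-- A nondegenerate 4-space without totally singular lines over the field with two elements. -/
theorem exists_aniso (hF : ∀ c : F, c = 0 ∨ c = 1) (hW : NdOn Q W) (h4 : 4 ≤ Module.finrank F W)
    (hno : ∀ a ∈ W, ∀ c ∈ W, ¬ Line Q a c) : ∃ w ∈ W, ∃ k₁ ∈ W, ∃ k₂ ∈ W, w ≠ 0 ∧ Q w = 0 ∧
      polar Q w k₁ = 0 ∧ polar Q w k₂ = 0 ∧ Q k₁ = 1 ∧ Q k₂ = 1 ∧ polar Q k₁ k₂ = 1 := by
  have h2 : (2 : F) = 0 := by
    rcases hF 2 with h | h
    · exact h
    · exfalso
      have : (1 : F) + 1 = 1 := by rw [one_add_one_eq_two]; exact h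
      simp at this
  obtain ⟨w, hw, hw0, hQw, -⟩ := exists_sing_mem_perp (Q := Q) ![(0 : Fin 8 → F)] W (by omega)
  obtain ⟨w', hw', hyp⟩ := exists_partner hW hw hw0 hQw
  have hK := ndOn_cpIn hW hw hw' hyp
  have hfr := finrank_cpIn (Q := Q) W w w'
  have hsing : ∀ k ∈ cpIn Q W w w', k ≠ 0 → Q k = 1 := by
    intro k hk hk0
    obtain ⟨hkW, h1, h1'⟩ := mem_cpIn.1 hk
    refine (hF _).resolve_left fun hQk => hno w hw k hkW ⟨hQw, hQk, h1, ?_⟩
    rw [LinearIndependent.pair_iff]
    intro s t hst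
    have hs : s = 0 := by
      have h3 : polar Q w' (s • w + t • k) = 0 := by rw [hst, polar_zero_right]
      rw [polar_add_right, polar_smul_right, polar_smul_right, hyp.pair', h1'] at h3
      simpa using h3
    refine ⟨hs, ?_⟩
    rw [hs, zero_smul, zero_add] at hst
    exact (smul_eq_zero.1 hst).resolve_right hk0
  obtain ⟨k₁, hk₁, hk₁0⟩ := Submodule.exists_mem_ne_zero_of_ne_bot
    (show cpIn Q W w w' ≠ ⊥ by
      intro h0
      rw [h0, finrank_bot] at hfr
      omega)
  obtain ⟨k₂, hk₂, hk₁₂⟩ := hK.exists_ne hk₁ hk₁0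
  have hk₂0 : k₂ ≠ 0 := by
    rintro rfl
    exact hk₁₂ (polar_zero_right _ _)
  exact ⟨w, hw, k₁, (mem_cpIn.1 hk₁).1, k₂, (mem_cpIn.1 hk₂).1, hw0, hQw, (mem_cpIn.1 hk₁).2.1,
    (mem_cpIn.1 hk₂).2.1, hsing k₁ hk₁ hk₁0, hsing k₂ hk₂ hk₂0, (hF _).resolve_left hk₁₂⟩

/-- Over the field with two elements, two complementary 4-spaces without totally singular lines force plus
type. -/
theorem plus_of_no_lines (hF : ∀ c : F, c = 0 ∨ c = 1) (hs : Split Q W U) (hnd : Nondeg Q)
    (hW4 : 4 ≤ Module.finrank F W) (hU4 : 4 ≤ Module.finrank F U)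
    (hW : ∀ a ∈ W, ∀ c ∈ W, ¬ Line Q a c) (hU : ∀ a ∈ U, ∀ c ∈ U, ¬ Line Q a c) : IsPlusTypeOn Q ⊤ := by
  have h2 : (2 : F) = 0 := by
    rcases hF 2 with h | h
    · exact h
    · exfalso
      have : (1 : F) + 1 = 1 := by rw [one_add_one_eq_two]; exact h
      simp at this
  obtain ⟨w, hw, k₁, hk₁, k₂, hk₂, hw0, hQw, a1, a2, a3, a4, a5⟩ :=
    exists_aniso hF (hs.ndOn_left hnd) hW4 hW
  obtain ⟨u, hu, l₁, hl₁, l₂, hl₂, hu0, hQu, b1, b2, b3, b4, b5⟩ :=
    exists_aniso hF (hs.ndOn_right hnd) hU4 hU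
  refine plus_of_four (v := ![w, u, k₁ + l₁, k₂ + l₂]) ?_ ?_ ?_
  · rw [Fintype.linearIndependent_iff]
    intro k hk
    rw [Fin.sum_univ_four] at hk
    have e : k 0 • w + k 2 • k₁ + k 3 • k₂ = -(k 1 • u + k 2 • l₁ + k 3 • l₂) := by
      apply eq_neg_of_add_eq_zero_left
      rw [← hk]
      simp only [Matrix.cons_val, smul_add]
      abel
    have h1 : k 0 • w + k 2 • k₁ + k 3 • k₂ ∈ W ⊓ U := by
      refine ⟨W.add_mem (W.add_mem (W.smul_mem _ hw) (W.smul_mem _ hk₁)) (W.smul_mem _ hk₂), ?_⟩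
      rw [e]
      exact U.neg_mem (U.add_mem (U.add_mem (U.smul_mem _ hu) (U.smul_mem _ hl₁)) (U.smul_mem _ hl₂))
    rw [hs.inf hnd, Submodule.mem_bot] at h1
    rw [h1, eq_comm, neg_eq_zero] at e
    have hself : ∀ v : Fin 8 → F, polar Q v v = 0 := fun v => by
      rw [polar_self, two_smul, ← two_mul, h2, zero_mul]
    have c3 : k 3 = 0 := by
      have h3 : polar Q k₁ (k 0 • w + k 2 • k₁ + k 3 • k₂) = 0 := by rw [h1, polar_zero_right]
      rw [polar_add_right, polar_add_right, polar_smul_right, polar_smul_right, polar_smul_right,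
        polar_comm Q k₁ w, a1, hself, a5] at h3
      simpa using h3
    have c2 : k 2 = 0 := by
      have h3 : polar Q k₂ (k 0 • w + k 2 • k₁ + k 3 • k₂) = 0 := by rw [h1, polar_zero_right]
      rw [polar_add_right, polar_add_right, polar_smul_right, polar_smul_right, polar_smul_right,
        polar_comm Q k₂ w, a2, hself, polar_comm Q k₂ k₁, a5] at h3
      simpa using h3
    rw [c2, c3, zero_smul, zero_smul, add_zero, add_zero] at h1 e
    have c0 := (smul_eq_zero.1 h1).resolve_right hw0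
    have c1 := (smul_eq_zero.1 e).resolve_right hu0
    intro i
    fin_cases i
    · exact c0
    · exact c1
    · exact c2
    · exact c3
  · have hq : ∀ k ∈ W, ∀ l ∈ U, Q k = 1 → Q l = 1 → Q (k + l) = 0 := by
      intro k hk l hl h3 h4
      rw [Q_add, h3, h4, hs.perp k hk l hl]
      linear_combination h2
    intro i
    fin_cases i
    · exact hQw
    · exact hQu
    · exact hq _ hk₁ _ hl₁ a3 b3
    · exact hq _ hk₂ _ hl₂ a4 b4
  · intro i j hij
    fin_cases i <;> fin_cases j <;> first | exact absurd hij (by decide) | skip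
    · exact hs.perp w hw u hu
    · show polar Q w (k₁ + l₁) = 0
      rw [polar_add_right, a1, hs.perp w hw l₁ hl₁, add_zero]
    · show polar Q w (k₂ + l₂) = 0
      rw [polar_add_right, a2, hs.perp w hw l₂ hl₂, add_zero]
    · show polar Q u (k₁ + l₁) = 0
      rw [polar_add_right, b1, hs.perp' hu hk₁, add_zero]
    · show polar Q u (k₂ + l₂) = 0
      rw [polar_add_right, b2, hs.perp' hu hk₂, add_zero]
    · show polar Q (k₁ + l₁) (k₂ + l₂) = 0
      rw [polar_add_left, polar_add_right, polar_add_right, a5, b5, hs.perp k₁ hk₁ l₂ hl₂,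
        hs.perp' hl₁ hk₂]
      linear_combination h2

/-- **Nondegenerate 4-spaces** of an 8-dimensional space of minus type. -/
theorem part5 {Q : (Fin 8 → F) → F} (hQ : IsNondegenerateQuadraticForm Q) (hminus : ¬ IsPlusTypeOn Q ⊤)
    (W : Submodule F (Fin 8 → F)) (h4 : Module.finrank F W = 4)
    (hW : IsNondegenerateOn (QuadraticMap.polar Q) W) :
    IsMaximalIn (omegaGL Q) (subspaceStabilizer W ⊓ omegaGL Q) := by
  have hW0 : W ≠ ⊥ := by
    rintro rfl
    simp at h4
  have hW1 : W ≠ ⊤ := by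
    rintro rfl
    simp at h4
  by_cases hF : 3 ≤ Fintype.card F
  · refine Cfsg.Agent.H916.LowNondegGeo.subspaceStabilizer_nondegenerate_maximal_seven hQ (by simp) hF W hW0 hW1
      hW ?_ ?_
    · rintro ⟨-, U, hU, -, -, rfl | ⟨-, h⟩⟩
      · omega
      · rw [Fintype.card_fin] at h
        omega
    · intro Q' hQ' hnd U hs g hg heq
      subst hQ'
      exact hminus (plus_of_map_eq hQ hs hnd h4 hg heq)
  · have h2 : Fintype.card F = 2 := by
      have := Fintype.one_lt_card (α := F)
      omega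
    have hF : ∀ c : F, c = 0 ∨ c = 1 := by
      classical
      intro c
      by_contra hcon
      push Not at hcon
      have h1 : ({0, 1, c} : Finset F).card = 3 := by
        rw [Finset.card_insert_of_notMem, Finset.card_insert_of_notMem, Finset.card_singleton]
        · rw [Finset.mem_singleton]
          exact fun h => hcon.2 h.symm
        · rw [Finset.mem_insert, Finset.mem_singleton]
          push Not
          exact ⟨zero_ne_one, fun h => hcon.1 h.symm⟩
      have h3 := Finset.card_le_univ ({0, 1, c} : Finset F)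
      omega
    refine subspaceStabilizer_maximal hQ (by simp) W fun Q' hQ' hG => ?_
    subst hQ'
    have hs := split_perp (ndOn_of_geo hW)
    have hfr := hs.finrank hG.nondeg
    rw [Module.finrank_fintype_fun_eq_card, Fintype.card_fin, h4] at hfr
    by_cases hWl : ∃ a ∈ W, ∃ c ∈ W, Line Q' a c
    · obtain ⟨a, ha, c, hc, hac⟩ := hWl
      rw [hs.stab_inf_E hG.nondeg]
      refine FourTwo.maximal hF hs.symm hG (by omega) (by omega) ?_ ha hc hac
      intro b hb d hd hbd
      exact hminus (plus_of_lines hs hG.nondeg ha hc hb hd hac hbd)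
    · push Not at hWl
      by_cases hUl : ∃ a ∈ perp Q' W, ∃ c ∈ perp Q' W, Line Q' a c
      · obtain ⟨a, ha, c, hc, hac⟩ := hUl
        exact FourTwo.maximal hF hs hG (by omega) (by omega) hWl ha hc hac
      · push Not at hUl
        exact absurd (plus_of_no_lines hF hs hG.nondeg (by omega) (by omega) hWl hUl) hminus

end Cfsg.Agent.H179.Om8
end

-- part: H884/ExtB6
section
/-!
# Extension fields in orthogonal groups: degree two, dimension four (helper884)

Here the Witt index over `K` may be one.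
-/

set_option autoImplicit false
set_option linter.unusedSectionVars false

namespace Cfsg.Agent.H884.Ext

open QuadraticMap Cfsg.Agent.LieClassical.OrthCore Cfsg.Agent.LieClassical.OrthTrans
  Cfsg.Agent.LieClassical.OrthSimple Cfsg.Agent.LieClassical.OrthFinite Cfsg.Agent.H883.Root
  Cfsg.Agent.H883.Sub Module

variable {F K V : Type*} [Field F] [Field K] [Algebra F K] [AddCommGroup V] [Module F V] [Module K V]
  [IsScalarTower F K V] {Q : QuadraticForm F V} {QK : QuadraticForm K V}

variable {X : Subgroup (V ≃ₗ[F] V)} {v v' : V}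

section

variable [Finite K] [FiniteDimensional F V]

/-- The configuration behind `has_sing_of_two`. -/
theorem exists_config (h : TF Q QK) {v w : V} {τ : K} (hv : QK v = 0) (hw : QK w = -τ)
    (hτ : τ ≠ 0) (hv0 : v ≠ 0) (hvw : polar QK v w = 0) :
    ∃ x x' : V, QK x = 0 ∧ QK x' = 0 ∧ polar QK x x' = 1 ∧ w = x - τ • x' ∧
      polar QK (x + τ • x') v = 2 * τ := by
  have h2 := h.two
  obtain ⟨y, hy1, hy2⟩ := exists_sep h.nondeg (x := v) (z := w) (by
    rintro c rfl
    by_cases hc : c = 0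
    · exact hv0 (by rw [hc, zero_smul])
    · rw [QuadraticMap.map_smul, hw, smul_eq_mul, mul_neg, neg_eq_zero] at hv
      exact mul_ne_zero (mul_ne_zero hc hc) hτ hv)
  -- `polar w y = 0`, `polar v y = 1`
  obtain ⟨z1, hz1⟩ : ∃ z1 : V, z1 = (-2 * τ) • y := ⟨_, rfl⟩
  have h1 : polar QK z1 w = 0 := by rw [hz1, polar_smul_left, polar_comm QK y w, hy1, smul_zero]
  have h3 : polar QK z1 v = -2 * τ := by
    rw [hz1, polar_smul_left, polar_comm QK y v, hy2, smul_eq_mul, mul_one]
  obtain ⟨e, he⟩ : ∃ e : K, e = (QK z1 + τ) * (2 * τ)⁻¹ := ⟨_, rfl⟩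
  have h2τ : 2 * τ ≠ 0 := mul_ne_zero h2 hτ
  have he2 : e * (2 * τ) = QK z1 + τ := by rw [he, mul_assoc, inv_mul_cancel₀ h2τ, mul_one]
  obtain ⟨z, hz⟩ : ∃ z : V, z = z1 + e • v := ⟨_, rfl⟩
  have hzw : polar QK z w = 0 := by
    rw [hz, polar_add_left, polar_smul_left, h1, hvw, smul_zero, add_zero]
  have hzv : polar QK z v = -2 * τ := by
    rw [hz, polar_add_left, polar_smul_left, polar_self_of_sing hv, smul_zero, add_zero, h3]
  have hQz : QK z = -τ := by
    rw [hz, Q_add, QuadraticMap.map_smul, hv, polar_smul_right, h3]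
    simp only [smul_eq_mul]
    linear_combination (-1 : K) * he2
  obtain ⟨A, hA⟩ : ∃ A : V, A = v - z := ⟨_, rfl⟩
  have hvz : polar QK v z = -2 * τ := by rw [polar_comm, hzv]
  have hAw : polar QK A w = 0 := by rw [hA, polar_sub_left, hvw, hzw, sub_zero]
  have hQA : QK A = τ := by
    rw [hA, sub_eq_add_neg, Q_add, QuadraticMap.map_neg, polar_neg_right, hv, hQz, hvz]
    ring
  have hAv : polar QK A v = 2 * τ := by
    rw [hA, polar_sub_left, polar_self_of_sing hv, hzv]
    ring
  have hhalf : (2 : K)⁻¹ * 2 = 1 := inv_mul_cancel₀ h2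
  have hττ : τ⁻¹ * τ = 1 := inv_mul_cancel₀ hτ
  have hx : (2 : K)⁻¹ • (A + w) - τ • ((2 * τ)⁻¹ • (A - w)) = w := by
    rw [smul_smul, mul_inv, mul_left_comm, mul_comm τ, hττ, mul_one, ← smul_sub]
    have : A + w - (A - w) = (2 : K) • w := by rw [two_smul]; abel
    rw [this, smul_smul, hhalf, one_smul]
  have hx' : (2 : K)⁻¹ • (A + w) + τ • ((2 * τ)⁻¹ • (A - w)) = A := by
    rw [smul_smul, mul_inv, mul_left_comm, mul_comm τ, hττ, mul_one, ← smul_add]
    have : A + w + (A - w) = (2 : K) • A := by rw [two_smul]; abel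
    rw [this, smul_smul, hhalf, one_smul]
  refine ⟨(2 : K)⁻¹ • (A + w), (2 * τ)⁻¹ • (A - w), ?_, ?_, ?_, hx.symm, ?_⟩
  · rw [QuadraticMap.map_smul, Q_add, hQA, hw, hAw]
    simp
  · rw [QuadraticMap.map_smul, sub_eq_add_neg A w, Q_add, QuadraticMap.map_neg, hQA, hw,
      polar_neg_right, hAw]
    simp
  · rw [polar_smul_left, polar_smul_right, polar_add_left, polar_sub_right, polar_sub_right,
      polar_comm QK w A, hAw, polar_self', polar_self', hQA, hw]
    simp only [smul_eq_mul]
    field_simp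
    ring
  · rw [hx', hAv]

/-- `v ∧ w` for `v` singular over `K` and `w ⊥_K v` singular over `F`. -/
theorem has_sing_of_two (h : TF Q QK) (hG : Good Q) (hX : Over Q K X) (hr : finrank F K = 2)
    (hall : ∀ w, QK w = 0 → ∀ x y, HasB QK X w (wedge F x y)) {w : V} (hv : QK v = 0)
    (hw : Q w = 0) (hvw : polar QK v w = 0) : Has Q X v w := by
  have hXO : X ≤ O Q := fun g hg => E_le_O (hX.le hg)
  by_cases hv0 : v = 0
  · rw [hv0]
    exact has_zero_left w
  by_cases hw0 : QK w = 0
  · exact has_of_two h hG hX hr hall hv hw0 hvw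
  obtain ⟨j, hj0, hj⟩ := exists_j (F := F) hr
  obtain ⟨hdec, D, hD⟩ := decomp_j h.twoF hr hj0 hj
  have h2F := h.twoF
  have hD0 : D ≠ 0 := by
    rintro rfl
    rw [map_zero] at hD
    exact hj0 (mul_self_eq_zero.1 hD)
  have htr : ∀ a : F, Algebra.trace F K (algebraMap F K a) = 2 * a := by
    intro a
    rw [Algebra.trace_algebraMap, hr, nsmul_eq_mul, Nat.cast_ofNat]
  -- `QK w = b j`
  obtain ⟨b, hb⟩ : ∃ b : F, QK w = b • j := by
    obtain ⟨a, b, hab⟩ := hdec (QK w)
    refine ⟨b, ?_⟩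
    have h1 := hw
    rw [h.tr, hab, map_add, map_smul, hj, smul_zero, add_zero, htr] at h1
    rw [hab, (mul_eq_zero.1 h1).resolve_left h2F, map_zero, zero_add]
  have hb0 : b ≠ 0 := by
    rintro rfl
    rw [zero_smul] at hb
    exact hw0 hb
  set t : F := -(b * D⁻¹) with ht
  have ht0 : t ≠ 0 := neg_ne_zero.2 (mul_ne_zero hb0 (inv_ne_zero hD0))
  set τ : K := t • j with hτ
  have hτ0 : τ ≠ 0 := smul_ne_zero ht0 hj0
  set w1 : V := j⁻¹ • w with hw1
  have hjj : j * j⁻¹ = 1 := mul_inv_cancel₀ hj0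
  have hww1 : w = j • w1 := by rw [hw1, smul_smul, hjj, one_smul]
  have hQw1 : QK w1 = -τ := by
    rw [hw1, QuadraticMap.map_smul, hb, hτ, ht, smul_eq_mul, Algebra.smul_def, Algebra.smul_def,
      map_neg, map_mul, map_inv₀, ← hD]
    field_simp
  have hvw1 : polar QK v w1 = 0 := by rw [hw1, polar_smul_right, hvw, smul_zero]
  obtain ⟨x, x', hx, hx', hxx', hwx, hAv⟩ := exists_config h hv hQw1 hτ0 hv0 hvw1
  -- the element of `X`
  obtain ⟨g, hg, hgx⟩ := hall x' hx' 1 ((t * 2⁻¹) • j)
  have hgO := hXO hg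
  have hpx : polar QK x' x = 1 := by rw [polar_comm, hxx']
  have h2t : (2 : F) * (t * 2⁻¹) = t := by field_simp
  have hg1 : g x = x + τ • x' := by
    rw [hgx, hpx, wedge_apply, mul_one, mul_one, map_smul, hj, smul_zero,
      zero_smul, sub_zero, ← map_one (algebraMap F K), htr, mul_one, smul_smul, h2t]
  have hg2 : g (j • x) = w := by
    rw [hgx, polar_smul_right, hpx, wedge_apply, one_mul, smul_eq_mul, mul_one, hj, zero_smul,
      zero_sub, smul_mul_assoc, map_smul, hD, htr, hww1, hwx, smul_sub, smul_smul, sub_eq_add_neg]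
    congr 1
    rw [← neg_smul]
    congr 1
    rw [hτ, mul_smul_comm, hD, smul_eq_mul, Algebra.smul_def, Algebra.smul_def, mul_one, ← map_mul]
    have e0 : -(t * 2⁻¹ * (2 * D)) = -(t * D) := by field_simp
    rw [e0, map_neg, neg_smul]
  have hHas : Has Q X (x + τ • x') w := by
    have h1 := has_of_wedge h hx (hall x hx 1 j)
    rw [one_smul] at h1
    have h2 := h1.map hgO hg
    rwa [hg1, hg2] at h2
  set lam : F := 4 * (t * D) with hlam
  have h4 : (4 : F) ≠ 0 := by
    have : (4 : F) = 2 * 2 := by norm_num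
    rw [this]
    exact mul_ne_zero h2F h2F
  have hlam0 : lam ≠ 0 := mul_ne_zero h4 (mul_ne_zero ht0 hD0)
  have hself : Has Q X v ((lam⁻¹ • j) • v) := by
    have := has_of_wedge h hv (hall v hv 1 (lam⁻¹ • j))
    rwa [one_smul] at this
  have e1 : polar Q (x + τ • x') v = 0 := by
    rw [h.polar_eq, hAv, hτ, mul_smul_comm, map_smul, ← map_ofNat (algebraMap F K) 2,
      ← Algebra.smul_def, map_smul, hj, smul_zero, smul_zero]
  have e2 : polar Q w v = 0 := by
    rw [h.polar_eq, polar_comm, hvw, map_zero]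
  have e3 : polar Q w ((lam⁻¹ • j) • v) = 0 := by
    rw [h.smul_right, polar_comm, hvw, mul_zero, map_zero]
  have h5 := Has.comm' hHas hself e1 e2 hw e3
  have e4 : polar Q (x + τ • x') ((lam⁻¹ • j) • v) = 1 := by
    rw [h.smul_right, hAv, hτ]
    have e5 : (lam⁻¹ • j) * (2 * t • j) = algebraMap F K (lam⁻¹ * (2 * (t * D))) := by
      simp only [Algebra.smul_def, map_mul, ← hD, map_ofNat]
      ring
    rw [e5, htr]
    have : lam⁻¹ * lam = 1 := inv_mul_cancel₀ hlam0
    rw [← this, hlam]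
    ring
  rwa [e4, one_smul] at h5

/-- An `F`-hyperbolic pair in `⟨v, v'⟩^⊥`. -/
theorem exists_hyp_F (h : TF Q QK) (hr : finrank F K = 2) (hdim : 7 ≤ finrank F V)
    (hH : Hyp QK v v') : ∃ x y, Hyp Q x y ∧ polar QK v x = 0 ∧ polar QK v' x = 0 ∧
      polar QK v y = 0 ∧ polar QK v' y = 0 := by
  have hFfin : Finite F := Finite.of_injective _ (algebraMap F K).injective
  obtain ⟨j, hj0, hj⟩ := exists_j (F := F) hr
  obtain ⟨hdec, D, hD⟩ := decomp_j h.twoF hr hj0 hj
  obtain ⟨x, hx0, hx, hxu⟩ := exists_sing_perp (Q := Q) ![v, j • v, v', j • v'] (by omega)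
  have hu1 : polar Q v x = 0 := hxu 0
  have hu2 : polar Q (j • v) x = 0 := hxu 1
  have hu3 : polar Q v' x = 0 := hxu 2
  have hu4 : polar Q (j • v') x = 0 := hxu 3
  have hK : ∀ u : V, polar Q u x = 0 → polar Q (j • u) x = 0 → polar QK u x = 0 := by
    intro u h1 h2
    apply h.polarK_eq_zero
    intro c
    obtain ⟨a, b, rfl⟩ := hdec c
    rw [add_smul, algebraMap_smul, smul_assoc, polar_add_left, polar_smul_left, polar_smul_left,
      h1, h2, smul_zero, smul_zero, add_zero]
  have hvx := hK v hu1 hu2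
  have hv'x := hK v' hu3 hu4
  obtain ⟨y0, hy0⟩ := exists_hyp h.nondegF hx hx0
  set y1 := proj QK v v' y0 with hy1
  have h1 : polar QK v y1 = 0 := polar_proj_left hH _
  have h2 : polar QK v' y1 = 0 := polar_proj_right hH _
  have h3 : polar Q x y1 = 1 := by
    rw [h.polar_eq, hy1, polar_proj_of_perp hvx hv'x, ← h.polar_eq, hy0.pair]
  refine ⟨x, y1 - Q y1 • x, ⟨hx, ?_, ?_⟩, hvx, hv'x, ?_, ?_⟩
  · rw [sub_eq_add_neg, Q_add, QuadraticMap.map_neg, QuadraticMap.map_smul, hx, polar_neg_right,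
      polar_smul_right, polar_comm Q y1 x, h3]
    simp
  · rw [polar_sub_right, polar_smul_right, polar_self_of_sing hx, smul_zero, sub_zero, h3]
  · rw [← algebraMap_smul K (Q y1) x, polar_sub_right, polar_smul_right, h1, hvx, smul_zero,
      sub_zero]
  · rw [← algebraMap_smul K (Q y1) x, polar_sub_right, polar_smul_right, h2, hv'x, smul_zero,
      sub_zero]

/-- **Degree two, `B ≠ 1`, dimension at least four**: all Siegel transformations. -/
theorem full_of_two' (h : TF Q QK) (hG : Good Q) (hX : Over Q K X) (hr : finrank F K = 2)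
    (hdim : 7 ≤ finrank F V) (hall : ∀ w, QK w = 0 → ∀ x y, HasB QK X w (wedge F x y)) {u : V}
    (hu : QK u = 0) (hu0 : u ≠ 0) : Full Q X u := by
  obtain ⟨u', hH⟩ := exists_hyp h.nondeg hu hu0
  refine ⟨h.sing hu, fun w hw => ?_⟩
  have hself : ∀ b : K, Has Q X u (b • u) := by
    intro b
    have := has_of_wedge h hu (hall u hu 1 b)
    rwa [one_smul] at this
  obtain ⟨x, y, hxy, hux, hu'x, huy, hu'y⟩ := exists_hyp_F h hr hdim hH
  have hperp : ∀ z, polar QK u z = 0 → polar QK u' z = 0 → Has Q X u z := by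
    intro z hz1 hz2
    have hsing : ∀ s, Q s = 0 → polar QK u s = 0 → Has Q X u s :=
      fun s hs h1 => has_sing_of_two h hG hX hr hall hu hs h1
    have hsm : ∀ (c : F) (s : V), polar QK u s = 0 → polar QK u (c • s) = 0 := by
      intro c s hs
      rw [← algebraMap_smul K c s, polar_smul_right, hs, smul_zero]
    have hQsm : ∀ (c : F) (s : V), Q s = 0 → Q (c • s) = 0 := by
      intro c s hs
      rw [QuadraticMap.map_smul, hs, smul_zero]
    set z' := Cfsg.Agent.LieClassical.OrthTrans.proj Q x y z with hz'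
    have e : z = (((polar Q y z • x + polar Q x z • y) + (x + z' - Q z' • y)) + (Q z' • y)) +
        (-1 : F) • x := by
      rw [hz', Cfsg.Agent.LieClassical.OrthTrans.proj]; module
    have huz' : polar QK u z' = 0 := by
      have e2 : z' = z - polar Q y z • x - polar Q x z • y := by
        rw [hz', Cfsg.Agent.LieClassical.OrthTrans.proj]
      rw [e2, polar_sub_right, polar_sub_right, hz1, hsm _ _ hux, hsm _ _ huy]
      simp
    rw [e]
    refine ((((hsing _ (hQsm _ _ hxy.left) (hsm _ _ hux)).add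
      (hsing _ (hQsm _ _ hxy.right) (hsm _ _ huy))).add (hsing _ ?_ ?_)).add
      (hsing _ (hQsm _ _ hxy.right) (hsm _ _ huy))).add
      (hsing _ (hQsm _ _ hxy.left) (hsm _ _ hux))
    · have h1 : polar Q x z' = 0 := polar_proj_left hxy _
      have h2 : polar Q y z' = 0 := polar_proj_right hxy _
      rw [sub_eq_add_neg, Q_add, Q_add, QuadraticMap.map_neg, QuadraticMap.map_smul, hxy.left,
        hxy.right, h1, polar_neg_right, polar_smul_right, polar_add_left, hxy.pair,
        polar_comm Q z' y, h2]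
      simp
    · rw [polar_sub_right, polar_add_right, hux, huz', hsm _ _ huy]
      simp
  have hopp : ∀ a : K, Algebra.trace F K a = 0 → Has Q X u (a • u') := by
    intro a ha
    have hau : QK (a • u') = 0 := by rw [QuadraticMap.map_smul, hH.right, smul_zero]
    have h0 : Has Q X (a • u') x := has_sing_of_two h hG hX hr hall hau hxy.left (by
      rw [polar_smul_left, hu'x, smul_zero])
    have h1 : Has Q X x (a • u') := by
      have := (h0.swap hxy.left).neg
      rwa [neg_neg] at this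
    have h2 : Has Q X u y := hperp _ huy hu'y
    have h3 := Has.comm' h1 h2 (h.perp_of (by rw [polar_comm, hux]))
      (by rw [h.smul_left, hH.pair', mul_one, ha]) (h.sing hau)
      (by rw [h.smul_left, hu'y, mul_zero, map_zero])
    rwa [hxy.pair, one_smul] at h3
  have hdec : w = polar QK u w • u' + (w - polar QK u w • u' - polar QK u' w • u) +
      polar QK u' w • u := by abel
  rw [hdec]
  refine ((hopp _ ?_).add (hperp _ ?_ ?_)).add (hself _)
  · rw [← h.polar_eq]
    exact hw
  · rw [polar_sub_right, polar_sub_right, polar_smul_right, polar_smul_right, hH.pair,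
      hH.polar_left]
    simp
  · rw [polar_sub_right, polar_sub_right, polar_smul_right, polar_smul_right, hH.polar_right,
      hH.pair']
    simp

/-- **The overgroups of the semilinear group in the orthogonal group**, degree two. -/
theorem overgroup2 [FiniteDimensional K V] (h : TF Q QK) (hG : Good Q) (hX : Over Q K X)
    (hm : 4 ≤ finrank K V) (hr : finrank F K = 2) : X ≤ NK F K V ∨ E Q ≤ X := by
  by_cases hT : ∀ v, v ≠ 0 → QK v = 0 → Triv QK X v
  · exact Or.inl (le_NK_of_triv h hG hm hX hT)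
  · right
    push Not at hT
    obtain ⟨v, hv0, hv, hT⟩ := hT
    obtain ⟨v', hH⟩ := exists_hyp h.nondeg hv hv0
    have hfd : FiniteDimensional F K := FiniteDimensional.of_finrank_pos (by omega)
    have hdim : 7 ≤ finrank F V := by
      rw [← finrank_mul_finrank F K V, hr]
      omega
    have hw := wedge_of_two h hG hX hr hv hv0 hT
    have hall : ∀ w, QK w = 0 → ∀ x y, HasB QK X w (wedge F x y) := by
      intro w hw1 x y
      by_cases hw0 : w = 0
      · rw [hw0]
        exact ⟨1, X.one_mem, fun x => by simp⟩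
      · exact wedge_transport h hG hX (by omega) hv hv0 hw hw1 hw0 x y
    exact E_le_of_full h hG hH fun u hu hu0 => full_of_two' h hG hX hr hdim hall hu hu0

end

end Cfsg.Agent.H884.Ext
end

-- part: H884/ExtGL2
section
/-!
# The normaliser of a self-adjoint quadratic extension field is maximal in `Ω` (helper884)
-/

set_option autoImplicit false
set_option linter.unusedSectionVars false
set_option linter.style.haveILetI false

namespace Cfsg.Agent.H884.Ext

open QuadraticMap Cfsg.Agent.LieClassical.OrthCore Cfsg.Agent.LieClassical.OrthTrans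
  Cfsg.Agent.LieClassical.OrthSimple Cfsg.Agent.LieClassical.OrthFinite Module
open Cfsg.Geo Cfsg.Agent.H887.OmegaBridge Cfsg.Agent.H923
open scoped MatrixGroups Matrix

variable {ι : Type} [Fintype ι] [DecidableEq ι] {F : Type*} [Field F]

/-- **The normaliser of a self-adjoint quadratic extension field is maximal in `Ω`** (odd
characteristic, dimension at least eight over `F`, any type). -/
theorem quadratic_field_normalizer_isMaximalIn [Finite F] (h2 : (2 : F) ≠ 0)
    {Q : (ι → F) → F} (hQ : IsNondegenerateQuadraticForm Q)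
    {K : Subalgebra F (Matrix ι ι F)} (hK : IsFieldSubalgebra 2 K)
    (hsa : IsSelfAdjointFor (polar Q) K) (hn : 8 ≤ Fintype.card ι) :
    IsMaximalIn (omegaGL Q) (subalgebraNormalizer K ⊓ omegaGL Q) := by
  have : Nonempty ι := Fintype.card_pos_iff.1 (by omega)
  letI := fieldOf hK
  have hfr : finrank F K = 2 := hK.finrank_eq
  have h1 := finrank_mul hK
  have hm : 4 ≤ finrank K (ι → F) := by omega
  have hKfin : Finite K := Module.finite_of_finite F
  have hKV : FiniteDimensional K (ι → F) := FiniteDimensional.of_finrank_pos (by omega)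
  have hdim : finrank F (ι → F) = Fintype.card ι := Module.finrank_fintype_fun_eq_card F
  have hG : Good (qf Q hQ) := good_of_finite (nondeg_qf Q hQ) (by omega)
  obtain ⟨QK, hTF⟩ := exists_TF (K := K) (Q := qf Q hQ) h2 (nondeg_qf Q hQ)
    (fun k u v => hsa k k.2 u v)
  refine isMaximalIn_omegaGL Q hQ hG (subalgebraNormalizer K)
    (NK F K (ι → F) : Set ((ι → F) ≃ₗ[F] (ι → F))) (mem_subalgebraNormalizer_iff_NK hK) ?_ ?_
  · by_contra hcon
    push Not at hcon
    apply Cfsg.Agent.H925.omegaGL_not_le_subalgebraNormalizer hQ (by omega) le_rfl hK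
    intro g hg
    rw [mem_subalgebraNormalizer_iff_NK hK]
    exact hcon _ ((mem_omegaGL_iff Q hQ hG g).1 hg)
  · intro H hHE hSH hex
    have hOver : Over (qf Q hQ) K H := ⟨hHE, hSH⟩
    rcases overgroup2 hTF hG hOver hm hfr with h | h
    · obtain ⟨g, hg, hgn⟩ := hex
      exact absurd (h hg) hgn
    · exact h

/-- **The normaliser of a self-adjoint extension field of prime degree is maximal in `Ω`** (odd
characteristic, dimension at least four over the extension field). -/
theorem extension_field_normalizer_isMaximalIn_four [Finite F] (h2 : (2 : F) ≠ 0)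
    {Q : (ι → F) → F} (hQ : IsNondegenerateQuadraticForm Q) {r : ℕ} (hr : r.Prime)
    {K : Subalgebra F (Matrix ι ι F)} (hK : IsFieldSubalgebra r K)
    (hsa : IsSelfAdjointFor (polar Q) K) (hn : 4 * r ≤ Fintype.card ι) :
    IsMaximalIn (omegaGL Q) (subalgebraNormalizer K ⊓ omegaGL Q) := by
  by_cases h3 : r = 2
  · subst h3
    exact quadratic_field_normalizer_isMaximalIn h2 hQ hK hsa (by omega)
  · exact extension_field_normalizer_isMaximalIn h2 hQ hr hK hsa hn fun h4 => absurd h4 h3

end Cfsg.Agent.H884.Ext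
end

-- part: S5825
section
-- import your own Cfsg.Agent.* helpers here

set_option autoImplicit false
open Cfsg

namespace Cfsg.Agent.S5825

/-- Maximal subgroups of Ω_8^-(q) of geometric type (any q). Let F be a finite field with q elements, Q a non-degenerate quadratic form on F^8 (non-degenerate polar form) of minus type (Witt index 3: no totally singular 4-space), and Ω = Ω_8^-(q) the commutator subgroup of the isometry group of Q, inside GL_8(F). Each of the following, intersected with Ω, is a maximal subgroup of Ω: (1) the stabiliser of any non-zero subspace on which Q vanishes identically (totally singular 1-, 2- and 3-spaces); (2) for q odd, the stabiliser of any proper subspace of odd dimension (1, 3, 5 or 7) on which the polar form of Q is non-degenerate; (3) the stabiliser of any non-degenerate 2-space of minus type (containing no non-zero singular vector); (4) for q ≥ 4, the stabiliser of any non-degenerate 2-space of plus type (containing a non-zero singular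 vector); (5) the stabiliser of any non-degenerate 4-space (its orthogonal complement is then a non-degenerate 4-space of the opposite type); (6) for q even, the stabiliser of the 1-space spanned by any non-singular vector v (Q(v) ≠ 0); (7) for q odd, the normaliser of any degree-2 subfield K of the matrix algebra whose elements are self-adjoint for the polar form of Q (Q is then the trace of a quadratic form over K); (8) every subfield group for a subfield F₀ of odd prime index r in F whose F₀-structure carries a non-zero scalar multiple of Q. -/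
theorem result {F : Type*} [Field F] [Fintype F] (Q : (Fin 8 → F) → F) (hQ : Cfsg.Geo.IsNondegenerateQuadraticForm Q) (hminus : ¬ Cfsg.Geo.IsPlusTypeOn Q ⊤) :
    (∀ W : Submodule F (Fin 8 → F), W ≠ ⊥ → Cfsg.Geo.IsTotallySingularQuad Q W → Cfsg.Geo.IsMaximalIn (Cfsg.Geo.omegaGL Q) (Cfsg.Geo.subspaceStabilizer W ⊓ Cfsg.Geo.omegaGL Q)) ∧
    (Odd (Fintype.card F) → ∀ W : Submodule F (Fin 8 → F), W ≠ ⊥ → W ≠ ⊤ → Odd (Module.finrank F W) → Cfsg.Geo.IsNondegenerateOn (QuadraticMap.polar Q) W → Cfsg.Geo.IsMaximalIn (Cfsg.Geo.omegaGL Q) (Cfsg.Geo.subspaceStabilizer W ⊓ Cfsg.Geo.omegaGL Q)) ∧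
    (∀ W : Submodule F (Fin 8 → F), Module.finrank F W = 2 → Cfsg.Geo.IsNondegenerateOn (QuadraticMap.polar Q) W → ¬ Cfsg.Geo.IsPlusTypeOn Q W → Cfsg.Geo.IsMaximalIn (Cfsg.Geo.omegaGL Q) (Cfsg.Geo.subspaceStabilizer W ⊓ Cfsg.Geo.omegaGL Q)) ∧
    (4 ≤ Fintype.card F → ∀ W : Submodule F (Fin 8 → F), Module.finrank F W = 2 → Cfsg.Geo.IsNondegenerateOn (QuadraticMap.polar Q) W → Cfsg.Geo.IsPlusTypeOn Q W → Cfsg.Geo.IsMaximalIn (Cfsg.Geo.omegaGL Q) (Cfsg.Geo.subspaceStabilizer W ⊓ Cfsg.Geo.omegaGL Q)) ∧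
    (∀ W : Submodule F (Fin 8 → F), Module.finrank F W = 4 → Cfsg.Geo.IsNondegenerateOn (QuadraticMap.polar Q) W → Cfsg.Geo.IsMaximalIn (Cfsg.Geo.omegaGL Q) (Cfsg.Geo.subspaceStabilizer W ⊓ Cfsg.Geo.omegaGL Q)) ∧
    (¬ Odd (Fintype.card F) → ∀ v : (Fin 8 → F), Q v ≠ 0 → Cfsg.Geo.IsMaximalIn (Cfsg.Geo.omegaGL Q) (Cfsg.Geo.subspaceStabilizer (Submodule.span F {v}) ⊓ Cfsg.Geo.omegaGL Q)) ∧
    (Odd (Fintype.card F) → ∀ K : Subalgebra F (Matrix (Fin 8) (Fin 8) F), Cfsg.Geo.IsFieldSubalgebra 2 K → Cfsg.Geo.IsSelfAdjointFor (QuadraticMap.polar Q) K → Cfsg.Geo.IsMaximalIn (Cfsg.Geo.omegaGL Q) (Cfsg.Geo.subalgebraNormalizer K ⊓ Cfsg.Geo.omegaGL Q)) ∧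
    (∀ (F₀ : Subfield F) (r : ℕ) (P : Matrix.GeneralLinearGroup (Fin 8) F) (ζ : F), r.Prime → Odd r → Fintype.card F = Nat.card F₀ ^ r → ζ ≠ 0 → Cfsg.Geo.IsQuadFormRationalStructure (fun v : Fin 8 → F => ζ * Q v) F₀ P → Cfsg.Geo.IsMaximalIn (Cfsg.Geo.omegaGL Q) (Cfsg.Geo.subfieldSubgroup F₀ P ⊓ Cfsg.Geo.omegaGL Q)) := by
  refine ⟨?_, ?_, ?_, ?_, ?_, ?_, ?_, ?_⟩
  · intro W hW0 hW
    exact Cfsg.Agent.H179.Om8.part1 hQ hminus W hW0 hW
  · intro hq W hW0 hW1 ho hW
    exact Cfsg.Agent.H179.Om8.part2 hQ hq W hW0 hW1 ho hW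
  · intro W h2 hW hm
    exact Cfsg.Agent.H179.Om8.part34 hQ W h2 hW (fun h => hm h.2)
  · intro hq W h2 hW _
    exact Cfsg.Agent.H179.Om8.part34 hQ W h2 hW (fun h => absurd h.1 (by omega))
  · intro W h4 hW
    exact Cfsg.Agent.H179.Om8.part5 hQ hminus W h4 hW
  · intro hq v hv
    exact Cfsg.Agent.H926.NondegLow.nonsingular_vector (by simp) Q hQ hq v hv
  · intro hq K hK hsa
    have h2 : (2 : F) ≠ 0 := by
      intro h
      have h3 : ringChar F = 2 := by
        have h4 : ringChar F ∣ 2 := (ringChar.spec F 2).mp (by exact_mod_cast h)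
        rcases (Nat.dvd_prime Nat.prime_two).mp h4 with h5 | h5
        · exact absurd h5 (CharP.ringChar_ne_one)
        · exact h5
      have := FiniteField.even_card_of_char_two h3
      rw [Nat.odd_iff] at hq
      omega
    exact Cfsg.Agent.H884.Ext.quadratic_field_normalizer_isMaximalIn h2 hQ hK hsa (by simp)
  · intro F₀ r P ζ hr _ hcard hζ hP
    exact Cfsg.Agent.H888.SubfieldMax.subfield_maximal (by simp) Q hQ F₀ r hr hcard P ζ hζ hP

end Cfsg.Agent.S5825
end
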