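import Mathlib
import Cfsg.Agent.H923.WrapAll_mg
import Cfsg.Agent.H922.OddTensorTwo
import Cfsg.Agent.H922.OddNot
import Cfsg.Agent.H887.OmegaBridge
import Cfsg.Statements.S5834
import Cfsg.Agent.H884.SingMaxPlus
import Cfsg.Agent.H884.OddForm
import Cfsg.Agent.H888.SubfieldMax
import Cfsg.Agent.H916.LowNondegGeo
import Cfsg.Agent.H928.FrameO
import Cfsg.Agent.H885.C2Main
set_option linter.all false

-- part: H922/TenFiveTwo
section
/-!
Tensor decompositions `V = A ⊗ B`, `dim A = dim B = 3`, `q = 5`: a proper overgroup of the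
stabiliser preserves the decomposition.
-/

set_option autoImplicit false
set_option linter.unusedSectionVars false

namespace Cfsg.Agent.H922.Ten

open QuadraticMap Cfsg.Agent.LieClassical.OrthCore Cfsg.Agent.LieClassical.OrthTrans
  Cfsg.Agent.LieClassical.OrthSimple Cfsg.Agent.ClassicalGeometry.OrthAutBasic
  Cfsg.Agent.H887.SiegelMethod

variable {F V A B : Type*} [Field F] [AddCommGroup V] [Module F V] [AddCommGroup A] [Module F A]
  [AddCommGroup B] [Module F B] {Q : QuadraticForm F V} {QA : QuadraticForm F A}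
  {QB : QuadraticForm F B} {ten : A →ₗ[F] B →ₗ[F] V}

variable {a1 a2 a3 : A} {b1 b2 b3 : B}

/-! ### flips -/

theorem Dec.flip {g : V ≃ₗ[F] V} (hg : Dec ten g) : Dec ten.flip g := by
  obtain ⟨α, β, h⟩ := hg
  exact ⟨β, α, fun b a => h a b⟩

theorem Sw.flip {g : V ≃ₗ[F] V} (hg : Sw ten g) : Sw ten.flip g := by
  obtain ⟨σ, τ, h⟩ := hg
  exact ⟨τ, σ, fun b a => h a b⟩

theorem DS.flip {g : V ≃ₗ[F] V} (hg : DS ten g) : DS ten.flip g := by
  rcases hg with hg | hg
  · exact Or.inl hg.flip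
  · exact Or.inr hg.flip

theorem Dec.unflip {g : V ≃ₗ[F] V} (hg : Dec ten.flip g) : Dec ten g := by
  obtain ⟨β, α, h⟩ := hg
  exact ⟨α, β, fun a b => h b a⟩

theorem DS.unflip {g : V ≃ₗ[F] V} (hg : DS ten.flip g) : DS ten g := by
  rcases hg with hg | ⟨τ, σ, h⟩
  · exact Or.inl hg.unflip
  · exact Or.inr ⟨σ, τ, fun a b => h b a⟩

theorem Ov.flip {L : Subgroup (V ≃ₗ[F] V)} (hL : Ov Q ten L) : Ov Q ten.flip L where
  le := hL.le
  dec g hg hd := hL.dec g hg hd.unflip

theorem HS_flip {L : Subgroup (V ≃ₗ[F] V)} : HS ten.flip L = HS ten L := by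
  ext g
  exact ⟨fun hg => DS.unflip hg, fun hg => DS.flip hg⟩

theorem TD.p5_flip (h : TD Q QA QB ten) :
    h.flip.p5 b1 b2 b3 a1 a2 a3 = h.p5 a1 a2 a3 b1 b2 b3 := by
  refine LinearMap.ext fun M => h.ext₂ fun a b x y => ?_
  rw [h.p5_ten]
  have e : h.flip.p5 b1 b2 b3 a1 a2 a3 M (ten a b) (ten x y) = (3 : F)⁻¹ *
      (ctr QA a1 a2 a3 (M.compl₁₂ (ten.flip b) (ten.flip y)) * polar QA a x +
        polar QB b y * ctr QB b1 b2 b3 (M.compl₁₂ (ten a) (ten x))) :=
    h.flip.p5_ten M b a y x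
  rw [e]
  ring

theorem TD.mko_flip (h : TD Q QA QB ten) (η : A →ₗ[F] A →ₗ[F] F) (ω : B →ₗ[F] B →ₗ[F] F) :
    h.flip.mko ω η = h.mko η ω := by
  refine h.ext₂ fun a b x y => ?_
  rw [h.mko_ten]
  have e : h.flip.mko ω η (ten a b) (ten x y) = ω b y * η a x := h.flip.mko_ten ω η b a y x
  rw [e, mul_comm]

theorem TD.p5_indep [FiniteDimensional F A] [FiniteDimensional F B] (h : TD Q QA QB ten)
    (ha : HB QA a1 a2 a3) (hb : HB QB b1 b2 b3) {x1 x2 x3 : A} {y1 y2 y3 : B}
    (hx : HB QA x1 x2 x3) (hy : HB QB y1 y2 y3) :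
    h.p5 a1 a2 a3 b1 b2 b3 = h.p5 x1 x2 x3 y1 y2 y3 := by
  refine LinearMap.ext fun M => h.ext₂ fun a b x y => ?_
  rw [h.p5_ten, h.p5_ten, ctr_eq h.nB hb hy, ctr_eq h.nA ha hx]

/-! ### sums over the field with five elements -/

theorem sum_poly5 [Fintype F] (hF : Fintype.card F = 5) (c0 c1 c2 c3 c4 : F) :
    ∑ t : F, (c0 + c1 * t + c2 * t ^ 2 + c3 * t ^ 3 + c4 * t ^ 4) = - c4 := by
  classical
  have hs : ∀ i, i ≤ 3 → ∑ t : F, t ^ i = 0 := fun i hi =>
    FiniteField.sum_pow_lt_card_sub_one F i (by omega)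
  have h1 : ∑ t : F, t = 0 := by
    have := hs 1 (by omega)
    simpa using this
  have h0 := hs 0 (by omega)
  simp only [pow_zero] at h0
  have h4 : ∑ t : F, t ^ 4 = -1 := by
    have e : ∀ t : F, t ^ 4 = 1 - if t = 0 then 1 else 0 := by
      intro t
      by_cases ht : t = 0
      · rw [if_pos ht, ht]
        ring
      · rw [if_neg ht, sub_zero]
        have := FiniteField.pow_card_sub_one_eq_one t ht
        rwa [hF] at this
    rw [Finset.sum_congr rfl fun t _ => e t, Finset.sum_sub_distrib, h0, Finset.sum_ite_eq']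
    simp
  have h6 : ∑ t : F, c1 * t = c1 * ∑ t : F, t := (Finset.mul_sum _ _ _).symm
  simp only [Finset.sum_add_distrib, h6, ← Finset.mul_sum, hs 2 (by omega), hs 3 (by omega),
    h4, h1]
  have h5 : ∑ _t : F, c0 = c0 * ∑ _t : F, 1 := by rw [Finset.mul_sum]; simp
  rw [h5, h0]
  ring

theorem TD.sum_jB [Fintype F] [Fintype (Multiplicative F)] (hF : Fintype.card F = 5)
    (h : TD Q QA QB ten) {L : Subgroup (V ≃ₗ[F] V)}
    (hL : Ov Q ten L) (hG : Good Q) (hb : HB QB b1 b2 b3) (Y : V →ₗ[F] V →ₗ[F] F) (v w : V) :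
    (∑ d, ((rho F V).comp L.subtype) (h.jB hL hG hb d) Y) v w =
      - Y (h.mB (nu2 QB b1 b2) v) (h.mB (nu2 QB b1 b2) w) := by
  rw [LinearMap.sum_apply, LinearMap.sum_apply]
  have e : ∀ d : Multiplicative F, ((rho F V).comp L.subtype) (h.jB hL hG hb d) Y v w =
      (Y v w + (-(Y (h.mB (nu QB b1 b2) v) w) - Y v (h.mB (nu QB b1 b2) w)) * d.toAdd +
      (Y (h.mB (nu2 QB b1 b2) v) w + Y v (h.mB (nu2 QB b1 b2) w) +
        Y (h.mB (nu QB b1 b2) v) (h.mB (nu QB b1 b2) w)) * d.toAdd ^ 2 +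
      (-(Y (h.mB (nu2 QB b1 b2) v) (h.mB (nu QB b1 b2) w)) -
        Y (h.mB (nu QB b1 b2) v) (h.mB (nu2 QB b1 b2) w)) * d.toAdd ^ 3 +
      Y (h.mB (nu2 QB b1 b2) v) (h.mB (nu2 QB b1 b2) w) * d.toAdd ^ 4) := by
    intro d
    have e1 : ((rho F V).comp L.subtype) (h.jB hL hG hb d) Y v w =
      Y ((((h.jB hL hG hb d : L) : V ≃ₗ[F] V)⁻¹ : V ≃ₗ[F] V) v)
        ((((h.jB hL hG hb d : L) : V ≃ₗ[F] V)⁻¹ : V ≃ₗ[F] V) w) := rfl
    rw [e1, h.jB_inv, h.jB_inv]
    simp only [map_add, map_smul, LinearMap.add_apply, LinearMap.smul_apply, smul_eq_mul]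
    ring
  rw [Finset.sum_congr rfl fun d _ => e d]
  have e2 := sum_poly5 hF (Y v w) (-(Y (h.mB (nu QB b1 b2) v) w) - Y v (h.mB (nu QB b1 b2) w))
      (Y (h.mB (nu2 QB b1 b2) v) w + Y v (h.mB (nu2 QB b1 b2) w) +
        Y (h.mB (nu QB b1 b2) v) (h.mB (nu QB b1 b2) w))
      (-(Y (h.mB (nu2 QB b1 b2) v) (h.mB (nu QB b1 b2) w)) -
        Y (h.mB (nu QB b1 b2) v) (h.mB (nu2 QB b1 b2) w))
      (Y (h.mB (nu2 QB b1 b2) v) (h.mB (nu2 QB b1 b2) w))
  rw [← e2]
  exact Fintype.sum_equiv Multiplicative.toAdd _ _ fun d => rfl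

section main

variable [Finite F] [FiniteDimensional F A] [FiniteDimensional F B]

/-- The defect is symmetric in the `B`-slots. -/
theorem tr5_sym (hF : Nat.card F = 5) (h : TD Q QA QB ten) {L : Subgroup (V ≃ₗ[F] V)}
    [Finite L] (hL : Ov Q ten L) (hG : Good Q) (hne : ¬ E Q ≤ L) (ha : HB QA a1 a2 a3)
    (hdA : Module.finrank F A = 3) (hdB : Module.finrank F B = 3) (hb : HB QB b1 b2 b3)
    {s0 : V ≃ₗ[F] V} (hs0 : s0 ∈ L) (hsw : Sw ten s0) {M : V →ₗ[F] V →ₗ[F] F}
    (hM : ∀ t, ((rho F V).comp L.subtype) (h.jB hL hG hb t) M = M) (a x : A) (b y : B) :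
    (Trace.tr ((rho F V).comp L.subtype) (HS ten L) (h.p5 a1 a2 a3 b1 b2 b3) M -
      h.p5 a1 a2 a3 b1 b2 b3 M) (ten a y) (ten x b) =
    (Trace.tr ((rho F V).comp L.subtype) (HS ten L) (h.p5 a1 a2 a3 b1 b2 b3) M -
      h.p5 a1 a2 a3 b1 b2 b3 M) (ten a b) (ten x y) := by
  have hFt : Fintype F := Fintype.ofFinite F
  have : Fintype (Multiplicative F) := Fintype.ofFinite _
  have : Nontrivial A := Module.nontrivial_of_finrank_pos (R := F) (by omega)
  have : Nontrivial B := Module.nontrivial_of_finrank_pos (R := F) (by omega)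
  have hF5 : 5 ≤ Nat.card F := by omega
  rw [Nat.card_eq_fintype_card] at hF
  obtain ⟨Y, hY⟩ := Trace.tr_apply (F := F) (X := V →ₗ[F] V →ₗ[F] F)
    (ρ := (rho F V).comp L.subtype) (H := HS ten L) (π := h.p5 a1 a2 a3 b1 b2 b3)
    (fun g hg => h.p5_comm ha hb (hL.leO g.2) hg) (h.jB hL hG hb)
    (fun d => Or.inl (h.dec_tm _ _))
    (fun d hd g hgd => by
      refine fusion hF5 h hL hG hne ha hdA hdB hb hs0 hsw (c := d.toAdd)
        (fun h0 => hd (by rw [← ofAdd_toAdd d, h0]; rfl)) g.2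
        (g⁻¹ * h.jB hL hG hb d * g).2 ?_ hgd
      rw [← h.jB_coe hL hG hb, ← Subgroup.coe_mul, ← Subgroup.coe_mul]
      congr 1
      group) hM
  rw [hY, add_sub_cancel_left, h.sum_jB hF, h.sum_jB hF, h.mB_ten, h.mB_ten, h.mB_ten, h.mB_ten]
  simp only [nu2, LinearMap.smul_apply, LinearMap.smulRight_apply, polarBilin_apply_apply,
    map_smul, smul_eq_mul]
  ring

/-- Forms fixed by both one-parameter groups. -/
theorem tr5_eq_of_fix (hF : Nat.card F = 5) (h : TD Q QA QB ten) {L : Subgroup (V ≃ₗ[F] V)}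
    [Finite L] (hL : Ov Q ten L) (hG : Good Q) (hne : ¬ E Q ≤ L) (ha : HB QA a1 a2 a3)
    (hdA : Module.finrank F A = 3) (hdB : Module.finrank F B = 3) (hb : HB QB b1 b2 b3)
    {s0 : V ≃ₗ[F] V} (hs0 : s0 ∈ L) (hsw : Sw ten s0) {M : V →ₗ[F] V →ₗ[F] F}
    (hMS : M ∈ Sk F V)
    (hM : ∀ t, ((rho F V).comp L.subtype) (h.jB hL hG hb t) M = M)
    (hM' : ∀ t, ((rho F V).comp L.subtype) (h.flip.jB hL.flip hG ha t) M = M) :
    Trace.tr ((rho F V).comp L.subtype) (HS ten L) (h.p5 a1 a2 a3 b1 b2 b3) M =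
      h.p5 a1 a2 a3 b1 b2 b3 M := by
  have hRt : Trace.tr ((rho F V).comp L.subtype) (HS ten L) (h.p5 a1 a2 a3 b1 b2 b3) M ∈ Sk F V :=
    Trace.tr_mem (F := F) (G := L) (X := V →ₗ[F] V →ₗ[F] F)
      (ρ := (rho F V).comp L.subtype) (H := HS ten L) (π := h.p5 a1 a2 a3 b1 b2 b3) (Sk F V)
      (fun g x hx => rho_mem_Sk _ hx) (fun x hx => h.p5_mem_Sk hx) hMS
  have hRp : h.p5 a1 a2 a3 b1 b2 b3 M ∈ Sk F V := h.p5_mem_Sk hMS
  have hRS : ∀ v w, (Trace.tr ((rho F V).comp L.subtype) (HS ten L) (h.p5 a1 a2 a3 b1 b2 b3) M -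
      h.p5 a1 a2 a3 b1 b2 b3 M) w v = - (Trace.tr ((rho F V).comp L.subtype) (HS ten L)
      (h.p5 a1 a2 a3 b1 b2 b3) M - h.p5 a1 a2 a3 b1 b2 b3 M) v w := by
    intro v w
    rw [LinearMap.sub_apply, LinearMap.sub_apply, LinearMap.sub_apply, LinearMap.sub_apply,
      hRt v w, hRp v w]
    ring
  have h1 := tr5_sym hF h hL hG hne ha hdA hdB hb hs0 hsw hM
  have h2 := tr5_sym hF h.flip hL.flip hG hne hb hdB hdA ha hs0 hsw.flip hM'
  rw [HS_flip, h.p5_flip] at h2
  rw [← sub_eq_zero]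
  set R := Trace.tr ((rho F V).comp L.subtype) (HS ten L) (h.p5 a1 a2 a3 b1 b2 b3) M -
      h.p5 a1 a2 a3 b1 b2 b3 M with hR
  refine h.ext₂ fun a b x y => ?_
  have e1 : R (ten a y) (ten x b) = R (ten a b) (ten x y) := h1 a x b y
  have e2 : R (ten x y) (ten a b) = R (ten a y) (ten x b) := h2 y b a x
  have e3 := hRS (ten a b) (ten x y)
  rw [e2, e1] at e3
  have e4 : 2 * R (ten a b) (ten x y) = 0 := by linear_combination e3
  exact (mul_eq_zero.1 e4).resolve_left h.two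

end main

end Cfsg.Agent.H922.Ten
end

-- part: H922/TenSkew
section
/-!
Skew operators and forms on a three-dimensional quadratic space.
-/

set_option autoImplicit false
set_option linter.unusedSectionVars false

namespace Cfsg.Agent.H922.Ten

open QuadraticMap Cfsg.Agent.LieClassical.OrthCore Cfsg.Agent.LieClassical.OrthTrans
  Cfsg.Agent.LieClassical.OrthSimple Cfsg.Agent.ClassicalGeometry.OrthAutBasic
  Cfsg.Agent.H887.SiegelMethod

variable {F V A B : Type*} [Field F] [AddCommGroup V] [Module F V] [AddCommGroup A] [Module F A]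
  [AddCommGroup B] [Module F B] {Q : QuadraticForm F V} {QA : QuadraticForm F A}
  {QB : QuadraticForm F B} {ten : A →ₗ[F] B →ₗ[F] V}

variable {a1 a2 a3 : A} {b1 b2 b3 : B}

/-- The operator of a bilinear form. -/
theorem HB.exists_op (hb : HB QB b1 b2 b3) (m : B →ₗ[F] B →ₗ[F] F) :
    ∃ r : B →ₗ[F] B, ∀ y y', polar QB (r y) y' = m y y' := by
  refine ⟨(m.flip b3).smulRight b1 + ((2 * QB b2)⁻¹ • m.flip b2).smulRight b2 +
    (m.flip b1).smulRight b3, fun y y' => ?_⟩
  conv_rhs => rw [hb.span y']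
  simp only [LinearMap.add_apply, LinearMap.smulRight_apply, LinearMap.flip_apply,
    LinearMap.smul_apply, polar_add_left, polar_smul_left, map_add, map_smul, smul_eq_mul]
  ring

/-- Coordinates of a skew operator. -/
theorem HB.skew_apply (h2 : (2 : F) ≠ 0) (hb : HB QB b1 b2 b3) {r : B →ₗ[F] B}
    (hr : ∀ x, polar QB (r x) x = 0) : ∃ x y z : F, r = x • wd QB b1 b2 + y • wd QB b1 b3 +
      z • wd QB b2 b3 ∧ r b1 = (-y) • b1 + (-z) • b2 ∧
      r b2 = (-(x * (2 * QB b2))) • b1 + (z * (2 * QB b2)) • b3 ∧ r b3 = x • b2 + y • b3 := by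
  have h := hb.skew_coord h2 hr
  refine ⟨_, _, _, h, ?_, ?_, ?_⟩
  · conv_lhs => rw [h]
    simp only [LinearMap.add_apply, LinearMap.smul_apply, wd_apply, hb.p11, hb.p21, hb.p31]
    module
  · conv_lhs => rw [h]
    simp only [LinearMap.add_apply, LinearMap.smul_apply, wd_apply, hb.p12, hb.p22, hb.p32]
    module
  · conv_lhs => rw [h]
    simp only [LinearMap.add_apply, LinearMap.smul_apply, wd_apply, hb.p13, hb.p23, hb.p33]
    module

/-- Independence of a hyperbolic basis. -/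
theorem HB.coord (h2 : (2 : F) ≠ 0) (hb : HB QB b1 b2 b3) {x y z : F}
    (h : x • b1 + y • b2 + z • b3 = 0) : x = 0 ∧ y = 0 ∧ z = 0 := by
  have e1 := congrArg (polar QB b3) h
  have e2 := congrArg (polar QB b2) h
  have e3 := congrArg (polar QB b1) h
  simp only [polar_add_right, polar_smul_right, hb.p31, hb.p32, hb.p33, hb.p21, hb.p22, hb.p23,
    hb.p11, hb.p12, hb.p13, polar_zero_right, smul_eq_mul, mul_zero, mul_one, add_zero,
    zero_add] at e1 e2 e3
  exact ⟨e1, (mul_eq_zero.1 e2).resolve_right (mul_ne_zero h2 hb.q2), e3⟩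

/-- A skew operator with scalar square is zero. -/
theorem HB.skew_scalar (h2 : (2 : F) ≠ 0) (hb : HB QB b1 b2 b3) {r : B →ₗ[F] B}
    (hr : ∀ x, polar QB (r x) x = 0) {c : F} (hc : ∀ x, r (r x) = c • x) : r = 0 := by
  obtain ⟨x, y, z, e, h1, hr2, h3⟩ := hb.skew_apply h2 hr
  have hδ : (2 * QB b2) ≠ 0 := mul_ne_zero h2 hb.q2
  have e1 : (y ^ 2 + x * z * (2 * QB b2) - c) • b1 + (y * z) • b2 +
      (-(z ^ 2 * (2 * QB b2))) • b3 = 0 := by
    have := hc b1
    rw [h1, map_add, map_smul, map_smul, h1, hr2] at this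
    rw [← sub_eq_zero] at this
    rw [← this]
    module
  have e3 : (-(x ^ 2 * (2 * QB b2))) • b1 + (x * y) • b2 +
      (y ^ 2 + x * z * (2 * QB b2) - c) • b3 = 0 := by
    have := hc b3
    rw [h3, map_add, map_smul, map_smul, h3, hr2] at this
    rw [← sub_eq_zero] at this
    rw [← this]
    module
  have e2 : (x * y * (2 * QB b2)) • b1 + (2 * (x * z * (2 * QB b2)) - c) • b2 +
      (y * z * (2 * QB b2)) • b3 = 0 := by
    have := hc b2
    rw [hr2, map_add, map_smul, map_smul, h1, h3] at this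
    rw [← sub_eq_zero] at this
    rw [← this]
    module
  obtain ⟨f1, f2, f3⟩ := hb.coord h2 e1
  obtain ⟨g1, g2, g3⟩ := hb.coord h2 e3
  obtain ⟨k1, k2, k3⟩ := hb.coord h2 e2
  have hz : z = 0 := by
    have := (mul_eq_zero.1 (neg_eq_zero.1 f3)).resolve_right hδ
    exact pow_eq_zero_iff (two_ne_zero) |>.1 this
  have hx : x = 0 := by
    have := (mul_eq_zero.1 (neg_eq_zero.1 g1)).resolve_right hδ
    exact pow_eq_zero_iff (two_ne_zero) |>.1 this
  have hy : y = 0 := by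
    have : y ^ 2 = 0 := by
      rw [hz, hx] at f1 k2
      linear_combination f1 - k2
    exact pow_eq_zero_iff (two_ne_zero) |>.1 this
  rw [e, hx, hy, hz]
  simp

/-- The square of a nilpotent skew operator has rank at most one. -/
theorem HB.skew_sq (h2 : (2 : F) ≠ 0) (hb : HB QB b1 b2 b3) {r : B →ₗ[F] B}
    (hr : ∀ x, polar QB (r x) x = 0) (h3 : ∀ x, r (r (r x)) = 0) :
    ∃ u, ∀ y, ∃ c : F, r (r y) = c • u := by
  by_cases hr0 : r = 0
  · exact ⟨0, fun y => ⟨0, by rw [hr0]; simp⟩⟩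
  obtain ⟨x, y, z, e, e1, e2, e3⟩ := hb.skew_apply h2 hr
  have hδ : (2 * QB b2) ≠ 0 := mul_ne_zero h2 hb.q2
  -- the squares
  have s1 : r (r b1) = (y ^ 2 + x * z * (2 * QB b2)) • b1 + (y * z) • b2 +
      (-(z ^ 2 * (2 * QB b2))) • b3 := by
    rw [e1, map_add, map_smul, map_smul, e1, e2]
    module
  have s3 : r (r b3) = (-(x ^ 2 * (2 * QB b2))) • b1 + (x * y) • b2 +
      (y ^ 2 + x * z * (2 * QB b2)) • b3 := by
    rw [e3, map_add, map_smul, map_smul, e3, e2]
    module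
  have s2 : r (r b2) = (x * y * (2 * QB b2)) • b1 + (2 * (x * z * (2 * QB b2))) • b2 +
      (y * z * (2 * QB b2)) • b3 := by
    rw [e2, map_add, map_smul, map_smul, e1, e3]
    module
  have c1 : (0 : F) • b1 + (x * (y ^ 2 + 2 * (x * z * (2 * QB b2)))) • b2 +
      (y * (y ^ 2 + 2 * (x * z * (2 * QB b2)))) • b3 = 0 := by
    have := h3 b3
    rw [s3, map_add, map_add, map_smul, map_smul, map_smul, e1, e2, e3] at this
    rw [← this]
    module
  have c3 : (y * (y ^ 2 + 2 * (x * z * (2 * QB b2)))) • b1 +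
      (z * (y ^ 2 + 2 * (x * z * (2 * QB b2)))) • b2 + (0 : F) • b3 = 0 := by
    have := h3 b1
    rw [s1, map_add, map_add, map_smul, map_smul, map_smul, e1, e2, e3] at this
    rw [← neg_eq_zero, ← this]
    module
  obtain ⟨-, f2, f3⟩ := hb.coord h2 c1
  obtain ⟨-, g2, -⟩ := hb.coord h2 c3
  have hk : y ^ 2 + 2 * (x * z * (2 * QB b2)) = 0 := by
    by_contra hk
    have hx := (mul_eq_zero.1 f2).resolve_right hk
    have hy := (mul_eq_zero.1 f3).resolve_right hk
    have hz := (mul_eq_zero.1 g2).resolve_right hk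
    apply hr0
    rw [e, hx, hy, hz]
    simp
  refine ⟨(x * (2 * QB b2)) • b1 + (-y) • b2 + (z * (2 * QB b2)) • b3, fun w => ?_⟩
  refine ⟨(-z) * polar QB b3 w + y * ((2 * QB b2)⁻¹ * polar QB b2 w) +
    (-x) * polar QB b1 w, ?_⟩
  have hk' : y ^ 2 = - (2 * (x * z * (2 * QB b2))) := by linear_combination hk
  have t1 : r (r b1) = (-z) • ((x * (2 * QB b2)) • b1 + (-y) • b2 + (z * (2 * QB b2)) • b3) := by
    rw [s1, hk']
    module
  have t2 : r (r b2) = y • ((x * (2 * QB b2)) • b1 + (-y) • b2 + (z * (2 * QB b2)) • b3) := by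
    rw [s2]
    have : 2 * (x * z * (2 * QB b2)) = - (y * y) := by linear_combination hk
    rw [this]
    module
  have t3 : r (r b3) = (-x) • ((x * (2 * QB b2)) • b1 + (-y) • b2 + (z * (2 * QB b2)) • b3) := by
    rw [s3, hk']
    module
  conv_lhs => rw [hb.span w]
  simp only [map_add, map_smul]
  rw [t1, t2, t3]
  module

/-- Decomposition of the skew forms. -/
theorem HB.skew_form (h2 : (2 : F) ≠ 0) (hb : HB QB b1 b2 b3) {ω : B →ₗ[F] B →ₗ[F] F}
    (hω : ∀ b y, ω y b = - ω b y) : ∃ c1 c2 c3 : F, ω = c1 • om QB b1 b2 + c2 • om QB b3 b2 +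
      c3 • om QB (T QB b1 ((1 : F) • b2) b3) (T QB b1 ((1 : F) • b2) b2) := by
  have hδ : (2 * QB b2) ≠ 0 := mul_ne_zero h2 hb.q2
  have hδ1 : (2 * QB b2)⁻¹ * (2 * QB b2) = 1 := inv_mul_cancel₀ hδ
  refine ⟨-((2 * QB b2)⁻¹ * ω b2 b3) + (2 * QB b2)⁻¹ * (2 * QB b2 - QB b2) * ω b1 b3,
    (2 * QB b2)⁻¹ * ω b1 b2 + (2 * QB b2)⁻¹ * ω b1 b3, -((2 * QB b2)⁻¹ * ω b1 b3), ?_⟩
  refine LinearMap.ext₂ fun y y' => ?_
  simp only [LinearMap.add_apply, LinearMap.smul_apply, smul_eq_mul, om_apply, T_HB_two hb,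
    T_HB_three hb, polar_sub_left, polar_add_left, polar_smul_left]
  have hz : ∀ b, ω b b = 0 := by
    intro b
    have := hω b b
    have h3 : 2 * ω b b = 0 := by linear_combination this
    exact (mul_eq_zero.1 h3).resolve_left h2
  have e : ω y y' =
      (polar QB b3 y * ((2 * QB b2)⁻¹ * polar QB b2 y') -
        ((2 * QB b2)⁻¹ * polar QB b2 y) * polar QB b3 y') * ω b1 b2 +
      (polar QB b3 y * polar QB b1 y' - polar QB b1 y * polar QB b3 y') * ω b1 b3 +
      (((2 * QB b2)⁻¹ * polar QB b2 y) * polar QB b1 y' -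
        polar QB b1 y * ((2 * QB b2)⁻¹ * polar QB b2 y')) * ω b2 b3 := by
    conv_lhs => rw [hb.span y, hb.span y']
    simp only [map_add, map_smul, LinearMap.add_apply, LinearMap.smul_apply, smul_eq_mul]
    rw [hz b1, hz b2, hz b3, hω b1 b2, hω b1 b3, hω b2 b3]
    ring
  rw [e]
  linear_combination (-(polar QB b3 y * polar QB b1 y' - polar QB b1 y * polar QB b3 y') *
        ω b1 b3) * hδ1

end Cfsg.Agent.H922.Ten
end

-- part: H922/TenFiveThree
section
/-!
Tensor decompositions `V = A ⊗ B`, `dim A = dim B = 3`, `q = 5`: conclusion.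
-/

set_option autoImplicit false
set_option linter.unusedSectionVars false

namespace Cfsg.Agent.H922.Ten

open QuadraticMap Cfsg.Agent.LieClassical.OrthCore Cfsg.Agent.LieClassical.OrthTrans
  Cfsg.Agent.LieClassical.OrthSimple Cfsg.Agent.ClassicalGeometry.OrthAutBasic
  Cfsg.Agent.H887.SiegelMethod

variable {F V A B : Type*} [Field F] [AddCommGroup V] [Module F V] [AddCommGroup A] [Module F A]
  [AddCommGroup B] [Module F B] {Q : QuadraticForm F V} {QA : QuadraticForm F A}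
  {QB : QuadraticForm F B} {ten : A →ₗ[F] B →ₗ[F] V}

variable {a1 a2 a3 : A} {b1 b2 b3 : B}

/-- `ω ↦ η ⊗ ω`. -/
noncomputable def TD.mR (h : TD Q QA QB ten) (η : A →ₗ[F] A →ₗ[F] F) :
    (B →ₗ[F] B →ₗ[F] F) →ₗ[F] (V →ₗ[F] V →ₗ[F] F) where
  toFun ω := h.mko η ω
  map_add' ω ω' := by
    refine h.ext₂ fun a b x y => ?_
    rw [LinearMap.add_apply, LinearMap.add_apply, h.mko_ten, h.mko_ten, h.mko_ten,
      LinearMap.add_apply, LinearMap.add_apply]
    ring
  map_smul' c ω := by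
    refine h.ext₂ fun a b x y => ?_
    rw [LinearMap.smul_apply, LinearMap.smul_apply, h.mko_ten, h.mko_ten, LinearMap.smul_apply,
      LinearMap.smul_apply, smul_eq_mul, smul_eq_mul, RingHom.id_apply]
    ring

theorem TD.mR_eq (h : TD Q QA QB ten) (η : A →ₗ[F] A →ₗ[F] F) (ω : B →ₗ[F] B →ₗ[F] F) :
    h.mR η ω = h.mko η ω := rfl

theorem TD.rho_mko' (h : TD Q QA QB ten) {α : A ≃ₗ[F] A} (hα : α ∈ O QA)
    (ω : B →ₗ[F] B →ₗ[F] F) :
    rho F V (h.tm α 1) (h.mko (polarBilin QA) ω) = h.mko (polarBilin QA) ω := by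
  refine h.ext₂ fun a b a' b' => ?_
  have e : ∀ (a : A) (b : B), ((h.tm α 1)⁻¹ : V ≃ₗ[F] V) (ten a b) = ten ((α⁻¹ : A ≃ₗ[F] A) a) b := by
    intro a b
    rw [h.tm_inv, h.tm_ten]
    rfl
  rw [rho_apply, e, e, h.mko_ten, h.mko_ten, polarBilin_apply_apply, polarBilin_apply_apply,
    polar_map ((O QA).inv_mem hα)]

theorem mko_mem_Sk (h : TD Q QA QB ten) {ω : B →ₗ[F] B →ₗ[F] F} (hω : ∀ b y, ω y b = - ω b y) :
    h.mko (polarBilin QA) ω ∈ Sk F V := by
  refine h.mem_Sk_of_ten fun a b x y => ?_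
  rw [h.mko_ten, h.mko_ten, hω, polarBilin_apply_apply, polarBilin_apply_apply, polar_comm]
  ring

section main

variable [Finite F] [FiniteDimensional F A] [FiniteDimensional F B]

theorem tr5_id_right (hF : Nat.card F = 5) (h3 : (3 : F) ≠ 0) (h : TD Q QA QB ten)
    {L : Subgroup (V ≃ₗ[F] V)}
    [Finite L] (hL : Ov Q ten L) (hG : Good Q) (hne : ¬ E Q ≤ L) (ha : HB QA a1 a2 a3)
    (hdA : Module.finrank F A = 3) (hdB : Module.finrank F B = 3) (hb : HB QB b1 b2 b3)
    {s0 : V ≃ₗ[F] V} (hs0 : s0 ∈ L) (hsw : Sw ten s0) {ω : B →ₗ[F] B →ₗ[F] F}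
    (hω : ∀ b y, ω y b = - ω b y) :
    Trace.tr ((rho F V).comp L.subtype) (HS ten L) (h.p5 a1 a2 a3 b1 b2 b3)
      (h.mko (polarBilin QA) ω) = h.mko (polarBilin QA) ω := by
  have key : ∀ {c1 c2 c3 : B}, HB QB c1 c2 c3 →
      Trace.tr ((rho F V).comp L.subtype) (HS ten L) (h.p5 a1 a2 a3 b1 b2 b3)
        (h.mR (polarBilin QA) (om QB c1 c2)) = h.mR (polarBilin QA) (om QB c1 c2) := by
    intro c1 c2 c3 hc
    rw [h.mR_eq, h.p5_indep ha hb ha hc]
    rw [tr5_eq_of_fix hF h hL hG hne ha hdA hdB hc hs0 hsw (mko_mem_Sk h (om_skew c1 c2))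
      (fun t => h.mko_fixed hL hG hc _ t) (fun t => by
        have e : ((rho F V).comp L.subtype) (h.flip.jB hL.flip hG ha t) =
            rho F V (h.flip.tm 1 (T QA a1 (t.toAdd • a2))) := rfl
        rw [e, h.flip_tm]
        exact h.rho_mko' (T_mem_O _ _) _),
      h.p5_mL' h3 ha hc (om_skew c1 c2)]
  have hbu := hb.symm.map (g := T QB b1 ((1 : F) • b2)) (T_mem_O _ _)
  obtain ⟨x, y, z, e⟩ := hb.skew_form h.two hω
  rw [← h.mR_eq, e]
  simp only [map_add, map_smul]
  rw [key hb, key hb.symm, key hbu]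

theorem tr5_id (hF : Nat.card F = 5) (h3 : (3 : F) ≠ 0) (h : TD Q QA QB ten)
    {L : Subgroup (V ≃ₗ[F] V)}
    [Finite L] (hL : Ov Q ten L) (hG : Good Q) (hne : ¬ E Q ≤ L) (ha : HB QA a1 a2 a3)
    (hdA : Module.finrank F A = 3) (hdB : Module.finrank F B = 3) (hb : HB QB b1 b2 b3)
    {s0 : V ≃ₗ[F] V} (hs0 : s0 ∈ L) (hsw : Sw ten s0) {M : V →ₗ[F] V →ₗ[F] F}
    (hMS : M ∈ Sk F V) (hM : h.p5 a1 a2 a3 b1 b2 b3 M = M) :
    Trace.tr ((rho F V).comp L.subtype) (HS ten L) (h.p5 a1 a2 a3 b1 b2 b3) M = M := by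
  have e := h.p5_eq (a1 := a1) (a2 := a2) (a3 := a3) (b1 := b1) (b2 := b2) (b3 := b3) M
  have hl := tr5_id_right hF h3 h.flip hL.flip hG hne hb hdB hdA ha hs0 hsw.flip
    (h.cB_skew (b1 := b1) (b2 := b2) (b3 := b3) hMS)
  rw [HS_flip, h.p5_flip, h.mko_flip] at hl
  have hr := tr5_id_right hF h3 h hL hG hne ha hdA hdB hb hs0 hsw
    (h.flip.cB_skew (b1 := a1) (b2 := a2) (b3 := a3) hMS)
  rw [hM] at e
  conv_lhs => rw [e]
  rw [map_smul, map_add, hl, hr]
  exact e.symm

/-- **q = 5.** -/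
theorem DS_of_five (hF : Nat.card F = 5) (h : TD Q QA QB ten) {L : Subgroup (V ≃ₗ[F] V)}
    (hL : Ov Q ten L) (hG : Good Q) (hne : ¬ E Q ≤ L) (ha : HB QA a1 a2 a3)
    (hdA : Module.finrank F A = 3) (hdB : Module.finrank F B = 3) (hb : HB QB b1 b2 b3)
    {s0 : V ≃ₗ[F] V} (hs0 : s0 ∈ L) (hsw : Sw ten s0) {g : V ≃ₗ[F] V} (hg : g ∈ L) :
    DS ten g := by
  have : FiniteDimensional F V := Module.finite_of_finrank_pos (by have := hG.dim; omega)
  have : Finite V := Module.finite_of_finite F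
  have : Finite (V ≃ₗ[F] V) := DFunLike.finite _
  have : Finite (V →ₗ[F] V →ₗ[F] F) := Module.finite_of_finite F
  have : Nontrivial A := Module.nontrivial_of_finrank_pos (R := F) (by omega)
  have : Nontrivial B := Module.nontrivial_of_finrank_pos (R := F) (by omega)
  have h5 : (5 : F) = 0 := by
    have hFt : Fintype F := Fintype.ofFinite F
    have := Nat.cast_card_eq_zero F
    rw [← Nat.card_eq_fintype_card, hF] at this
    exact_mod_cast this
  have h3 : (3 : F) ≠ 0 := by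
    intro h3
    apply h.two
    linear_combination h5 - h3
  obtain ⟨p, hp⟩ := CharP.exists F
  have hpp : p.Prime := CharP.char_is_prime F p
  have : Fact p.Prime := ⟨hpp⟩
  have hpa : ∀ t : Multiplicative F, t ^ p = 1 := by
    intro t
    apply Multiplicative.toAdd.injective
    rw [toAdd_pow, ← Nat.cast_smul_eq_nsmul F, CharP.cast_eq_zero, zero_smul]
    rfl
  have hpg : IsPGroup p (Multiplicative F × Multiplicative F) := by
    rintro ⟨t, t'⟩
    refine ⟨1, ?_⟩
    rw [pow_one]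
    exact Prod.ext (hpa t) (hpa t')
  -- the group of pairs
  let j : Multiplicative F × Multiplicative F →* L :=
    { toFun := fun t => h.flip.jB hL.flip hG ha t.1 * h.jB hL hG hb t.2
      map_one' := by
        show h.flip.jB hL.flip hG ha 1 * h.jB hL hG hb 1 = 1
        rw [map_one, map_one, mul_one]
      map_mul' := by
        rintro ⟨s, t⟩ ⟨s', t'⟩
        show h.flip.jB hL.flip hG ha (s * s') * h.jB hL hG hb (t * t') =
          (h.flip.jB hL.flip hG ha s * h.jB hL hG hb t) *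
          (h.flip.jB hL.flip hG ha s' * h.jB hL hG hb t')
        have hcomm : h.jB hL hG hb t * h.flip.jB hL.flip hG ha s' =
            h.flip.jB hL.flip hG ha s' * h.jB hL hG hb t := by
          apply Subtype.ext
          rw [Subgroup.coe_mul, Subgroup.coe_mul, h.jB_coe, h.flip.jB_coe, h.flip_tm, ← h.tm_mul,
            ← h.tm_mul, one_mul, mul_one, one_mul, mul_one]
        rw [map_mul, map_mul, mul_assoc, mul_assoc, ← mul_assoc (h.jB hL hG hb t), hcomm,
          mul_assoc] }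
  have hjB : ∀ t, j (1, t) = h.jB hL hG hb t := by
    intro t
    show h.flip.jB hL.flip hG ha 1 * h.jB hL hG hb t = _
    rw [map_one, one_mul]
  have hjA : ∀ s, j (s, 1) = h.flip.jB hL.flip hG ha s := by
    intro s
    show h.flip.jB hL.flip hG ha s * h.jB hL hG hb 1 = _
    rw [map_one, mul_one]
  set n := h.mko (polarBilin QA) (om QB b1 b2) with hn
  have hnS : n ∈ Sk F V := mko_mem_Sk h (om_skew b1 b2)
  have hn5 : h.p5 a1 a2 a3 b1 b2 b3 n = n := h.p5_mL' h3 ha hb (om_skew b1 b2)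
  have h1 := Trace.green (F := F) (X := V →ₗ[F] V →ₗ[F] F)
    (ρ := (rho F V).comp L.subtype) (H := HS ten L) (π := h.p5 a1 a2 a3 b1 b2 b3)
    (fun g hg => h.p5_comm ha hb (hL.leO g.2) hg) hpg j
    (fun d => Or.inl (Dec.mul (h.flip.dec_tm _ _).unflip (h.dec_tm _ _)))
    (fun M => (∀ t, ((rho F V).comp L.subtype) (h.jB hL hG hb t) M = M) ∧
      (∀ t, ((rho F V).comp L.subtype) (h.flip.jB hL.flip hG ha t) M = M))
    (fun M hM => ⟨fun t => by rw [← hjB]; exact hM _, fun s => by rw [← hjA]; exact hM _⟩)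
    (Sk F V) (fun g x hx => rho_mem_Sk _ hx) (fun x hx => h.p5_mem_Sk hx)
    (fun M hM => h.p5_p5 h3 ha hb hM)
    (fun M hMS hM => tr5_eq_of_fix hF h hL hG hne ha hdA hdB hb hs0 hsw hMS hM.1 hM.2)
    (fun M hMS hM => tr5_id hF h3 h hL hG hne ha hdA hdB hb hs0 hsw hMS hM)
    (⟨g, hg⟩ : L) hnS hn5
  set Y := ((rho F V).comp L.subtype) (⟨g, hg⟩ : L) n with hY
  have hYS : Y ∈ Sk F V := rho_mem_Sk _ hnS
  have hYe : Y = (3 : F)⁻¹ • (h.mko (cB ten QB b1 b2 b3 Y) (polarBilin QB) +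
        h.mko (polarBilin QA) (cB ten.flip QA a1 a2 a3 Y)) := by
    rw [← h.p5_eq]
    exact h1.symm
  obtain ⟨s, hs⟩ := ha.exists_op ((3 : F)⁻¹ • cB ten QB b1 b2 b3 Y)
  obtain ⟨r, hr⟩ := hb.exists_op ((3 : F)⁻¹ • cB ten.flip QA a1 a2 a3 Y)
  have hs0' : ∀ x, polar QA (s x) x = 0 := by
    intro x
    have e1 := h.cB_skew (b1 := b1) (b2 := b2) (b3 := b3) hYS x x
    have e2 : 2 * cB ten QB b1 b2 b3 Y x x = 0 := by linear_combination e1
    rw [hs, LinearMap.smul_apply, LinearMap.smul_apply, (mul_eq_zero.1 e2).resolve_left h.two,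
      smul_zero]
  have hr0 : ∀ x, polar QB (r x) x = 0 := by
    intro x
    have e1 := h.flip.cB_skew (b1 := a1) (b2 := a2) (b3 := a3) hYS x x
    have e2 : 2 * cB ten.flip QA a1 a2 a3 Y x x = 0 := by linear_combination e1
    rw [hr, LinearMap.smul_apply, LinearMap.smul_apply, (mul_eq_zero.1 e2).resolve_left h.two,
      smul_zero]
  -- the operator of `Y`
  set N := h.mB (nu QB b1 b2) with hN
  have hTpol : ∀ v w, polar Q (h.mA s v + h.mB r v) w = Y v w := by
    have : (polarBilin Q) ∘ₗ (h.mA s + h.mB r) = Y := by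
      refine h.ext₂ fun a b x y => ?_
      conv_rhs => rw [hYe]
      rw [LinearMap.comp_apply, polarBilin_apply_apply, LinearMap.add_apply, h.mA_ten, h.mB_ten,
        polar_add_left, h.form, h.form, hs, hr]
      simp only [LinearMap.smul_apply, LinearMap.add_apply, h.mko_ten, polarBilin_apply_apply,
        smul_eq_mul]
      ring
    intro v w
    rw [← this]
    rfl
  have hNpol : ∀ v w, polar Q (N v) w = n v w := by
    have : (polarBilin Q) ∘ₗ N = n := by
      refine h.ext₂ fun a b x y => ?_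
      rw [LinearMap.comp_apply, polarBilin_apply_apply, hN, h.mB_ten, h.form, hn, h.mko_ten,
        nu, wd_apply, om_apply, polar_sub_left, polar_smul_left, polar_smul_left,
        polarBilin_apply_apply]
      simp only [smul_eq_mul]
    intro v w
    rw [← this]
    rfl
  have hgO : g ∈ O Q := hL.leO hg
  have hT : ∀ v, g (N v) = h.mA s (g v) + h.mB r (g v) := by
    intro v
    rw [← sub_eq_zero]
    apply hG.nondeg
    intro w
    obtain ⟨w, rfl⟩ := g.surjective w
    rw [polar_sub_left, hTpol, polar_map hgO, hNpol]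
    have : Y (g v) (g w) = n v w := by
      show n ((g⁻¹ : V ≃ₗ[F] V) (g v)) ((g⁻¹ : V ≃ₗ[F] V) (g w)) = n v w
      have e : ∀ v, (g⁻¹ : V ≃ₗ[F] V) (g v) = v := fun v => LinearEquiv.symm_apply_apply g v
      rw [e, e]
    rw [this, sub_self]
  -- powers of `N`
  have hN1 : ∀ a, N (ten a b1) = 0 := by
    intro a
    rw [hN, h.mB_ten, nu, wd_apply, hb.p11, hb.p21, zero_smul, zero_smul, sub_zero, map_zero]
  have hN2 : ∀ a, N (ten a b2) = (-(2 * QB b2)) • ten a b1 := by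
    intro a
    rw [hN, h.mB_ten, nu, wd_apply, hb.p12, hb.p22, zero_smul, zero_sub, map_neg, map_smul,
      neg_smul]
  have hN3 : ∀ a, N (ten a b3) = ten a b2 := by
    intro a
    rw [hN, h.mB_ten, nu, wd_apply, hb.p13, hb.p23, zero_smul, one_smul, sub_zero]
  have hNNN : ∀ v, N (N (N v)) = 0 := by
    intro v
    conv_lhs => rw [h.decomp hb v]
    simp only [map_add, hN1, hN2, hN3, map_smul, LinearMap.smul_apply, smul_zero, zero_add,
      add_zero]
  have hcube : ∀ v, (h.mA s + h.mB r) ((h.mA s + h.mB r) ((h.mA s + h.mB r) v)) = 0 := by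
    intro v
    obtain ⟨v, rfl⟩ := g.surjective v
    have hT' : ∀ v, (h.mA s + h.mB r) (g v) = g (N v) := fun v => (hT v).symm
    rw [hT', hT', hT', hNNN, map_zero]
  have hcube' : ∀ a b, ten (s (s (s a))) b + (3 : F) • ten (s (s a)) (r b) +
      (3 : F) • ten (s a) (r (r b)) + ten a (r (r (r b))) = 0 := by
    intro a b
    have := hcube (ten a b)
    simp only [LinearMap.add_apply, map_add, h.mA_ten, h.mB_ten] at this
    rw [← this]
    module
  -- `s = 0` or `r = 0`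
  have hrsk : ∀ y y', polar QB y' (r y) = - polar QB y (r y') := by
    intro y y'
    have e1 := hr0 (y + y')
    rw [map_add, polar_add_left, polar_add_right, polar_add_right, hr0, hr0, zero_add,
      add_zero] at e1
    rw [polar_comm QB y' (r y), polar_comm QB y (r y')]
    linear_combination e1
  have hor : s = 0 ∨ r = 0 := by
    by_cases hr00 : r = 0
    · exact Or.inr hr00
    left
    obtain ⟨b, hb0⟩ : ∃ b, r b ≠ 0 := by
      by_contra hcon
      push Not at hcon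
      exact hr00 (LinearMap.ext hcon)
    obtain ⟨b', hb'⟩ := h.nB.exists_polar_eq hb0 1
    rw [polar_comm] at hb'
    -- the equation paired with `b'`, and its mirror
    have e1 : ∀ a, polar QB b' b • s (s (s a)) + (3 : F) • s (s a) +
        ((3 : F) * polar QB b' (r (r b))) • s a + polar QB b' (r (r (r b))) • a = 0 := by
      intro a
      have := congrArg (h.pb b') (hcube' a b)
      simp only [map_add, map_smul, h.pb_ten, map_zero, hb', one_smul] at this
      rw [← this]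
      module
    have e2 : ∀ a, polar QB b' b • s (s (s a)) + (-(3 : F)) • s (s a) +
        ((3 : F) * polar QB b' (r (r b))) • s a + (-polar QB b' (r (r (r b)))) • a = 0 := by
      intro a
      have := congrArg (h.pb b) (hcube' a b')
      simp only [map_add, map_smul, h.pb_ten, map_zero] at this
      have f1 : polar QB b b' = polar QB b' b := polar_comm _ _ _
      have f2 : polar QB b (r b') = -1 := by
        have := hrsk b b'
        rw [hb'] at this
        linear_combination this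
      have f3 : polar QB b (r (r b')) = polar QB b' (r (r b)) := by
        rw [hrsk (r b') b, polar_comm QB (r b') (r b), hrsk b' (r b), neg_neg]
      have f4 : polar QB b (r (r (r b'))) = - polar QB b' (r (r (r b))) := by
        rw [hrsk (r (r b')) b, polar_comm QB (r (r b')) (r b), hrsk (r b') (r b),
          polar_comm QB (r b') (r (r b)), hrsk b' (r (r b)), neg_neg]
      rw [f1, f2, f3, f4] at this
      rw [← this]
      module
    have hsc : ∀ a, s (s a) = ((2 * 3 : F)⁻¹ * (-(2 * polar QB b' (r (r (r b)))))) • a := by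
      intro a
      have h6 : (2 * 3 : F) ≠ 0 := mul_ne_zero h.two h3
      have e3 : (2 * 3 : F) • (s (s a)) = (-(2 * polar QB b' (r (r (r b))))) • a := by
        have := (e1 a).trans (e2 a).symm
        rw [← sub_eq_zero] at this ⊢
        rw [← this]
        module
      have e4 : s (s a) = (2 * 3 : F)⁻¹ • ((2 * 3 : F) • s (s a)) := by
        rw [smul_smul, inv_mul_cancel₀ h6, one_smul]
      rw [e4, e3, smul_smul]
    exact ha.skew_scalar h.two hs0' hsc
  -- the conclusion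
  have hδ : (2 * QB b2) ≠ 0 := mul_ne_zero h.two hb.q2
  have hgen : ∀ x, g (ten x b1) = (-(2 * QB b2)⁻¹) • g (N (N (ten x b3))) := by
    intro x
    rw [hN3, hN2, map_smul, smul_smul, neg_mul_neg, inv_mul_cancel₀ hδ, one_smul]
  refine DS_of_pure (by omega) h hL hG hne ha hdA hdB hb hs0 hsw hg fun x => ?_
  rw [hgen]
  rcases hor with hs00 | hr00
  · have hmA : h.mA s = 0 := by
      refine h.ext fun a b => ?_
      rw [h.mA_ten, hs00]
      simp
    have hT1 : ∀ v, g (N v) = h.mB r (g v) := by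
      intro v
      rw [hT, hmA, LinearMap.zero_apply, zero_add]
    have hr3 : ∀ y, r (r (r y)) = 0 := by
      intro y
      have e1 := hcube' a2 y
      have ha20 : a2 ≠ 0 := by
        intro h0
        apply ha.q2
        rw [h0]
        exact QuadraticMap.map_zero QA
      rw [hs00] at e1
      simp only [LinearMap.zero_apply, map_zero, smul_zero, zero_add] at e1
      exact h.flip.ten_inj ha20 (x := r (r (r y))) (y := 0) (by
        rw [map_zero, LinearMap.zero_apply]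
        exact e1)
    obtain ⟨u, hu⟩ := hb.skew_sq h.two hr0 hr3
    obtain ⟨c1, hc1⟩ := hu b1
    obtain ⟨c2, hc2⟩ := hu b2
    obtain ⟨c3, hc3⟩ := hu b3
    rw [hT1, hT1]
    set w := g (ten x b3) with hw
    refine ⟨(-(2 * QB b2)⁻¹) • (c1 • h.pb b3 w + c2 • ((2 * QB b2)⁻¹ • h.pb b2 w) +
      c3 • h.pb b1 w), u, ?_⟩
    conv_lhs => rw [h.decomp hb w]
    simp only [map_add, h.mB_ten, hc1, hc2, hc3, map_smul, LinearMap.add_apply,
      LinearMap.smul_apply]
    module
  · have hmB : h.mB r = 0 := by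
      refine h.ext fun a b => ?_
      rw [h.mB_ten, hr00]
      simp
    have hT1 : ∀ v, g (N v) = h.mA s (g v) := by
      intro v
      rw [hT, hmB, LinearMap.zero_apply, add_zero]
    have hs3 : ∀ y, s (s (s y)) = 0 := by
      intro y
      have e1 := hcube' y b2
      have hb20 : b2 ≠ 0 := by
        intro h0
        apply hb.q2
        rw [h0]
        exact QuadraticMap.map_zero QB
      rw [hr00] at e1
      simp only [LinearMap.zero_apply, map_zero, smul_zero, add_zero] at e1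
      exact h.ten_inj hb20 (x := s (s (s y))) (y := 0) (by
        rw [map_zero, LinearMap.zero_apply]
        exact e1)
    obtain ⟨u, hu⟩ := ha.skew_sq h.two hs0' hs3
    rw [hT1, hT1]
    set w := g (ten x b3) with hw
    obtain ⟨c1, hc1⟩ := hu (h.pb b3 w)
    obtain ⟨c2, hc2⟩ := hu (h.pb b2 w)
    obtain ⟨c3, hc3⟩ := hu (h.pb b1 w)
    refine ⟨u, (-(2 * QB b2)⁻¹) • (c1 • b1 + ((2 * QB b2)⁻¹ * c2) • b2 + c3 • b3), ?_⟩
    conv_lhs => rw [h.decomp hb w]
    simp only [map_add, h.mA_ten, hc1, hc2, hc3, map_smul, LinearMap.add_apply,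
      LinearMap.smul_apply, smul_smul]

end main

end Cfsg.Agent.H922.Ten
end

-- part: H922/TenSwap
section
/-!
Tensor decompositions `V = A ⊗ B`, `dim A = dim B = 3`: the decomposable isometries cover `O/E`;
every group strictly between the stabiliser in `E Q` and `E Q` is excluded.
-/

set_option autoImplicit false
set_option linter.unusedSectionVars false

namespace Cfsg.Agent.H922.Ten

open QuadraticMap Cfsg.Agent.LieClassical.OrthCore Cfsg.Agent.LieClassical.OrthTrans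
  Cfsg.Agent.LieClassical.OrthSimple Cfsg.Agent.ClassicalGeometry.OrthAutBasic
  Cfsg.Agent.H887.SiegelMethod

variable {F V A B : Type*} [Field F] [AddCommGroup V] [Module F V] [AddCommGroup A] [Module F A]
  [AddCommGroup B] [Module F B] {Q : QuadraticForm F V} {QA : QuadraticForm F A}
  {QB : QuadraticForm F B} {ten : A →ₗ[F] B →ₗ[F] V}

variable {a1 a2 a3 : A} {b1 b2 b3 : B}

/-- The isometries congruent modulo `E Q` to decomposable ones. -/
def DK (Q : QuadraticForm F V) (ten : A →ₗ[F] B →ₗ[F] V) : Subgroup (V ≃ₗ[F] V) where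
  carrier := {g | g ∈ O Q ∧ ∃ k ∈ O Q, Dec ten k ∧ g * k⁻¹ ∈ E Q}
  mul_mem' := by
    rintro g g' ⟨hg, k, hk, hd, he⟩ ⟨hg', k', hk', hd', he'⟩
    refine ⟨(O Q).mul_mem hg hg', k * k', (O Q).mul_mem hk hk', hd.mul hd', ?_⟩
    have e : g * g' * (k * k')⁻¹ = (g * (g' * k'⁻¹) * g⁻¹) * (g * k⁻¹) := by group
    rw [e]
    exact (E Q).mul_mem (conj_mem_E hg he') he
  one_mem' := ⟨(O Q).one_mem, 1, (O Q).one_mem, dec_one, by simp⟩
  inv_mem' := by
    rintro g ⟨hg, k, hk, hd, he⟩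
    refine ⟨(O Q).inv_mem hg, k⁻¹, (O Q).inv_mem hk, hd.inv, ?_⟩
    have e : g⁻¹ * k⁻¹⁻¹ = g⁻¹ * (g * k⁻¹)⁻¹ * g⁻¹⁻¹ := by group
    rw [e]
    exact conj_mem_E ((O Q).inv_mem hg) ((E Q).inv_mem he)

theorem E_le_DK : E Q ≤ DK Q ten := fun g hg =>
  ⟨E_le_O hg, 1, (O Q).one_mem, dec_one, by simpa using hg⟩

theorem dec_mem_DK {k : V ≃ₗ[F] V} (hk : k ∈ O Q) (hd : Dec ten k) : k ∈ DK Q ten :=
  ⟨hk, k, hk, hd, by simp⟩

theorem refl_sq_mem (hG : Good Q) {v v' : V} (hv : Q v ≠ 0) (hv' : Q v' ≠ 0) {c : F} (hc : c ≠ 0)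
    (h : Q v = c ^ 2 * Q v') : refl Q v hv * refl Q v' hv' ∈ E Q := by
  have e : Q (c • v') = Q v := by
    rw [QuadraticMap.map_smul, h, smul_eq_mul]
    ring
  have hcv : Q (c • v') ≠ 0 := by rw [e]; exact hv
  rw [← refl_smul hv' hc hcv]
  exact hG.refl_mul_refl_mem hcv hv e

/-- The reflections of the first factor. -/
theorem TD.tm_refl (h : TD Q QA QB ten) (hb : HB QB b1 b2 b3) {a : A} (ha : QA a ≠ 0)
    (h1 : Q (ten a (b1 + b3)) ≠ 0) (h2 : Q (ten a b2) ≠ 0) (h3 : Q (ten a (b1 - b3)) ≠ 0) :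
    h.tm (refl QA a ha) 1 = refl Q _ h1 * refl Q _ h2 * refl Q _ h3 := by
  have hδ : (2 * QB b2) ≠ 0 := mul_ne_zero h.two hb.q2
  have q1 : QB (b1 + b3) = 1 := by
    rw [Q_add, hb.hyp.left, hb.hyp.right, hb.p13]
    ring
  have q3 : QB (b1 - b3) = -1 := by
    rw [sub_eq_add_neg, ← neg_one_smul F b3, Q_add, QuadraticMap.map_smul, polar_smul_right,
      hb.hyp.left, hb.hyp.right, hb.p13]
    simp
  refine h.ext_equiv fun x y => ?_
  rw [h.tm_ten, LinearEquiv.mul_apply, LinearEquiv.mul_apply]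
  simp only [refl_apply, polar_sub_right, polar_smul_right, h.form, h.Q_ten, q1, q3,
    polar_add_left, polar_sub_left, polar_add_right, hb.p11, hb.p12, hb.p13, hb.p21, hb.p22,
    hb.p23, hb.p31, hb.p32, hb.p33, polar_self']
  have e1 : (1 : B ≃ₗ[F] B) y = polar QB b3 y • b1 + ((2 * QB b2)⁻¹ * polar QB b2 y) • b2 +
      polar QB b1 y • b3 := hb.span y
  rw [e1]
  have e2 : ten x y = ten x (polar QB b3 y • b1 + ((2 * QB b2)⁻¹ * polar QB b2 y) • b2 +
      polar QB b1 y • b3) := by rw [← hb.span y]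
  rw [e2]
  have h22 : (2 : F) ≠ 0 := h.two
  have hb2 := hb.q2
  simp only [map_add, map_sub, map_smul, LinearMap.sub_apply, LinearMap.smul_apply, smul_eq_mul]
  match_scalars
  all_goals (try field_simp)
  all_goals (try ring)

/-- In a finite field of odd order one of `x y`, `-x y` is a square times... -/
theorem sq_or [Finite F] (h1 : ¬ IsSquare (-1 : F)) {x y : F} (hx : x ≠ 0)
    (hy : y ≠ 0) : (∃ c : F, c ≠ 0 ∧ x = c ^ 2 * y) ∨ (∃ c : F, c ≠ 0 ∧ -x = c ^ 2 * y) := by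
  classical
  have hFt : Fintype F := Fintype.ofFinite F
  have key : ∀ z : F, z ≠ 0 → IsSquare (z * y) → ∃ c : F, c ≠ 0 ∧ z = c ^ 2 * y := by
    rintro z hz ⟨r, hr⟩
    refine ⟨r * y⁻¹, ?_, ?_⟩
    · intro h0
      have hr0 : r = 0 := (mul_eq_zero.1 h0).resolve_right (inv_ne_zero hy)
      rw [hr0, mul_zero] at hr
      exact mul_ne_zero hz hy hr
    · have : (r * y⁻¹) ^ 2 * y = (r * r) * y⁻¹ * (y⁻¹ * y) := by ring
      rw [this, inv_mul_cancel₀ hy, ← hr, mul_one, mul_assoc, mul_inv_cancel₀ hy, mul_one]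
  by_cases hs : IsSquare (x * y)
  · exact Or.inl (key x hx hs)
  · right
    apply key (-x) (neg_ne_zero.2 hx)
    have hxy : -x * y ≠ 0 := mul_ne_zero (neg_ne_zero.2 hx) hy
    rw [← quadraticChar_one_iff_isSquare hxy]
    have e : -x * y = (-1) * (x * y) := by ring
    rw [e, map_mul, quadraticChar_neg_one_iff_not_isSquare.2 h1,
      quadraticChar_neg_one_iff_not_isSquare.2 hs]
    norm_num

/-- All reflections are congruent to decomposable isometries. -/
theorem refl_mem_DK [Finite F] (hG : Good Q) (h : TD Q QA QB ten) (ha : HB QA a1 a2 a3)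
    (hb : HB QB b1 b2 b3) {v : V} (hv : Q v ≠ 0) : refl Q v hv ∈ DK Q ten := by
  have hgen : ∀ ν : F, ν ≠ 0 → ∃ (v1 v2 v3 : V) (h1 : Q v1 ≠ 0) (h2 : Q v2 ≠ 0) (h3 : Q v3 ≠ 0),
      Q v1 = 2 * ν ∧ Q v2 = 2 * ν * QB b2 ∧ Q v3 = -(2 * ν) ∧
      refl Q v1 h1 * refl Q v2 h2 = refl Q v2 h2 * refl Q v1 h1 ∧
      refl Q v2 h2 * refl Q v3 h3 = refl Q v3 h3 * refl Q v2 h2 ∧
      refl Q v1 h1 * refl Q v3 h3 = refl Q v3 h3 * refl Q v1 h1 ∧
      refl Q v1 h1 * refl Q v2 h2 * refl Q v3 h3 ∈ DK Q ten := by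
    intro ν hν
    have hQa : QA (a1 + ν • a3) = ν := by
      rw [Q_add, QuadraticMap.map_smul, polar_smul_right, ha.hyp.left, ha.hyp.right, ha.p13]
      simp
    have hQa0 : QA (a1 + ν • a3) ≠ 0 := by rw [hQa]; exact hν
    have q1 : QB (b1 + b3) = 1 := by
      rw [Q_add, hb.hyp.left, hb.hyp.right, hb.p13]
      ring
    have q3 : QB (b1 - b3) = -1 := by
      rw [sub_eq_add_neg, ← neg_one_smul F b3, Q_add, QuadraticMap.map_smul, polar_smul_right,
        hb.hyp.left, hb.hyp.right, hb.p13]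
      simp
    have e1 : Q (ten (a1 + ν • a3) (b1 + b3)) = 2 * ν := by rw [h.Q_ten, hQa, q1, mul_one]
    have e2 : Q (ten (a1 + ν • a3) b2) = 2 * ν * QB b2 := by rw [h.Q_ten, hQa]
    have e3 : Q (ten (a1 + ν • a3) (b1 - b3)) = -(2 * ν) := by rw [h.Q_ten, hQa, q3]; ring
    have f1 : Q (ten (a1 + ν • a3) (b1 + b3)) ≠ 0 := by rw [e1]; exact mul_ne_zero h.two hν
    have f2 : Q (ten (a1 + ν • a3) b2) ≠ 0 := by
      rw [e2]; exact mul_ne_zero (mul_ne_zero h.two hν) hb.q2
    have f3 : Q (ten (a1 + ν • a3) (b1 - b3)) ≠ 0 := by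
      rw [e3]; exact neg_ne_zero.2 (mul_ne_zero h.two hν)
    have o12 : polar QB (b1 + b3) b2 = 0 := by
      rw [polar_add_left, hb.p12, hb.p32, add_zero]
    have o23 : polar QB b2 (b1 - b3) = 0 := by
      rw [polar_sub_right, hb.p21, hb.p23, sub_zero]
    have o13 : polar QB (b1 + b3) (b1 - b3) = 0 := by
      rw [polar_add_left, polar_sub_right, polar_sub_right, hb.p11, hb.p13, hb.p31,
        hb.p33]
      ring
    refine ⟨_, _, _, f1, f2, f3, e1, e2, e3, ?_, ?_, ?_, ?_⟩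
    · apply refl_comm
      rw [h.form, o12, mul_zero]
    · apply refl_comm
      rw [h.form, o23, mul_zero]
    · apply refl_comm
      rw [h.form, o13, mul_zero]
    · rw [← h.tm_refl hb hQa0 f1 f2 f3]
      exact dec_mem_DK (h.tm_mem_O (refl_mem_O _) (Subgroup.one_mem _)) (h.dec_tm _ _)
  have hfin : ∀ {w : V} (hw : Q w ≠ 0), refl Q w hw ∈ DK Q ten → ∀ c : F, c ≠ 0 →
      Q w = c ^ 2 * Q v → refl Q v hv ∈ DK Q ten := by
    intro w hw hwD c hc hwv
    have h1 := E_le_DK (ten := ten) (refl_sq_mem hG hw hv hc hwv)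
    have e : refl Q v hv = (refl Q w hw)⁻¹ * (refl Q w hw * refl Q v hv) := by group
    rw [e]
    exact (DK Q ten).mul_mem ((DK Q ten).inv_mem hwD) h1
  have h2 := h.two
  by_cases hs : IsSquare (-1 : F)
  · obtain ⟨i, hi⟩ := hs
    have hi0 : i ≠ 0 := by
      rintro rfl
      rw [mul_zero] at hi
      exact one_ne_zero (neg_eq_zero.1 hi)
    obtain ⟨v1, v2, v3, f1, f2, f3, e1, e2, e3, c12, c23, c13, hD⟩ :=
      hgen (Q v / (2 * QB b2)) (div_ne_zero hv (mul_ne_zero h.two hb.q2))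
    have h13 : refl Q v3 f3 * refl Q v1 f1 ∈ DK Q ten := by
      refine E_le_DK (refl_sq_mem hG f3 f1 hi0 ?_)
      rw [e3, e1, pow_two, ← hi]
      ring
    refine hfin f2 ?_ 1 one_ne_zero ?_
    · have e : refl Q v2 f2 = (refl Q v1 f1 * refl Q v2 f2 * refl Q v3 f3) *
          (refl Q v3 f3 * refl Q v1 f1) := by
        calc refl Q v2 f2 = refl Q v2 f2 * (refl Q v1 f1 * refl Q v1 f1) := by
              rw [refl_mul_self, mul_one]
          _ = refl Q v1 f1 * refl Q v2 f2 * refl Q v1 f1 := by rw [← mul_assoc, c12]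
          _ = refl Q v1 f1 * refl Q v2 f2 * (refl Q v3 f3 * refl Q v3 f3) * refl Q v1 f1 := by
              rw [refl_mul_self f3, mul_one]
          _ = _ := by simp only [mul_assoc]
      rw [e]
      exact (DK Q ten).mul_mem hD h13
    · rw [e2]
      have := hb.q2
      field_simp
  · obtain ⟨v1, v2, v3, f1, f2, f3, e1, e2, e3, c12, c23, c13, hD⟩ :=
      hgen (-Q v / (2 * QB b2)) (div_ne_zero (neg_ne_zero.2 hv) (mul_ne_zero h.two hb.q2))
    have e2' : Q v2 = - Q v := by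
      rw [e2]
      have := hb.q2
      field_simp
    rcases sq_or hs f1 hv with ⟨c, hc, hcv⟩ | ⟨c, hc, hcv⟩
    · -- `v1 ~ v`, `v3 ~ v2`
      refine hfin f1 ?_ c hc hcv
      have h32 : refl Q v3 f3 * refl Q v2 f2 ∈ DK Q ten := by
        refine E_le_DK (refl_sq_mem hG f3 f2 hc ?_)
        rw [e3, e2', ← e1, hcv]
        ring
      have e : refl Q v1 f1 = (refl Q v1 f1 * refl Q v2 f2 * refl Q v3 f3) *
          (refl Q v3 f3 * refl Q v2 f2) := by
        calc refl Q v1 f1 = refl Q v1 f1 * (refl Q v2 f2 * refl Q v2 f2) := by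
              rw [refl_mul_self, mul_one]
          _ = refl Q v1 f1 * refl Q v2 f2 * (refl Q v3 f3 * refl Q v3 f3) * refl Q v2 f2 := by
              rw [refl_mul_self f3, mul_one, mul_assoc]
          _ = _ := by simp only [mul_assoc]
      rw [e]
      exact (DK Q ten).mul_mem hD h32
    · -- `v3 ~ v`, `v1 ~ v2`
      refine hfin f3 ?_ c hc (by rw [e3, ← e1, hcv])
      have h12 : refl Q v1 f1 * refl Q v2 f2 ∈ DK Q ten := by
        refine E_le_DK (refl_sq_mem hG f1 f2 hc ?_)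
        rw [e2', ← neg_neg (Q v1), hcv]
        ring
      have e : refl Q v3 f3 = (refl Q v1 f1 * refl Q v2 f2)⁻¹ *
          (refl Q v1 f1 * refl Q v2 f2 * refl Q v3 f3) := by group
      rw [e]
      exact (DK Q ten).mul_mem ((DK Q ten).inv_mem h12) hD

theorem DK_eq [Finite F] (hG : Good Q) (h : TD Q QA QB ten) (ha : HB QA a1 a2 a3)
    (hb : HB QB b1 b2 b3) {g : V ≃ₗ[F] V} (hg : g ∈ O Q) : g ∈ DK Q ten := by
  have : FiniteDimensional F V := Module.finite_of_finrank_pos (by have := hG.dim; omega)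
  rw [O_eq_closure hG.nondeg] at hg
  refine (Subgroup.closure_le _).2 ?_ hg
  rintro x (⟨v, hv, rfl⟩ | ⟨u, w, hu, hw, rfl⟩)
  · exact refl_mem_DK hG h ha hb hv
  · exact E_le_DK (siegel_mem_E hu hw)

/-- The swap can be chosen in `E Q`. -/
theorem exists_swap [Finite F] (hG : Good Q) (h : TD Q QA QB ten) (ha : HB QA a1 a2 a3)
    (hb : HB QB b1 b2 b3) {s : V ≃ₗ[F] V} (hs : s ∈ O Q) (hsw : Sw ten s) :
    ∃ s0 ∈ E Q, Sw ten s0 := by
  obtain ⟨-, k, hk, hd, he⟩ := DK_eq hG h ha hb hs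
  exact ⟨s * k⁻¹, he, hsw.mul_dec hd.inv⟩

/-- The standard swap for similar factors. -/
theorem TD.exists_sw (h : TD Q QA QB ten) {σ : B ≃ₗ[F] A} {μ : F} (hμ : μ ≠ 0)
    (hσ : ∀ b, QA (σ b) = μ * QB b) : ∃ s ∈ O Q, Sw ten s := by
  let φ : V →ₗ[F] V := h.tl ((ten ∘ₗ σ.toLinearMap).flip ∘ₗ σ.symm.toLinearMap)
  have hφ : ∀ a b, φ (ten a b) = ten (σ b) (σ.symm a) := by
    intro a b
    show h.tl _ (ten a b) = _
    rw [h.tl_ten]
    rfl
  have hφφ : φ ∘ₗ φ = LinearMap.id := by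
    refine h.ext fun a b => ?_
    rw [LinearMap.comp_apply, hφ, hφ, LinearMap.id_apply, LinearEquiv.apply_symm_apply,
      LinearEquiv.symm_apply_apply]
  let s : V ≃ₗ[F] V := LinearEquiv.ofLinearMap φ φ hφφ hφφ
  have hsa : ∀ a b, s (ten a b) = ten (σ b) (σ.symm a) := hφ
  refine ⟨s, ?_, σ, σ.symm, hsa⟩
  have hpA : ∀ b b', polar QA (σ b) (σ b') = μ * polar QB b b' := by
    intro b b'
    simp only [polar, ← map_add, hσ]
    ring
  have h1 : (polarBilin Q).compl₁₂ s.toLinearMap s.toLinearMap = polarBilin Q := by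
    refine h.ext₂ fun a b a' b' => ?_
    simp only [LinearMap.compl₁₂_apply, LinearEquiv.coe_coe, polarBilin_apply_apply]
    rw [hsa, hsa, h.form, h.form, hpA]
    have e : polar QA a a' = μ * polar QB (σ.symm a) (σ.symm a') := by
      rw [← hpA, LinearEquiv.apply_symm_apply, LinearEquiv.apply_symm_apply]
    rw [e]
    ring
  intro v
  have h2 := LinearMap.congr_fun₂ h1 v v
  simp only [LinearMap.compl₁₂_apply, LinearEquiv.coe_coe, polarBilin_apply_apply] at h2
  rw [polar_self', polar_self'] at h2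
  exact mul_left_cancel₀ h.two h2

/-- **Maximality**, abstract form. -/
theorem DS_of_lt [Finite F] [FiniteDimensional F A] [FiniteDimensional F B]
    (hF : 5 ≤ Nat.card F) (h : TD Q QA QB ten) {L : Subgroup (V ≃ₗ[F] V)}
    (hLE : L ≤ E Q) (hds : ∀ g ∈ E Q, DS ten g → g ∈ L) (hG : Good Q) (hne : ¬ E Q ≤ L)
    (ha : HB QA a1 a2 a3)
    (hdA : Module.finrank F A = 3) (hdB : Module.finrank F B = 3) (hb : HB QB b1 b2 b3)
    {σ : B ≃ₗ[F] A} {μ : F} (hμ : μ ≠ 0)
    (hσ : ∀ b, QA (σ b) = μ * QB b) {g : V ≃ₗ[F] V} (hg : g ∈ L) :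
    DS ten g := by
  obtain ⟨s, hs, hsw⟩ := h.exists_sw hμ hσ
  obtain ⟨s0, hs0, hsw0⟩ := exists_swap hG h ha hb hs hsw
  have hL : Ov Q ten L := ⟨hLE, fun g hg hd => hds g hg (Or.inl hd)⟩
  have hs0L : s0 ∈ L := hds s0 hs0 (Or.inr hsw0)
  have hFt : Fintype F := Fintype.ofFinite F
  have hodd : Nat.card F % 2 = 1 := by
    rw [Nat.card_eq_fintype_card]
    refine FiniteField.odd_card_of_char_ne_two ?_
    intro hc
    apply h.two
    have := ringChar.spec F 2
    rw [hc] at this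
    have h22 := (this.2 (dvd_refl 2))
    exact_mod_cast h22
  rcases (show Nat.card F = 5 ∨ 7 ≤ Nat.card F by omega) with h5 | h7
  · exact DS_of_five h5 h hL hG hne ha hdA hdB hb hs0L hsw0 hg
  · exact DS_of_seven h7 h hL hG hne ha hdA hdB hb hs0L hsw0 hg

end Cfsg.Agent.H922.Ten
end

-- part: H922/TenMain
section
/-!
Tensor squares of three-dimensional symmetric forms: the stabiliser in `Ω_9(q)`, `q ≥ 5` odd, is
maximal.
-/

set_option autoImplicit false
set_option linter.unusedSectionVars false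

namespace Cfsg.Agent.H922.Ten

open QuadraticMap Cfsg.Agent.LieClassical.OrthCore Cfsg.Agent.LieClassical.OrthTrans
  Cfsg.Agent.LieClassical.OrthSimple Cfsg.Agent.ClassicalGeometry.OrthAutBasic
  Cfsg.Agent.H887.SiegelMethod Cfsg.Agent.H887.OmegaBridge Cfsg Cfsg.Geo Cfsg.Agent.H919
open scoped MatrixGroups Matrix

variable {ι : Type} [Fintype ι] [DecidableEq ι] {F : Type*} [Field F]

theorem pv_apply (a b : Fin 3 → F) (i : Fin 2 → Fin 3) : pureVec ![a, b] i = a (i 0) * b (i 1) := by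
  simp [pureVec, Fin.prod_univ_two]

/-- The tensor map. -/
noncomputable def pten (e : ι ≃ (Fin 2 → Fin 3)) (P : GL ι F) :
    (Fin 3 → F) →ₗ[F] (Fin 3 → F) →ₗ[F] (ι → F) :=
  LinearMap.mk₂ F (fun a b => (P : Matrix ι ι F) *ᵥ (pureVec ![a, b] ∘ e))
    (fun a a' b => by
      rw [← Matrix.mulVec_add]
      congr 1
      funext i
      simp only [Function.comp_apply, Pi.add_apply, pv_apply]
      ring)
    (fun c a b => by
      rw [← Matrix.mulVec_smul]
      congr 1
      funext i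
      simp only [Function.comp_apply, Pi.smul_apply, pv_apply, smul_eq_mul]
      ring)
    (fun a b b' => by
      rw [← Matrix.mulVec_add]
      congr 1
      funext i
      simp only [Function.comp_apply, Pi.add_apply, pv_apply]
      ring)
    (fun c a b => by
      rw [← Matrix.mulVec_smul]
      congr 1
      funext i
      simp only [Function.comp_apply, Pi.smul_apply, pv_apply, smul_eq_mul]
      ring)

theorem pten_apply (e : ι ≃ (Fin 2 → Fin 3)) (P : GL ι F) (a b : Fin 3 → F) :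
    pten e P a b = (P : Matrix ι ι F) *ᵥ (pureVec ![a, b] ∘ e) := rfl

theorem pten_single (e : ι ≃ (Fin 2 → Fin 3)) (P : GL ι F) (i : ι) :
    pten e P (Pi.single (e i 0) 1) (Pi.single (e i 1) 1) = (P : Matrix ι ι F) *ᵥ (Pi.single i 1) := by
  rw [pten_apply]
  congr 1
  funext j
  rw [Function.comp_apply, pv_apply]
  by_cases hij : j = i
  · subst hij
    simp
  · rw [Pi.single_eq_of_ne hij]
    have hne : e j ≠ e i := fun h => hij (e.injective h)
    by_cases h0 : e j 0 = e i 0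
    · have h1 : e j 1 ≠ e i 1 := by
        intro h1
        apply hne
        funext k
        fin_cases k
        · exact h0
        · exact h1
      rw [Pi.single_eq_of_ne h1, mul_zero]
    · rw [Pi.single_eq_of_ne h0, zero_mul]

theorem pten_bij (e : ι ≃ (Fin 2 → Fin 3)) (P : GL ι F) :
    Function.Bijective (TensorProduct.lift (pten e P)) := by
  have hsurj : Function.Surjective (TensorProduct.lift (pten e P)) := by
    rw [← LinearMap.range_eq_top, eq_top_iff]
    intro v _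
    have hv : v = (P : Matrix ι ι F) *ᵥ (((P⁻¹ : GL ι F) : Matrix ι ι F) *ᵥ v) := by
      rw [Matrix.mulVec_mulVec, ← Units.val_mul, mul_inv_cancel, Units.val_one, Matrix.one_mulVec]
    set w := ((P⁻¹ : GL ι F) : Matrix ι ι F) *ᵥ v with hw
    have hw' : w = ∑ i, w i • (Pi.single i 1 : ι → F) := pi_eq_sum_univ' w
    rw [hv, hw', Matrix.mulVec_sum]
    refine Submodule.sum_mem _ fun i _ => ?_
    rw [Matrix.mulVec_smul, ← pten_single e P i]
    refine Submodule.smul_mem _ _ ⟨TensorProduct.tmul F _ _, TensorProduct.lift.tmul _ _⟩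
  have hd : Module.finrank F (TensorProduct F (Fin 3 → F) (Fin 3 → F)) =
      Module.finrank F (ι → F) := by
    rw [Module.finrank_tensorProduct, Module.finrank_fintype_fun_eq_card,
      Module.finrank_fintype_fun_eq_card, Fintype.card_congr e]
    simp
  exact ⟨(LinearMap.injective_iff_surjective_of_finrank_eq_finrank hd).2 hsurj, hsurj⟩

/-- The quadratic form of a symmetric bilinear form. -/
noncomputable def hqf {f : (Fin 3 → F) → (Fin 3 → F) → F} (hf : IsBilinearForm f) :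
    QuadraticForm F (Fin 3 → F) :=
  LinearMap.BilinMap.toQuadraticMap ((2 : F)⁻¹ • toBilin hf)

theorem polar_hqf (h2 : (2 : F) ≠ 0) {f : (Fin 3 → F) → (Fin 3 → F) → F}
    (hf : IsSymmetricForm f) (x y : Fin 3 → F) : polar (hqf hf.bilinear) x y = f x y := by
  rw [hqf, LinearMap.BilinMap.polar_toQuadraticMap, LinearMap.smul_apply, LinearMap.smul_apply,
    LinearMap.smul_apply, LinearMap.smul_apply, toBilin_apply, toBilin_apply, hf.symm y x,
    ← add_smul, ← two_mul, mul_inv_cancel₀ h2, one_smul]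

/-- The tensor decomposition. -/
theorem pten_TD (h2 : (2 : F) ≠ 0) {Q : (ι → F) → F} (hQ : IsNondegenerateQuadraticForm Q)
    {f₁ : (Fin 3 → F) → (Fin 3 → F) → F} (hf₁ : IsSymmetricForm f₁)
    {e : ι ≃ (Fin 2 → Fin 3)} {P : GL ι F} {c : F} (hc : c ≠ 0)
    (hP : ∀ x y : (Fin 2 → Fin 3) → F,
      polar Q ((P : Matrix ι ι F) *ᵥ (x ∘ e)) ((P : Matrix ι ι F) *ᵥ (y ∘ e)) =
      c * (x ⬝ᵥ (pureMat (fun _ => gramMatrix f₁) *ᵥ y))) :
    TD (qf Q hQ) (hqf hf₁.bilinear) (c • hqf hf₁.bilinear) (pten e P) := by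
  have hnd : Nondeg (hqf hf₁.bilinear) := by
    intro x hx
    by_contra h0
    obtain ⟨y, hy⟩ := (hf₁.nondegenerate x h0).2
    apply hy
    rw [← polar_hqf h2 hf₁]
    exact hx y
  have hcp : ∀ x y, polar (⇑(c • hqf hf₁.bilinear)) x y = c * polar (hqf hf₁.bilinear) x y := by
    intro x y
    simp only [polar, QuadraticMap.smul_apply, smul_eq_mul]
    ring
  refine ⟨h2, ?_, pten_bij e P, hnd, ?_⟩
  · intro a b a' b'
    rw [hcp, polar_hqf h2 hf₁, polar_hqf h2 hf₁, pten_apply, pten_apply, polar_qf, hP,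
      pureMat_mulVec, dot_pureVec, Fin.prod_univ_two, eq_gram hf₁.bilinear a a',
      eq_gram hf₁.bilinear b b']
    simp only [Matrix.cons_val_zero, Matrix.cons_val_one]
    ring
  · intro x hx
    apply hnd
    intro y
    have := hx y
    rw [hcp] at this
    exact (mul_eq_zero.1 this).resolve_left hc

theorem finTwo_perm (σ : Equiv.Perm (Fin 2)) : σ = 1 ∨ σ = Equiv.swap 0 1 := by
  revert σ
  decide

/-- The tensor-wreath subgroup. -/
theorem mem_wreath_iff (e : ι ≃ (Fin 2 → Fin 3)) (P : GL ι F) (g : GL ι F) :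
    g ∈ tensorWreathSubgroup 3 2 e P ↔ DS (pten e P) (le ι F g) := by
  have hval : ∀ (σ : Equiv.Perm (Fin 2)) (x : Fin 2 → GL (Fin 3) F) (w : Fin 2 → (Fin 3 → F)),
      ((frameGL e P (pureGL x * facPerm F 3 σ) : GL ι F) : Matrix ι ι F) *ᵥ
        ((P : Matrix ι ι F) *ᵥ (pureVec w ∘ e)) =
      (P : Matrix ι ι F) *ᵥ
        (pureVec (fun i => (x i : Matrix (Fin 3) (Fin 3) F) *ᵥ w (σ⁻¹ i)) ∘ e) := by
    intro σ x w
    rw [frameGL_mulVec, Units.val_mul, ← Matrix.mulVec_mulVec, facPerm_mulVec, pureGL_val,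
      pureMat_mulVec]
  have hone : ∀ (x : Fin 2 → GL (Fin 3) F) (a b : Fin 3 → F),
      le ι F (frameGL e P (pureGL x * facPerm F 3 1)) (pten e P a b) =
        pten e P (le (Fin 3) F (x 0) a) (le (Fin 3) F (x 1) b) := by
    intro x a b
    rw [le_apply, pten_apply, hval, pten_apply]
    congr 3
    funext i
    fin_cases i <;> simp [le_apply]
  have htwo : ∀ (x : Fin 2 → GL (Fin 3) F) (a b : Fin 3 → F),
      le ι F (frameGL e P (pureGL x * facPerm F 3 (Equiv.swap 0 1))) (pten e P a b) =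
        pten e P (le (Fin 3) F (x 0) b) (le (Fin 3) F (x 1) a) := by
    intro x a b
    rw [le_apply, pten_apply, hval, pten_apply]
    congr 3
    funext i
    fin_cases i <;> simp [le_apply]
  have hext : ∀ g g' : GL ι F, (∀ a b, le ι F g (pten e P a b) = le ι F g' (pten e P a b)) →
      g = g' := by
    intro g g' h
    apply (le ι F).injective
    have h1 : (le ι F g).toLinearMap ∘ₗ TensorProduct.lift (pten e P) =
        (le ι F g').toLinearMap ∘ₗ TensorProduct.lift (pten e P) := by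
      apply TensorProduct.ext'
      intro a b
      simpa using h a b
    ext1 v
    obtain ⟨t, rfl⟩ := (pten_bij e P).2 v
    exact LinearMap.congr_fun h1 t
  constructor
  · intro hg
    obtain ⟨g', hg', rfl⟩ := (mem_tensorWreathSubgroup_iff e P g).1 hg
    obtain ⟨σ, x, rfl⟩ := exists_normal_form hg'
    rcases finTwo_perm σ with rfl | rfl
    · exact Or.inl ⟨_, _, hone x⟩
    · exact Or.inr ⟨_, _, htwo x⟩
  · rintro (⟨α, β, h⟩ | ⟨σ, τ, h⟩)
    · rw [mem_tensorWreathSubgroup_iff]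
      refine ⟨pureGL ![(le (Fin 3) F).symm α, (le (Fin 3) F).symm β] * facPerm F 3 1, ?_, ?_⟩
      · refine Subgroup.mul_mem _ (Subgroup.subset_closure (Or.inl ?_))
          (Subgroup.subset_closure (Or.inr ?_))
        · exact ⟨_, fun x y => by rw [pureGL_val, pureMat_apply]⟩
        · exact ⟨1, fun x y => by rw [facPerm_val]⟩
      · apply hext
        intro a b
        rw [hone, h]
        simp
    · rw [mem_tensorWreathSubgroup_iff]
      refine ⟨pureGL ![(le (Fin 3) F).symm σ, (le (Fin 3) F).symm τ] *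
        facPerm F 3 (Equiv.swap 0 1), ?_, ?_⟩
      · refine Subgroup.mul_mem _ (Subgroup.subset_closure (Or.inl ?_))
          (Subgroup.subset_closure (Or.inr ?_))
        · exact ⟨_, fun x y => by rw [pureGL_val, pureMat_apply]⟩
        · exact ⟨_, fun x y => by rw [facPerm_val]⟩
      · apply hext
        intro a b
        rw [htwo, h]
        simp

/-- **Tensor squares of three-dimensional forms.** -/
theorem tensor_square_maximal [Finite F] (h2 : (2 : F) ≠ 0) (hF : 5 ≤ Nat.card F)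
    {Q : (ι → F) → F} (hQ : IsNondegenerateQuadraticForm Q)
    {f₁ : (Fin 3 → F) → (Fin 3 → F) → F} (hf₁ : IsSymmetricForm f₁)
    {e : ι ≃ (Fin 2 → Fin 3)} {P : GL ι F}
    (hP : IsTensorPowerFormStructure id (polar Q) f₁ e P) :
    IsMaximalIn (omegaGL Q) (tensorWreathSubgroup 3 2 e P ⊓ omegaGL Q) := by
  have hcard : Fintype.card ι = 9 := by
    rw [Fintype.card_congr e]
    simp
  have hG : Good (qf Q hQ) := (big_qf Q hQ (by omega)).good
  have hnot := omegaGL_not_le_tensorWreath h2 hQ (by omega) (by decide) le_rfl le_rfl hf₁ hP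
  obtain ⟨c, hc, hcf⟩ := hP
  have hcf' := tensorPower_eq hcf rfl
  have hT := pten_TD h2 hQ hf₁ hc hcf'
  have hd3 : Module.finrank F (Fin 3 → F) = 3 := by
    rw [Module.finrank_fintype_fun_eq_card, Fintype.card_fin]
  -- hyperbolic bases
  obtain ⟨a1, -, ha10, ha1⟩ := exists_sing_of_three_le (Q := hqf hf₁.bilinear)
    (⊤ : Submodule F (Fin 3 → F)) (by rw [finrank_top, hd3])
  obtain ⟨a2, a3, ha⟩ := exists_HB h2 hT.nA hd3 ha1 ha10
  obtain ⟨b1, -, hb10, hb1⟩ := exists_sing_of_three_le (Q := c • hqf hf₁.bilinear)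
    (⊤ : Submodule F (Fin 3 → F)) (by rw [finrank_top, hd3])
  obtain ⟨b2, b3, hb⟩ := exists_HB h2 hT.nB hd3 hb1 hb10
  refine isMaximalIn_omegaGL Q hQ hG _ {g | DS (pten e P) g} (mem_wreath_iff e P) ?_ ?_
  · by_contra hcon
    push Not at hcon
    apply hnot
    intro g hg
    exact (mem_wreath_iff e P g).2 (hcon _ ((mem_omegaGL_iff Q hQ hG g).1 hg))
  · rintro H hHE hHS ⟨g, hgH, hg⟩
    by_contra hne
    apply hg
    refine DS_of_lt hF hT hHE hHS hG hne ha hd3 hd3 hb (σ := LinearEquiv.refl F _) (μ := c⁻¹)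
      (inv_ne_zero hc) (fun b => ?_) hgH
    show hqf hf₁.bilinear b = c⁻¹ * (c • hqf hf₁.bilinear) b
    rw [QuadraticMap.smul_apply, smul_eq_mul, ← mul_assoc, inv_mul_cancel₀ hc, one_mul]

end Cfsg.Agent.H922.Ten
end

-- part: S5834
section
set_option autoImplicit false
open Cfsg

namespace Cfsg.Agent.S5834

/-- Maximal subgroups of Ω_9(q) of geometric type, q odd. Let F be a finite field of odd order q, Q the standard quadratic form x₀² + Σ x_i y_i on F^9 (coordinates Unit ⊕ (Fin 4 ⊕ Fin 4)), and Ω = Ω_9(q) the commutator subgroup of its isometry group, inside GL_9(F). Each of the following, intersected with Ω, is a maximal subgroup of Ω: (1) the stabiliser of any non-zero subspace on which Q vanishes identically (totally singular 1- to 4-spaces); (2) the stabiliser of any non-zero even-dimensional subspace W (dimension 2, 4, 6 or 8) on which the polar form of Q is non-degenerate (equivalently of its odd-dimensional orthogonal complement),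 except when q = 3 and W is a 2-space containing a non-zero singular vector (a plus-type plane); (3) for q = p prime, the stabiliser of any decomposition of F^9 into nine pairwise orthogonal, pairwise Q-isometric non-degenerate 1-spaces; (4) for q ≥ 5, the stabiliser of any decomposition of F^9 into three pairwise orthogonal, pairwise Q-isometric non-degenerate 3-spaces; (5) the normaliser of any degree-3 subfield K of the matrix algebra whose elements are self-adjoint for the polar form of Q (Q is then the trace of a quadratic form over K); (6) every subfield group for a subfield F₀ with |F| = |F₀|^r, r prime, whose F₀-structure carries Q; (7) for q ≥ 5, the stabiliser of any decomposition of the polar form of Q as the tensor square of a non-degenerate symmetric bilinear form on F^3 up to a scalar (tensor-wreath subgroup). -/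
theorem result {F : Type*} [Field F] [Fintype F] (hodd : Odd (Fintype.card F)) :
    (∀ W : Submodule F (Unit ⊕ (Fin 4 ⊕ Fin 4) → F), W ≠ ⊥ → Cfsg.Geo.IsTotallySingularQuad (Cfsg.quadFormOdd 4 F) W → Cfsg.Geo.IsMaximalIn (Cfsg.Geo.omegaGL (Cfsg.quadFormOdd 4 F)) (Cfsg.Geo.subspaceStabilizer W ⊓ Cfsg.Geo.omegaGL (Cfsg.quadFormOdd 4 F))) ∧
    (∀ W : Submodule F (Unit ⊕ (Fin 4 ⊕ Fin 4) → F), W ≠ ⊥ → Even (Module.finrank F W) → Cfsg.Geo.IsNondegenerateOn (QuadraticMap.polar (Cfsg.quadFormOdd 4 F)) W → ¬ (Fintype.card F = 3 ∧ Module.finrank F W = 2 ∧ Cfsg.Geo.IsPlusTypeOn (Cfsg.quadFormOdd 4 F) W) → Cfsg.Geo.IsMaximalIn (Cfsg.Geo.omegaGL (Cfsg.quadFormOdd 4 F)) (Cfsg.Geo.subspaceStabilizer W ⊓ Cfsg.Geo.omegaGL (Cfsg.quadFormOdd 4 F))) ∧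
    ((Fintype.card F).Prime → ∀ D : Fin 9 → Submodule F (Unit ⊕ (Fin 4 ⊕ Fin 4) → F), Cfsg.Geo.IsOrthogonalMDecomposition (Cfsg.quadFormOdd 4 F) 1 D → Cfsg.Geo.IsMaximalIn (Cfsg.Geo.omegaGL (Cfsg.quadFormOdd 4 F)) (Cfsg.Geo.decompositionStabilizer D ⊓ Cfsg.Geo.omegaGL (Cfsg.quadFormOdd 4 F))) ∧
    (5 ≤ Fintype.card F → ∀ D : Fin 3 → Submodule F (Unit ⊕ (Fin 4 ⊕ Fin 4) → F), Cfsg.Geo.IsOrthogonalMDecomposition (Cfsg.quadFormOdd 4 F) 3 D → Cfsg.Geo.IsMaximalIn (Cfsg.Geo.omegaGL (Cfsg.quadFormOdd 4 F)) (Cfsg.Geo.decompositionStabilizer D ⊓ Cfsg.Geo.omegaGL (Cfsg.quadFormOdd 4 F))) ∧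
    (∀ K : Subalgebra F (Matrix (Unit ⊕ (Fin 4 ⊕ Fin 4)) (Unit ⊕ (Fin 4 ⊕ Fin 4)) F), Cfsg.Geo.IsFieldSubalgebra 3 K → Cfsg.Geo.IsSelfAdjointFor (QuadraticMap.polar (Cfsg.quadFormOdd 4 F)) K → Cfsg.Geo.IsMaximalIn (Cfsg.Geo.omegaGL (Cfsg.quadFormOdd 4 F)) (Cfsg.Geo.subalgebraNormalizer K ⊓ Cfsg.Geo.omegaGL (Cfsg.quadFormOdd 4 F))) ∧
    (∀ (F₀ : Subfield F) (r : ℕ) (P : Matrix.GeneralLinearGroup (Unit ⊕ (Fin 4 ⊕ Fin 4)) F), r.Prime → Fintype.card F = Nat.card F₀ ^ r → Cfsg.Geo.IsQuadFormRationalStructure (Cfsg.quadFormOdd 4 F) F₀ P → Cfsg.Geo.IsMaximalIn (Cfsg.Geo.omegaGL (Cfsg.quadFormOdd 4 F)) (Cfsg.Geo.subfieldSubgroup F₀ P ⊓ Cfsg.Geo.omegaGL (Cfsg.quadFormOdd 4 F))) ∧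
    (5 ≤ Fintype.card F → ∀ (e : (Unit ⊕ (Fin 4 ⊕ Fin 4)) ≃ (Fin 2 → Fin 3)) (P : Matrix.GeneralLinearGroup (Unit ⊕ (Fin 4 ⊕ Fin 4)) F) (f₁ : (Fin 3 → F) → (Fin 3 → F) → F), Cfsg.Geo.IsSymmetricForm f₁ → Cfsg.Geo.IsTensorPowerFormStructure id (QuadraticMap.polar (Cfsg.quadFormOdd 4 F)) f₁ e P → Cfsg.Geo.IsMaximalIn (Cfsg.Geo.omegaGL (Cfsg.quadFormOdd 4 F)) (Cfsg.Geo.tensorWreathSubgroup 3 2 e P ⊓ Cfsg.Geo.omegaGL (Cfsg.quadFormOdd 4 F))) := by
  have hQ := Cfsg.Agent.H884.OddForm.isNondegenerate_quadFormOdd hodd 4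
  have hcard : Fintype.card (Unit ⊕ (Fin 4 ⊕ Fin 4)) = 9 := by
    simp only [Fintype.card_sum, Fintype.card_unit, Fintype.card_fin]
  have hq3 : 3 ≤ Fintype.card F := by
    have h1 := Fintype.one_lt_card (α := F)
    rw [Nat.odd_iff] at hodd
    omega
  have h2 : (2 : F) ≠ 0 := by
    intro h2
    have : CharP F 2 := CharTwo.of_one_ne_zero_of_two_eq_zero one_ne_zero h2
    have h7 := FiniteField.even_card_of_char_two (ringChar.eq F 2)
    rw [Nat.odd_iff] at hodd
    omega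
  refine ⟨fun W hW0 hW => ?_, fun W hW0 hev hW hex => ?_, fun hp D hD => ?_, fun h5 D hD => ?_,
    fun K hK hsa => ?_, fun F₀ r P hr hc hP => ?_, fun h5 e P f₁ hf₁ hP => ?_⟩
  · refine Cfsg.Agent.H884.OmegaGL.singular_stabilizer_isMaximalIn _ hQ (by omega) hW0 hW ?_
    rintro ⟨x, hx, hxW, hxn⟩
    have hnd := Cfsg.Agent.H884.OmegaGL.nondeg_bundle _ hQ
    have h1 := Cfsg.Agent.H884.SingMaxPlus.two_mul_finrank_le hnd
      (Cfsg.Agent.H884.SingMaxPlus.sup_span_singular (Q := Cfsg.Agent.H884.OmegaGL.bundle _ hQ) hW hx hxW)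
    rw [Cfsg.Agent.H884.SingMaxPlus.finrank_sup_span hxn, Module.finrank_fintype_fun_eq_card] at h1
    omega
  · exact Cfsg.Agent.H916.LowNondegGeo.subspaceStabilizer_even_maximal hQ (by omega)
      (by rw [hcard]; exact ⟨4, rfl⟩) hq3 W hW0 hev hW hex
  · exact Cfsg.Agent.H928.frame_stabilizer_maximal hp hodd hQ (by omega) hD
  · exact Cfsg.Agent.H885.C2Main.decomposition_maximal hQ le_rfl (by omega) hD (Or.inl le_rfl)
      (fun _ => ⟨hodd, by omega⟩) (by rintro ⟨h34, -⟩; omega)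
  · exact Cfsg.Agent.H923.Wrap.selfAdjoint_isMaximalIn_odd_all hQ h2 Nat.prime_three (by decide)
      (by omega) hK hsa
  · refine Cfsg.Agent.H888.SubfieldMax.subfield_maximal (by omega) _ hQ F₀ r hr hc P 1 one_ne_zero ?_
    intro u hu
    show 1 * _ ∈ F₀
    rw [one_mul]
    exact hP u hu
  · exact Cfsg.Agent.H922.Ten.tensor_square_maximal h2
      (by rw [Nat.card_eq_fintype_card]; exact h5) hQ hf₁ hP

end Cfsg.Agent.S5834
end
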