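import Cfsg.Agent.H926.NondegLow
import Cfsg.Agent.H926.PlaneLow_mg
import Cfsg.Agent.H926.HermLow
import Cfsg.Agent.H926.MinusA
import Cfsg.Agent.H888.SubfieldMax
import Cfsg.Statements.S5849
import Cfsg.Agent.H925.ExtGeo
import Cfsg.Agent.H928.FrameO
set_option linter.all false

-- part: H926/Om10
section
/-!
Parts of the list of geometric maximal subgroups of `Ω₁₀⁻(q)`.
-/

set_option autoImplicit false

namespace Cfsg.Agent.H926.Om10

open Cfsg.Geo

variable {F : Type*} [Field F] [Fintype F] {Q : (Fin 10 → F) → F}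

theorem part2 (hQ : IsNondegenerateQuadraticForm Q) (_ : Odd (Fintype.card F))
    (W : Submodule F (Fin 10 → F)) (hW0 : W ≠ ⊥) (hW1 : W ≠ ⊤) (ho : Odd (Module.finrank F W))
    (h10 : 2 * Module.finrank F W ≠ 10) (hW : IsNondegenerateOn (QuadraticMap.polar Q) W) :
    IsMaximalIn (omegaGL Q) (subspaceStabilizer W ⊓ omegaGL Q) := by
  refine Cfsg.Agent.H926.NondegLow.nondegenerate_maximal hQ (by simp) W hW0 hW1 (by simpa using h10) hW ?_ ?_
  · rintro ⟨-, h2, -⟩
    rw [h2] at ho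
    exact absurd ho (by decide)
  · rintro ⟨-, h2⟩
    have h3 : Module.finrank F W = 8 := by
      rw [Fintype.card_fin] at h2
      omega
    rw [h3] at ho
    exact absurd ho (by decide)

theorem part3 (hQ : IsNondegenerateQuadraticForm Q) (W : Submodule F (Fin 10 → F))
    (h2 : Module.finrank F W = 2) (hW : IsNondegenerateOn (QuadraticMap.polar Q) W)
    (hm : ¬ IsPlusTypeOn Q W) :
    IsMaximalIn (omegaGL Q) (subspaceStabilizer W ⊓ omegaGL Q) := by
  refine Cfsg.Agent.H926.NondegLow.nondegenerate_maximal hQ (by simp) W ?_ ?_ (by simp [h2]) hW ?_ ?_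
  · rintro rfl
    simp at h2
  · rintro rfl
    simp at h2
  · rintro ⟨-, -, h3⟩
    exact hm h3
  · rintro ⟨-, h3⟩
    rw [h2, Fintype.card_fin] at h3
    omega

theorem part4 (hq : 4 ≤ Fintype.card F) (hQ : IsNondegenerateQuadraticForm Q)
    (W : Submodule F (Fin 10 → F)) (h2 : Module.finrank F W = 2)
    (hW : IsNondegenerateOn (QuadraticMap.polar Q) W) :
    IsMaximalIn (omegaGL Q) (subspaceStabilizer W ⊓ omegaGL Q) := by
  refine Cfsg.Agent.H926.NondegLow.nondegenerate_maximal hQ (by simp) W ?_ ?_ (by simp [h2]) hW ?_ ?_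
  · rintro rfl
    simp at h2
  · rintro rfl
    simp at h2
  · rintro ⟨h3, -⟩
    omega
  · rintro ⟨h3, -⟩
    omega

theorem part5 (hQ : IsNondegenerateQuadraticForm Q) (W : Submodule F (Fin 10 → F))
    (h2 : Module.finrank F W = 4) (hW : IsNondegenerateOn (QuadraticMap.polar Q) W) :
    IsMaximalIn (omegaGL Q) (subspaceStabilizer W ⊓ omegaGL Q) := by
  refine Cfsg.Agent.H926.NondegLow.nondegenerate_maximal hQ (by simp) W ?_ ?_ (by simp [h2]) hW ?_ ?_
  · rintro rfl
    simp at h2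
  · rintro rfl
    simp at h2
  · rintro ⟨-, h3, -⟩
    omega
  · rintro ⟨-, h3⟩
    rw [h2, Fintype.card_fin] at h3
    omega

theorem part8 (hQ : IsNondegenerateQuadraticForm Q) (hminus : ¬ IsPlusTypeOn Q ⊤)
    (hq : Fintype.card F ≠ 3) (D : Fin 5 → Submodule F (Fin 10 → F))
    (hD : IsOrthogonalMDecomposition Q 2 D) :
    IsMaximalIn (omegaGL Q) (decompositionStabilizer D ⊓ omegaGL Q) :=
  Cfsg.Agent.H926.PlaneLow.decomposition_planes_maximal hq hQ (by simp) hD fun i hp =>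
    hminus (Cfsg.Agent.H926.plus_of_member_plus hQ hD i hp)

theorem part13 (hQ : IsNondegenerateQuadraticForm Q) (F₀ : Subfield F) (r : ℕ)
    (P : Matrix.GeneralLinearGroup (Fin 10) F) (ζ : F) (hr : r.Prime)
    (hcard : Fintype.card F = Nat.card F₀ ^ r) (hζ : ζ ≠ 0)
    (hP : IsQuadFormRationalStructure (fun v : Fin 10 → F => ζ * Q v) F₀ P) :
    IsMaximalIn (omegaGL Q) (subfieldSubgroup F₀ P ⊓ omegaGL Q) :=
  Cfsg.Agent.H888.SubfieldMax.subfield_maximal (by simp) Q hQ F₀ r hr hcard P ζ hζ hP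

end Cfsg.Agent.H926.Om10
end

-- part: S5849
section
set_option autoImplicit false
open Cfsg

namespace Cfsg.Agent.S5849

/-- Maximal subgroups of Ω_10^-(q) of geometric type (any q). Let F be a finite field with q elements (characteristic p), Q a non-degenerate quadratic form on F^10 (non-degenerate polar form) of minus type (Witt index 4: no totally singular 5-space), and Ω = Ω_10^-(q) the commutator subgroup of the isometry group of Q, inside GL_10(F). Each of the following, intersected with Ω, is a maximal subgroup of Ω: (1) the stabiliser of any non-zero subspace on which Q vanishes identically (totally singular subspaces, dimensions 1 to 4); (2) for q odd, the stabiliser of any proper subspace of odd dimension other than 5 on which the polar form of Q is non-degenerate; (3) the stabiliser of any non-degenerate 2-space of minus type (containing no non-zero singular vector); (4) for q ≥ 4, the stabiliser of any non-degenerate 2-space of plus type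 (containing a non-zero singular vector); (5) the stabiliser of any non-degenerate 4-space (either type); (6) for q even, the stabiliser of the 1-space spanned by any non-singular vector v (Q(v) ≠ 0); (7) for q = p prime with p ≡ 3 mod 4, the stabiliser of any decomposition of F^10 into 10 pairwise orthogonal, pairwise Q-isometric non-degenerate 1-spaces; (8) for q ≠ 3, the stabiliser of any decomposition of F^10 into 5 pairwise orthogonal, pairwise Q-isometric non-degenerate 2-spaces; (9) for q ≡ 3 mod 4, the stabiliser of any decomposition of F^10 into 2 pairwise orthogonal, pairwise Q-isometric non-degenerate 5-spaces; (10) for q ≡ 1 mod 4, the stabiliser of any decomposition of F^10 into two orthogonal non-degenerate 5-spaces that are not Q-isometric; (11) for q odd, the normaliser of any degree-2 subfield K of the matrix algebra whose elements are self-adjoint for the polar form of Q (Q is then the trace of a quadratic form over K); (12) the normaliser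 of any degree-2 subfield K of the matrix algebra, closed under adjoints for the polar form but not self-adjoint, whose elements act as similarities of Q (so F^10 becomes a 5-dimensional space over K with a hermitian form, and the subgroup is of the type of the unitary group GU_5(q)); (13) every subfield group for a subfield F₀ with |F| = |F₀|^r, r an odd prime, whose F₀-structure carries a non-zero scalar multiple of Q. -/
theorem result {F : Type*} [Field F] [Fintype F] (Q : (Fin 10 → F) → F) (hQ : Cfsg.Geo.IsNondegenerateQuadraticForm Q) (hminus : ¬ Cfsg.Geo.IsPlusTypeOn Q ⊤) :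
    (∀ W : Submodule F (Fin 10 → F), W ≠ ⊥ → Cfsg.Geo.IsTotallySingularQuad Q W → Cfsg.Geo.IsMaximalIn (Cfsg.Geo.omegaGL Q) (Cfsg.Geo.subspaceStabilizer W ⊓ Cfsg.Geo.omegaGL Q)) ∧
    (Odd (Fintype.card F) → ∀ W : Submodule F (Fin 10 → F), W ≠ ⊥ → W ≠ ⊤ → Odd (Module.finrank F W) → 2 * Module.finrank F W ≠ 10 → Cfsg.Geo.IsNondegenerateOn (QuadraticMap.polar Q) W → Cfsg.Geo.IsMaximalIn (Cfsg.Geo.omegaGL Q) (Cfsg.Geo.subspaceStabilizer W ⊓ Cfsg.Geo.omegaGL Q)) ∧
    (∀ W : Submodule F (Fin 10 → F), Module.finrank F W = 2 → Cfsg.Geo.IsNondegenerateOn (QuadraticMap.polar Q) W → ¬ Cfsg.Geo.IsPlusTypeOn Q W → Cfsg.Geo.IsMaximalIn (Cfsg.Geo.omegaGL Q) (Cfsg.Geo.subspaceStabilizer W ⊓ Cfsg.Geo.omegaGL Q)) ∧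
    (4 ≤ Fintype.card F → ∀ W : Submodule F (Fin 10 → F), Module.finrank F W = 2 → Cfsg.Geo.IsNondegenerateOn (QuadraticMap.polar Q) W → Cfsg.Geo.IsPlusTypeOn Q W → Cfsg.Geo.IsMaximalIn (Cfsg.Geo.omegaGL Q) (Cfsg.Geo.subspaceStabilizer W ⊓ Cfsg.Geo.omegaGL Q)) ∧
    (∀ W : Submodule F (Fin 10 → F), Module.finrank F W = 4 → Cfsg.Geo.IsNondegenerateOn (QuadraticMap.polar Q) W → Cfsg.Geo.IsMaximalIn (Cfsg.Geo.omegaGL Q) (Cfsg.Geo.subspaceStabilizer W ⊓ Cfsg.Geo.omegaGL Q)) ∧
    (¬ Odd (Fintype.card F) → ∀ v : (Fin 10 → F), Q v ≠ 0 → Cfsg.Geo.IsMaximalIn (Cfsg.Geo.omegaGL Q) (Cfsg.Geo.subspaceStabilizer (Submodule.span F {v}) ⊓ Cfsg.Geo.omegaGL Q)) ∧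
    ((∃ p : ℕ, p.Prime ∧ Fintype.card F = p ∧ (p % 4 = 3)) → ∀ D : Fin 10 → Submodule F (Fin 10 → F), Cfsg.Geo.IsOrthogonalMDecomposition Q 1 D → Cfsg.Geo.IsMaximalIn (Cfsg.Geo.omegaGL Q) (Cfsg.Geo.decompositionStabilizer D ⊓ Cfsg.Geo.omegaGL Q)) ∧
    (Fintype.card F ≠ 3 → ∀ D : Fin 5 → Submodule F (Fin 10 → F), Cfsg.Geo.IsOrthogonalMDecomposition Q 2 D → Cfsg.Geo.IsMaximalIn (Cfsg.Geo.omegaGL Q) (Cfsg.Geo.decompositionStabilizer D ⊓ Cfsg.Geo.omegaGL Q)) ∧
    (Fintype.card F % 4 = 3 → ∀ D : Fin 2 → Submodule F (Fin 10 → F), Cfsg.Geo.IsOrthogonalMDecomposition Q 5 D → Cfsg.Geo.IsMaximalIn (Cfsg.Geo.omegaGL Q) (Cfsg.Geo.decompositionStabilizer D ⊓ Cfsg.Geo.omegaGL Q)) ∧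
    (Fintype.card F % 4 = 1 → ∀ D : Fin 2 → Submodule F (Fin 10 → F), Cfsg.Geo.IsNondegenerateMDecomposition (QuadraticMap.polar Q) 5 D → ¬ Cfsg.Geo.AreIsometricFor Q (D 0) (D 1) → Cfsg.Geo.IsMaximalIn (Cfsg.Geo.omegaGL Q) (Cfsg.Geo.decompositionStabilizer D ⊓ Cfsg.Geo.omegaGL Q)) ∧
    (Odd (Fintype.card F) → ∀ K : Subalgebra F (Matrix (Fin 10) (Fin 10) F), Cfsg.Geo.IsFieldSubalgebra 2 K → Cfsg.Geo.IsSelfAdjointFor (QuadraticMap.polar Q) K → Cfsg.Geo.IsMaximalIn (Cfsg.Geo.omegaGL Q) (Cfsg.Geo.subalgebraNormalizer K ⊓ Cfsg.Geo.omegaGL Q)) ∧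
    (∀ K : Subalgebra F (Matrix (Fin 10) (Fin 10) F), Cfsg.Geo.IsFieldSubalgebra 2 K → Cfsg.Geo.IsAdjointClosedFor (QuadraticMap.polar Q) K → ¬ Cfsg.Geo.IsSelfAdjointFor (QuadraticMap.polar Q) K → (∀ k ∈ K, ∃ c : F, ∀ v : (Fin 10 → F), Q (Matrix.mulVec k v) = c * Q v) → Cfsg.Geo.IsMaximalIn (Cfsg.Geo.omegaGL Q) (Cfsg.Geo.subalgebraNormalizer K ⊓ Cfsg.Geo.omegaGL Q)) ∧
    (∀ (F₀ : Subfield F) (r : ℕ) (P : Matrix.GeneralLinearGroup (Fin 10) F) (ζ : F), r.Prime → Odd r → Fintype.card F = Nat.card F₀ ^ r → ζ ≠ 0 → Cfsg.Geo.IsQuadFormRationalStructure (fun v : Fin 10 → F => ζ * Q v) F₀ P → Cfsg.Geo.IsMaximalIn (Cfsg.Geo.omegaGL Q) (Cfsg.Geo.subfieldSubgroup F₀ P ⊓ Cfsg.Geo.omegaGL Q)) := by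
  refine ⟨?_, ?_, ?_, ?_, ?_, ?_, ?_, ?_, ?_, ?_, ?_, ?_, ?_⟩
  · intro W hW0 hW
    exact Cfsg.Agent.H926.NondegLow.singular_minus (by norm_num) (by decide) Q hQ hminus W hW0 hW
  · intro hodd W hW0 hW1 ho h10 hW
    exact Cfsg.Agent.H926.Om10.part2 hQ hodd W hW0 hW1 ho h10 hW
  · intro W h2 hW hm
    exact Cfsg.Agent.H926.Om10.part3 hQ W h2 hW hm
  · intro hq W h2 hW _
    exact Cfsg.Agent.H926.Om10.part4 hq hQ W h2 hW
  · intro W h4 hW
    exact Cfsg.Agent.H926.Om10.part5 hQ W h4 hW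
  · intro hev v hv
    exact Cfsg.Agent.H926.NondegLow.nonsingular_vector (by simp) Q hQ hev v hv
  · rintro ⟨p, hp, hc, hp4⟩ D hD
    exact Cfsg.Agent.H928.frame_stabilizer_maximal (by rw [hc]; exact hp)
      (by rw [hc]; exact Nat.odd_iff.2 (by omega)) hQ (by simp) hD
  · intro hq D hD
    exact Cfsg.Agent.H926.Om10.part8 hQ hminus hq D hD
  · intro h3 D hD
    exact Cfsg.Agent.H926.Halves.halves_isMaximalIn hQ (by omega) (by norm_num) hD.decomp
  · intro h1 D hD _
    exact Cfsg.Agent.H926.Halves.halves_isMaximalIn hQ (by have := Fintype.one_lt_card (α := F); omega)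
      (by norm_num) hD
  · intro hodd K hK hsa
    have h2 : (2 : F) ≠ 0 := by
      intro h
      have hcz := FiniteField.cast_card_eq_zero F
      obtain ⟨k, hk⟩ := hodd
      rw [hk] at hcz
      push_cast at hcz
      rw [h, zero_mul, zero_add] at hcz
      exact one_ne_zero hcz
    exact Cfsg.Agent.H925.Ext.selfAdjoint_isMaximalIn_of_five hQ h2 (by norm_num) (by simp) hK hsa
  · intro K hK hac hnsa hsc
    exact Cfsg.Agent.H926.HermLow.quadratic_field_normalizer_isMaximalIn (by simp) hQ hK hac hnsa hsc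
  · intro F₀ r P ζ hr _ hcard hζ hP
    exact Cfsg.Agent.H926.Om10.part13 hQ F₀ r P ζ hr hcard hζ hP

end Cfsg.Agent.S5849
end
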