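import Cfsg.Agent.H932.TwelveBase
import Cfsg.Agent.H884.SingMaxPlus
import Cfsg.Agent.H885.NondegGeo
import Cfsg.Agent.H885.MinusType
import Cfsg.Agent.H885.NonsingVec
import Cfsg.Agent.H888.SubfieldMax
import Cfsg.Agent.H885.C2Main
import Cfsg.Agent.H932.ThreeMain
import Cfsg.Agent.H932.TypeClass
import Cfsg.Agent.H882.Ten.Wrap
import Cfsg.Statements.S5873
import Cfsg.Agent.H884.ExtGL
set_option linter.all false

-- part: H932/MinusMax
section
/-!
Maximality of the members of class 1 and of the subfield groups in `Ω₁₂⁻(q)` (H932).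
-/

set_option autoImplicit false
set_option linter.unusedSectionVars false

namespace Cfsg.Agent.H932

open Cfsg Cfsg.Geo Module
open QuadraticMap hiding proj
open scoped Matrix MatrixGroups

variable {F : Type*} [Field F] [Fintype F] {Q : (Fin 12 → F) → F}

theorem mM_ts (hQ : IsNondegenerateQuadraticForm Q) (hminus : ¬ IsPlusTypeOn Q ⊤) (W : Submodule F (Fin 12 → F))
    (hW0 : W ≠ ⊥) (hW : IsTotallySingularQuad Q W) :
    IsMaximalIn (omegaGL Q) (subspaceStabilizer W ⊓ omegaGL Q) := by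
  refine Cfsg.Agent.H884.OmegaGL.singular_stabilizer_isMaximalIn Q hQ (by rw [Fintype.card_fin]; omega)
    hW0 hW ?_
  rintro ⟨x, hx, hxW, hxn⟩
  rw [Fintype.card_fin]
  have hnd := Cfsg.Agent.H884.OmegaGL.nondeg_bundle Q hQ
  have h0 := Cfsg.Agent.H884.SingMaxPlus.sup_span_singular (Q := Cfsg.Agent.H884.OmegaGL.bundle Q hQ)
    hW hx hxW
  have h1 := Cfsg.Agent.H884.SingMaxPlus.two_mul_finrank_le hnd h0
  have h2 := Cfsg.Agent.H884.SingMaxPlus.finrank_sup_span hxn
  rw [h2, Module.finrank_fintype_fun_eq_card, Fintype.card_fin] at h1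
  by_contra hlt
  apply hminus
  refine ⟨W ⊔ Submodule.span F {x}, le_top, h0, ?_⟩
  rw [h2, finrank_top, Module.finrank_fintype_fun_eq_card, Fintype.card_fin]
  omega

/-- nondegenerate subspaces of `Ω₁₂⁻` -/
theorem mM_nd (hQ : IsNondegenerateQuadraticForm Q) (hminus : ¬ IsPlusTypeOn Q ⊤) (W : Submodule F (Fin 12 → F))
    (hW0 : W ≠ ⊥) (hW1 : W ≠ ⊤) (hdim : finrank F W = 6 ∨ 2 * finrank F W ≠ 12)
    (hW : IsNondegenerateOn (polar Q) W)
    (hex : ¬ (Fintype.card F ≤ 3 ∧ (∃ U : Submodule F (Fin 12 → F), Module.finrank F U = 2 ∧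
      Cfsg.Geo.IsNondegenerateOn (QuadraticMap.polar Q) U ∧ Cfsg.Geo.IsPlusTypeOn Q U ∧
      (U = W ∨ (Cfsg.Geo.AreOrthogonalFor (QuadraticMap.polar Q) U W ∧
        Module.finrank F U + Module.finrank F W = 12))))) :
    IsMaximalIn (omegaGL Q) (subspaceStabilizer W ⊓ omegaGL Q) := by
  refine Cfsg.Agent.H885.NondegGeo.subspaceStabilizer_nondegenerate_maximal hQ
    (by rw [Fintype.card_fin]; omega) W hW0 hW1 hW ?_ ?_
  · rw [Fintype.card_fin]
    exact hex
  · intro Q' hQ' hnd U hs g hg heq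
    have h1 := hs.finrank hnd
    have h2 : Module.finrank F W = Module.finrank F U := by
      rw [← heq, LinearEquiv.finrank_map_eq g U]
    rw [Module.finrank_fin_fun] at h1
    have hke : Even (Module.finrank F U) := by
      rcases hdim with h | h
      · rw [← h2, h]; decide
      · omega
    obtain ⟨X, hX1, hX2⟩ :=
      Cfsg.Agent.H885.MinusType.exists_half hnd hs hg heq rfl hke
    apply hminus
    refine ⟨X, le_top, fun x hx => by rw [← hQ']; exact hX2 x hx, ?_⟩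
    rw [hX1, finrank_top, Module.finrank_fin_fun]
    omega

theorem mM_nsv (hQ : IsNondegenerateQuadraticForm Q) (hchar : ¬ Odd (Fintype.card F)) (v : Fin 12 → F)
    (hv : Q v ≠ 0) : IsMaximalIn (omegaGL Q) (subspaceStabilizer (Submodule.span F {v}) ⊓ omegaGL Q) := by
  refine Cfsg.Agent.H883.Bridge.subspaceStabilizer_maximal hQ (by rw [Fintype.card_fin]; omega) _
    fun Q' hQ' hG => ?_
  refine Cfsg.Agent.H885.NonsingVec.maximal hG.nondeg (by rw [Module.finrank_fin_fun]; omega)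
    (Cfsg.Agent.H885.NonsingVec.two_eq_zero_of_not_odd hchar) ?_
  rw [hQ']
  exact hv

theorem mM_sub (hQ : IsNondegenerateQuadraticForm Q) (F₀ : Subfield F) (r : ℕ) (P : GL (Fin 12) F) (ζ : F)
    (hr : r.Prime) (hcard : Fintype.card F = Nat.card F₀ ^ r) (hζ : ζ ≠ 0)
    (hP : IsQuadFormRationalStructure (fun v : Fin 12 → F => ζ * Q v) F₀ P) :
    IsMaximalIn (omegaGL Q) (subfieldSubgroup F₀ P ⊓ omegaGL Q) :=
  Cfsg.Agent.H888.SubfieldMax.subfield_maximal (by rw [Fintype.card_fin]; omega) Q hQ F₀ r hr hcard P ζ hζ hP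

theorem mM_odd (hQ : IsNondegenerateQuadraticForm Q) (hminus : ¬ IsPlusTypeOn Q ⊤) (W : Submodule F (Fin 12 → F))
    (hW0 : W ≠ ⊥) (hW1 : W ≠ ⊤) (hodd : Odd (finrank F W)) (hW : IsNondegenerateOn (polar Q) W) :
    IsMaximalIn (omegaGL Q) (subspaceStabilizer W ⊓ omegaGL Q) := by
  obtain ⟨k, hk⟩ := hodd
  refine mM_nd hQ hminus W hW0 hW1 (Or.inr (by omega)) hW ?_
  rintro ⟨-, U, hU2, -, -, rfl | ⟨-, h⟩⟩ <;> omega

theorem ne_bot_ne_top {W : Submodule F (Fin 12 → F)} (h0 : 0 < finrank F W) (h1 : finrank F W < 12) :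
    W ≠ ⊥ ∧ W ≠ ⊤ := by
  constructor
  · rintro rfl
    rw [finrank_bot] at h0
    omega
  · rintro rfl
    rw [finrank_top, Module.finrank_fin_fun] at h1
    omega

theorem mM_two_minus (hQ : IsNondegenerateQuadraticForm Q) (hminus : ¬ IsPlusTypeOn Q ⊤)
    (W : Submodule F (Fin 12 → F)) (hd : finrank F W = 2) (hW : IsNondegenerateOn (polar Q) W)
    (hm : ¬ IsPlusTypeOn Q W) : IsMaximalIn (omegaGL Q) (subspaceStabilizer W ⊓ omegaGL Q) := by
  obtain ⟨h0, h1⟩ := ne_bot_ne_top (W := W) (by omega) (by omega)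
  refine mM_nd hQ hminus W h0 h1 (Or.inr (by omega)) hW ?_
  rintro ⟨-, U, hU2, -, hp, rfl | ⟨-, h⟩⟩
  · exact hm hp
  · omega

theorem mM_two_plus (hQ : IsNondegenerateQuadraticForm Q) (hminus : ¬ IsPlusTypeOn Q ⊤) (hq : 4 ≤ Fintype.card F)
    (W : Submodule F (Fin 12 → F)) (hd : finrank F W = 2) (hW : IsNondegenerateOn (polar Q) W) :
    IsMaximalIn (omegaGL Q) (subspaceStabilizer W ⊓ omegaGL Q) := by
  obtain ⟨h0, h1⟩ := ne_bot_ne_top (W := W) (by omega) (by omega)
  refine mM_nd hQ hminus W h0 h1 (Or.inr (by omega)) hW ?_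
  rintro ⟨h, -⟩
  omega

theorem mM_even (hQ : IsNondegenerateQuadraticForm Q) (hminus : ¬ IsPlusTypeOn Q ⊤)
    (W : Submodule F (Fin 12 → F)) (hd : finrank F W = 4 ∨ finrank F W = 6) (hW : IsNondegenerateOn (polar Q) W) :
    IsMaximalIn (omegaGL Q) (subspaceStabilizer W ⊓ omegaGL Q) := by
  obtain ⟨h0, h1⟩ := ne_bot_ne_top (W := W) (by omega) (by omega)
  refine mM_nd hQ hminus W h0 h1 (by omega) hW ?_
  rintro ⟨-, U, hU2, -, hp, rfl | ⟨-, h⟩⟩ <;> omega

end Cfsg.Agent.H932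
end

-- part: H932/MinusMax2
section
/-!
Maximality of the stabilisers of three minus type `4`-spaces in `Ω₁₂⁻(q)` (H932).
-/

set_option autoImplicit false
set_option linter.unusedSectionVars false

namespace Cfsg.Agent.H932

open Cfsg Cfsg.Geo Module
open QuadraticMap hiding proj
open scoped Matrix MatrixGroups

variable {F : Type*} [Field F] [Fintype F] {Q : (Fin 12 → F) → F}

theorem mM_three (hQ : IsNondegenerateQuadraticForm Q) (D : Fin 3 → Submodule F (Fin 12 → F))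
    (hD : IsOrthogonalMDecomposition Q 4 D) (hm : ∀ i, ¬ IsPlusTypeOn Q (D i)) :
    IsMaximalIn (omegaGL Q) (decompositionStabilizer D ⊓ omegaGL Q) :=
  Cfsg.Agent.H885.C2Main.decomposition_maximal hQ (by norm_num) (by rw [Fintype.card_fin]; omega) hD
    (Or.inl le_rfl) (fun h => by omega) fun h => hm 0 (h.2.2 0)

end Cfsg.Agent.H932
end

-- part: H932/ThreeWrap
section
/-!
`O₃ ⊗ O₄⁻` in `Ω₁₂⁻(q)`, `q ≥ 5` odd: maximality.
-/

set_option autoImplicit false
set_option linter.unusedSimpArgs false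
set_option linter.unusedSectionVars false

namespace Cfsg.Agent.H932.Three

open QuadraticMap hiding proj
open Cfsg.Agent.LieClassical.OrthCore Cfsg.Agent.LieClassical.OrthTrans Cfsg.Agent.H883.Root
open Cfsg.Agent Cfsg.Agent.H882.Ten
open scoped commutatorElement

variable {F : Type*} {U : Type*} {W : Type*} {V : Type*} [Field F] [AddCommGroup U] [Module F U]
  [AddCommGroup W] [Module F W] [AddCommGroup V] [Module F V]
  {t : U →ₗ[F] W →ₗ[F] V} {QU : QuadraticForm F U} {QW : QuadraticForm F W} {Q : QuadraticForm F V}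
  {X : Subgroup (V ≃ₗ[F] V)}

section four

variable {R : QuadraticForm F W}

/-- similarities with a given multiplier -/
theorem exists_sim [Finite F] [FiniteDimensional F W] (hR : Nondeg R) (he : Even (Module.finrank F W)) {ρ : F}
    (hρ : ρ ≠ 0) : ∃ μ : W ≃ₗ[F] W, ∀ x y, polar R (μ x) (μ y) = ρ * polar R x y := by
  have hp : ∀ x y, polar (ρ • R) x y = ρ * polar R x y := by
    intro x y
    simp only [polar, QuadraticMap.smul_apply, smul_eq_mul]
    ring
  obtain ⟨μ, hμ⟩ := Cfsg.Agent.H932.exists_isometry (Q := ρ • R) (Q' := R) (by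
      intro x hx
      apply hR
      intro y
      have := hx y
      rw [hp] at this
      exact (mul_eq_zero.1 this).resolve_left hρ) hR he rfl (by
      unfold Pl
      have h1 : ∀ u, (ρ • R) u = 0 ↔ R u = 0 := by
        intro u
        rw [QuadraticMap.smul_apply, smul_eq_mul, mul_eq_zero]
        simp [hρ]
      simp only [h1])
  refine ⟨μ, fun x y => ?_⟩
  rw [← hp]
  simp only [polar, ← map_add, hμ]

variable (hR : Nondeg R) (h2 : (2 : F) ≠ 0) (d4 : Module.finrank F W = 4)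
  (an : ∀ s w, R s = 0 → s ≠ 0 → polar R s w = 0 → R w = 0 → ∃ c : F, w = c • s)

include hR h2 d4 an

theorem exists_univ [Finite F] {s s' : W} (hyp : Hyp R s s') (c : F) :
    ∃ w, polar R s w = 0 ∧ polar R s' w = 0 ∧ R w = c := by
  have hfW : FiniteDimensional F W := Module.finite_of_finrank_pos (by omega)
  have key : ∀ c, polar R s c = 0 → polar R s' c = 0 → c ≠ 0 → R c ≠ 0 := by
    intro c h0 h1 hc0 hcn
    obtain ⟨d, rfl⟩ := an s c hyp.left hyp.left_ne h0 hcn
    rw [polar_smul_right, hyp.pair', smul_eq_mul, mul_one] at h1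
    exact hc0 (by rw [h1, zero_smul])
  obtain ⟨a, ha0, ha⟩ := exists_perp_ne (Q := R) ![s, s'] (by rw [d4]; norm_num)
  obtain ⟨b, hb0, hb⟩ := exists_perp_ne (Q := R) ![s, s', a] (by rw [d4]; norm_num)
  have a0 : polar R s a = 0 := ha 0
  have a1 : polar R s' a = 0 := ha 1
  have b0 : polar R s b = 0 := hb 0
  have b1 : polar R s' b = 0 := hb 1
  have b2 : polar R a b = 0 := hb 2
  obtain ⟨x, y, hxy⟩ := exists_sq_add_sq h2 (key a a0 a1 ha0) (key b b0 b1 hb0) c
  refine ⟨x • a + y • b, ?_, ?_, ?_⟩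
  · rw [polar_add_right, polar_smul_right, polar_smul_right, a0, b0, smul_zero, smul_zero, add_zero]
  · rw [polar_add_right, polar_smul_right, polar_smul_right, a1, b1, smul_zero, smul_zero, add_zero]
  · rw [Q_add, QuadraticMap.map_smul, QuadraticMap.map_smul, polar_smul_left, polar_smul_right, b2, ← hxy]
    simp only [smul_eq_mul]
    ring

/-- transitivity on singular vectors, the nonproportional case -/
theorem tr_aux [Finite F] {x x' : W} (hx : R x = 0) (hx' : R x' = 0) (h0 : x ≠ 0) (hne : ∀ c : F, x' ≠ c • x) :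
    ∃ l ∈ E R, l x = x' := by
  set β := polar R x x' with hβ
  have hβ0 : β ≠ 0 := by
    intro h
    obtain ⟨c, hc⟩ := an x x' hx h0 h hx'
    exact hne c hc
  have hyp : Hyp R x (β⁻¹ • x') := by
    refine ⟨hx, ?_, ?_⟩
    · rw [QuadraticMap.map_smul, hx', smul_zero]
    · rw [polar_smul_right, ← hβ, smul_eq_mul, inv_mul_cancel₀ hβ0]
  obtain ⟨w, hw1, hw2, hwn⟩ := exists_univ hR h2 d4 an hyp (-β)
  have hw2' : polar R x' w = 0 := by
    rw [polar_smul_left, smul_eq_mul] at hw2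
    exact (mul_eq_zero.1 hw2).resolve_left (inv_ne_zero hβ0)
  have hwx : polar R w x = 0 := by rw [polar_comm]; exact hw1
  have hwx' : polar R w x' = 0 := by rw [polar_comm]; exact hw2'
  have hx'x : polar R x' x = β := by rw [polar_comm]
  have hxx : polar R x x = 0 := polar_self_of_sing hx
  have hx'x' : polar R x' x' = 0 := polar_self_of_sing hx'
  set p := x + x' + w with hp
  have hpx : polar R p x = β := by
    rw [hp, polar_add_left, polar_add_left, hxx, hx'x, hwx]; ring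
  have hpx' : polar R p x' = β := by
    rw [hp, polar_add_left, polar_add_left, hx'x', hwx', ← hβ]; ring
  have hpn : R p = 0 := by
    rw [hp, Q_add, Q_add, hx, hx', hwn, polar_add_left, hw1, hw2', ← hβ]; ring
  set u := β⁻¹ • (x' - x) with hu
  have hpu : polar R p u = 0 := by
    rw [hu, polar_smul_right, polar_sub_right, hpx, hpx', sub_self, smul_zero]
  refine ⟨siegel R p u hpn hpu, siegel_mem_E _ _, ?_⟩
  have e1 : polar R u x = 1 := by
    rw [hu, polar_smul_left, polar_sub_left, hx'x, hxx, sub_zero, smul_eq_mul, inv_mul_cancel₀ hβ0]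
  have e2 : R u = - β⁻¹ := by
    rw [hu, QuadraticMap.map_smul, sub_eq_add_neg, Q_add, QuadraticMap.map_neg, hx, hx', polar_neg_right, hx'x,
      smul_eq_mul]
    field_simp
    ring
  rw [siegel_apply, hpx, e1, e2, hu, smul_smul, mul_inv_cancel₀ hβ0, one_smul, one_smul, neg_mul,
    inv_mul_cancel₀ hβ0, neg_smul, one_smul]
  abel

theorem tr [Finite F] {x x' : W} (hx : R x = 0) (hx' : R x' = 0) (h0 : x ≠ 0) (h0' : x' ≠ 0) :
    ∃ l ∈ E R, l x = x' := by
  by_cases hne : ∀ c : F, x' ≠ c • x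
  · exact tr_aux hR h2 d4 an hx hx' h0 hne
  · push Not at hne
    obtain ⟨c, rfl⟩ := hne
    have hc : c ≠ 0 := by
      rintro rfl
      exact h0' (zero_smul F x)
    obtain ⟨y, hyp⟩ := LieClassical.OrthTrans.exists_hyp hR hx h0
    have hyx : ∀ d : F, y ≠ d • x := by
      intro d hd
      have := hyp.pair
      rw [hd, polar_smul_right, polar_self_of_sing hx, smul_zero] at this
      exact zero_ne_one this
    obtain ⟨l, hl, hlx⟩ := tr_aux hR h2 d4 an hx hyp.right h0 hyx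
    obtain ⟨m, hm, hmx⟩ := tr_aux hR h2 d4 an hyp.right hx' hyp.right_ne (x' := c • x) (by
      intro d hd
      have h3 := congrArg (polar R x) hd
      rw [polar_smul_right, polar_smul_right, polar_self_of_sing hx, hyp.pair, smul_zero, smul_eq_mul,
        mul_one] at h3
      rw [← h3, zero_smul] at hd
      exact h0' hd)
    exact ⟨m * l, (E R).mul_mem hm hl, by
      show m (l x) = c • x
      rw [hlx, hmx]⟩

end four

section swap

variable {a b c : U}

theorem ext_OB (S : TSt t QU QW Q) (h : OB QU a b c) (d3 : Module.finrank F U = 3) {Y : Type*} [AddCommGroup Y] [Module F Y]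
    {f g : V →ₗ[F] Y} (ha : ∀ w, f (t a w) = g (t a w)) (hb : ∀ w, f (t b w) = g (t b w))
    (hc : ∀ w, f (t c w) = g (t c w)) : f = g := by
  refine ext_t S.ten fun u w => ?_
  exact h.lext S.two d3 (f := f ∘ₗ t.flip w) (g := g ∘ₗ t.flip w) (ha w) (hb w) (hc w) u

variable (S : TSt t QU QW Q)

/-- `a ⊗ w ↦ a ⊗ w`, `b ⊗ w ↦ c ⊗ μ w`, `c ⊗ μ w ↦ b ⊗ w`. -/
noncomputable def sw0 (a b c : U) (μ : W ≃ₗ[F] W) : V →ₗ[F] V :=
  (2 * QU a)⁻¹ • (t a ∘ₗ S.cu a) + (2 * QU b)⁻¹ • (t c ∘ₗ (μ : W →ₗ[F] W) ∘ₗ S.cu b) +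
    (2 * QU c)⁻¹ • (t b ∘ₗ (μ.symm : W →ₗ[F] W) ∘ₗ S.cu c)

theorem sw0_t (μ : W ≃ₗ[F] W) (u : U) (w : W) : sw0 S a b c μ (t u w) =
    ((2 * QU a)⁻¹ * polar QU a u) • t a w + ((2 * QU b)⁻¹ * polar QU b u) • t c (μ w) +
      ((2 * QU c)⁻¹ * polar QU c u) • t b (μ.symm w) := by
  simp only [sw0, LinearMap.add_apply, LinearMap.smul_apply, LinearMap.comp_apply, LinearEquiv.coe_coe, S.cu_t,
    map_smul, smul_smul]

variable (h : OB QU a b c)

include h

theorem sw0_a (μ : W ≃ₗ[F] W) (w : W) : sw0 S a b c μ (t a w) = t a w := by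
  rw [sw0_t, polar_self', h.ba, h.ca, inv_mul_cancel₀ (mul_ne_zero S.two h.na)]
  simp

theorem sw0_b (μ : W ≃ₗ[F] W) (w : W) : sw0 S a b c μ (t b w) = t c (μ w) := by
  rw [sw0_t, polar_self', h.ab, h.cb, inv_mul_cancel₀ (mul_ne_zero S.two h.nb)]
  simp

theorem sw0_c (μ : W ≃ₗ[F] W) (w : W) : sw0 S a b c μ (t c w) = t b (μ.symm w) := by
  rw [sw0_t, polar_self', h.ac, h.bc, inv_mul_cancel₀ (mul_ne_zero S.two h.nc)]
  simp

variable (d3 : Module.finrank F U = 3)

include d3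

theorem sw0_sw0 (μ : W ≃ₗ[F] W) : sw0 S a b c μ ∘ₗ sw0 S a b c μ = LinearMap.id := by
  refine ext_OB S h d3 ?_ ?_ ?_ <;> intro w <;> rw [LinearMap.comp_apply]
  · rw [sw0_a S h, sw0_a S h]; rfl
  · rw [sw0_b S h, sw0_c S h, LinearEquiv.symm_apply_apply]; rfl
  · rw [sw0_c S h, sw0_b S h, LinearEquiv.apply_symm_apply]; rfl

/-- The involution of the previous definition. -/
noncomputable def sw (μ : W ≃ₗ[F] W) : V ≃ₗ[F] V :=
  LinearEquiv.ofLinearMap (sw0 S a b c μ) (sw0 S a b c μ) (sw0_sw0 S h d3 μ) (sw0_sw0 S h d3 μ)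

theorem sw_apply (μ : W ≃ₗ[F] W) (v : V) : sw S h d3 μ v = sw0 S a b c μ v := rfl

theorem sw_sw (μ : W ≃ₗ[F] W) (v : V) : sw S h d3 μ (sw S h d3 μ v) = v :=
  LinearMap.congr_fun (sw0_sw0 S h d3 μ) v

theorem sw_inv (μ : W ≃ₗ[F] W) : (sw S h d3 μ)⁻¹ = sw S h d3 μ := by
  rw [inv_eq_iff_mul_eq_one]
  ext v
  exact sw_sw S h d3 μ v

theorem sw_mem_O {μ : W ≃ₗ[F] W} {ρ : F} (hμ : ∀ x y, polar QW (μ x) (μ y) = ρ * polar QW x y)
    (hρ : ρ * QU c = QU b) : sw S h d3 μ ∈ O Q := by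
  have hρ0 : ρ ≠ 0 := by
    rintro rfl
    rw [zero_mul] at hρ
    exact h.nb hρ.symm
  have hμ' : ∀ x y, ρ * polar QW (μ.symm x) (μ.symm y) = polar QW x y := by
    intro x y
    rw [← hμ, LinearEquiv.apply_symm_apply, LinearEquiv.apply_symm_apply]
  have key : (polarBilin Q).compl₁₂ (sw0 S a b c μ) (sw0 S a b c μ) = polarBilin Q := by
    refine ext_OB S h d3 ?_ ?_ ?_ <;> intro w <;> refine ext_OB S h d3 ?_ ?_ ?_ <;> intro w'
    · show polar Q (sw0 S a b c μ (t a w)) (sw0 S a b c μ (t a w')) = polar Q (t a w) (t a w')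
      rw [sw0_a S h, sw0_a S h]
    · show polar Q (sw0 S a b c μ (t a w)) (sw0 S a b c μ (t b w')) = polar Q (t a w) (t b w')
      rw [sw0_a S h, sw0_b S h, S.pol, S.pol, h.ac, h.ab, zero_mul, zero_mul]
    · show polar Q (sw0 S a b c μ (t a w)) (sw0 S a b c μ (t c w')) = polar Q (t a w) (t c w')
      rw [sw0_a S h, sw0_c S h, S.pol, S.pol, h.ac, h.ab, zero_mul, zero_mul]
    · show polar Q (sw0 S a b c μ (t b w)) (sw0 S a b c μ (t a w')) = polar Q (t b w) (t a w')
      rw [sw0_a S h, sw0_b S h, S.pol, S.pol, h.ca, h.ba, zero_mul, zero_mul]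
    · show polar Q (sw0 S a b c μ (t b w)) (sw0 S a b c μ (t b w')) = polar Q (t b w) (t b w')
      rw [sw0_b S h, sw0_b S h, S.pol, S.pol, hμ, polar_self', polar_self', ← hρ]
      ring
    · show polar Q (sw0 S a b c μ (t b w)) (sw0 S a b c μ (t c w')) = polar Q (t b w) (t c w')
      rw [sw0_b S h, sw0_c S h, S.pol, S.pol, h.cb, h.bc, zero_mul, zero_mul]
    · show polar Q (sw0 S a b c μ (t c w)) (sw0 S a b c μ (t a w')) = polar Q (t c w) (t a w')
      rw [sw0_a S h, sw0_c S h, S.pol, S.pol, h.ca, h.ba, zero_mul, zero_mul]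
    · show polar Q (sw0 S a b c μ (t c w)) (sw0 S a b c μ (t b w')) = polar Q (t c w) (t b w')
      rw [sw0_b S h, sw0_c S h, S.pol, S.pol, h.cb, h.bc, zero_mul, zero_mul]
    · show polar Q (sw0 S a b c μ (t c w)) (sw0 S a b c μ (t c w')) = polar Q (t c w) (t c w')
      rw [sw0_c S h, sw0_c S h, S.pol, S.pol, polar_self', polar_self', ← hρ]
      linear_combination (2 * QU c) * hμ' w w'
  refine mem_O_of_polar S.two fun x y => ?_
  exact LinearMap.congr_fun (LinearMap.congr_fun key x) y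

theorem sw_conj (μ : W ≃ₗ[F] W) : sw S h d3 μ * rU S.ten (kk QU b h.nb) * (sw S h d3 μ)⁻¹ =
    rU S.ten (kk QU c h.nc) := by
  rw [sw_inv S h d3]
  apply LinearEquiv.toLinearMap_injective
  refine ext_OB S h d3 ?_ ?_ ?_ <;> intro w
  · show sw0 S a b c μ (rU S.ten (kk QU b h.nb) (sw0 S a b c μ (t a w))) = rU S.ten (kk QU c h.nc) (t a w)
    rw [sw0_a S h, rU_apply, rU_apply, kk_perp h.nb h.ba, kk_perp h.nc h.ca, map_neg, LinearMap.neg_apply, map_neg,
      sw0_a S h]
  · show sw0 S a b c μ (rU S.ten (kk QU b h.nb) (sw0 S a b c μ (t b w))) = rU S.ten (kk QU c h.nc) (t b w)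
    rw [sw0_b S h, rU_apply, rU_apply, kk_perp h.nb h.bc, kk_perp h.nc h.cb, map_neg, LinearMap.neg_apply, map_neg,
      sw0_c S h, LinearEquiv.symm_apply_apply, map_neg, LinearMap.neg_apply]
  · show sw0 S a b c μ (rU S.ten (kk QU b h.nb) (sw0 S a b c μ (t c w))) = rU S.ten (kk QU c h.nc) (t c w)
    rw [sw0_c S h, rU_apply, rU_apply, kk_self, kk_self, sw0_b S h, LinearEquiv.apply_symm_apply]

end swap

theorem kk_mul_of_OB {R : QuadraticForm F U} (h2 : (2 : F) ≠ 0) (d3 : Module.finrank F U = 3) {a b c : U}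
    (h : OB R a b c) : kk R b h.nb * kk R c h.nc = kk R a h.na := by
  apply LinearEquiv.toLinearMap_injective
  ext x
  refine h.lext h2 d3 (f := ((kk R b h.nb * kk R c h.nc : U ≃ₗ[F] U) : U →ₗ[F] U))
    (g := (kk R a h.na : U →ₗ[F] U)) ?_ ?_ ?_ x
  · show kk R b h.nb (kk R c h.nc a) = kk R a h.na a
    rw [kk_perp h.nc h.ca, map_neg, kk_perp h.nb h.ba, neg_neg, kk_self]
  · show kk R b h.nb (kk R c h.nc b) = kk R a h.na b
    rw [kk_perp h.nc h.cb, map_neg, kk_self, kk_perp h.na h.ab]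
  · show kk R b h.nb (kk R c h.nc c) = kk R a h.na c
    rw [kk_self, kk_perp h.nb h.bc, kk_perp h.na h.ac]

/-- `k_a ⊗ 1 ∈ E Q`. -/
theorem rU_kk_mem_E [Finite F] [FiniteDimensional F W] (S : TSt t QU QW Q) (hG : Good Q)
    (d3 : Module.finrank F U = 3) (he : Even (Module.finrank F W)) {a : U} (ha : QU a ≠ 0) :
    rU S.ten (kk QU a ha) ∈ E Q := by
  obtain ⟨b, c, h⟩ := exists_OB S.ndU S.two (by rw [d3]) ha
  have hρ : QU b * (QU c)⁻¹ ≠ 0 := mul_ne_zero h.nb (inv_ne_zero h.nc)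
  obtain ⟨μ, hμ⟩ := exists_sim S.ndW he hρ
  have hO := sw_mem_O S h d3 hμ (by rw [mul_assoc, inv_mul_cancel₀ h.nc, mul_one])
  have hb : rU S.ten (kk QU b h.nb) ∈ O Q := S.rU_mem_O (kk_mem_O _)
  have e : rU S.ten (kk QU a ha) = ⁅rU S.ten (kk QU b h.nb), sw S h d3 μ⁆ := by
    have h3 : (rU S.ten (kk QU b h.nb))⁻¹ = rU S.ten (kk QU b h.nb) := by rw [← map_inv, kk_inv]
    rw [commutatorElement_def, h3, mul_assoc, mul_assoc, ← mul_assoc (sw S h d3 μ), sw_conj, ← map_mul,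
      kk_mul_of_OB S.two d3 h]
  rw [e, ← hG.commutator_eq_E]
  exact Subgroup.commutator_mem_commutator hb hO

theorem rW_siegel_mem_E [FiniteDimensional F V] (S : TSt t QU QW Q) (hG : Good Q) {u x : W} (hu : QW u = 0)
    (hx : polar QW u x = 0) : rW S.ten (siegel QW u x hu hx) ∈ E Q := by
  have hx' : polar QW u ((2 : F)⁻¹ • x) = 0 := by rw [polar_smul_right, hx, smul_zero]
  have hs : polar QW u ((2 : F)⁻¹ • x + (2 : F)⁻¹ • x) = 0 := by rw [polar_add_right, hx', add_zero]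
  have e : (2 : F)⁻¹ • x + (2 : F)⁻¹ • x = x := by
    rw [← add_smul]
    have : (2 : F)⁻¹ + 2⁻¹ = 1 := by
      have := S.two
      field_simp
      norm_num
    rw [this, one_smul]
  have h1 : siegel QW u x hu hx =
      siegel QW u ((2 : F)⁻¹ • x) hu hx' * siegel QW u ((2 : F)⁻¹ • x) hu hx' := by
    rw [siegel_mul hu hx' hx' hs]
    ext v
    rw [siegel_apply, siegel_apply, e]
  rw [h1, map_mul]
  exact sq_mem_E hG (S.rW_mem_O (siegel_mem_O hu hx'))

theorem rU_mem_E' [FiniteDimensional F V] (S : TSt t QU QW Q) (hG : Good Q) {k : U ≃ₗ[F] U} (hk : k ∈ E QU) :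
    rU S.ten k ∈ E Q := by
  have h1 : E QU ≤ (E Q).comap (rU S.ten) := by
    rw [E, Subgroup.closure_le]
    rintro _ ⟨u, w, hu, hw, rfl⟩
    exact S.rU_siegel_mem_E hG hu hw
  exact h1 hk

theorem rW_mem_E' [FiniteDimensional F V] (S : TSt t QU QW Q) (hG : Good Q) {k : W ≃ₗ[F] W} (hk : k ∈ E QW) :
    rW S.ten k ∈ E Q := by
  have h1 : E QW ≤ (E Q).comap (rW S.ten) := by
    rw [E, Subgroup.closure_le]
    rintro _ ⟨u, w, hu, hw, rfl⟩
    exact rW_siegel_mem_E S hG hu hw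
  exact h1 hk

theorem not_E_le' (S : TSt t QU QW Q) (hG : Good Q) {x y : U} (hxy : Hyp QU x y) {s s' w : W}
    (hyp : Hyp QW s s') (q1 : polar QW s w = 0) (q3 : polar QW s' w = 0) (hw0 : w ≠ 0) :
    ¬ E Q ≤ TT t S.ten := by
  intro hle
  have hs1 : Q (t x s) = 0 := S.sing_left hxy.left s
  have hs2 : Q (t x s + t y w) = 0 := by
    rw [Q_add, S.sing_left hxy.left, S.sing_left hxy.right, S.pol, q1]; ring
  have hc1 : S.cu y (t x s + t y w) = s := by
    rw [map_add, S.cu_t, S.cu_t, hxy.pair', hxy.polar_right]; simp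
  have hc2 : S.cu x (t x s + t y w) = w := by
    rw [map_add, S.cu_t, S.cu_t, hxy.pair, hxy.polar_left]; simp
  have hne : t x s + t y w ≠ 0 := by
    intro h
    rw [h, map_zero] at hc1
    exact hyp.left_ne hc1.symm
  obtain ⟨g, hg, hgx⟩ := hG.trans_sing hs1 hs2 (t_ne S.ten hxy.left_ne hyp.left_ne) hne
  obtain ⟨k, l, rfl⟩ := hle hg
  rw [tm_apply] at hgx
  rw [← hgx, S.cu_t] at hc1 hc2
  have e1 : polar QU y (k x) * polar QW s' (l s) = 1 := by
    rw [← smul_eq_mul, ← polar_smul_right, hc1, hyp.pair']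
  have e2 : polar QU x (k x) * polar QW s' (l s) = 0 := by
    rw [← smul_eq_mul, ← polar_smul_right, hc2, q3]
  have e3 : polar QU x (k x) = 0 := by
    refine (mul_eq_zero.1 e2).resolve_right fun h => ?_
    rw [h, mul_zero] at e1
    exact zero_ne_one e1
  rw [e3, zero_smul] at hc2
  exact hw0 hc2.symm

/-- **Maximality of `O₃ ⊗ O₄⁻`, coordinate free.** -/
theorem isMaximalIn [Finite F] (S : TSt t QU QW Q) (hG : Good Q) (d3 : Module.finrank F U = 3)
    (d4 : Module.finrank F W = 4)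
    (an : ∀ s w, QW s = 0 → s ≠ 0 → polar QW s w = 0 → QW w = 0 → ∃ c : F, w = c • s)
    (hexc : ∃ c : F, c ≠ 0 ∧ c * c ≠ 1) :
    Cfsg.Geo.IsMaximalIn (E Q) (TT t S.ten ⊓ E Q) := by
  have hfU : FiniteDimensional F U := Module.finite_of_finrank_pos (by omega)
  have hfW : FiniteDimensional F W := Module.finite_of_finrank_pos (by omega)
  have hfV : FiniteDimensional F V := Module.finite_of_finrank_pos (by have := hG.dim; omega)
  obtain ⟨x, -, hx0, hx⟩ := LieClassical.OrthFinite.exists_sing_mem (Q := QU) (⊤ : Submodule F U)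
    (by rw [finrank_top, d3])
  obtain ⟨y, hxy⟩ := LieClassical.OrthTrans.exists_hyp S.ndU hx hx0
  obtain ⟨s, -, hs0, hs⟩ := LieClassical.OrthFinite.exists_sing_mem (Q := QW) (⊤ : Submodule F W)
    (by rw [finrank_top, d4]; norm_num)
  obtain ⟨s', hyp⟩ := LieClassical.OrthTrans.exists_hyp S.ndW hs hs0
  obtain ⟨w, hw1, hw2, hwn⟩ := exists_univ S.ndW S.two d4 an hyp 1
  have hw0 : w ≠ 0 := by
    rintro rfl
    rw [QuadraticMap.map_zero] at hwn
    exact zero_ne_one hwn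
  have hne := not_E_le' S hG hxy hyp hw1 hw2 hw0
  refine ⟨lt_of_le_of_ne inf_le_right fun h => hne ?_, fun M hM1 hM2 => ?_⟩
  · rw [← h]; exact inf_le_left
  · by_cases hEM : E Q ≤ M
    · exact Or.inr (le_antisymm hM2 hEM)
    · left
      refine le_antisymm (le_inf ?_ hM2) hM1
      have hX : Ov3 S M :=
        { le := hM2.trans E_le_O
          rU := fun k hk => hM1 ⟨tm_mem_TT _ _ _, rU_mem_E' S hG hk⟩
          rW := fun k hk => hM1 ⟨tm_mem_TT _ _ _, rW_mem_E' S hG hk⟩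
          tr := fun hx hx' h0 h0' => tr S.ndW S.two d4 an hx hx' h0 h0'
          hG := hG
          dU := by rw [d3]
          dW := by rw [d4]; norm_num
          sU := ⟨x, y, hxy⟩
          sW := ⟨s, s', hyp⟩
          d3 := d3
          d4 := d4
          an := an
          kU := fun a ha => hM1 ⟨tm_mem_TT _ _ _, rU_kk_mem_E S hG d3 (by rw [d4]; decide) ha⟩
          five := hexc
          fin := inferInstance
          leE := hM2
          ge := fun g hg hgE => hM1 ⟨hg, hgE⟩ }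
      exact hX.le_TT hEM

section coord

open Cfsg.Agent.LieClassical.OrthFinite Cfsg.Agent.H883.Bridge Cfsg.Agent.H883.Tensor

variable {ι : Type} [Fintype ι] [DecidableEq ι]

/-- **Maximality of `O₃ ⊗ O₄⁻` in `Ω₁₂⁻`.** -/
theorem maximal_three_four {F : Type*} [Field F] [Fintype F] (hodd : Odd (Fintype.card F))
    (hq : 5 ≤ Fintype.card F) {Q : (ι → F) → F} (hQ : Cfsg.Geo.IsNondegenerateQuadraticForm Q)
    (e : ι ≃ Fin 3 × Fin 4) (P : Matrix.GeneralLinearGroup ι F) (f₁ : (Fin 3 → F) → (Fin 3 → F) → F)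
    (f₂ : (Fin 4 → F) → (Fin 4 → F) → F) (hf₁ : Cfsg.Geo.IsSymmetricForm f₁)
    (hf₂ : Cfsg.Geo.IsSymmetricForm f₂)
    (hp : ¬ Cfsg.Geo.IsPlusTypeOn (fun v : Fin 4 → F => f₂ v v) ⊤)
    (hT : Cfsg.Geo.IsTensorFormStructure id (QuadraticMap.polar Q) f₁ f₂ e P) :
    Cfsg.Geo.IsMaximalIn (Cfsg.Geo.omegaGL Q)
      (Cfsg.Geo.tensorProductSubgroup 3 4 e P ⊓ Cfsg.Geo.omegaGL Q) := by
  have h2 : (2 : F) ≠ 0 := two_ne hodd
  obtain ⟨Q', rfl, hnd⟩ := exists_quadraticForm hQ
  have hcard : Fintype.card ι = 12 := by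
    rw [Fintype.card_congr e, Fintype.card_prod, Fintype.card_fin, Fintype.card_fin]
  have hG : Good Q' := good_of_card hnd (by rw [hcard]; norm_num)
  obtain ⟨c, hc, hform⟩ := form_pure hf₁.bilinear hf₂.bilinear hT
  obtain ⟨QU, hU, ndU, -⟩ := exists_qf h2 hf₁ hc
  obtain ⟨QW, hW, ndW, zW⟩ := exists_qf h2 hf₂ one_ne_zero
  have S : TSt (pureBilin e P) QU QW Q' := by
    refine ⟨pureBilin_isTensorProduct e P, h2, fun u w u' w' => ?_, ndU, ndW⟩
    rw [hU, hW, pureBilin_apply, pureBilin_apply, hform]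
    ring
  have hfr : ∀ k : ℕ, Module.finrank F (Fin k → F) = k := fun k => Module.finrank_fin_fun F
  refine isMaximalIn_omegaGL hG _ (TT (pureBilin e P) S.ten) (fun g => mem_TT_iff e P g S.ten) ?_
  refine isMaximalIn S hG (hfr 3) (hfr 4) ?_ (exists_exc hodd (by omega))
  intro s w hs hs0 hsw hw
  by_contra hne
  push Not at hne
  apply hp
  have hli : LinearIndependent F ![s, w] := by
    rw [LinearIndependent.pair_iff]
    intro a b hab
    have hb : b = 0 := by
      by_contra hb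
      apply hne (-(b⁻¹ * a))
      have h1 : b • w = -(a • s) := by rw [eq_neg_iff_add_eq_zero, add_comm]; exact hab
      calc w = b⁻¹ • (b • w) := by rw [smul_smul, inv_mul_cancel₀ hb, one_smul]
        _ = _ := by rw [h1, smul_neg, smul_smul, neg_smul]
    subst hb
    rw [zero_smul, add_zero] at hab
    exact ⟨(smul_eq_zero.1 hab).resolve_right hs0, rfl⟩
  refine ⟨Submodule.span F (Set.range ![s, w]), le_top, fun v hv => (zW v).1 ?_, ?_⟩
  · rw [Submodule.mem_span_range_iff_exists_fun] at hv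
    obtain ⟨d, rfl⟩ := hv
    rw [Fin.sum_univ_two]
    show QW (d 0 • s + d 1 • w) = 0
    rw [Q_add, QuadraticMap.map_smul, QuadraticMap.map_smul, hs, hw, polar_smul_left, polar_smul_right, hsw]
    simp
  · rw [finrank_span_eq_card hli, Fintype.card_fin, finrank_top, hfr]

end coord

end Cfsg.Agent.H932.Three
end

-- part: S5873
section
set_option autoImplicit false
open Cfsg

namespace Cfsg.Agent.S5873

/-- Maximal subgroups of Ω_12^-(q) of geometric type (any q). Let F be a finite field with q elements (characteristic p), Q a non-degenerate quadratic form on F^12 (non-degenerate polar form) of minus type (Witt index 5: no totally singular 6-space), and Ω = Ω_12^-(q) the commutator subgroup of the isometry group of Q, inside GL_12(F). Each of the following, intersected with Ω, is a maximal subgroup of Ω: (1) the stabiliser of any non-zero subspace on which Q vanishes identically (totally singular subspaces, dimensions 1 to 5); (2)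 for q odd, the stabiliser of any subspace of odd dimension on which the polar form of Q is non-degenerate; (3) the stabiliser of any non-degenerate 2-space of minus type (containing no non-zero singular vector); (4) for q ≥ 4, the stabiliser of any non-degenerate 2-space of plus type (containing a non-zero singular vector); (5) the stabiliser of any non-degenerate 4-space (either type); (6) the stabiliser of any non-degenerate 6-space (either type); (7) for q even, the stabiliser of the 1-space spanned by any non-singular vector v (Q(v) ≠ 0); (8) the stabiliser of any decomposition of F^12 into 3 pairwise orthogonal, pairwise Q-isometric non-degenerate 4-spaces of minus type; (9) for q odd, the normaliser of any degree-2 subfield K of the matrix algebra whose elements are self-adjoint for the polar form of Q (Q is then the trace of a quadratic form over K); (10) for q odd, the normaliser of any degree-3 subfield K of the matrix algebra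 whose elements are self-adjoint for the polar form of Q (Q is then the trace of a quadratic form over K); (11) for q odd with q ≥ 5, the stabiliser of any tensor decomposition F^12 = F^3 ⊗ F^4 in which the polar form of Q is the product of non-degenerate symmetric bilinear forms, the second of minus type, up to a scalar; (12) every subfield group for a subfield F₀ with |F| = |F₀|^r, r an odd prime, whose F₀-structure carries a non-zero scalar multiple of Q. -/
theorem result {F : Type*} [Field F] [Fintype F] (Q : (Fin 12 → F) → F) (hQ : Cfsg.Geo.IsNondegenerateQuadraticForm Q) (hminus : ¬ Cfsg.Geo.IsPlusTypeOn Q ⊤) :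
    (∀ W : Submodule F (Fin 12 → F), W ≠ ⊥ → Cfsg.Geo.IsTotallySingularQuad Q W → Cfsg.Geo.IsMaximalIn (Cfsg.Geo.omegaGL Q) (Cfsg.Geo.subspaceStabilizer W ⊓ Cfsg.Geo.omegaGL Q)) ∧
    (Odd (Fintype.card F) → ∀ W : Submodule F (Fin 12 → F), W ≠ ⊥ → W ≠ ⊤ → Odd (Module.finrank F W) → 2 * Module.finrank F W ≠ 12 → Cfsg.Geo.IsNondegenerateOn (QuadraticMap.polar Q) W → Cfsg.Geo.IsMaximalIn (Cfsg.Geo.omegaGL Q) (Cfsg.Geo.subspaceStabilizer W ⊓ Cfsg.Geo.omegaGL Q)) ∧
    (∀ W : Submodule F (Fin 12 → F), Module.finrank F W = 2 → Cfsg.Geo.IsNondegenerateOn (QuadraticMap.polar Q) W → ¬ Cfsg.Geo.IsPlusTypeOn Q W → Cfsg.Geo.IsMaximalIn (Cfsg.Geo.omegaGL Q) (Cfsg.Geo.subspaceStabilizer W ⊓ Cfsg.Geo.omegaGL Q)) ∧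
    (4 ≤ Fintype.card F → ∀ W : Submodule F (Fin 12 → F), Module.finrank F W = 2 → Cfsg.Geo.IsNondegenerateOn (QuadraticMap.polar Q) W → Cfsg.Geo.IsPlusTypeOn Q W → Cfsg.Geo.IsMaximalIn (Cfsg.Geo.omegaGL Q) (Cfsg.Geo.subspaceStabilizer W ⊓ Cfsg.Geo.omegaGL Q)) ∧
    (∀ W : Submodule F (Fin 12 → F), Module.finrank F W = 4 → Cfsg.Geo.IsNondegenerateOn (QuadraticMap.polar Q) W → Cfsg.Geo.IsMaximalIn (Cfsg.Geo.omegaGL Q) (Cfsg.Geo.subspaceStabilizer W ⊓ Cfsg.Geo.omegaGL Q)) ∧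
    (∀ W : Submodule F (Fin 12 → F), Module.finrank F W = 6 → Cfsg.Geo.IsNondegenerateOn (QuadraticMap.polar Q) W → Cfsg.Geo.IsMaximalIn (Cfsg.Geo.omegaGL Q) (Cfsg.Geo.subspaceStabilizer W ⊓ Cfsg.Geo.omegaGL Q)) ∧
    (¬ Odd (Fintype.card F) → ∀ v : (Fin 12 → F), Q v ≠ 0 → Cfsg.Geo.IsMaximalIn (Cfsg.Geo.omegaGL Q) (Cfsg.Geo.subspaceStabilizer (Submodule.span F {v}) ⊓ Cfsg.Geo.omegaGL Q)) ∧
    (∀ D : Fin 3 → Submodule F (Fin 12 → F), Cfsg.Geo.IsOrthogonalMDecomposition Q 4 D → (∀ i, ¬ Cfsg.Geo.IsPlusTypeOn Q (D i)) → Cfsg.Geo.IsMaximalIn (Cfsg.Geo.omegaGL Q) (Cfsg.Geo.decompositionStabilizer D ⊓ Cfsg.Geo.omegaGL Q)) ∧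
    (Odd (Fintype.card F) → ∀ K : Subalgebra F (Matrix (Fin 12) (Fin 12) F), Cfsg.Geo.IsFieldSubalgebra 2 K → Cfsg.Geo.IsSelfAdjointFor (QuadraticMap.polar Q) K → Cfsg.Geo.IsMaximalIn (Cfsg.Geo.omegaGL Q) (Cfsg.Geo.subalgebraNormalizer K ⊓ Cfsg.Geo.omegaGL Q)) ∧
    (Odd (Fintype.card F) → ∀ K : Subalgebra F (Matrix (Fin 12) (Fin 12) F), Cfsg.Geo.IsFieldSubalgebra 3 K → Cfsg.Geo.IsSelfAdjointFor (QuadraticMap.polar Q) K → Cfsg.Geo.IsMaximalIn (Cfsg.Geo.omegaGL Q) (Cfsg.Geo.subalgebraNormalizer K ⊓ Cfsg.Geo.omegaGL Q)) ∧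
    (Odd (Fintype.card F) ∧ 5 ≤ Fintype.card F → ∀ (e : Fin 12 ≃ Fin 3 × Fin 4) (P : Matrix.GeneralLinearGroup (Fin 12) F) (f₁ : (Fin 3 → F) → (Fin 3 → F) → F) (f₂ : (Fin 4 → F) → (Fin 4 → F) → F), Cfsg.Geo.IsSymmetricForm f₁ → Cfsg.Geo.IsSymmetricForm f₂ → ¬ Cfsg.Geo.IsPlusTypeOn (fun v : Fin 4 → F => f₂ v v) ⊤ → Cfsg.Geo.IsTensorFormStructure id (QuadraticMap.polar Q) f₁ f₂ e P → Cfsg.Geo.IsMaximalIn (Cfsg.Geo.omegaGL Q) (Cfsg.Geo.tensorProductSubgroup 3 4 e P ⊓ Cfsg.Geo.omegaGL Q)) ∧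
    (∀ (F₀ : Subfield F) (r : ℕ) (P : Matrix.GeneralLinearGroup (Fin 12) F) (ζ : F), r.Prime → Odd r → Fintype.card F = Nat.card F₀ ^ r → ζ ≠ 0 → Cfsg.Geo.IsQuadFormRationalStructure (fun v : Fin 12 → F => ζ * Q v) F₀ P → Cfsg.Geo.IsMaximalIn (Cfsg.Geo.omegaGL Q) (Cfsg.Geo.subfieldSubgroup F₀ P ⊓ Cfsg.Geo.omegaGL Q)) := by
  have h12 : Fintype.card (Fin 12) = 12 := Fintype.card_fin 12
  refine ⟨?_, ?_, ?_, ?_, ?_, ?_, ?_, ?_, ?_, ?_, ?_, ?_⟩
  · intro W hW0 hW
    exact Cfsg.Agent.H932.mM_ts hQ hminus W hW0 hW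
  · intro _ W h0 h1 hodd _ hW
    exact Cfsg.Agent.H932.mM_odd hQ hminus W h0 h1 hodd hW
  · intro W hd hW hm
    exact Cfsg.Agent.H932.mM_two_minus hQ hminus W hd hW hm
  · intro hq W hd hW _
    exact Cfsg.Agent.H932.mM_two_plus hQ hminus hq W hd hW
  · intro W hd hW
    exact Cfsg.Agent.H932.mM_even hQ hminus W (Or.inl hd) hW
  · intro W hd hW
    exact Cfsg.Agent.H932.mM_even hQ hminus W (Or.inr hd) hW
  · intro hq v hv
    exact Cfsg.Agent.H932.mM_nsv hQ hq v hv
  · intro D hD hm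
    exact Cfsg.Agent.H932.mM_three hQ D hD hm
  · intro hodd K hK hsa
    exact Cfsg.Agent.H884.Ext.extension_field_normalizer_isMaximalIn (Cfsg.Agent.H882.Ten.two_ne hodd) hQ
      Nat.prime_two hK hsa (by rw [h12]; norm_num) (fun _ => by rw [h12]; norm_num)
  · intro hodd K hK hsa
    exact Cfsg.Agent.H884.Ext.extension_field_normalizer_isMaximalIn (Cfsg.Agent.H882.Ten.two_ne hodd) hQ
      Nat.prime_three hK hsa (by rw [h12]) (fun h => by omega)
  · rintro ⟨hodd, hq⟩ e P f₁ f₂ hf₁ hf₂ hp hT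
    exact Cfsg.Agent.H932.Three.maximal_three_four hodd hq hQ e P f₁ f₂ hf₁ hf₂ hp hT
  · intro F₀ r P ζ hr _ hcard hζ hP
    exact Cfsg.Agent.H932.mM_sub hQ F₀ r P ζ hr hcard hζ hP

end Cfsg.Agent.S5873
end
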