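import Mathlib
import Cfsg.Agent.S1093
import Cfsg.Agent.H378.SmallTor_m3
import Cfsg.Agent.H943.PSLHom
import Cfsg.Agent.BpExc.AsmN_m3
import Cfsg.Agent.H942.Core
import Cfsg.Agent.H984.SLFin
import Cfsg.Agent.H984.SLCyc
import Cfsg.Agent.Characters.Counting
import Cfsg.Agent.H597.Base
import Cfsg.Agent.S0898
import Cfsg.Agent.SmallSimple.PSLTwoPart
import Cfsg.Statements.S5918
import Cfsg.Agent.H942.U4
import Cfsg.Agent.FastGrp
import Cfsg.Agent.Prune
set_option linter.all false
prune_inst 0x7ff3e8fdfbac31ffdfff7e3ffed9dff833800fffa4dff94bffe0e19f0b1f138209e56b8589e090fe1e76e29c10a87803fb7eeeffe86fdc7ffffdfff41ffbee0fe5f7310871dc8cb40f302ff603f0778e6f3fffffffffffffffffffffffffffbefffffbfeffff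
open scoped Cfsg.Agent.FastGrp

-- part: H943/L41
section
/-!
# No subgroup `L2(41)` in `E8(3)` (helper943)

An element of order 41 would be conjugate in `E8(k)` to its square (in `L2(41)`) and to its cube (Frobenius), so to its
6th power; 6 has order 40 modulo 41 and `φ(40) = 16 > 8`.
-/

set_option autoImplicit false

namespace Cfsg.Agent.H943.L41

open Matrix Cfsg.Agent.H943.SL2Rel Cfsg.Agent.H943.PSLHom
open Cfsg.Lie Cfsg.Agent.ChevalleyStructure Cfsg.Agent.ChevalleyStructure.Elts
open Cfsg.Agent.GpExc.Field (emb emb_injective)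
open Cfsg.Agent.H378.TorFin

theorem u_not_mem_center {F : Type*} [Field F] : (u (1 : F)) ∉ Subgroup.center (SpecialLinearGroup (Fin 2) F) := by
  rw [Matrix.SpecialLinearGroup.mem_center_iff]
  rintro ⟨r, -, hr⟩
  have h0 := congrFun (congrFun hr 0) 1
  simp [u, Matrix.scalar_apply] at h0

theorem u_pow {F : Type*} [Field F] (t : F) (n : ℕ) : (u t) ^ n = u (n * t) := by
  induction n with
  | zero => rw [pow_zero, Nat.cast_zero, zero_mul, u_zero]
  | succ n ih => rw [pow_succ, ih, ← u_add]; congr 1; push_cast; ring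

theorem order6 : orderOf (6 : ZMod 41) = 40 := by
  refine orderOf_eq_of_pow_and_pow_div_prime (by norm_num) (by decide +kernel) ?_
  intro p hp hd
  have h3 : p ∣ 2 ^ 3 * 5 := by
    have : (40 : ℕ) = 2 ^ 3 * 5 := by norm_num
    rwa [← this]
  rcases (Nat.Prime.dvd_mul hp).1 h3 with h4 | h4
  · have h5 := (Nat.prime_dvd_prime_iff_eq hp Nat.prime_two).1 (hp.dvd_of_dvd_pow h4)
    subst h5
    decide +kernel
  · have h5 := (Nat.prime_dvd_prime_iff_eq hp Nat.prime_five).1 h4
    subst h5
    decide +kernel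

theorem ne40 : ((40 : ℕ) : ZMod 41) ≠ 0 := by decide +kernel

theorem cyc40 : ((41 : ℕ) : ℤ) ∣ (Polynomial.cyclotomic 40 ℤ).eval ((6 : ℕ) : ℤ) := by
  have h1 : IsPrimitiveRoot (6 : ZMod 41) 40 := order6 ▸ IsPrimitiveRoot.orderOf _
  have : Fact (Nat.Prime 41) := ⟨by norm_num⟩
  have : NeZero ((40 : ℕ) : ZMod 41) := ⟨ne40⟩
  have h2 := (Polynomial.isRoot_cyclotomic_iff (n := 40) (R := ZMod 41)).2 h1
  rw [Polynomial.IsRoot.def, ← Polynomial.map_cyclotomic_int] at h2
  rw [← ZMod.intCast_zmod_eq_zero_iff_dvd, ← h2]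
  have h3 : (6 : ZMod 41) = (Int.castRingHom (ZMod 41)) ((6 : ℕ) : ℤ) := by simp
  rw [h3, Polynomial.eval_map, Polynomial.eval₂_at_apply]
  simp

/-- **no `L2(41)` in `E8(3)`** -/
theorem no_L41 {F : Type*} [Field F] [Fintype F] (hF : Fintype.card F = 41)
    (H : Subgroup ↥(chevE8.group (ZMod 3))) : IsEmpty (↥H ≃* ProjectiveSpecialLinearGroup (Fin 2) F) := by
  classical
  refine ⟨fun e => ?_⟩
  have : Fact (Nat.Prime 3) := ⟨Nat.prime_three⟩
  have h41 : (41 : F) = 0 := by
    have h1 := FiniteField.cast_card_eq_zero F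
    rw [hF] at h1
    exact_mod_cast h1
  obtain ⟨φ, hφ⟩ := exists_hom H e
  set x := φ (u 1) with hx
  have hx1 : x ≠ 1 := fun h0 => u_not_mem_center ((hφ _).1 h0)
  have hx41 : x ^ 41 = 1 := by
    rw [hx, ← map_pow, u_pow, show ((41 : ℕ) : F) * 1 = 0 by rw [mul_one]; exact_mod_cast h41, u_zero, map_one]
  have h17 : (17 : F) ≠ 0 := by
    intro h0
    have h1 : (1 : F) = 41 * 5 - 17 * 12 := by norm_num
    rw [h41, h0, zero_mul, zero_mul, sub_zero] at h1
    exact one_ne_zero h1
  have hc2 : φ (h (Units.mk0 17 h17)) * x * (φ (h (Units.mk0 17 h17)))⁻¹ = x ^ 2 := by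
    rw [hx, ← map_mul, h_u, map_mul, mul_inv_cancel_right, ← map_pow, u_pow]
    congr 2
    rw [Units.val_mk0]
    push_cast
    linear_combination 7 * h41
  obtain ⟨k, _, _, f, r, _, _, n, hk, hka, hn0, hn⟩ := exists_closure (ZMod 3)
  have hn3 : r ^ n = 3 := by rw [← hn, Nat.card_zmod]
  have hr : (41 : ℕ) ≠ r := by
    rintro rfl
    have h1 : 41 ∣ 41 ^ n := dvd_pow_self _ hn0.ne'
    rw [hn3] at h1
    omega
  set X := emb E8Tab.e8T.inList f x with hX
  have hX41 : X ^ 41 = 1 := by rw [hX, ← map_pow, hx41, map_one]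
  have hX1 : X ≠ 1 := fun h => hx1 (emb_injective E8Tab.e8T.inList f (h.trans (map_one _).symm))
  obtain ⟨c3, hc3⟩ := Fusion.frob_conj E8Tab.e8T r hka (n := n) (phi_emb' E8Tab.e8T f r hn x) (ℓ := 41) (by norm_num) hr
    hX41
  rw [hn3] at hc3
  have hc6 : (emb E8Tab.e8T.inList f (φ (h (Units.mk0 17 h17))) * c3) * X *
      (emb E8Tab.e8T.inList f (φ (h (Units.mk0 17 h17))) * c3)⁻¹ = X ^ 6 := by
    have e1 : emb E8Tab.e8T.inList f (φ (h (Units.mk0 17 h17))) * X *
        (emb E8Tab.e8T.inList f (φ (h (Units.mk0 17 h17))))⁻¹ = X ^ 2 := by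
      rw [hX, ← map_inv, ← map_mul, ← map_mul, hc2, map_pow]
    generalize emb E8Tab.e8T.inList f (φ (h (Units.mk0 17 h17))) = c2 at e1
    calc (c2 * c3) * X * (c2 * c3)⁻¹ = c2 * (c3 * X * c3⁻¹) * c2⁻¹ := by group
      _ = c2 * X ^ 3 * c2⁻¹ := by rw [hc3]
      _ = (c2 * X * c2⁻¹) ^ 3 := by rw [conj_pow]
      _ = X ^ 6 := by rw [e1, ← pow_mul]
  let cs : CoxeterSystem CoxeterMatrix.E₈ CoxeterMatrix.E₈.Group := CoxeterMatrix.E₈.toCoxeterSystem
  have hcard : Nat.card CoxeterMatrix.E₈.Group = 696729600 :=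
    Cfsg.Agent.S1093.result (⟨8, CoxeterMatrix.E₈⟩, 696729600) (by simp)
  have : Finite CoxeterMatrix.E₈.Group := Nat.finite_of_card_ne_zero (by rw [hcard]; norm_num)
  have h1 := Fusion.totient_le E8Tab.e8T cs hk r hka (ℓ := 41) (by norm_num) hr hX41 hX1 (by rw [hcard]; norm_num)
    (m := 40) (by norm_num) (by norm_num) (a := 6) cyc40 ⟨_, hc6⟩
  revert h1
  decide

end Cfsg.Agent.H943.L41
end

-- part: H942/BcRoots
section
/-!
# Brauer character values on a cyclic group; constituents of reductions of ordinary characters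
-/

set_option autoImplicit false
set_option linter.unusedSectionVars false

namespace Cfsg.Agent.H942.BcRoots

open Cfsg Cfsg.Agent.H657 IsLocalRing Module Polynomial
open Cfsg.Agent.H942.E8Alc Cfsg.Agent.H608.BlockRank

attribute [local instance] Above.isAlgClosed

variable {V : ValuationSubring ℂ} [CharP (ResidueField V) 3] {G : Type*} [Group G]

/-- Brauer characters are sums over the composition factors -/
theorem bc_factors {W : Type*} [AddCommGroup W] [Module (ResidueField V) W] [FiniteDimensional (ResidueField V) W]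
    [Finite G] (σ : Representation (ResidueField V) G W) :
    ∃ (m : ℕ) (n : Fin m → ℕ) (τ : ∀ i, Representation (ResidueField V) G (Fin (n i) → ResidueField V)),
      (∀ i, (τ i).IsIrreducible) ∧ ∀ g, bc 3 σ g = ∑ i, bc 3 (τ i) g := by
  classical
  have := Fintype.ofFinite G
  have hinf : Infinite (ResidueField V) := IsAlgClosed.instInfinite
  obtain ⟨m, n, τ, hτ, hdet⟩ := Factors.exists_factors σ
  have hdet' : ∀ a : G → ResidueField V, LinearMap.det (∑ g, a g • σ g) =
      ∏ i, LinearMap.det (∑ g, a g • τ i g) := by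
    intro a
    have h1 := hdet (∑ g, MonoidAlgebra.single g (a g))
    simp only [map_sum, Representation.asAlgebraHom_single] at h1
    exact h1
  have hchar : ∀ g, LinearMap.charpoly (σ g) = ∏ i, LinearMap.charpoly (τ i g) := by
    intro g
    refine Polynomial.funext fun t => ?_
    rw [LinearMap.eval_charpoly, Polynomial.eval_prod]
    have h1 := hdet' (fun h => (if h = 1 then t else 0) - (if h = g then 1 else 0))
    rw [sum_aux] at h1
    rw [h1]
    refine Finset.prod_congr rfl fun i _ => ?_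
    rw [sum_aux, LinearMap.eval_charpoly]
  refine ⟨m, n, τ, hτ, fun g => ?_⟩
  unfold bc
  rw [hchar, Polynomial.roots_prod _ _ (Finset.prod_ne_zero_iff.2 fun i _ =>
    (LinearMap.charpoly_monic _).ne_zero), Multiset.map_bind, Multiset.sum_bind]
  rfl

theorem charpoly_smul_one {W : Type*} [AddCommGroup W] [Module (ResidueField V) W]
    [FiniteDimensional (ResidueField V) W] (c : ResidueField V) :
    LinearMap.charpoly (c • (1 : Module.End (ResidueField V) W)) = (X - C c) ^ finrank (ResidueField V) W := by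
  have hinf : Infinite (ResidueField V) := IsAlgClosed.instInfinite
  refine Polynomial.funext fun t => ?_
  rw [LinearMap.eval_charpoly, eval_pow, eval_sub, eval_X, eval_C]
  have : algebraMap (ResidueField V) (Module.End (ResidueField V) W) t - c • 1 = (t - c) • 1 := by
    rw [Algebra.algebraMap_eq_smul_one, sub_smul]
  rw [this]
  have h2 := LinearMap.det_smul (t - c) (1 : Module.End (ResidueField V) W)
  rw [map_one, mul_one] at h2
  exact h2

theorem bc_smul_one {W : Type*} [AddCommGroup W] [Module (ResidueField V) W]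
    [FiniteDimensional (ResidueField V) W] (σ : Representation (ResidueField V) G W) {g : G} {c : ResidueField V}
    (h : σ g = c • (1 : Module.End (ResidueField V) W)) : bc 3 σ g = finrank (ResidueField V) W * lift 3 c := by
  unfold bc
  rw [h, charpoly_smul_one, roots_pow, roots_X_sub_C, Multiset.nsmul_singleton, Multiset.map_replicate,
    Multiset.sum_replicate, nsmul_eq_mul]

theorem bc_one' {W : Type*} [AddCommGroup W] [Module (ResidueField V) W]
    [FiniteDimensional (ResidueField V) W] (σ : Representation (ResidueField V) G W) :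
    bc 3 σ 1 = finrank (ResidueField V) W := by
  rw [bc_smul_one σ (c := 1) (by rw [map_one, one_smul]), lift_one, mul_one]

/-- irreducible representations of cyclic groups are one-dimensional -/
theorem cyc_irr {n : ℕ} (σ : Representation (ResidueField V) G (Fin n → ResidueField V)) (hσ : σ.IsIrreducible)
    {x : G} (hx : ∀ g : G, ∃ i : ℕ, g = x ^ i) {N : ℕ} (hN : x ^ N = 1) :
    ∃ r : ResidueField V, r ^ N = 1 ∧ n = 1 ∧ ∀ i : ℕ, σ (x ^ i) = r ^ i • (1 : Module.End _ _) := by
  have hn := finrank_ne_zero' σ hσ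
  have : Nontrivial (Fin n → ResidueField V) := nontrivial_of_finrank_pos (R := ResidueField V) (Nat.pos_of_ne_zero hn)
  obtain ⟨r, hr⟩ := Module.End.exists_eigenvalue (σ x)
  obtain ⟨v, hv⟩ := hr.exists_hasEigenvector
  have hpow : ∀ i : ℕ, σ (x ^ i) v = r ^ i • v := by
    intro i
    induction i with
    | zero => simp only [_root_.pow_zero, _root_.map_one, _root_.Module.End.one_apply, _root_.one_smul]
    | succ i ih =>
      rw [pow_succ, map_mul, Module.End.mul_apply, hv.apply_eq_smul, map_smul, ih, smul_smul, pow_succ, mul_comm]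
  let U : Subrepresentation σ :=
    { toSubmodule := (ResidueField V) ∙ v
      apply_mem_toSubmodule := by
        intro g w hw
        obtain ⟨c, rfl⟩ := Submodule.mem_span_singleton.1 hw
        obtain ⟨i, rfl⟩ := hx g
        rw [map_smul, hpow]
        exact Submodule.smul_mem _ _ (Submodule.smul_mem _ _ (Submodule.mem_span_singleton_self v)) }
  have hU : U = ⊤ := by
    rcases hσ.eq_bot_or_eq_top U with h1 | h1
    · exfalso
      have h2 : ((ResidueField V) ∙ v) = ⊥ := congrArg Subrepresentation.toSubmodule h1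
      exact hv.2 (Submodule.span_singleton_eq_bot.1 h2)
    · exact h1
  have hU' : ((ResidueField V) ∙ v) = ⊤ := congrArg Subrepresentation.toSubmodule hU
  have hsc : ∀ i : ℕ, σ (x ^ i) = r ^ i • (1 : Module.End _ _) := by
    intro i
    refine LinearMap.ext fun w => ?_
    have hw : w ∈ ((ResidueField V) ∙ v) := hU' ▸ Submodule.mem_top
    obtain ⟨c, rfl⟩ := Submodule.mem_span_singleton.1 hw
    rw [map_smul, hpow, LinearMap.smul_apply, Module.End.one_apply, smul_comm]
  refine ⟨r, ?_, ?_, hsc⟩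
  · have h1 := hpow N
    rw [hN, map_one, Module.End.one_apply] at h1
    by_contra hne
    have h3 : (r ^ N - 1) • v = 0 := by
      rw [sub_smul, ← h1, one_smul, sub_self]
    rcases smul_eq_zero.1 h3 with h4 | h4
    · exact hne (sub_eq_zero.1 h4)
    · exact hv.2 h4
  · have h1 := finrank_span_singleton (K := ResidueField V) hv.2
    rw [hU', finrank_top] at h1
    simpa only [_root_.Module.finrank_fintype_fun_eq_card, _root_.Fintype.card_fin] using h1

/-- the values of a Brauer character at the powers of an element -/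
theorem exists_roots {W : Type*} [AddCommGroup W] [Module (ResidueField V) W] [FiniteDimensional (ResidueField V) W]
    (σ : Representation (ResidueField V) G W) {x : G} {N : ℕ} (hN0 : N ≠ 0) (hN : x ^ N = 1) (h3 : ¬ 3 ∣ N) :
    ∃ (m : ℕ) (r : Fin m → ResidueField V), (∀ l, r l ^ N = 1) ∧ ∀ i : ℕ, bc 3 σ (x ^ i) = ∑ l, lift 3 (r l) ^ i := by
  have hfin : IsOfFinOrder x := isOfFinOrder_iff_pow_eq_one.2 ⟨N, Nat.pos_of_ne_zero hN0, hN⟩
  have hP : Finite (Subgroup.zpowers x) := by
    have := hfin.finite_zpowers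
    exact this
  let x' : Subgroup.zpowers x := ⟨x, Subgroup.mem_zpowers x⟩
  have hx' : ∀ g : Subgroup.zpowers x, ∃ i : ℕ, g = x' ^ i := by
    rintro ⟨g, hg⟩
    obtain ⟨i, hi⟩ := (hfin.mem_powers_iff_mem_zpowers.2 hg)
    exact ⟨i, Subtype.ext hi.symm⟩
  have hN' : x' ^ N = 1 := Subtype.ext hN
  obtain ⟨m, n, τ, hτ, hbc⟩ := bc_factors (σ.comp (Subgroup.zpowers x).subtype)
  choose r hr1 hr2 hr3 using fun l => cyc_irr (τ l) (hτ l) hx' hN'
  refine ⟨m, r, hr1, fun i => ?_⟩
  have h1 : bc 3 σ (x ^ i) = bc 3 (σ.comp (Subgroup.zpowers x).subtype) (x' ^ i) := rfl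
  rw [h1, hbc]
  refine Finset.sum_congr rfl fun l _ => ?_
  rw [bc_smul_one (τ l) (hr3 l i), Module.finrank_fin_fun, hr2 l, Nat.cast_one, one_mul]
  exact lift_pow ⟨N, h3, hr1 l⟩ i

/-- multiplicities of eigenvalues are natural numbers -/
theorem exists_mult {W : Type*} [AddCommGroup W] [Module (ResidueField V) W] [FiniteDimensional (ResidueField V) W]
    (σ : Representation (ResidueField V) G W) {x : G} {N : ℕ} (hN0 : N ≠ 0) (hN : x ^ N = 1) (h3 : ¬ 3 ∣ N) {ω : ℂ}
    (hω : ω ^ N = 1) : ∃ k : ℕ, ∑ i ∈ Finset.range N, bc 3 σ (x ^ i) * ω ^ i = (N : ℂ) * (k : ℂ) := by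
  classical
  obtain ⟨m, r, hr, hbc⟩ := exists_roots σ hN0 hN h3
  refine ⟨(Finset.univ.filter fun l => lift 3 (r l) * ω = 1).card, ?_⟩
  have h1 : ∀ i ∈ Finset.range N, bc 3 σ (x ^ i) * ω ^ i = ∑ l, (lift 3 (r l) * ω) ^ i := by
    intro i _
    rw [hbc, Finset.sum_mul]
    exact Finset.sum_congr rfl fun l _ => (mul_pow _ _ _).symm
  rw [Finset.sum_congr rfl h1, Finset.sum_comm]
  have h2 : ∀ l, ∑ i ∈ Finset.range N, (lift 3 (r l) * ω) ^ i = if lift 3 (r l) * ω = 1 then (N : ℂ) else 0 := by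
    intro l
    split_ifs with h
    · simp [h]
    · have h4 := geom_sum_mul (lift 3 (r l) * ω) N
      have h5 : lift 3 (r l) ^ N = 1 := by
        rw [← lift_pow ⟨N, h3, hr l⟩ N, hr l, lift_one]
      rw [mul_pow, hω, h5, mul_one, sub_self] at h4
      exact (mul_eq_zero.1 h4).resolve_right (sub_ne_zero.2 h)
  rw [Finset.sum_congr rfl fun l _ => h2 l, ← Finset.sum_filter, Finset.sum_const, nsmul_eq_mul, mul_comm]

/-- every irreducible Brauer character is a constituent of the reduction of an ordinary character -/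
theorem exists_constituent [Finite G] {M : Ideal AlgInt} (hM : IsPModular 3 M) (hV : Above M V) (i : IBr V G) :
    ∃ (χ : G → ℂ) (m : ℕ) (idx : Fin m → IBr V G) (l : Fin m), IsIrrCharacter G χ ∧ idx l = i ∧
      ∀ g, IsPRegular 3 g → χ g = ∑ l, phi 3 (idx l) g := by
  classical
  have : Fact (Nat.Prime 3) := ⟨Nat.prime_three⟩
  choose m idx h1 h2 using fun χ : IrrCharacter G => exists_decomp hM hV χ.2
  let S : Set (IBr V G) := {j | ∃ (χ : IrrCharacter G) (l : Fin (m χ)), idx χ l = j}
  have hS : ∀ χ : IrrCharacter G, pReg 3 (χ : G → ℂ) ∈ Submodule.span ℂ (phi 3 '' S) := by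
    intro χ
    have h3 : pReg 3 (χ : G → ℂ) = ∑ l, phi 3 (idx χ l) := by
      funext g
      rw [Finset.sum_apply]
      by_cases h : IsPRegular 3 g
      · rw [pReg_of h, h2 χ g h]
      · rw [pReg_of_not h]
        exact (Finset.sum_eq_zero fun l _ => phi_of_not _ h).symm
    rw [h3]
    exact Submodule.sum_mem _ fun l _ => Submodule.subset_span ⟨_, ⟨χ, l, rfl⟩, rfl⟩
  have hle : (charSpan (Set.univ : Set (IrrCharacter G))).map (pReg 3) ≤ Submodule.span ℂ (phi 3 '' S) := by
    unfold charSpan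
    rw [Submodule.map_span, Submodule.span_le]
    rintro _ ⟨_, ⟨χ, hχ, rfl⟩, rfl⟩
    exact hS χ
  have hi : i ∈ S := by
    by_contra hcon
    exact (linearIndependent_phi (V := V) (G := G) (p := 3)).notMem_span_image hcon (hle (phi_mem_all (p := 3) i))
  obtain ⟨χ, l, hl⟩ := hi
  exact ⟨χ, m χ, idx χ, l, χ.2, hl, h2 χ⟩

end Cfsg.Agent.H942.BcRoots
end

-- part: H597/L232
section
/-!
# Characters of `SL₂(32)` and `PSL₂(32)` on the non-split torus

`T1` : for `x` of order `11` in `PSL₂(32)` and an irreducible character `χ`, the sum of the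
`χ (x ^ i)`, `i < 11`, is at most `33` (the fixed space of `x` has dimension at most `3`).
-/

set_option autoImplicit false
set_option linter.unusedSectionVars false

namespace Cfsg.Agent.H597.L232

open Matrix Cfsg Cfsg.Agent.H984.EigCount Cfsg.Agent.H984.SLTwo
open scoped ComplexConjugate

variable {F : Type*} [Field F] [DecidableEq F] [Fintype F]

local notation "SL" => Matrix.SpecialLinearGroup (Fin 2) F
local notation "M₂" => Matrix (Fin 2) (Fin 2) F

theorem two_eq_zero (h2 : ringChar F = 2) : (2 : F) = 0 := by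
  have := ringChar.Nat.cast_ringChar (R := F)
  rw [h2] at this
  exact_mod_cast this

theorem tr_ne_zero_of_ell (h2 : ringChar F = 2) {g : SL} (hg : Ell (g : M₂)) : tr (g : M₂) ≠ 0 := by
  have h := hg.no_root 1
  have h3 := two_eq_zero h2
  intro h0
  apply h
  rw [h0]
  linear_combination h3

/-- Every element without eigenvector is conjugate to an element of the torus. -/
theorem exists_conj_mem (h2 : ringChar F = 2) {g c : SL} (hg : Ell (g : M₂)) (hc : Ell (c : M₂)) :
    ∃ k ∈ Subgroup.centralizer ({g} : Set SL), IsConj k c ∧ NS (k : M₂) := by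
  classical
  set C := Subgroup.centralizer ({g} : Set SL) with hC
  have hcard : Nat.card C = Fintype.card F + 1 := card_cent_ell g hg
  have hn : 0 < Fintype.card F + 1 := Nat.succ_pos _
  have : Fintype C := Fintype.ofFinite C
  have hcard' : Fintype.card C = Fintype.card F + 1 := by
    rw [← hcard, Nat.card_eq_fintype_card (α := C)]
  have hsurj : ∀ z ∈ Polynomial.nthRootsFinset (Fintype.card F + 1) (1 : AlgebraicClosure F),
      ∃ k ∈ (Finset.univ : Finset C), mu g hg k = z := by
    intro z hz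
    obtain ⟨k, hk, hz'⟩ := Finset.surj_on_of_inj_on_of_card_le
      (s := (Finset.univ : Finset C))
      (t := Polynomial.nthRootsFinset (Fintype.card F + 1) (1 : AlgebraicClosure F))
      (fun k _ => mu g hg k)
      (fun k _ => by
        rw [Polynomial.mem_nthRootsFinset hn, ← map_pow, ← hcard, pow_card_eq_one', map_one])
      (fun a b _ _ hab => mu_injective g hg hab)
      (by
        rw [Finset.card_univ, hcard', Polynomial.nthRootsFinset_def]
        exact (Multiset.toFinset_card_le _).trans (Polynomial.card_nthRoots _ _))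
      z hz
    exact ⟨k, hk, hz'.symm⟩
  have hcm : c ∈ Subgroup.centralizer ({c} : Set SL) := Subgroup.mem_centralizer_singleton_iff.2 rfl
  have hz : mu c hc ⟨c, hcm⟩ ∈
      Polynomial.nthRootsFinset (Fintype.card F + 1) (1 : AlgebraicClosure F) := by
    rw [Polynomial.mem_nthRootsFinset hn, ← map_pow, ← card_cent_ell c hc, pow_card_eq_one', map_one]
  obtain ⟨k, -, hk⟩ := hsurj _ hz
  have h1 := mu_add_inv g hg k
  have h2' := mu_add_inv c hc ⟨c, hcm⟩
  have h3 : mu g hg k⁻¹ = mu c hc (⟨c, hcm⟩⁻¹) := by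
    have e1 : mu g hg k * mu g hg k⁻¹ = 1 := by rw [← map_mul, mul_inv_cancel, map_one]
    have e2 : mu c hc ⟨c, hcm⟩ * mu c hc (⟨c, hcm⟩⁻¹) = 1 := by
      rw [← map_mul, mul_inv_cancel, map_one]
    rw [hk] at e1
    have h0 : mu c hc ⟨c, hcm⟩ ≠ 0 := left_ne_zero_of_mul_eq_one e1
    exact mul_left_cancel₀ h0 (e1.trans e2.symm)
  rw [hk, h3, h2'] at h1
  have htr : tr ((k : SL) : M₂) = tr (c : M₂) :=
    ((algebraMap F (AlgebraicClosure F)).injective h1).symm
  have hNS : NS ((k : SL) : M₂) := by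
    by_contra hns
    apply tr_ne_zero_of_ell h2 hc
    rw [← htr]
    rcases scalar_cases hns with h | h
    · rw [h, tr_upp (by simp)]
      simp [two_eq_zero h2]
    · rw [h, tr_upp (by simp)]
      simp [two_eq_zero h2]
  exact ⟨k, k.2, isConj_of_tr hNS hc.NS htr (Or.inl h2), hNS⟩

/-- In characteristic two every element is `1`, unipotent, split or in a torus. -/
theorem elt_cases (h2 : ringChar F = 2) {g : SL} (hg : Ell (g : M₂)) (c : SL) :
    (∃ (a : Fˣ) (x : F), IsConj (upp a x) c) ∨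
      ∃ k ∈ Subgroup.centralizer ({g} : Set SL), IsConj k c ∧ NS (k : M₂) := by
  by_cases hc : Ell (c : M₂)
  · exact Or.inr (exists_conj_mem h2 hg hc)
  · left
    unfold Ell at hc
    push Not at hc
    obtain ⟨a, v, hv, h⟩ := hc
    have h1 := (conj_col (withCol v hv 0) c a).mpr (by rw [col_withCol]; exact h)
    have hB : (withCol v hv 0)⁻¹ * c * withCol v hv 0 ∈ Bor F := mem_Bor.mpr h1.1
    have hx := exists_upp hB
    exact ⟨Units.mk0 _ (ne_zero_of_mem_Bor hB), _, isConj_iff.2 ⟨withCol v hv 0, by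
      rw [← hx]; group⟩⟩

/-- The induced character of the trivial character of the torus. -/
theorem I_one_eq (h2 : ringChar F = 2) {g : SL} (hg : Ell (g : M₂)) (c : SL) :
    I (1 : Subgroup.centralizer ({g} : Set SL) →* ℂˣ) c =
      R (1 : MulChar F ℂ) c * (R (1 : MulChar F ℂ) c - 3) + 2 := by
  have hcl : ∀ {x y : SL}, IsConj x y → ∀ f : SL → ℂ, IsClassFunction SL f → f y = f x :=
    fun h f hf => Cfsg.Agent.Characters.Core.classFunction_apply_eq hf h.symm
  rcases elt_cases h2 hg c with ⟨a, x, h⟩ | ⟨k, hk, h, hNS⟩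
  · rw [hcl h _ (isClassFunction_I _), hcl h _ (isClassFunction_R _)]
    by_cases ha : a⁻¹ = a
    · have h1 : (1 : MulChar F ℂ) (a : F) = 1 := MulChar.one_apply_coe a
      by_cases hx : x = 0
      · subst hx
        rw [I_scalar hg _ (not_NS_upp ha), R_upp_zero _ ha, h1, MonoidHom.one_apply, Units.val_one]
        ring
      · rw [I_not_ell hg _ (not_ell_upp a x) (NS_upp a hx), R_upp_ne _ ha hx, h1]
        norm_num
    · have h1 : (1 : MulChar F ℂ) (a : F) = 1 := MulChar.one_apply_coe a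
      have h3 : (1 : MulChar F ℂ) ((a⁻¹ : Fˣ) : F) = 1 := MulChar.one_apply_coe a⁻¹
      rw [I_not_ell hg _ (not_ell_upp a x) (NS_upp_split ha x), R_upp_split _ ha, h1, h3]
      norm_num
  · rw [hcl h _ (isClassFunction_I _), hcl h _ (isClassFunction_R _), I_ell hg _ hk hNS,
      R_ell _ (ell_of_mem_cent hg hk hNS)]
    simp
    norm_num

theorem unit_eq_one (h2 : ringChar F = 2) {a : Fˣ} (ha : a⁻¹ = a) : a = 1 := by
  rcases inv_eq_self_cases ha with h | h
  · exact h
  · rw [h]
    apply Units.ext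
    rw [Units.val_neg, Units.val_one]
    linear_combination (-1 : F) * two_eq_zero h2

/-- The norm of the restriction of a cuspidal character to the torus. -/
theorem torus_norm (h2 : ringChar F = 2) {g : SL} (hg : Ell (g : M₂)) {χ : SL → ℂ}
    (hχ : IsIrrCharacter SL χ) (h0 : ∀ β : MulChar F ℂ, classInner χ (R β) = 0)
    [Fintype (Subgroup.centralizer ({g} : Set SL))] :
    ((Fintype.card F : ℂ) + 1)⁻¹ *
      ∑ c : Subgroup.centralizer ({g} : Set SL), χ c * conj (χ c) =
      (χ 1 * conj (χ 1)) * ((Fintype.card F : ℂ) - 3) / ((Fintype.card F : ℂ) - 1) ^ 2 + 2 := by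
  have hcl := Cfsg.Agent.Characters.Core.isIrr_isClassFunction hχ
  set q : ℂ := (Fintype.card F : ℂ) with hq
  let f : SL → ℂ := fun x => χ x * conj (χ x)
  have hf : IsClassFunction SL f := fun x y => by
    simp only [f]
    rw [hcl x y]
  have hconjf : ∀ x, conj (f x) = f x := fun x => by
    simp only [f, map_mul, Complex.conj_conj]
    ring
  have h1 := classInner_I hg (1 : Subgroup.centralizer ({g} : Set SL) →* ℂˣ) f hf
  simp only [MonoidHom.one_apply, Units.val_one, one_mul, hconjf] at h1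
  change _ = (q + 1)⁻¹ * ∑ c : Subgroup.centralizer ({g} : Set SL), χ c * conj (χ c) at h1
  rw [← h1]
  -- the values on the Borel subgroup
  have hjac : ∀ a, jac χ a = 0 := jac_eq_zero hcl h0
  have hsplit : ∀ {a : Fˣ}, a⁻¹ ≠ a → ∀ x, f (upp a x) = 0 := by
    intro a ha x
    simp only [f]
    rw [apply_split hcl ha, hjac, zero_mul]
  have hu : ∀ x : F, x ≠ 0 → χ (upp 1 x) = χ (upp 1 1) := by
    intro x hx
    apply Cfsg.Agent.Characters.Core.classFunction_apply_eq hcl
    rw [isConj_upp_iff hx one_ne_zero]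
    exact FiniteField.isSquare_of_char_two h2 _
  have hsum : χ 1 + (q - 1) * χ (upp 1 1) = 0 := by
    have h3 := sum_upp χ 1
    rw [hjac, mul_zero, ← Finset.add_sum_erase _ _ (Finset.mem_univ (0 : F)), upp_one_zero,
      Finset.sum_congr rfl (g := fun _ => χ (upp 1 1)) (fun x hx => hu x (Finset.mem_erase.mp hx).1),
      Finset.sum_const, Finset.card_erase_of_mem (Finset.mem_univ _), Finset.card_univ, nsmul_eq_mul,
      cast_card_sub_one] at h3
    exact h3
  have hq1 : q - 1 ≠ 0 := card_sub_one_ne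
  have hq0 : q ≠ 0 := card_ne
  have hu1 : χ (upp 1 1) = - χ 1 / (q - 1) := by
    rw [eq_div_iff hq1]
    linear_combination hsum
  let h : SL → ℂ := fun x => conj (R (1 : MulChar F ℂ) x - 3) * f x
  have hh : IsClassFunction SL h := fun x y => by
    simp only [h]
    rw [isClassFunction_R _ x y, hf x y]
  have hI : classInner (I (1 : Subgroup.centralizer ({g} : Set SL) →* ℂˣ)) f =
      classInner (R (1 : MulChar F ℂ)) h + 2 * classInner χ χ := by
    rw [Cfsg.Agent.Characters.Core.classInner_def, Cfsg.Agent.Characters.Core.classInner_def,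
      Cfsg.Agent.Characters.Core.classInner_def, mul_left_comm, ← mul_add]
    congr 1
    rw [Finset.mul_sum, ← Finset.sum_add_distrib]
    refine Finset.sum_congr rfl fun x _ => ?_
    rw [I_one_eq h2 hg, hconjf]
    simp only [h, map_mul, Complex.conj_conj, hconjf]
    simp only [f]
    ring
  rw [hI, Cfsg.Agent.Characters.Core.classInner_irr_self hχ, classInner_R _ _ hh]
  have hconj : ∀ x : SL, conj (h x) = (R (1 : MulChar F ℂ) x - 3) * f x := fun x => by
    simp only [h, map_mul, Complex.conj_conj, hconjf]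
  simp only [MulChar.one_apply_coe, one_mul, hconj]
  rw [← Finset.add_sum_erase _ _ (Finset.mem_univ (1 : Fˣ)), Finset.sum_eq_zero (s := Finset.univ.erase 1)
    (fun a ha => Finset.sum_eq_zero fun x _ => by
      rw [hsplit (fun h => (Finset.mem_erase.mp ha).1 (unit_eq_one h2 h)), mul_zero]), add_zero,
    ← Finset.add_sum_erase _ _ (Finset.mem_univ (0 : F)),
    Finset.sum_congr rfl (g := fun _ => (1 - 3) * (χ (upp 1 1) * conj (χ (upp 1 1)))) (fun x hx => by
      rw [R_upp_ne _ inv_one (Finset.mem_erase.mp hx).1]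
      simp only [f]
      rw [hu x (Finset.mem_erase.mp hx).1, Units.val_one, MulChar.map_one]),
    Finset.sum_const, Finset.card_erase_of_mem (Finset.mem_univ _), Finset.card_univ, nsmul_eq_mul,
    cast_card_sub_one, R_upp_zero _ inv_one, Units.val_one, MulChar.map_one, hu1]
  simp only [f]
  rw [upp_one_zero]
  have hqq : conj q = q := by rw [hq]; simp
  simp only [map_div₀, map_neg, map_sub, map_one, hqq]
  rw [← hq]
  field_simp
  ring

/-! ### Arithmetic -/

theorem le_one_of_sums {ι : Type*} [Fintype ι] (m : ι → ℕ) (hι : Fintype.card ι = 33)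
    (h : 961 * ∑ i, m i ^ 2 = 29 * (∑ i, m i) ^ 2 + 1922) (i : ι) : m i ≤ 1 := by
  have h31 : 31 ∣ ∑ i, m i := by
    have h1 : 31 ∣ 29 * (∑ i, m i) ^ 2 := by
      have h2 : 31 ∣ 29 * (∑ i, m i) ^ 2 + 1922 := by
        rw [← h]
        exact Dvd.dvd.mul_right (by norm_num) _
      exact (Nat.dvd_add_left (by norm_num)).1 h2
    have hp : Nat.Prime 31 := by norm_num
    rcases hp.dvd_mul.1 h1 with h2 | h2
    · norm_num at h2
    · exact hp.dvd_of_dvd_pow h2
  obtain ⟨e, he⟩ := h31
  have hM : ∑ i, m i ^ 2 = 29 * e ^ 2 + 2 := by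
    rw [he] at h
    have : 961 * ∑ i, m i ^ 2 = 961 * (29 * e ^ 2 + 2) := by
      rw [h]
      ring
    exact Nat.eq_of_mul_eq_mul_left (by norm_num) this
  have hsq : ∑ i, ((m i : ℤ) - e) ^ 2 = 2 := by
    have h1 : ∑ i, ((m i : ℤ) - e) ^ 2 = ∑ i, (m i : ℤ) ^ 2 - 2 * e * ∑ i, (m i : ℤ) +
        (Fintype.card ι : ℤ) * e ^ 2 := by
      rw [Finset.mul_sum, ← Finset.sum_sub_distrib, ← nsmul_eq_mul, ← Finset.card_univ,
        ← Finset.sum_const, ← Finset.sum_add_distrib]
      exact Finset.sum_congr rfl fun i _ => by ring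
    have h2 : ∑ i, (m i : ℤ) ^ 2 = 29 * e ^ 2 + 2 := by exact_mod_cast hM
    have h3 : ∑ i, (m i : ℤ) = 31 * e := by exact_mod_cast he
    rw [h1, h2, h3, hι]
    push_cast
    ring
  have hlin : ∑ i, ((m i : ℤ) - e) = - 2 * e := by
    rw [Finset.sum_sub_distrib, Finset.sum_const, Finset.card_univ, hι]
    have h3 : ∑ i, (m i : ℤ) = 31 * e := by exact_mod_cast he
    rw [h3, nsmul_eq_mul]
    push_cast
    ring
  have he1 : e ≤ 1 := by
    have h1 : 0 ≤ ∑ i, (((m i : ℤ) - e) ^ 2 + ((m i : ℤ) - e)) := by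
      refine Finset.sum_nonneg fun i _ => ?_
      rcases le_or_gt 0 ((m i : ℤ) - e) with h | h
      · (clear * - h; positivity)
      · nlinarith only []
    rw [Finset.sum_add_distrib, hsq, hlin] at h1
    omega
  have hle : ∀ j, m j ≤ m j ^ 2 := fun j => by
    rcases Nat.eq_zero_or_pos (m j) with h | h
    · simp [h]
    · nlinarith only []
  rcases Nat.le_one_iff_eq_zero_or_eq_one.1 he1 with h0 | h1
  · subst h0
    have h2 := Finset.single_le_sum (f := m) (fun _ _ => Nat.zero_le _) (Finset.mem_univ i)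
    rw [he] at h2
    omega
  · subst h1
    by_contra hcon
    have hlt : ∑ i, m i < ∑ i, m i ^ 2 := by
      refine Finset.sum_lt_sum (fun j _ => hle j) ⟨i, Finset.mem_univ _, ?_⟩
      nlinarith only [hcon]
    rw [he, hM] at hlt
    omega

/-! ### Abelian groups -/

section abelian

variable {C : Type*} [Group C] [Finite C] [Fintype (IrrCharacter C)]

end abelian

theorem ringChar_eq_two (hF : Fintype.card F = 32) : ringChar F = 2 := by
  obtain ⟨n, hp, hn⟩ := FiniteField.card F (ringChar F)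
  rw [hF] at hn
  have h1 : ringChar F ∣ 2 ^ 5 := by
    have : (2 : ℕ) ^ 5 = 32 := by norm_num
    rw [this, hn]
    exact dvd_pow_self _ n.ne_zero
  exact (Nat.prime_dvd_prime_iff_eq hp Nat.prime_two).1 (hp.dvd_of_dvd_pow h1)

end Cfsg.Agent.H597.L232
end

-- part: H942/L32A
section
/-!
# Eigenvalue multiplicities of elements of order 11 in the characters of `PSL₂(32)`

All eigenvalues version of `H597.L232.T1`.
-/

set_option autoImplicit false
set_option linter.unusedSectionVars false

namespace Cfsg.Agent.H942.L32A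

open Matrix Cfsg Cfsg.Agent.H984.EigCount Cfsg.Agent.H984.SLTwo Cfsg.Agent.H597.L232
open scoped ComplexConjugate

section abelian

variable {C : Type*} [Group C] [Finite C] [Fintype (IrrCharacter C)]

open Classical in
theorem sum_linear_w (hC : ∀ a b : C, a * b = b * a) (ψ : IrrCharacter C) (x : C) {ω : ℂ} (hω : ω ^ orderOf x = 1) :
    ∑ i ∈ Finset.range (orderOf x), (ψ : C → ℂ) (x ^ i) * ω ^ i =
      if (ψ : C → ℂ) x * ω = 1 then (orderOf x : ℂ) else 0 := by
  obtain ⟨f, hf⟩ := Characters.Linear.exists_hom_of_isIrrCharacter ψ.2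
    (S0898.irr_one_of_comm hC ψ.2)
  have h0 : ∀ i, (ψ : C → ℂ) (x ^ i) = ((ψ : C → ℂ) x) ^ i := by
    intro i
    rw [hf]
    simp
  have h1 : ∀ i, (ψ : C → ℂ) (x ^ i) * ω ^ i = ((ψ : C → ℂ) x * ω) ^ i := by
    intro i
    rw [h0, mul_pow]
  rw [Finset.sum_congr rfl fun i _ => h1 i]
  split_ifs with h
  · simp [h]
  · have h2 := geom_sum_mul ((ψ : C → ℂ) x * ω) (orderOf x)
    rw [mul_pow, hω, ← h0, pow_orderOf_eq_one, S0898.irr_one_of_comm hC ψ.2, mul_one, sub_self] at h2
    exact (mul_eq_zero.1 h2).resolve_right (sub_ne_zero.2 h)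

open Classical in
theorem card_w (hC : ∀ a b : C, a * b = b * a) (x : C) {ω : ℂ} (hω : ω ^ orderOf x = 1) :
    orderOf x * (Finset.univ.filter fun ψ : IrrCharacter C => (ψ : C → ℂ) x * ω = 1).card =
      Nat.card C := by
  have h1 : ∑ ψ : IrrCharacter C, ∑ i ∈ Finset.range (orderOf x), (ψ : C → ℂ) (x ^ i) * ω ^ i =
      (orderOf x : ℂ) * ((Finset.univ.filter fun ψ : IrrCharacter C => (ψ : C → ℂ) x * ω = 1).card : ℂ) := by
    rw [Finset.sum_congr rfl fun ψ _ => sum_linear_w hC ψ x hω, ← Finset.sum_filter, Finset.sum_const,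
      nsmul_eq_mul, mul_comm]
  have h2 : ∀ i ∈ Finset.range (orderOf x), ∑ ψ : IrrCharacter C, (ψ : C → ℂ) (x ^ i) * ω ^ i =
      if i = 0 then (Nat.card C : ℂ) else 0 := by
    intro i hi
    have h3 := Characters.Counting.sum_irr_one_mul (x ^ i)
    rw [Finset.sum_congr rfl fun ψ _ => by rw [S0898.irr_one_of_comm hC ψ.2, one_mul]] at h3
    rw [← Finset.sum_mul, h3]
    have h4 : x ^ i = 1 ↔ i = 0 := by
      constructor
      · intro h
        by_contra h0
        exact pow_ne_one_of_lt_orderOf h0 (Finset.mem_range.1 hi) h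
      · rintro rfl
        simp
    by_cases h0 : i = 0
    · subst h0
      simp
    · rw [if_neg h0, if_neg (fun h => h0 (h4.1 h)), zero_mul]
  rw [Finset.sum_comm, Finset.sum_congr rfl h2, Finset.sum_ite_eq' (Finset.range (orderOf x)) 0,
    if_pos (Finset.mem_range.2 (orderOf_pos x))] at h1
  exact_mod_cast h1.symm

end abelian

variable {F : Type*} [Field F] [DecidableEq F] [Fintype F]

local notation "SL" => Matrix.SpecialLinearGroup (Fin 2) F
local notation "M₂" => Matrix (Fin 2) (Fin 2) F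

/-- The statement for `SL₂(32)`. -/
theorem slw (hF : Fintype.card F = 32) {χ : SL → ℂ} (hχ : IsIrrCharacter SL χ) {g : SL}
    (hg : orderOf g = 11) {ω : ℂ} (hω : ω ^ 11 = 1) : (∑ i ∈ Finset.range 11, χ (g ^ i) * ω ^ i).re ≤ 33 := by
  classical
  -- the sum of the powers
  obtain ⟨s, hs, hs'⟩ : ∃ s : ℝ, ∑ i ∈ Finset.range 11, ω ^ i = (s : ℂ) ∧ (s = 0 ∨ s = 11) := by
    by_cases h1 : ω = 1
    · refine ⟨11, ?_, Or.inr rfl⟩
      rw [h1]
      simp
    · refine ⟨0, ?_, Or.inl rfl⟩
      have h2 := geom_sum_mul ω 11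
      rw [hω, sub_self] at h2
      rw [(mul_eq_zero.1 h2).resolve_right (sub_ne_zero.2 h1)]
      simp
  have h2 := ringChar_eq_two hF
  have hEll : Ell (g : M₂) := by
    by_contra h
    have h1 := orderOf_dvd_of_not_ell h
    rw [hg, hF] at h1
    norm_num at h1
  have hgm : ∀ i, g ^ i ∈ Subgroup.centralizer ({g} : Set SL) := fun i =>
    Subgroup.mem_centralizer_singleton_iff.2 (Commute.pow_self g i)
  have hNS : ∀ i ∈ Finset.range 11, i ≠ 0 → NS ((g ^ i : SL) : M₂) := by
    intro i hi h0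
    by_contra h
    have h1 : g ^ i = 1 := by
      rcases scalar_cases h with h | h
      · rw [h, upp_one_zero]
      · have h3 : (-1 : Fˣ) = 1 := unit_eq_one h2 (by simp)
        rw [h, h3, upp_one_zero]
    exact pow_ne_one_of_lt_orderOf h0 (by rw [hg]; exact Finset.mem_range.1 hi) h1
  have hEll' : ∀ i ∈ Finset.range 11, i ≠ 0 → Ell ((g ^ i : SL) : M₂) := fun i hi h0 =>
    ell_of_mem_cent hEll (hgm i) (hNS i hi h0)
  have hR1 : ∀ α : MulChar F ℂ, R α (1 : SL) = 33 := by
    intro α
    rw [← upp_one_zero, R_upp_zero α inv_one, Units.val_one, MulChar.map_one, hF]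
    norm_num
  -- sums of functions constant on the elements different from one
  have hconst : ∀ (f : SL → ℂ) (c : ℂ), (∀ i ∈ Finset.range 11, i ≠ 0 → f (g ^ i) = c) →
      ∑ i ∈ Finset.range 11, f (g ^ i) * ω ^ i = f 1 + (s - 1) * c := by
    intro f c hf
    have hs2 : ∑ i ∈ (Finset.range 11).erase 0, ω ^ i = s - 1 := by
      rw [← hs, ← Finset.add_sum_erase _ _ (Finset.mem_range.2 (by norm_num : 0 < 11)), pow_zero]
      ring
    rw [← Finset.add_sum_erase _ _ (Finset.mem_range.2 (by norm_num : 0 < 11)), pow_zero, pow_zero, mul_one,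
      Finset.sum_congr rfl (g := fun i => c * ω ^ i) (fun i hi => by
        rw [hf i (Finset.mem_of_mem_erase hi) (Finset.ne_of_mem_erase hi)]), ← Finset.mul_sum, hs2, mul_comm c]
  rcases irr_cases hχ with ⟨α, -, rfl⟩ | rfl | rfl | ⟨α, hα, hα1, -⟩ | h0
  · rw [hconst _ 0 (fun i hi h => R_ell α (hEll' i hi h)), hR1]
    norm_num
  · have h3 := hconst (1 : SL → ℂ) 1 (fun i hi h => rfl)
    rw [h3, Pi.one_apply]
    rcases hs' with rfl | rfl <;> norm_num
  · have h3 := hconst (fun x => R (1 : MulChar F ℂ) x - 1) (-1) (fun i hi h => by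
      rw [R_ell _ (hEll' i hi h)]
      norm_num)
    rw [h3, hR1]
    rcases hs' with rfl | rfl <;> norm_num
  · exfalso
    apply hα1
    have h3 : α ^ 2 = 1 := by
      rw [pow_two]
      nth_rewrite 1 [← hα]
      exact inv_mul_cancel α
    have h4 : α ^ 31 = 1 := by
      have := MulChar.pow_card_eq_one α
      rwa [Fintype.card_units, hF] at this
    have h5 : α ^ 31 = α := by
      have : α ^ 31 = (α ^ 2) ^ 15 * α := by
        rw [← pow_mul, ← pow_succ]
      rw [this, h3, one_pow, one_mul]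
    rw [← h5, h4]
  · -- cuspidal characters
    set C := Subgroup.centralizer ({g} : Set SL) with hCdef
    have hcyc : IsCyclic C := isCyclic_cent g hEll
    have hcomm : ∀ a b : C, a * b = b * a := fun a b =>
      (IsCyclic.isMulCommutative (α := C)).is_comm.comm a b
    have hcard : Nat.card C = 33 := by
      rw [hCdef, card_cent_ell g hEll, hF]
    have := Fintype.ofFinite C
    have := Characters.Core.finite_irr (G := C)
    have := Fintype.ofFinite (IrrCharacter C)
    have hres : IsCharacter C (fun c : C => χ c) :=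
      Characters.Core.isCharacter_comp C.subtype (Characters.Core.isIrr_isCharacter hχ)
    obtain ⟨m, hm⟩ := Characters.Core.exists_nat_comb hres
    have hone : ∀ ψ : IrrCharacter C, (ψ : C → ℂ) 1 = 1 := fun ψ => S0898.irr_one_of_comm hcomm ψ.2
    have hι : Fintype.card (IrrCharacter C) = 33 := by
      have h3 := Characters.Counting.sum_irr_one_mul (1 : C)
      simp only [hone, mul_one, if_true, Finset.sum_const, Finset.card_univ, nsmul_eq_mul] at h3
      rw [hcard] at h3
      exact_mod_cast h3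
    have hd : χ 1 = ((∑ ψ, m ψ : ℕ) : ℂ) := by
      have h3 := congrFun hm 1
      simp only [Finset.sum_apply, nsmul_eq_mul, Pi.mul_apply, Pi.natCast_apply, hone,
        mul_one] at h3
      push_cast
      exact h3
    have hnorm : classInner (fun c : C => χ c) (fun c : C => χ c) = ((∑ ψ, m ψ ^ 2 : ℕ) : ℂ) := by
      have h3 := Characters.Core.classInner_sum_smul_sum_smul (G := C) (fun ψ => (m ψ : ℂ))
        (fun ψ => (m ψ : ℂ))
      have h4 : ∑ ψ : IrrCharacter C, (m ψ : ℂ) • (ψ : C → ℂ) = fun c : C => χ c := by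
        rw [hm]
        exact Finset.sum_congr rfl fun ψ _ => Nat.cast_smul_eq_nsmul ℂ _ _
      rw [h4] at h3
      rw [h3]
      push_cast
      refine Finset.sum_congr rfl fun ψ _ => ?_
      rw [Complex.conj_natCast, pow_two]
    have hT := torus_norm h2 hEll hχ h0
    have hT' : ((∑ ψ, m ψ ^ 2 : ℕ) : ℂ) = (((∑ ψ, m ψ : ℕ) : ℂ) * ((∑ ψ, m ψ : ℕ) : ℂ)) * 29 / 961 + 2 := by
      rw [← hnorm, Characters.Core.classInner_def, hcard]
      rw [hF, hd, Complex.conj_natCast] at hT
      have e1 : ((32 : ℕ) : ℂ) + 1 = ((33 : ℕ) : ℂ) := by norm_num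
      have e2 : ((32 : ℕ) : ℂ) - 3 = 29 := by norm_num
      have e3 : (((32 : ℕ) : ℂ) - 1) ^ 2 = 961 := by norm_num
      rw [e1, e2, e3] at hT
      exact hT
    have hle := le_one_of_sums m hι (by
      have h3 : (961 : ℂ) * ((∑ ψ, m ψ ^ 2 : ℕ) : ℂ) = 29 * ((∑ ψ, m ψ : ℕ) : ℂ) ^ 2 + 1922 := by
        rw [hT']
        ring
      exact_mod_cast h3)
    have hx : orderOf (⟨g, by simpa using hgm 1⟩ : C) = 11 := by rw [Subgroup.orderOf_mk, hg]
    set x : C := ⟨g, by simpa using hgm 1⟩ with hxdef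
    have hωx : ω ^ orderOf x = 1 := by rw [hx]; exact hω
    have hsum : ∑ i ∈ Finset.range 11, χ (g ^ i) * ω ^ i =
        ((∑ ψ ∈ Finset.univ.filter (fun ψ : IrrCharacter C => (ψ : C → ℂ) x * ω = 1), m ψ * 11 : ℕ) : ℂ) := by
      have h3 : ∀ i, χ (g ^ i) = ∑ ψ : IrrCharacter C, (m ψ : ℂ) * (ψ : C → ℂ) (x ^ i) := by
        intro i
        have h4 := congrFun hm (x ^ i)
        simp only [Finset.sum_apply, nsmul_eq_mul, Pi.mul_apply, Pi.natCast_apply] at h4
        exact h4
      have h3' : ∀ i, χ (g ^ i) * ω ^ i = ∑ ψ : IrrCharacter C, (m ψ : ℂ) * ((ψ : C → ℂ) (x ^ i) * ω ^ i) := by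
        intro i
        rw [h3, Finset.sum_mul]
        exact Finset.sum_congr rfl fun ψ _ => by ring
      rw [Finset.sum_congr rfl fun i _ => h3' i, Finset.sum_comm]
      have h5 : ∀ ψ : IrrCharacter C, ∑ i ∈ Finset.range 11, (m ψ : ℂ) * ((ψ : C → ℂ) (x ^ i) * ω ^ i) =
          if (ψ : C → ℂ) x * ω = 1 then (m ψ : ℂ) * 11 else 0 := by
        intro ψ
        rw [← Finset.mul_sum]
        have h6 := sum_linear_w hcomm ψ x hωx
        rw [hx] at h6
        rw [h6, mul_ite, mul_zero]
        norm_num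
      rw [Finset.sum_congr rfl fun ψ _ => h5 ψ, ← Finset.sum_filter]
      push_cast
      rfl
    have hk := card_w hcomm x hωx
    rw [hx, hcard] at hk
    have h3 : (Finset.univ.filter (fun ψ : IrrCharacter C => (ψ : C → ℂ) x * ω = 1)).card = 3 := by omega
    have h4 : ∑ ψ ∈ Finset.univ.filter (fun ψ : IrrCharacter C => (ψ : C → ℂ) x * ω = 1), m ψ * 11 ≤ 33 := by
      have := Finset.sum_le_card_nsmul
        (Finset.univ.filter (fun ψ : IrrCharacter C => (ψ : C → ℂ) x * ω = 1)) (fun ψ => m ψ * 11) 11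
        (fun ψ _ => by have := hle ψ; omega)
      rw [h3] at this
      exact this
    rw [hsum, Complex.natCast_re]
    exact_mod_cast h4

theorem T1w {F : Type*} [Field F] [Fintype F] (hF : Fintype.card F = 32)
    {χ : Matrix.ProjectiveSpecialLinearGroup (Fin 2) F → ℂ}
    (hχ : Cfsg.IsIrrCharacter (Matrix.ProjectiveSpecialLinearGroup (Fin 2) F) χ)
    {x : Matrix.ProjectiveSpecialLinearGroup (Fin 2) F} (hx : orderOf x = 11) {ω : ℂ} (hω : ω ^ 11 = 1) :
    (∑ i ∈ Finset.range 11, χ (x ^ i) * ω ^ i).re ≤ 33 := by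
  classical
  have h2 := ringChar_eq_two hF
  let π : Matrix.SpecialLinearGroup (Fin 2) F →* Matrix.ProjectiveSpecialLinearGroup (Fin 2) F :=
    QuotientGroup.mk' _
  have hπ : Function.Surjective π := QuotientGroup.mk'_surjective _
  have hinj : Function.Injective π := by
    rw [← MonoidHom.ker_eq_bot_iff]
    rw [QuotientGroup.ker_mk']
    rw [eq_bot_iff]
    intro z hz
    rw [Subgroup.mem_bot]
    rcases scalar_cases (not_NS_of_mem_center hz) with h | h
    · rw [h, upp_one_zero]
    · have h3 : (-1 : Fˣ) = 1 := unit_eq_one h2 (by simp)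
      rw [h, h3, upp_one_zero]
  obtain ⟨g, rfl⟩ := hπ x
  have hg : orderOf g = 11 := by rw [← hx, orderOf_injective π hinj]
  have h3 := slw hF (Characters.Core.isIrr_comp π hπ hχ) hg hω
  simpa only [map_pow, Function.comp] using h3

end Cfsg.Agent.H942.L32A
end

-- part: H942/L32
section
/-!
# `PSL₂(32)` is not a subgroup of `E₈(3)`
-/

set_option autoImplicit false
set_option linter.unusedSectionVars false

namespace Cfsg.Agent.H942.L32

open Cfsg Cfsg.Lie Cfsg.Agent.H657 IsLocalRing Module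
open Cfsg.Agent.H942.E8Alc Cfsg.Agent.H942.E8Val Cfsg.Agent.H942.Common Cfsg.Agent.H942.BcRoots

attribute [local instance] Above.isAlgClosed

variable {F : Type*} [Field F] [Fintype F]

/-- the group -/
abbrev PSL (F : Type*) [Field F] := Matrix.ProjectiveSpecialLinearGroup (Fin 2) F

/-- upper unitriangular matrices -/
def up (t : F) : Matrix.SpecialLinearGroup (Fin 2) F := ⟨!![1, t; 0, 1], by simp [Matrix.det_fin_two]⟩

/-- the homomorphism from the additive group -/
def psi : Multiplicative F →* PSL F where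
  toFun t := QuotientGroup.mk (up (Multiplicative.toAdd t))
  map_one' := by
    have : up (0 : F) = 1 := by
      apply Subtype.ext
      show !![1, (0 : F); 0, 1] = 1
      rw [Matrix.one_fin_two]
    show (QuotientGroup.mk (up (0 : F)) : PSL F) = 1
    rw [this]
    rfl
  map_mul' s t := by
    have : up (Multiplicative.toAdd s + Multiplicative.toAdd t) = up (Multiplicative.toAdd s) * up (Multiplicative.toAdd t) := by
      apply Subtype.ext
      show !![1, Multiplicative.toAdd s + Multiplicative.toAdd t; 0, 1] =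
        !![1, Multiplicative.toAdd s; 0, 1] * !![1, Multiplicative.toAdd t; 0, 1]
      simp [add_comm]
    show (QuotientGroup.mk (up (Multiplicative.toAdd s + Multiplicative.toAdd t)) : PSL F) = _
    rw [this]
    rfl

theorem psi_ne {t : Multiplicative F} (ht : t ≠ 1) : psi t ≠ 1 := by
  intro h
  have h1 : up (Multiplicative.toAdd t) ∈ Subgroup.center (Matrix.SpecialLinearGroup (Fin 2) F) :=
    (QuotientGroup.eq_one_iff _).1 h
  have h2 := Subgroup.mem_center_iff.1 h1 (⟨!![1, 0; 1, 1], by simp [Matrix.det_fin_two]⟩)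
  have h3 := congrFun (congrFun (congrArg Subtype.val h2) 0) 0
  change (!![1, (0 : F); 1, 1] * !![1, Multiplicative.toAdd t; 0, 1]) 0 0 =
    (!![1, Multiplicative.toAdd t; 0, 1] * !![1, (0 : F); 1, 1]) 0 0 at h3
  simp only [_root_.Fin.isValue, _root_.Matrix.cons_mul, _root_.Nat.succ_eq_add_one, _root_.Nat.reduceAdd, _root_.Matrix.vecMul_cons, _root_.Matrix.head_cons, _root_.one_smul, _root_.Matrix.tail_cons, _root_.zero_smul, _root_.Matrix.empty_vecMul, _root_.add_zero, _root_.Matrix.add_cons, _root_.Matrix.empty_add_empty, _root_.Matrix.empty_mul, _root_.Equiv.symm_apply_apply, _root_.Matrix.of_apply, _root_.Matrix.cons_val', _root_.Matrix.cons_val_zero, _root_.Matrix.cons_val_fin_one, _root_.Matrix.smul_cons, _root_.smul_eq_mul, _root_.mul_one, _root_.Matrix.smul_empty, _root_.zero_add, _root_.left_eq_add, _root_.toAdd_eq_zero] at h3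
  exact ht h3

/-- the involutions are conjugate -/
theorem psi_conj (h2 : (2 : F) = 0) {t : Multiplicative F} (ht : t ≠ 1) :
    ∃ g : PSL F, psi t = g * psi (Multiplicative.ofAdd 1) * g⁻¹ := by
  classical
  have h0 : Multiplicative.toAdd t ≠ 0 := ht
  have hch : CharP F 2 := CharTwo.of_one_ne_zero_of_two_eq_zero one_ne_zero h2
  have hbij : Function.Bijective (fun x : F => x ^ 2) := by
    have hinj : Function.Injective (fun x : F => x ^ 2) := by
      intro a b hab
      have h3 : (a - b) ^ 2 = 0 := by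
        have h4 : a ^ 2 = b ^ 2 := hab
        linear_combination h4 + (b ^ 2 - a * b) * h2
      exact sub_eq_zero.1 (pow_eq_zero_iff (two_ne_zero) |>.1 h3)
    exact Finite.injective_iff_bijective.1 hinj
  obtain ⟨a, ha⟩ := hbij.2 (Multiplicative.toAdd t)
  have ha' : a ^ 2 = Multiplicative.toAdd t := ha
  have ha0 : a ≠ 0 := by
    rintro rfl
    apply h0
    rw [← ha']
    ring
  let g : Matrix.SpecialLinearGroup (Fin 2) F := ⟨!![a, 0; 0, a⁻¹], by simp [Matrix.det_fin_two, ha0]⟩
  have hg : up (Multiplicative.toAdd t) * g = g * up 1 := by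
    apply Subtype.ext
    show !![1, Multiplicative.toAdd t; 0, 1] * !![a, 0; 0, a⁻¹] = !![a, 0; 0, a⁻¹] * !![1, (1 : F); 0, 1]
    rw [← ha']
    simp
    field_simp
  refine ⟨QuotientGroup.mk g, ?_⟩
  rw [eq_mul_inv_iff_mul_eq]
  show (QuotientGroup.mk (up (Multiplicative.toAdd t) * g) : PSL F) = QuotientGroup.mk (g * up 1)
  rw [hg]

theorem sum_of_const {P : Type*} [Group P] [Fintype P] (f : P → ℂ) (c d : ℂ) (h1 : f 1 = d) (h : ∀ g, g ≠ 1 → f g = c) :
    ∑ g, f g = d + ((Fintype.card P : ℂ) - 1) * c := by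
  classical
  rw [← Finset.add_sum_erase _ _ (Finset.mem_univ (1 : P)), h1, Finset.sum_congr rfl (g := fun _ => c) (fun g hg =>
    h g (Finset.ne_of_mem_erase hg)), Finset.sum_const, Finset.card_erase_of_mem (Finset.mem_univ _), Finset.card_univ,
    nsmul_eq_mul, Nat.cast_sub Fintype.card_pos, Nat.cast_one]

theorem two_zero (hF : Fintype.card F = 32) : (2 : F) = 0 := by
  have h := Nat.cast_card_eq_zero F
  rw [hF] at h
  have h5 : (2 : F) ^ 5 = 0 := by
    rw [← h]
    push_cast
    norm_num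
  exact pow_eq_zero_iff (by norm_num) |>.1 h5

section

variable {V : ValuationSubring ℂ} [CharP (ResidueField V) 3]

/-- fixed points of the Sylow 2-subgroup and of a subgroup of index 2 -/
theorem fix_dims {M : Ideal AlgInt} (hM : IsPModular 3 M) (hV : Above M V) (hF : Fintype.card F = 32)
    {W : Type*} [AddCommGroup W] [Module (ResidueField V) W] [FiniteDimensional (ResidueField V) W]
    (τ : Representation (ResidueField V) (PSL F) W) :
    ∃ f f' : ℕ, f ≤ f' ∧ (finrank (ResidueField V) W : ℂ) + 31 * bc 3 τ (psi (Multiplicative.ofAdd 1)) = 32 * (f : ℂ) ∧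
      (finrank (ResidueField V) W : ℂ) + 15 * bc 3 τ (psi (Multiplicative.ofAdd 1)) = 16 * (f' : ℂ) ∧
      (f = f' → f = finrank (ResidueField V) W ∧ τ (psi (Multiplicative.ofAdd 1)) = 1) := by
  classical
  have h2 := two_zero hF
  have hβ : ∀ t : Multiplicative F, t ≠ 1 → bc 3 τ (psi t) = bc 3 τ (psi (Multiplicative.ofAdd 1)) := by
    intro t ht
    obtain ⟨g, hg⟩ := psi_conj h2 ht
    rw [hg, bc_conj]
  have hcard : Nat.card (Multiplicative F) = 2 ^ 5 := by
    rw [Nat.card_eq_fintype_card, Fintype.card_multiplicative, hF]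
    norm_num
  have : Fact (Nat.Prime 2) := ⟨Nat.prime_two⟩
  obtain ⟨K, hK⟩ := Sylow.exists_subgroup_card_pow_prime (G := Multiplicative F) 2 (n := 4) (by
    rw [hcard]
    norm_num)
  have : Fintype K := Fintype.ofFinite K
  have hK' : Fintype.card K = 16 := by
    rw [← Nat.card_eq_fintype_card, hK]
    norm_num
  have c1 := Cfsg.Agent.H597.BrInv.C hM hV (P := Multiplicative F) (by
    rw [Fintype.card_multiplicative, hF]; norm_num) (τ.comp psi)
  have c2 := Cfsg.Agent.H597.BrInv.C hM hV (P := K) (by rw [hK']; norm_num) (τ.comp (psi.comp K.subtype))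
  have s1 := sum_of_const (P := Multiplicative F) (fun g => bc 3 (τ.comp psi) g)
    (bc 3 τ (psi (Multiplicative.ofAdd 1))) (finrank (ResidueField V) W) (bc_one' _) (fun g hg => hβ g hg)
  have s2 := sum_of_const (P := K) (fun g => bc 3 (τ.comp (psi.comp K.subtype)) g)
    (bc 3 τ (psi (Multiplicative.ofAdd 1))) (finrank (ResidueField V) W) (bc_one' _) (fun g hg => hβ g (by
      intro h
      exact hg (Subtype.ext h)))
  rw [s1, Fintype.card_multiplicative, hF] at c1
  rw [s2, hK'] at c2
  have hle : Representation.invariants (τ.comp psi) ≤ Representation.invariants (τ.comp (psi.comp K.subtype)) := by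
    intro w hw g
    exact hw (g : Multiplicative F)
  refine ⟨finrank (ResidueField V) (Representation.invariants (τ.comp psi)),
    finrank (ResidueField V) (Representation.invariants (τ.comp (psi.comp K.subtype))), Submodule.finrank_mono hle, ?_, ?_, ?_⟩
  · push_cast at c1
    linear_combination c1
  · push_cast at c2
    linear_combination c2
  · intro heq
    rw [← heq] at c2
    generalize bc 3 τ (psi (Multiplicative.ofAdd 1)) = β at c1 c2
    have h5 : ((finrank (ResidueField V) (Representation.invariants (τ.comp psi)) : ℕ) : ℂ) =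
        (finrank (ResidueField V) W : ℂ) := by
      push_cast at c1 c2
      linear_combination (15 / 16 : ℂ) * c1 - (31 / 16 : ℂ) * c2
    have h6 : finrank (ResidueField V) (Representation.invariants (τ.comp psi)) = finrank (ResidueField V) W := by
      exact_mod_cast h5
    refine ⟨h6, ?_⟩
    have h7 := Submodule.eq_top_of_finrank_eq h6
    refine LinearMap.ext fun w => ?_
    have h8 : w ∈ Representation.invariants (τ.comp psi) := h7 ▸ Submodule.mem_top
    exact h8 (Multiplicative.ofAdd 1)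

/-- eigenvalue multiplicities on irreducible representations -/
theorem mult_le {M : Ideal AlgInt} (hM : IsPModular 3 M) (hV : Above M V) (hF : Fintype.card F = 32) {n : ℕ}
    (τ : Representation (ResidueField V) (PSL F) (Fin n → ResidueField V)) (hτ : τ.IsIrreducible) {x : PSL F}
    (hx : orderOf x = 11) {ω : ℂ} (hω : ω ^ 11 = 1) {k : ℕ}
    (hk : ∑ i ∈ Finset.range 11, bc 3 τ (x ^ i) * ω ^ i = 11 * (k : ℂ)) : k ≤ 3 := by
  classical
  have hfin : Finite (PSL F) := by
    unfold PSL Matrix.ProjectiveSpecialLinearGroup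
    infer_instance
  have hreg : ∀ i : ℕ, IsPRegular 3 (x ^ i) := by
    intro i h
    have h1 : orderOf (x ^ i) ∣ 11 := by
      rw [← hx]
      exact orderOf_pow_dvd i
    have h2 := h.trans h1
    norm_num at h2
  let i0 : IBr V (PSL F) := ⟨fun g => LinearMap.trace (ResidueField V) _ (τ g), n, τ, hτ, fun g => rfl⟩
  obtain ⟨χ, m, idx, l, hχ, hl, hdec⟩ := exists_constituent hM hV i0
  have hx11 : x ^ 11 = 1 := by rw [← hx]; exact pow_orderOf_eq_one x
  choose kk hkk using fun l => exists_mult (idx l).rep (N := 11) (by norm_num) hx11 (by norm_num) hω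
  have h1 : ∑ i ∈ Finset.range 11, χ (x ^ i) * ω ^ i = 11 * ((∑ l, kk l : ℕ) : ℂ) := by
    have h2 : ∀ i ∈ Finset.range 11, χ (x ^ i) * ω ^ i = ∑ l, bc 3 (idx l).rep (x ^ i) * ω ^ i := by
      intro i _
      rw [hdec _ (hreg i), Finset.sum_mul]
      exact Finset.sum_congr rfl fun l _ => by rw [phi_of _ (hreg i)]
    rw [Finset.sum_congr rfl h2, Finset.sum_comm, Finset.sum_congr rfl fun l _ => hkk l, ← Finset.mul_sum]
    push_cast
    rfl
  have h3 := L32A.T1w hF hχ hx hω
  rw [h1] at h3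
  have h4 : (∑ l, kk l : ℕ) ≤ 3 := by
    have h5 : ((11 : ℂ) * ((∑ l, kk l : ℕ) : ℂ)).re = 11 * ((∑ l, kk l : ℕ) : ℝ) := by
      have : (11 : ℂ) * ((∑ l, kk l : ℕ) : ℂ) = ((11 * (∑ l, kk l) : ℕ) : ℂ) := by push_cast; rfl
      rw [this, Complex.natCast_re]
      push_cast
      rfl
    rw [h5] at h3
    have h6 : ((∑ l, kk l : ℕ) : ℝ) ≤ (3 : ℕ) := by
      push_cast at h3 ⊢
      linarith only [h3]
    exact_mod_cast h6
  have h5 : k = kk l := by
    have h6 : (11 : ℂ) * (k : ℂ) = 11 * (kk l : ℂ) := by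
      have := hkk l
      push_cast at this
      rw [← this, ← hk]
      refine Finset.sum_congr rfl fun i _ => ?_
      rw [hl, ← phi_of i0 (hreg i), phi_eq_bc i0 τ hτ (fun g => rfl) (hreg i)]
    have h7 : (k : ℂ) = (kk l : ℂ) := mul_left_cancel₀ (by norm_num) h6
    exact_mod_cast h7
  rw [h5]
  exact (Finset.single_le_sum (f := kk) (fun _ _ => Nat.zero_le _) (Finset.mem_univ l)).trans h4

end

/-- `E₈(3)` has no subgroup `PSL₂(32)`. -/
theorem l32 (hF : Fintype.card F = 32) (H : Subgroup ↥(Cfsg.Lie.chevE8.group (ZMod 3))) :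
    IsEmpty (↥H ≃* Matrix.ProjectiveSpecialLinearGroup (Fin 2) F) := by
  classical
  refine ⟨fun e0 => ?_⟩
  let Φ : PSL F →* ↥(chevE8.group (ZMod 3)) := H.subtype.comp e0.symm.toMonoidHom
  have hΦ : Function.Injective Φ := by
    intro x y hxy
    exact e0.symm.injective (Subtype.ext hxy)
  obtain ⟨M, V, hM, hV, hch⟩ := exists_V
  have hfin : Finite (PSL F) := by
    unfold PSL Matrix.ProjectiveSpecialLinearGroup
    infer_instance
  have hcard : Nat.card (PSL F) = 32736 := by
    have := Cfsg.Agent.SmallSimple.PSLTwoPart.card_psl_two_even (F := F) (by rw [hF]; decide)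
    rw [hF] at this
    exact this
  have hsimple : IsSimpleGroup (PSL F) := by
    apply Matrix.ProjectiveSpecialLinearGroup.rank_two_simple
    rw [Nat.card_eq_fintype_card, hF]
    norm_num
  have : Fact (Nat.Prime 11) := ⟨by norm_num⟩
  obtain ⟨x, hx⟩ := exists_prime_orderOf_dvd_card' (G := PSL F) 11 (by rw [hcard]; norm_num)
  have hx11 : x ^ 11 = 1 := by rw [← hx]; exact pow_orderOf_eq_one x
  set u : PSL F := psi (Multiplicative.ofAdd 1) with hu
  have hu1 : u ≠ 1 := psi_ne (by
    intro h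
    have : (1 : F) = 0 := h
    exact one_ne_zero this)
  have hu2 : u ^ 2 = 1 := by
    rw [hu, ← map_pow]
    have : (Multiplicative.ofAdd (1 : F)) ^ 2 = 1 := by
      rw [← ofAdd_nsmul]
      have : (2 : ℕ) • (1 : F) = 0 := by
        rw [nsmul_eq_mul, mul_one]
        exact_mod_cast two_zero hF
      rw [this]
      rfl
    rw [this, map_one]
  -- the values on the adjoint module
  obtain ⟨t, t2, t4, Lt, et, -, -, ft, ft2, ft4⟩ := val8 V Φ (g := u) (by
    rw [show (8 : ℕ) = 2 * 4 from rfl, pow_mul, hu2, one_pow])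
  have h2 : t2 = 248 := ft2.1 (by rw [hu2, map_one])
  have h4 : t4 = 248 := ft4.1 (by
    have : u ^ 4 = 1 := by rw [show (4 : ℕ) = 2 * 2 from rfl, pow_mul, hu2, one_pow]
    rw [this, map_one])
  have ht : t ≠ 248 := fun h => hu1 (hΦ (by rw [ft.2 h, map_one]))
  have ht' : t = -8 ∨ t = 24 := by
    rw [h2, h4] at Lt
    simp [L8] at Lt
    omega
  obtain ⟨o, o2, o4, -, eo, -, -, fo, -, -⟩ := val8 V Φ (g := (1 : PSL F)) (one_pow _)
  have ho : o = 248 := fo.1 (map_one _)
  rw [ho] at eo
  have hxne : Φ x ≠ 1 := by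
    intro h
    have h1 : x = 1 := hΦ (by rw [h, map_one])
    rw [h1, orderOf_one] at hx
    norm_num at hx
  have hval : ∀ d : ℕ, ¬ 11 ∣ d → bc 3 (adj V Φ) (x ^ d) = 6 := fun d hd => val11 V Φ hx11 hxne hd
  have hsum : ∀ ω : ℂ, ∑ i ∈ Finset.range 11, bc 3 (adj V Φ) (x ^ i) * ω ^ i =
      242 + 6 * ∑ i ∈ Finset.range 11, ω ^ i := by
    intro ω
    have h1 : ∀ i ∈ (Finset.range 11).erase 0, bc 3 (adj V Φ) (x ^ i) * ω ^ i = 6 * ω ^ i := by
      intro i hi
      rw [Finset.mem_erase, Finset.mem_range] at hi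
      rw [hval i (fun h => by have := Nat.le_of_dvd (Nat.pos_of_ne_zero hi.1) h; omega)]
    rw [← Finset.add_sum_erase _ _ (Finset.mem_range.2 (by norm_num : 0 < 11)), Finset.sum_congr rfl h1,
      ← Finset.mul_sum, pow_zero, pow_zero, mul_one, eo,
      ← Finset.add_sum_erase (Finset.range 11) (fun i => ω ^ i) (Finset.mem_range.2 (by norm_num : 0 < 11)), pow_zero]
    push_cast
    ring
  -- a primitive root of unity
  obtain ⟨ζ, hζ⟩ : ∃ ζ : ℂ, IsPrimitiveRoot ζ 11 := ⟨_, Complex.isPrimitiveRoot_exp 11 (by norm_num)⟩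
  have hζ11 : ζ ^ 11 = 1 := hζ.pow_eq_one
  have hζsum : ∑ i ∈ Finset.range 11, ζ ^ i = 0 := hζ.geom_sum_eq_zero (by norm_num)
  -- the composition factors
  obtain ⟨m, n, τ, hτ, hbc⟩ := bc_factors (adj V Φ)
  choose f f' hle hf hf' hff using fun l => fix_dims hM hV hF (τ l)
  choose kA hkA using fun l => exists_mult (τ l) (N := 11) (by norm_num) hx11 (by norm_num) (one_pow 11)
  choose kB hkB using fun l => exists_mult (τ l) (N := 11) (by norm_num) hx11 (by norm_num) hζ11
  have hn0 : ∀ l, finrank (ResidueField V) (Fin (n l) → ResidueField V) ≠ 0 := fun l => finrank_ne_zero' (τ l) (hτ l)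
  have hA3 : ∀ l, kA l ≤ 3 := fun l => mult_le hM hV hF (τ l) (hτ l) hx (one_pow 11) (by
    have := hkA l
    push_cast at this
    exact this)
  have hB3 : ∀ l, kB l ≤ 3 := fun l => mult_le hM hV hF (τ l) (hτ l) hx hζ11 (by
    have := hkB l
    push_cast at this
    exact this)
  have htriv : ∀ l, f l = f' l → kB l = 0 ∧ 1 ≤ f l := by
    intro l hl
    obtain ⟨h5, h6⟩ := hff l hl
    refine ⟨?_, by have := hn0 l; omega⟩
    -- the kernel
    have hker : (τ l).ker = ⊤ := by
      rcases hsimple.eq_bot_or_eq_top_of_normal (τ l).ker inferInstance with h7 | h7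
      · exfalso
        apply hu1
        have h8 : u ∈ (τ l).ker := h6
        rw [h7, Subgroup.mem_bot] at h8
        exact h8
      · exact h7
    have hone : ∀ g, τ l g = (1 : ResidueField V) • (1 : Module.End _ _) := by
      intro g
      have h8 : g ∈ (τ l).ker := hker ▸ Subgroup.mem_top g
      rw [one_smul]
      exact h8
    have h7 := hkB l
    rw [Finset.sum_congr rfl fun i _ => by rw [bc_smul_one (τ l) (hone (x ^ i))], ← Finset.mul_sum, hζsum, mul_zero] at h7
    have h8 : (kB l : ℂ) = 0 := by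
      rcases mul_eq_zero.1 h7.symm with h9 | h9
      · norm_num at h9
      · exact h9
    exact_mod_cast h8
  -- the sums
  have S1 : ((∑ l, f l : ℕ) : ℂ) * 32 = ((248 + 31 * t : ℤ) : ℂ) := by
    have h5 : ∑ l, ((finrank (ResidueField V) (Fin (n l) → ResidueField V) : ℂ) + 31 * bc 3 (τ l) u) = ∑ l, 32 * (f l : ℂ) :=
      Finset.sum_congr rfl fun l _ => hf l
    rw [Finset.sum_add_distrib, ← Finset.mul_sum, ← Finset.mul_sum, ← hbc u, et,
      Finset.sum_congr rfl fun l _ => (bc_one' (τ l)).symm, ← hbc 1, eo] at h5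
    push_cast at h5 ⊢
    linear_combination -h5
  have S2 : ((∑ l, f' l : ℕ) : ℂ) * 16 = ((248 + 15 * t : ℤ) : ℂ) := by
    have h5 : ∑ l, ((finrank (ResidueField V) (Fin (n l) → ResidueField V) : ℂ) + 15 * bc 3 (τ l) u) = ∑ l, 16 * (f' l : ℂ) :=
      Finset.sum_congr rfl fun l _ => hf' l
    rw [Finset.sum_add_distrib, ← Finset.mul_sum, ← Finset.mul_sum, ← hbc u, et,
      Finset.sum_congr rfl fun l _ => (bc_one' (τ l)).symm, ← hbc 1, eo] at h5
    push_cast at h5 ⊢
    linear_combination -h5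
  have hk : ∀ (ω : ℂ) (k : Fin m → ℕ), (∀ l, ∑ i ∈ Finset.range 11, bc 3 (τ l) (x ^ i) * ω ^ i = (11 : ℕ) * (k l : ℂ)) →
      ((∑ l, k l : ℕ) : ℂ) * 11 = 242 + 6 * ∑ i ∈ Finset.range 11, ω ^ i := by
    intro ω k h
    rw [← hsum ω]
    have h5 : ∀ i ∈ Finset.range 11, bc 3 (adj V Φ) (x ^ i) * ω ^ i = ∑ l, bc 3 (τ l) (x ^ i) * ω ^ i := by
      intro i _
      rw [hbc, Finset.sum_mul]
    rw [Finset.sum_congr rfl h5, Finset.sum_comm, Finset.sum_congr rfl fun l _ => h l, ← Finset.mul_sum]
    push_cast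
    ring
  have SA : ∑ l, kA l = 28 := by
    have h5 := hk 1 kA hkA
    have h6 : ((∑ l, kA l : ℕ) : ℂ) = ((28 : ℕ) : ℂ) := by
      simp only [one_pow, Finset.sum_const, Finset.card_range, nsmul_eq_mul, mul_one] at h5
      push_cast at h5 ⊢
      linear_combination h5 / 11
    exact_mod_cast h6
  have SB : ∑ l, kB l = 22 := by
    have h5 := hk ζ kB hkB
    have h6 : ((∑ l, kB l : ℕ) : ℂ) = ((22 : ℕ) : ℂ) := by
      rw [hζsum] at h5
      push_cast at h5 ⊢
      linear_combination h5 / 11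
    exact_mod_cast h6
  have S1' : ((∑ l, f l : ℕ) : ℤ) * 32 = 248 + 31 * t := by exact_mod_cast S1
  have S2' : ((∑ l, f' l : ℕ) : ℤ) * 16 = 248 + 15 * t := by exact_mod_cast S2
  rcases ht' with rfl | rfl
  · have h5 : ∑ l, f l = 0 := by omega
    have h6 : ∑ l, kA l ≤ ∑ l, 3 * f' l := by
      refine Finset.sum_le_sum fun l _ => ?_
      have h7 : f l = 0 := Finset.sum_eq_zero_iff.1 h5 l (Finset.mem_univ l)
      have h8 : f' l ≠ 0 := by
        intro h9
        have := (htriv l (by omega)).2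
        omega
      have := hA3 l
      omega
    rw [SA, ← Finset.mul_sum] at h6
    omega
  · have h6 : ∑ l, (kB l + 3 * f l) ≤ ∑ l, 3 * f' l := by
      refine Finset.sum_le_sum fun l _ => ?_
      have h7 := hle l
      by_cases h8 : f l = f' l
      · have := (htriv l h8).1
        omega
      · have := hB3 l
        omega
    rw [Finset.sum_add_distrib, SB, ← Finset.mul_sum, ← Finset.mul_sum] at h6
    omega

end Cfsg.Agent.H942.L32
end

-- part: S5918
section
set_option autoImplicit false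
open Cfsg

namespace Cfsg.Agent.S5918

/-- Let G be the Chevalley group of type E₈ over the field with three elements (generated by its root elements in the 248-dimensional adjoint representation; it is the simple group E₈(3)). Then G has no subgroup isomorphic to any of PSL₂(41), PSL₂(32), PSU₄(3) or PSp₆(3). Here F₄₁, F₃₂, F₉ denote fields with 41, 32 and 9 elements (PSU₄(3) is realised over F₉), and PSp₆(3) is the quotient of the symplectic group of 6 × 6 matrices over the field with three elements by its centre. -/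
theorem result
    {F₄₁ F₃₂ F₉ : Type*} [Field F₄₁] [Fintype F₄₁] (h41 : Fintype.card F₄₁ = 41) [Field F₃₂] [Fintype F₃₂] (h32 : Fintype.card F₃₂ = 32)
    [Field F₉] [Fintype F₉] (h9 : Fintype.card F₉ = 9) (H : Subgroup ↥(Cfsg.Lie.chevE8.group (ZMod 3))) :
    IsEmpty (↥H ≃* Matrix.ProjectiveSpecialLinearGroup (Fin 2) F₄₁) ∧ IsEmpty (↥H ≃* Matrix.ProjectiveSpecialLinearGroup (Fin 2) F₃₂) ∧
    IsEmpty (↥H ≃* Cfsg.PSU 4 F₉ 3) ∧ IsEmpty (↥H ≃* Cfsg.PSp 3 (ZMod 3)) :=
  ⟨H943.L41.no_L41 h41 H, H942.L32.l32 h32 H, H942.U4.psu4 h9 H, H942.Sp6.psp6 H⟩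

end Cfsg.Agent.S5918
end

private theorem dce_645c7a096a6e : _root_.True := by
  try have : _root_.True := by simp only [_root_.Cfsg.Agent.H943.SL2Rel.u.eq_1]
  exact _root_.True.intro
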