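-- statement S5919 (assembled by helper942; rows by helper540, 887, 934, 530, 775, 1, 108, 942, 990, 976, 859, 757, 835, 95)
import Mathlib
import Cfsg.Agent.H540.E8C.Centre
import Cfsg.Agent.H451.L7.Dim_m3
import Cfsg.Agent.Lib.FinFast
import Cfsg.Prelude.Def_Local
import Cfsg.Agent.H942.S62.Num
import Cfsg.Agent.StandardComponent.SpTwoAut
import Cfsg.Agent.StdO8.Gen_m3
import Cfsg.Agent.H769.SpSix
import Cfsg.Agent.ClassicalGeometry.SympBasic
import Cfsg.Agent.ClassicalGeometry.WittQuad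
import Cfsg.Prelude.Def_ChevE8
import Cfsg.Agent.Lib.GenFitting
import Cfsg.Agent.Lib.FastPerm
import Cfsg.Agent.Lib.MatDec
import Cfsg.Prelude.Def_Sz
import Cfsg.Agent.S0333
import Cfsg.Agent.S2238
import Cfsg.Agent.S0330
import Cfsg.Agent.OddCyclic.ClaimC.SzIso
import Cfsg.Agent.S1163
import Cfsg.Agent.S1162
import Cfsg.Agent.S2126
import Cfsg.Agent.S1265
import Cfsg.Agent.H489.OutClassical
import Cfsg.Agent.ClassicalGeometry.AutPSL.Main
import Cfsg.Agent.ClassicalGeometry.PSL2Solvable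
import Cfsg.Agent.LieClassical.FieldTransfer
import Cfsg.Agent.H597.E8Form
import Cfsg.Statements.S5919
import Cfsg.Agent.Lib.DetFast
import Cfsg.Agent.FastGrp
import Cfsg.Agent.Prune
set_option linter.all false

section
prune_inst 0x7ffcecfbabe839dfdfff7e3fa698cffdd1a80fffe6dff9cbffe0619f0b9f030009c5fbad8de010fe0e96c21410b87843fb7eceffe06bd87ffffd1ff41ffbee0ff5f7350851949c340fbc2fff03f0778e7f3fffffffffffffffffffffffffffaeffbffffffffd

-- part: H540/E8C/Main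
section
set_option linter.all false
open scoped Cfsg.Agent.FastGrp

-- part: H540/E8C/Data
section
/-!
# S5919: elements of order 13 and 5 of `E₈(3)`
-/

set_option autoImplicit false
set_option linter.style.longLine false
set_option maxRecDepth 100000

namespace Cfsg.Agent.H540.E8C

open Cfsg Cfsg.Lie Cfsg.Lie.ChevalleyDatum
open Cfsg.Agent.ChevalleyStructure Cfsg.Agent.ChevalleyStructure.CoxeterGeomTypes
open Cfsg.Agent.H942.E8Tab Cfsg.Agent.H942.E8Alc Cfsg.Agent.H942.ValsChar Cfsg.Agent.H942.E8Val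
open Cfsg.Agent.H942.CB
open Cfsg.Agent.H944.RootVals Cfsg.Agent.H944.Tab Cfsg.Agent.H944.Kac
open Cfsg.Agent.H657 IsLocalRing Module

/-- certificate, `N = 13` -/
def CEa : Cert := ⟨[6, 5, 4, 3, 1, 2, 0, 3, 2, 4, 3, 1, 5, 4, 3, 2, 0, 6, 5, 4, 3, 1,
  2, 3, 4, 5, 6, 7, 6, 5, 4, 3, 1, 2, 0, 3, 2, 4, 3, 1, 5, 4, 3, 2, 0, 6, 5, 4, 3, 1, 2, 3, 4, 5, 6, 7], [1, 1, 2,
  2, 2, 2, 2, 26], [[0, 0, 0, 0, 0, 0, 0, 1], [0, 1, 0, 0, 0, 0, 0, 0], [0, -4, 1, 0, 0, 0, 0, 0], [0, -6, 0, 1, 0,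
  0, 0, 0], [0, -5, 0, 0, 1, 0, 0, 0], [0, -4, 0, 0, 0, 1, 0, 0], [1, -2, 0, 0, 0, 0, 0, 0], [0, -13, 0, 0, 0, 0, 1,
  2]], [[0, 0, 0, 0, 0, 0, -2, 1], [2, 1, 4, 6, 5, 4, 13, 0], [0, 0, 1, 0, 0, 0, 0, 0], [0, 0, 0, 1, 0, 0, 0, 0],
  [0, 0, 0, 0, 1, 0, 0, 0], [0, 0, 0, 0, 0, 1, 0, 0], [1, 0, 0, 0, 0, 0, 0, 0], [0, 0, 0, 0, 0, 0, 1, 0]], [[0, 1,
  2, 0, 3, 1, 2, 0, 3, 2, 4, 3, 1, 2, 0, 3, 2, 4, 3, 1, 5, 4, 3, 1, 2, 0, 3, 2, 4, 3, 1, 5, 4, 3, 2, 0]]⟩

private noncomputable def _root_.Cfsg.Agent.LsF.f0ee0f5_0 : {f // @Cfsg.Agent.H942.CB.okw = f} := ⟨_, by first | (delta Cfsg.Agent.H942.CB.okw; rewrite [Cfsg.Agent.LsF.decLt_eq, Cfsg.Agent.LsF.all_eq, Cfsg.Agent.LsF.decide_eq]; exact rfl) | exact rfl⟩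
private noncomputable def _root_.Cfsg.Agent.LsF.f0ee0f5_1 : {f // @Cfsg.Agent.H942.CB.sL = f} := ⟨_, by first | (delta Cfsg.Agent.H942.CB.sL; rewrite [Cfsg.Agent.LsF.iadd_pat, Cfsg.Agent.LsF.ineg_pat]; (try delta Cfsg.Agent.H942.CB.sL.match_1); (try delta Cfsg.Agent.H942.CB.sL._sparseCasesOn_1); (try delta Cfsg.Agent.H942.CB.sL._sparseCasesOn_2); (try rewrite [Cfsg.Agent.LsF.instDecEq_eq, Cfsg.Agent.LsF.dite_eq]); exact rfl) | exact rfl⟩
private noncomputable def _root_.Cfsg.Agent.LsF.f0ee0f5_2 : {f // @Cfsg.Agent.H942.CB.actW = f} := ⟨_, by first | (delta Cfsg.Agent.H942.CB.actW List.brecOn List.brecOn.go Cfsg.Agent.H942.CB.actW._f; rewrite [Cfsg.Agent.LsF.f0ee0f5_1.2]; (try delta Cfsg.Agent.H942.CB.actW.match_1); (try delta List.casesOn); first | dsimp -zeta only | exact rfl) | exact rfl⟩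
private noncomputable def _root_.Cfsg.Agent.LsF.f0ee0f5_3 : {f // @Cfsg.Agent.H942.CB.YZ = f} := ⟨_, by first | (delta Cfsg.Agent.H942.CB.YZ; rewrite [Cfsg.Agent.LsF.icast_pat, Cfsg.Agent.LsF.map_eq]; exact rfl) | exact rfl⟩
private noncomputable def _root_.Cfsg.Agent.LsF.f0ee0f5_4 : {f // @Cfsg.Agent.H944.Tab.dotN = f} := ⟨_, by first | (delta Cfsg.Agent.H944.Tab.dotN List.brecOn List.brecOn.go Cfsg.Agent.H944.Tab.dotN._f; rewrite [Cfsg.Agent.LsF.nadd_pat, Cfsg.Agent.LsF.nmul_pat]; (try delta Cfsg.Agent.H944.Tab.dotN.match_1); (try delta Cfsg.Agent.H944.Tab.dotN._sparseCasesOn_1); first | dsimp -zeta only | exact rfl) | exact rfl⟩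
private noncomputable def _root_.Cfsg.Agent.LsF.f0ee0f5_5 : {f // @Cfsg.Agent.H942.CB.SL = f} := ⟨_, by first | (delta Cfsg.Agent.H942.CB.SL; rewrite [Cfsg.Agent.LsF.f0ee0f5_4.2, Cfsg.Agent.LsF.nmod_pat, Cfsg.Agent.LsF.filter_eq]; exact rfl) | exact rfl⟩
private noncomputable def _root_.Cfsg.Agent.LsF.f0ee0f5_6 : {f // @Cfsg.Agent.H942.CB.dotZ = f} := ⟨_, by first | (delta Cfsg.Agent.H942.CB.dotZ List.brecOn List.brecOn.go Cfsg.Agent.H942.CB.dotZ._f; rewrite [Cfsg.Agent.LsF.iadd_pat, Cfsg.Agent.LsF.imul_pat, Cfsg.Agent.LsF.icast_pat]; (try delta Cfsg.Agent.H942.CB.dotZ.match_1); (try delta Cfsg.Agent.H942.CB.sL._sparseCasesOn_1); first | dsimp -zeta only | exact rfl) | exact rfl⟩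
private noncomputable def _root_.Cfsg.Agent.LsF.f0ee0f5_7 : {f // @Cfsg.Agent.H942.CB.chk = f} := ⟨_, by first | (delta Cfsg.Agent.H942.CB.chk; rewrite [Cfsg.Agent.LsF.sumF_pat, Cfsg.Agent.LsF.f0ee0f5_0.2, Cfsg.Agent.LsF.f0ee0f5_2.2, Cfsg.Agent.LsF.f0ee0f5_3.2, Cfsg.Agent.LsF.f0ee0f5_5.2, Cfsg.Agent.LsF.f0ee0f5_6.2, Cfsg.Agent.LsF.nmod_pat, Cfsg.Agent.LsF.iadd_pat, Cfsg.Agent.LsF.imul_pat, Cfsg.Agent.LsF.isub_pat, Cfsg.Agent.LsF.imod_pat, Cfsg.Agent.LsF.icast_pat, Cfsg.Agent.LsF.lappend_pat, Cfsg.Agent.LsF.iACM_eq, Cfsg.Agent.LsF.and_eq, Cfsg.Agent.LsF.instDecEq_eq, Cfsg.Agent.LsF.all_eq, Cfsg.Agent.LsF.map_eq, Cfsg.Agent.LsF.range_eq, Cfsg.Agent.LsF.getD_eq, Cfsg.Agent.LsF.instIDecEq_eq, Cfsg.Agent.LsF.idecLt_eq, Cfsg.Agent.LsF.dNot_eq, Cfsg.Agent.LsF.dNodup_eq, Cfsg.Agent.LsF.dListEq_eq, Cfsg.Agent.LsF.length_eq, Cfsg.Agent.LsF.ite_eq, Cfsg.Agent.LsF.decide_eq]; exact rfl) | exact rfl⟩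
theorem chkCEa : chk 13 [0, 0, 0, 0, 0, 0, 1, 2] CEa = true := by ((try (rewrite [Cfsg.Agent.LsF.f0ee0f5_7.2])); decide +kernel)

theorem bndCEa : bnd 13 [0, 0, 0, 0, 0, 0, 1, 2] CEa = 18743628421389393110651003031810837312 := by decide +kernel

/-- certificate, `N = 13` -/
def CEb : Cert := ⟨[7, 6, 5, 4, 3, 1, 2, 0, 3, 2, 4, 3, 1, 5, 4, 3, 2, 0, 6, 5, 4, 3,
  1, 2, 3, 4, 5, 6, 7, 6, 5, 4, 3, 1, 2, 0, 3, 2, 4, 3, 1, 5, 4, 3, 2, 0, 6, 5, 4, 3, 1, 2, 3, 4, 5, 6], [1, 1, 2,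
  2, 2, 2, 2, 26], [[0, 0, 0, 0, 0, 0, 0, 1], [0, 1, 0, 0, 0, 0, 0, -3], [0, 12, 1, 0, 0, 0, 0, -40], [0, 18, 0, 1,
  0, 0, 0, -60], [0, 15, 0, 0, 1, 0, 0, -50], [0, 12, 0, 0, 0, 1, 0, -40], [1, 6, 0, 0, 0, 0, 0, -20], [0, 13, 0, 0,
  0, 0, 1, -44]], [[2, 3, 4, 6, 5, 4, 5, 1], [-6, 1, -12, -18, -15, -12, -13, 0], [0, 0, 1, 0, 0, 0, 0, 0], [0, 0,
  0, 1, 0, 0, 0, 0], [0, 0, 0, 0, 1, 0, 0, 0], [0, 0, 0, 0, 0, 1, 0, 0], [1, 0, 0, 0, 0, 0, 0, 0], [0, 0, 0, 0, 0,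
  0, 1, 0]], [[0, 1, 2, 0, 3, 1, 2, 0, 3, 2, 4, 3, 1, 2, 0, 3, 2, 4, 3, 1, 5, 4, 3, 1, 2, 0, 3, 2, 4, 3, 1, 5, 4, 3,
  2, 0]]⟩

theorem chkCEb : chk 13 [0, 0, 0, 0, 0, 0, 2, 3] CEb = true := by ((try (rewrite [Cfsg.Agent.LsF.f0ee0f5_7.2])); decide +kernel)

theorem bndCEb : bnd 13 [0, 0, 0, 0, 0, 0, 2, 3] CEb = 18743628421389393110651003031810837312 := by decide +kernel

/-- certificate, `N = 13` -/
def CAa : Cert := ⟨[5, 4, 3, 1, 2, 3, 4, 5, 6, 5, 4, 3, 1, 2, 0, 3, 2, 4, 3, 1, 5, 4,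
  3, 2, 0, 7, 6, 5, 4, 3, 1, 2, 0, 3, 2, 4, 3, 1, 5, 4, 3, 2, 0, 6, 5, 4, 3, 1, 2, 3, 4, 5, 7, 6, 5, 4, 3, 1, 2, 0,
  3, 2, 4, 3, 1, 5, 4, 3, 2, 0], [1, 1, 1, 1, 2, 2, 26, 26], [[1, 0, 0, 0, 0, 0, 0, 0], [0, 1, 0, 0, 0, 0, 0, 0],
  [-1, 0, 1, 0, 0, 0, 0, 0], [-1, 0, 0, 1, 0, 0, 0, 0], [2, 0, 0, -2, 0, 0, 1, 0], [1, 0, 0, -1, 0, 0, 0, 1], [-10,
  3, 9, 0, 1, 0, 0, 0], [2, 0, 0, 0, 0, 1, 0, -13]], [[1, 0, 1, 1, 1, -2, 0, 0], [0, 1, 0, 0, -3, 0, 0, 0], [0, 0,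
  1, 0, -9, 0, 0, 0], [0, 0, 0, 1, 0, 13, 2, 1], [0, 0, 0, 0, 0, 0, 1, 0], [0, 0, 0, 0, 0, 13, 0, 1], [0, 0, 0, 0,
  1, 0, 0, 0], [0, 0, 0, 0, 0, 1, 0, 0]], [[1, 2, 3, 1, 2, 3, 4, 3, 1, 2, 3, 4, 6, 7, 6], [1, 2, 3, 1, 2, 3, 4, 3,
  1, 2, 3, 4, 7, 6], [1, 2, 3, 1, 2, 3, 4, 3, 1, 2, 3, 4, 6, 7], [1, 2, 3, 1, 2, 4, 3, 1, 2, 3, 4, 6, 7, 6], [1, 2,
  3, 1, 2, 3, 4, 3, 1, 2, 3, 4, 7], [1, 2, 3, 1, 2, 3, 4, 3, 1, 2, 3, 4, 6], [1, 2, 3, 1, 2, 4, 3, 1, 2, 3, 4, 6,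
  7], [1, 2, 3, 1, 2, 4, 3, 1, 2, 3, 4, 7, 6]]⟩

theorem chkCAa : chk 13 [2, 0, 0, 0, 0, 1, 0, 0] CAa = true := by ((try (rewrite [Cfsg.Agent.LsF.f0ee0f5_7.2])); decide +kernel)

theorem bndCAa : bnd 13 [2, 0, 0, 0, 0, 1, 0, 0] CAa = 1360894629560719968 := by decide +kernel

/-- certificate, `N = 13` -/
def CAb : Cert := ⟨[5, 4, 3, 1, 2, 0, 3, 2, 4, 3, 1, 5, 4, 3, 2, 0], [1, 1, 1, 1, 2, 2,
  26, 26], [[1, 0, 0, 0, 0, 0, 0, 0], [0, 1, 0, 0, 0, 0, 0, 0], [0, 3, 1, 0, 0, 0, 0, 0], [0, 0, 0, 1, 0, 0, 0, 0],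
  [3, 0, 0, -13, 0, 1, 0, 0], [0, 0, 0, 0, 0, 0, 0, 1], [3, 0, 0, -13, 0, 1, 1, 0], [-6, 9, 3, 0, 1, -2, 5, 0]],
  [[1, 0, 0, 0, 0, -3, 0, 0], [0, 1, -3, 0, 0, 0, 0, 0], [0, 0, 1, 0, -3, 0, 0, 0], [0, 0, 0, 1, 26, 13, 0, 0], [0,
  0, 0, 0, 7, 1, -1, 0], [0, 0, 0, 0, 0, 0, 0, 1], [0, 0, 0, 0, -5, 0, 1, 0], [0, 0, 0, 0, 1, 0, 0, 0]], [[1, 2, 3,
  1, 2, 3, 4, 3, 1, 2, 3, 4, 7, 6, 5, 4, 3, 1, 2, 0, 3, 2, 4, 3, 1, 5, 4, 3, 2, 0, 6, 5, 4, 3, 1, 2, 3, 4, 5, 6, 7,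
  6, 5, 4, 3, 1, 2, 0, 3, 2, 4, 3, 1, 5, 4, 3, 2, 0, 6, 5, 4, 3, 1, 2, 3, 4, 5, 6, 7], [1, 2, 3, 1, 2, 3, 4, 3, 1,
  2, 3, 4, 7, 6, 5, 4, 3, 1, 2, 0, 3, 2, 4, 3, 1, 5, 4, 3, 2, 0, 6, 5, 4, 3, 1, 2, 3, 4, 5, 6, 7, 6, 5, 4, 3, 1, 2,
  0, 3, 2, 4, 3, 1, 5, 4, 3, 2, 0, 6, 5, 4, 3, 1, 2, 3, 4, 5, 6], [1, 2, 3, 1, 2, 3, 4, 3, 1, 2, 3, 4, 6, 5, 4, 3,
  1, 2, 0, 3, 2, 4, 3, 1, 5, 4, 3, 2, 0, 6, 5, 4, 3, 1, 2, 3, 4, 5, 6, 7, 6, 5, 4, 3, 1, 2, 0, 3, 2, 4, 3, 1, 5, 4,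
  3, 2, 0, 6, 5, 4, 3, 1, 2, 3, 4, 5, 6, 7], [1, 2, 3, 1, 2, 4, 3, 1, 2, 3, 4, 7, 6, 5, 4, 3, 1, 2, 0, 3, 2, 4, 3,
  1, 5, 4, 3, 2, 0, 6, 5, 4, 3, 1, 2, 3, 4, 5, 6, 7, 6, 5, 4, 3, 1, 2, 0, 3, 2, 4, 3, 1, 5, 4, 3, 2, 0, 6, 5, 4, 3,
  1, 2, 3, 4, 5, 6, 7], [1, 2, 3, 1, 2, 3, 4, 3, 1, 2, 3, 4, 7], [1, 2, 3, 1, 2, 4, 3, 1, 2, 3, 4, 7, 6, 5, 4, 3, 1,
  2, 0, 3, 2, 4, 3, 1, 5, 4, 3, 2, 0, 6, 5, 4, 3, 1, 2, 3, 4, 5, 6, 7, 6, 5, 4, 3, 1, 2, 0, 3, 2, 4, 3, 1, 5, 4, 3,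
  2, 0, 6, 5, 4, 3, 1, 2, 3, 4, 5, 6], [1, 2, 3, 1, 2, 4, 3, 1, 2, 3, 4, 6, 5, 4, 3, 1, 2, 0, 3, 2, 4, 3, 1, 5, 4,
  3, 2, 0, 6, 5, 4, 3, 1, 2, 3, 4, 5, 6, 7, 6, 5, 4, 3, 1, 2, 0, 3, 2, 4, 3, 1, 5, 4, 3, 2, 0, 6, 5, 4, 3, 1, 2, 3,
  4, 5, 6, 7], [1, 2, 3, 1, 2, 3, 4, 3, 1, 2, 3, 4, 6, 5, 4, 3, 1, 2, 0, 3, 2, 4, 3, 1, 5, 4, 3, 2, 0, 6, 5, 4, 3,
  1, 2, 3, 4, 5, 6, 7, 6, 5, 4, 3, 1, 2, 0, 3, 2, 4, 3, 1, 5, 4, 3, 2, 0, 6, 5, 4, 3, 1, 2, 3, 4, 5, 6]]⟩

theorem chkCAb : chk 13 [3, 0, 0, 0, 0, 1, 1, 0] CAb = true := by ((try (rewrite [Cfsg.Agent.LsF.f0ee0f5_7.2])); decide +kernel)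

theorem bndCAb : bnd 13 [3, 0, 0, 0, 0, 1, 1, 0] CAb = 1360894629560719968 := by decide +kernel

def wDa : List ℕ := [0, 2, 3, 1, 4, 3, 2, 0, 5, 4, 3, 1, 2, 0, 3, 2, 4, 3, 1, 5, 4, 3, 2, 0, 6, 5, 4, 3, 1, 2, 3, 4,
  5, 7, 6, 5, 4, 3, 1, 2, 0, 3, 2, 4, 3, 1, 5, 4, 3, 2, 0, 6, 5, 4, 3, 1, 2, 3, 4, 5, 6, 7, 6, 5, 4, 3, 1, 2, 3, 4,
  5, 6]

theorem chkCDa : chkC 13 13 [1, 0, 0, 0, 0, 1, 1, 1] [11, 0, 0, 0, 0, 6, 1, 0] wDa = true := by decide +kernel

def wDb : List ℕ := [0, 2, 3, 4, 3, 2, 0, 5, 4, 3, 1, 2, 3, 4, 6, 5, 4, 3, 1, 2, 0, 3, 2, 4, 3, 1, 7, 6, 5, 4, 3, 1,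
  2, 0, 3, 2, 4, 3, 1, 5, 4, 3, 2, 0, 6, 5, 4, 3, 1, 2, 3, 4, 5, 6, 7, 6, 5, 4, 3, 1, 2, 0, 3, 2, 4, 3, 1, 5, 4, 3,
  2, 6, 5, 4, 3, 1]

theorem chkCDb : chkC 13 13 [1, 1, 0, 0, 1, 0, 0, 1] [4, 11, 0, 0, 1, 0, 0, 0] wDb = true := by decide +kernel

def wDc : List ℕ := [7, 6, 5, 4, 3, 1, 2, 0, 3, 2, 4, 3, 1, 5, 4, 3, 2, 0, 6, 5, 4, 3, 1, 2, 3, 4, 5, 7, 6, 5, 4, 3,
  1, 2, 0, 3, 2, 4, 3, 1, 5, 4, 3, 2, 0]

theorem chkCDc : chkC 5 2 [1, 0, 0, 0, 0, 0, 0, 1] [1, 0, 0, 0, 0, 0, 0, 0] wDc = true := by decide +kernel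

/-- the alcove vectors of the elements of order dividing 13 -/
def L13 : List (List ℕ) := [[0, 0, 0, 0, 0, 0, 0, 0], [0, 0, 0, 0, 0, 0, 1, 2], [0, 0, 0, 0, 0, 0, 2, 3],
  [1, 0, 0, 0, 0, 1, 1, 1], [1, 1, 0, 0, 1, 0, 0, 1], [2, 0, 0, 0, 0, 1, 0, 0], [3, 0, 0, 0, 0, 1, 1, 0]]

private noncomputable def _root_.Cfsg.Agent.LsF.f0ee0f5_8 : {f // @Cfsg.Agent.H944.Tab.allAlc = f} := ⟨_, by first | (delta Cfsg.Agent.H944.Tab.allAlc List.brecOn Cfsg.Agent.H944.Tab.allAlc._f List.brecOn.go; rewrite [Cfsg.Agent.LsF.nadd_pat, Cfsg.Agent.LsF.nmul_pat, Cfsg.Agent.LsF.nsub_pat, Cfsg.Agent.LsF.ndiv_pat, Cfsg.Agent.LsF.all_eq, Cfsg.Agent.LsF.range_eq]; (try delta Cfsg.Agent.H944.Tab.allAlc.match_1); (try delta List.casesOn); first | dsimp -zeta only | exact rfl) | exact rfl⟩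
private noncomputable def _root_.Cfsg.Agent.LsF.f0ee0f5_9 : {f // @Cfsg.Agent.H944.Tab.sumH = f} := ⟨_, by first | (delta Cfsg.Agent.H944.Tab.sumH Cfsg.Agent.H944.Tab.sumH._f List.brecOn List.brecOn.go; rewrite [Cfsg.Agent.LsF.f0ee0f5_4.2, Cfsg.Agent.LsF.nadd_pat]; (try delta Cfsg.Agent.H944.Tab.sumH.match_1); (try delta List.casesOn); first | dsimp -zeta only | exact rfl) | exact rfl⟩
private noncomputable def _root_.Cfsg.Agent.LsF.f0ee0f5_10 : {f // @Cfsg.Agent.H944.Tab.hh = f} := ⟨_, by first | (delta Cfsg.Agent.H944.Tab.hh; rewrite [Cfsg.Agent.LsF.nadd_pat, Cfsg.Agent.LsF.nsub_pat, Cfsg.Agent.LsF.nmod_pat, Cfsg.Agent.LsF.npow_pat]; exact rfl) | exact rfl⟩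
private noncomputable def _root_.Cfsg.Agent.LsF.f0ee0f5_11 : {f // @Cfsg.Agent.H944.Tab.invB = f} := ⟨_, by first | (delta Cfsg.Agent.H944.Tab.invB; rewrite [Cfsg.Agent.LsF.f0ee0f5_9.2, Cfsg.Agent.LsF.f0ee0f5_10.2, Cfsg.Agent.LsF.nmul_pat]; exact rfl) | exact rfl⟩
theorem check13 : allAlc th8 13 (fun Y => bif invB 13 3 R8 Y then decide (Y ∈ L13) else true) = true := by
  ((try (rewrite [Cfsg.Agent.LsF.dMemL_pat, Cfsg.Agent.LsF.f0ee0f5_8.2, Cfsg.Agent.LsF.f0ee0f5_11.2, Cfsg.Agent.LsF.cond_eq, Cfsg.Agent.LsF.instDecEq_eq, Cfsg.Agent.LsF.decide_eq])); decide +kernel)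

end Cfsg.Agent.H540.E8C
end

-- part: H540/E8C/Main
section
/-!
# S5919: elements of order 13 and 5 of `E₈(3)`: central partners and lower bounds for centralisers
-/

set_option autoImplicit false
set_option linter.unusedSectionVars false
set_option maxRecDepth 100000

namespace Cfsg.Agent.H540.E8C

open Cfsg Cfsg.Lie Cfsg.Lie.ChevalleyDatum
open Cfsg.Agent.ChevalleyStructure Cfsg.Agent.ChevalleyStructure.CoxeterGeomTypes
open Cfsg.Agent.H942.E8Tab Cfsg.Agent.H942.E8Alc Cfsg.Agent.H942.ValsChar Cfsg.Agent.H942.E8Val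
open Cfsg.Agent.H942.CB
open Cfsg.Agent.H944.RootVals Cfsg.Agent.H944.Tab Cfsg.Agent.H944.Kac
open Cfsg.Agent.H657 IsLocalRing Module

/-- the matrix of an element of `E₈(3)` -/
abbrev mt (x : ↥(chevE8.group (ZMod 3))) : Matrix chevE8.Idx chevE8.Idx (ZMod 3) :=
  ((x : GL chevE8.Idx (ZMod 3)) : Matrix chevE8.Idx chevE8.Idx (ZMod 3))

/-- a partner of `x`: an element commuting with `x`, outside `⟨x⟩`, of order dividing `n`, fixing all the fixed vectors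
of `x` -/
def Partner (n : ℕ) (x : ↥(chevE8.group (ZMod 3))) : Prop :=
  ∃ x' : ↥(chevE8.group (ZMod 3)), x' ^ n = 1 ∧ Commute x x' ∧ x' ∉ Subgroup.zpowers x ∧
    ∀ v : chevE8.Idx → ZMod 3, (mt x).mulVec v = v → (mt x').mulVec v = v

theorem exists_nat_pow {G : Type*} [Group G] {x y : G} {N : ℕ} (hN : N ≠ 0) (hx : x ^ N = 1)
    (h : y ∈ Subgroup.zpowers x) : ∃ m : ℕ, y = x ^ m := by
  have h1 : IsOfFinOrder x := isOfFinOrder_iff_pow_eq_one.2 ⟨N, Nat.pos_of_ne_zero hN, hx⟩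
  rw [← h1.mem_powers_iff_mem_zpowers] at h
  obtain ⟨m, hm⟩ := h
  exact ⟨m, hm.symm⟩

theorem partner_a {x : ↥(chevE8.group (ZMod 3))} (hx : x ^ 13 = 1)
    (hT : TorD e8T x 13 (vecL 13 [1, 0, 0, 0, 0, 1, 1, 1])) : Partner 13 x := by
  obtain ⟨x', h1, h2, h3, -, h5⟩ := centre (by norm_num) (by norm_num) (by norm_num) (by norm_num) chkCDa hx hT
  refine ⟨x', h1, h2, fun h => ?_, h3⟩
  obtain ⟨m, hm⟩ := exists_nat_pow (by norm_num) hx h
  have h6 := h5 rfl m hm 7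
  have h7 := h5 rfl m hm 0
  simp at h6 h7
  omega

theorem partner_b {x : ↥(chevE8.group (ZMod 3))} (hx : x ^ 13 = 1)
    (hT : TorD e8T x 13 (vecL 13 [1, 1, 0, 0, 1, 0, 0, 1])) : Partner 13 x := by
  obtain ⟨x', h1, h2, h3, -, h5⟩ := centre (by norm_num) (by norm_num) (by norm_num) (by norm_num) chkCDb hx hT
  refine ⟨x', h1, h2, fun h => ?_, h3⟩
  obtain ⟨m, hm⟩ := exists_nat_pow (by norm_num) hx h
  have h6 := h5 rfl m hm 7
  have h7 := h5 rfl m hm 0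
  simp at h6 h7
  omega

variable {V : ValuationSubring ℂ} [CharP (ResidueField V) 3] {G : Type*} [Group G]
  {F : G →* ↥(chevE8.group (ZMod 3))}

private noncomputable def _root_.Cfsg.Agent.LsF.f0ee0f5_12 : {f // @Cfsg.Agent.H942.E8Alc.vecL = f} := ⟨_, by first | (delta Cfsg.Agent.H942.E8Alc.vecL; rewrite [Cfsg.Agent.LsF.getD_eq]; exact rfl) | exact rfl⟩
/-- **Elements of order 13 of `E₈(3)`.** `8 + 2 * cnt 13 1 0 Y` is the dimension of the fixed space. -/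
theorem thirteen {g : G} {Y : List ℕ} {ξ : ℂ} (hg : g ^ 13 = 1) (hne : F g ≠ 1) (h : Spec V F g 13 Y ξ)
    (hT : TorD e8T (F g) 13 (vecL 13 Y)) :
    ((cnt 13 1 0 Y = 6 ∨ cnt 13 1 0 Y = 12) ∧ Partner 13 (F g)) ∨
      (cnt 13 1 0 Y = 15 ∧ 1360894629560719968 ≤ Nat.card ↥(Subgroup.centralizer {F g})) ∨
      (cnt 13 1 0 Y = 36 ∧ 18743628421389393110651003031810837312 ≤ Nat.card ↥(Subgroup.centralizer {F g})) := by
  have hx : (F g) ^ 13 = 1 := by rw [← map_pow, hg, map_one]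
  have h1 := allAlc_spec th8 13 _ (by decide) check13 Y h.len h.alc
  have h2 : invB 13 3 R8 Y = true := invB_of (by norm_num) tab8 len8 h.frob
  rw [h2, cond_true, decide_eq_true_iff] at h1
  unfold L13 at h1
  simp only [List.mem_cons, List.not_mem_nil, or_false] at h1
  rcases h1 with rfl | rfl | rfl | rfl | rfl | rfl | rfl
  · exfalso
    apply hne
    have h3 := (h.ord 1).2 fun a ha => by
      rw [ms_tab tab8] at ha
      have h4 : ∀ r ∈ R8, dotF (l := 8) r (vecL 13 [0, 0, 0, 0, 0, 0, 0, 0]) = 0 := by (refine of_decide_eq_true ?_; (try (delta Cfsg.Agent.H944.Tab.dotF; rewrite [Cfsg.Agent.LsF.sumF_pat, Cfsg.Agent.LsF.f0ee0f5_12.2, Cfsg.Agent.LsF.zadd_pat, Cfsg.Agent.LsF.zmul_pat, Cfsg.Agent.LsF.zcast_pat, Cfsg.Agent.LsF.zdecEq_eq, Cfsg.Agent.LsF.zACM_pat, Cfsg.Agent.LsF.getD_eq, Cfsg.Agent.LsF.dBAll_eq, Cfsg.Agent.LsF.decide_eq])); decide +kernel)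
      rw [Multiset.mem_add] at ha
      rcases ha with ha | ha
      · rw [Multiset.mem_coe, List.mem_map] at ha
        obtain ⟨r, hr, rfl⟩ := ha
        rw [h4 r hr]
        simp
      · rw [Multiset.mem_coe, List.mem_map] at ha
        obtain ⟨r, hr, rfl⟩ := ha
        rw [h4 r hr]
        simp
    rwa [pow_one] at h3
  · exact Or.inr (Or.inr ⟨by decide +kernel, bndCEa ▸ cent_le (by norm_num) (by norm_num) chkCEa hx hT⟩)
  · exact Or.inr (Or.inr ⟨by decide +kernel, bndCEb ▸ cent_le (by norm_num) (by norm_num) chkCEb hx hT⟩)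
  · exact Or.inl ⟨by decide +kernel, partner_a hx hT⟩
  · exact Or.inl ⟨by decide +kernel, partner_b hx hT⟩
  · exact Or.inr (Or.inl ⟨by decide +kernel, bndCAa ▸ cent_le (by norm_num) (by norm_num) chkCAa hx hT⟩)
  · exact Or.inr (Or.inl ⟨by decide +kernel, bndCAb ▸ cent_le (by norm_num) (by norm_num) chkCAb hx hT⟩)

/-- the alcove vectors of the elements of order dividing 5 -/
theorem check5' : allAlc th8 5 (fun Y => bif invB 5 3 R8 Y then decide (Y ∈ ([[0, 0, 0, 0, 0, 0, 0, 0],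
    [0, 0, 0, 0, 1, 0, 0, 0], [0, 0, 1, 0, 0, 0, 0, 0], [0, 1, 0, 0, 0, 0, 0, 1], [1, 0, 0, 0, 0, 0, 0, 1]] :
    List (List ℕ))) else true) = true := by
  ((try (rewrite [Cfsg.Agent.LsF.dMemL_pat, Cfsg.Agent.LsF.f0ee0f5_8.2, Cfsg.Agent.LsF.f0ee0f5_11.2, Cfsg.Agent.LsF.cond_eq, Cfsg.Agent.LsF.instDecEq_eq, Cfsg.Agent.LsF.decide_eq])); decide +kernel)

/-- **Elements of order 5 of `E₈(3)`** with a fixed space of dimension 68: an involution commuting with `x` and fixing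
all the fixed vectors of `x`. -/
theorem five {g : G} {Y : List ℕ} {ξ : ℂ} (hg : g ^ 5 = 1) (hc : cnt 5 1 0 Y = 30) (h : Spec V F g 5 Y ξ)
    (hT : TorD e8T (F g) 5 (vecL 5 Y)) :
    ∃ x' : ↥(chevE8.group (ZMod 3)), x' ^ 2 = 1 ∧ x' ≠ 1 ∧ Commute (F g) x' ∧
      ∀ v : chevE8.Idx → ZMod 3, (mt (F g)).mulVec v = v → (mt x').mulVec v = v := by
  have hx : (F g) ^ 5 = 1 := by rw [← map_pow, hg, map_one]
  have h1 := allAlc_spec th8 5 _ (by decide) check5' Y h.len h.alc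
  have h2 : invB 5 3 R8 Y = true := invB_of (by norm_num) tab8 len8 h.frob
  rw [h2, cond_true, decide_eq_true_iff] at h1
  simp only [List.mem_cons, List.not_mem_nil, or_false] at h1
  rcases h1 with rfl | rfl | rfl | rfl | rfl
  · exact absurd hc (by decide +kernel)
  · exact absurd hc (by decide +kernel)
  · exact absurd hc (by decide +kernel)
  · exact absurd hc (by decide +kernel)
  · obtain ⟨x', h1, h2, h3, h4, -⟩ := centre (by norm_num) (by norm_num) (by norm_num) (by norm_num) chkCDc hx hT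
    refine ⟨x', h1, fun h5 => ?_, h2, h3⟩
    have h6 := h4 1 (by rw [h5, one_pow]) 0
    simp at h6

end Cfsg.Agent.H540.E8C
end
end

-- part: H540/E8C/L13/Iface2_mg
section
prune_inst 0x111001000400020000000506700002413300000200000000906600000486b80200000020f02009120000800420310008100000200040000004000400011c008008804200b208010424000e000000000000000000000000000000000000041000000000000
set_option linter.all false
open scoped Cfsg.Agent.FastGrp

-- part: H540/E8C/L13/Iface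
section
/-!
# S5919, the row `PSL₂(13)`: interface (helper540)

`Q = SL₂(13)` acts on a vector space `V` over `F₃` through `PSL₂(13)` (`ρ (-1) = 1`).
`U` = the matrices `uu a`, `T ∩ D26` generated by `tt` (of order 4, `tt ^ 2 = -1`), `eta` of order 3, `ww` the Weyl element.
-/

set_option autoImplicit false

namespace Cfsg.Agent.H540.E8C.L13

universe u

/-- `SL₂(13)` -/
abbrev Q : Type := Matrix.SpecialLinearGroup (Fin 2) (ZMod 13)

def uu (a : ZMod 13) : Q := ⟨!![1, a; 0, 1], by simp [Matrix.det_fin_two]⟩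
def tt : Q := ⟨!![5, 0; 0, 8], by decide⟩
def eta : Q := ⟨!![3, 0; 0, 9], by decide⟩
def ww : Q := ⟨!![0, 1; -1, 0], by decide⟩

variable {V : Type*} [AddCommGroup V] [Module (ZMod 3) V] (ρ : Representation (ZMod 3) Q V)

/-- the vectors fixed by the elements with the property `P` -/
def fixP (P : Q → Prop) : Submodule (ZMod 3) V where
  carrier := {v | ∀ g, P g → ρ g v = v}
  add_mem' := fun ha hb g hg => by rw [map_add, ha g hg, hb g hg]
  zero_mem' := fun g _ => map_zero _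
  smul_mem' := fun c v hv g hg => by rw [map_smul, hv g hg]

/-- `e_U w` (note `13 = 1` in `F₃`) -/
def om : V →ₗ[ZMod 3] V := ∑ a : ZMod 13, ρ (uu a) ∘ₗ ρ ww

/-- `ω + 1 + η + η ^ 2`: an involution on the vectors fixed by `uu a` and `tt` -/
def sg : V →ₗ[ZMod 3] V := om ρ + LinearMap.id + ρ eta + ρ (eta * eta)

/-- the eigenspaces of `sg` on the vectors fixed by `D26` -/
def XX (ε : ZMod 3) : Submodule (ZMod 3) V where
  carrier := {v | (∀ a, ρ (uu a) v = v) ∧ ρ tt v = v ∧ sg ρ v = ε • v}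
  add_mem' := fun ha hb => ⟨fun a => by rw [map_add, ha.1 a, hb.1 a], by rw [map_add, ha.2.1, hb.2.1],
    by rw [map_add, ha.2.2, hb.2.2, smul_add]⟩
  zero_mem' := ⟨fun a => map_zero _, map_zero _, by rw [map_zero, smul_zero]⟩
  smul_mem' := fun c v hv => ⟨fun a => by rw [map_smul, hv.1 a], by rw [map_smul, hv.2.1],
    by rw [map_smul, hv.2.2, smul_comm]⟩

/-- **Task R1.** -/
def R1 : Prop := ∀ (V : Type) [AddCommGroup V] [Module (ZMod 3) V] [Module.Finite (ZMod 3) V]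
    (ρ : Representation (ZMod 3) Q V) (_ : ρ (-1) = 1)
    (B : LinearMap.BilinForm (ZMod 3) V) (_ : B.Nondegenerate) (_ : B.IsSymm)
    (_ : ∀ g v v', B (ρ g v) (ρ g v') = B v v'),
    2 * Module.finrank (ZMod 3) (XX ρ 1) ≤
      3 * Module.finrank (ZMod 3) (fixP ρ fun _ => True) + Module.finrank (ZMod 3) (XX ρ (-1))

/-- **Task GRP13.** -/
def Grp13 : Prop := ∀ (F : Type u) [Field F] [Fintype F] (_ : Fintype.card F = 13) (H : Type) [Group H] [Finite H]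
    (_ : Nonempty (↥(Cfsg.generalizedFittingSubgroup H) ≃* Matrix.ProjectiveSpecialLinearGroup (Fin 2) F)),
    ∃ φ : Q →* H, φ.range = Cfsg.generalizedFittingSubgroup H ∧ (∀ g, φ g = 1 ↔ g = 1 ∨ g = -1) ∧
      (∀ a b : H, a ∉ φ.range → b ∉ φ.range → a * b ∈ φ.range) ∧
      Nat.card ↥(Subgroup.centralizer ({φ (uu 1)} : Set H)) ≤ 13

end Cfsg.Agent.H540.E8C.L13
end

-- part: H540/E8C/L13/Iface2
section
/-!
# S5919, the row `PSL₂(13)`: interface, second part (helper540)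
-/

set_option autoImplicit false
set_option maxRecDepth 100000

namespace Cfsg.Agent.H540.E8C.L13

open Cfsg Cfsg.Lie Module
open Cfsg.Agent.H540.E8C.End

universe u

/-- the representation on the adjoint module; `rp F g v = ac (F g) v` by `rfl` -/
noncomputable def rp {G : Type*} [Group G] (F : G →* E) : Representation (ZMod 3) G LL :=
  ((Matrix.toLinAlgEquiv' : Matrix chevE8.Idx chevE8.Idx (ZMod 3) ≃ₐ[ZMod 3]
    ((chevE8.Idx → ZMod 3) →ₗ[ZMod 3] (chevE8.Idx → ZMod 3))) :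
      Matrix chevE8.Idx chevE8.Idx (ZMod 3) →* ((chevE8.Idx → ZMod 3) →ₗ[ZMod 3] (chevE8.Idx → ZMod 3))).comp
    ((Units.coeHom (Matrix chevE8.Idx chevE8.Idx (ZMod 3))).comp ((chevE8.group (ZMod 3)).subtype.comp F))

theorem rp_apply {G : Type*} [Group G] (F : G →* E) (g : G) (v : LL) : rp F g v = ac (F g) v := rfl

/-- the trace zero matrix normalised by `D14` -/
def M0 : Matrix (Fin 2) (Fin 2) (ZMod 13) := !![5, 5; 5, 8]

/-- the dihedral group of order 14 (28 elements of `SL₂(13)`; generated by `c7`, `ww`, `-1`) -/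
def P14 (g : Q) : Prop := g.1 * M0 = M0 * g.1 ∨ g.1 * M0 = -(M0 * g.1)

/-- an element of order 7 modulo `-1` of `P14`, inverted by `ww` modulo `-1` -/
def c7 : Q := ⟨!![0, 5; 5, 3], by decide⟩

/-- generators of the four-group -/
def PV4 (g : Q) : Prop := g = tt ∨ g = ww

def PU (g : Q) : Prop := ∃ a, g = uu a

/-- the vectors fixed by `U` and inverted by `tt` -/
def W2 {V : Type*} [AddCommGroup V] [Module (ZMod 3) V] (ρ : Representation (ZMod 3) Q V) : Submodule (ZMod 3) V where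
  carrier := {v | (∀ a, ρ (uu a) v = v) ∧ ρ tt v = - v}
  add_mem' := fun ha hb => ⟨fun a => by rw [map_add, ha.1 a, hb.1 a], by rw [map_add, ha.2, hb.2, neg_add]⟩
  zero_mem' := ⟨fun a => map_zero _, by rw [map_zero, neg_zero]⟩
  smul_mem' := fun c v hv => ⟨fun a => by rw [map_smul, hv.1 a], by rw [map_smul, hv.2, smul_neg]⟩

/-- **R2** (helper540) -/
def R2 : Prop := ∀ (V : Type) [AddCommGroup V] [Module (ZMod 3) V] [Module.Finite (ZMod 3) V]
    (ρ : Representation (ZMod 3) Q V) (_ : ρ (-1) = 1),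
    3 * finrank (ZMod 3) (fixP ρ P14) + finrank (ZMod 3) (W2 ρ) + finrank (ZMod 3) (XX ρ (-1)) ≤
      finrank (ZMod 3) (fixP ρ PV4) + 2 * finrank (ZMod 3) (XX ρ 1)

/-- **Task NUM13** -/
def Num13 : Prop := ∀ (F : Q →* E) (_ : ∀ g, F g = 1 ↔ g = 1 ∨ g = -1),
    (∃ t2 t7 : ℤ, (t2 = -8 ∨ t2 = 24) ∧ (t7 = 3 ∨ t7 = 52) ∧
      14 * (finrank (ZMod 3) (fixP (rp F) P14) : ℤ) = 248 + 6 * t7 + 7 * t2 ∧
      2 * (finrank (ZMod 3) (W2 (rp F)) : ℤ) = finrank (ZMod 3) (fixP (rp F) PU) - t2 ∧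
      4 * (finrank (ZMod 3) (fixP (rp F) PV4) : ℤ) = 248 + 3 * t2) ∧
    (((finrank (ZMod 3) (fixP (rp F) PU) = 20 ∨ finrank (ZMod 3) (fixP (rp F) PU) = 32) ∧ Partner 13 (F (uu 1))) ∨
      (finrank (ZMod 3) (fixP (rp F) PU) = 38 ∧
        1360894629560719968 ≤ Nat.card ↥(Subgroup.centralizer {F (uu 1)})) ∨
      (finrank (ZMod 3) (fixP (rp F) PU) = 80 ∧
        18743628421389393110651003031810837312 ≤ Nat.card ↥(Subgroup.centralizer {F (uu 1)}))) ∧
    Nat.card {v : LL // ac (F (uu 1)) v = v} = 3 ^ finrank (ZMod 3) (fixP (rp F) PU)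

/-- the row `PSL₂(13)` -/
def Row13 : Prop := ∀ (F : Type u) [Field F] [Fintype F] (_ : Fintype.card F = 13) (H : Subgroup E)
    (_ : Nonempty (↥(Cfsg.generalizedFittingSubgroup ↥H) ≃* Matrix.ProjectiveSpecialLinearGroup (Fin 2) F)),
    ¬ IsCoatom H

end Cfsg.Agent.H540.E8C.L13
end

-- part: H990/S62/Val5
section
/-!
# S5919: elements of order 5 of `E₈(3)`: values of the Brauer character of the adjoint module
-/

set_option autoImplicit false
set_option linter.unusedSectionVars false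
set_option maxRecDepth 100000

namespace Cfsg.Agent.H990.S62

open Cfsg Cfsg.Lie Cfsg.Lie.ChevalleyDatum
open Cfsg.Agent.ChevalleyStructure Cfsg.Agent.ChevalleyStructure.CoxeterGeomTypes
open Cfsg.Agent.H942.E8Tab Cfsg.Agent.H942.E8Alc Cfsg.Agent.H942.ValsChar Cfsg.Agent.H942.E8Val
open Cfsg.Agent.H942.CB Cfsg.Agent.H540.E8C
open Cfsg.Agent.H944.RootVals Cfsg.Agent.H944.Tab Cfsg.Agent.H944.Kac
open Cfsg.Agent.H657 IsLocalRing Module

private noncomputable def _root_.Cfsg.Agent.LsF.f68cf12_0 : {f // @Cfsg.Agent.H944.Tab.allAlc = f} := ⟨_, by first | (delta Cfsg.Agent.H944.Tab.allAlc List.brecOn Cfsg.Agent.H944.Tab.allAlc._f List.brecOn.go; rewrite [Cfsg.Agent.LsF.nadd_pat, Cfsg.Agent.LsF.nmul_pat, Cfsg.Agent.LsF.nsub_pat, Cfsg.Agent.LsF.ndiv_pat, Cfsg.Agent.LsF.all_eq, Cfsg.Agent.LsF.range_eq]; (try delta Cfsg.Agent.H944.Tab.allAlc.match_1); (try delta List.casesOn); first | dsimp -zeta only | exact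 rfl) | exact rfl⟩
private noncomputable def _root_.Cfsg.Agent.LsF.f68cf12_1 : {f // @Cfsg.Agent.H944.Tab.dotN = f} := ⟨_, by first | (delta Cfsg.Agent.H944.Tab.dotN List.brecOn List.brecOn.go Cfsg.Agent.H944.Tab.dotN._f; rewrite [Cfsg.Agent.LsF.nadd_pat, Cfsg.Agent.LsF.nmul_pat]; (try delta Cfsg.Agent.H944.Tab.dotN.match_1); (try delta Cfsg.Agent.H944.Tab.dotN._sparseCasesOn_1); first | dsimp -zeta only | exact rfl) | exact rfl⟩
private noncomputable def _root_.Cfsg.Agent.LsF.f68cf12_2 : {f // @Cfsg.Agent.H944.Tab.sumH = f} := ⟨_, by first | (delta Cfsg.Agent.H944.Tab.sumH Cfsg.Agent.H944.Tab.sumH._f List.brecOn List.brecOn.go; rewrite [Cfsg.Agent.LsF.f68cf12_1.2, Cfsg.Agent.LsF.nadd_pat]; (try delta Cfsg.Agent.H944.Tab.sumH.match_1); (try delta List.casesOn); first | dsimp -zeta only | exact rfl) | exact rfl⟩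
private noncomputable def _root_.Cfsg.Agent.LsF.f68cf12_3 : {f // @Cfsg.Agent.H944.Tab.hh = f} := ⟨_, by first | (delta Cfsg.Agent.H944.Tab.hh; rewrite [Cfsg.Agent.LsF.nadd_pat, Cfsg.Agent.LsF.nsub_pat, Cfsg.Agent.LsF.nmod_pat, Cfsg.Agent.LsF.npow_pat]; exact rfl) | exact rfl⟩
private noncomputable def _root_.Cfsg.Agent.LsF.f68cf12_4 : {f // @Cfsg.Agent.H944.Tab.invB = f} := ⟨_, by first | (delta Cfsg.Agent.H944.Tab.invB; rewrite [Cfsg.Agent.LsF.f68cf12_2.2, Cfsg.Agent.LsF.f68cf12_3.2, Cfsg.Agent.LsF.nmul_pat]; exact rfl) | exact rfl⟩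
private noncomputable def _root_.Cfsg.Agent.LsF.f68cf12_5 : {f // @Cfsg.Agent.H942.E8Val.cnt = f} := ⟨_, by first | (delta Cfsg.Agent.H942.E8Val.cnt; rewrite [Cfsg.Agent.LsF.f68cf12_2.2, Cfsg.Agent.LsF.nmul_pat, Cfsg.Agent.LsF.nmod_pat, Cfsg.Agent.LsF.cond_eq]; exact rfl) | exact rfl⟩
theorem check5 : allAlc th8 5 (fun Y => bif invB 5 3 R8 Y then decide (cnt 5 1 0 Y ∈ [20, 22, 30, 120]) else true) =
    true := by
  ((try (rewrite [Cfsg.Agent.LsF.dMemE_pat, Cfsg.Agent.LsF.f68cf12_0.2, Cfsg.Agent.LsF.f68cf12_4.2, Cfsg.Agent.LsF.f68cf12_5.2, Cfsg.Agent.LsF.cond_eq, Cfsg.Agent.LsF.instDecEq_eq, Cfsg.Agent.LsF.decide_eq])); decide +kernel)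

theorem gen5 : ∀ u : ZMod 5, u ≠ 0 → ∃ k < 4, u = (3 : ZMod 5) ^ k := by decide

/-- **Elements of order dividing 5.** -/
theorem val5 (V : ValuationSubring ℂ) [CharP (ResidueField V) 3] {G : Type*} [Group G]
    (F : G →* ↥(chevE8.group (ZMod 3))) {g : G} (hg : g ^ 5 = 1) (hne : F g ≠ 1) :
    ∃ t : ℤ, (t = -2 ∨ t = 3 ∨ t = 23) ∧ (∀ d : ℕ, ¬ 5 ∣ d → bc 3 (adj V F) (g ^ d) = t) ∧
      (t = 23 → ∃ x' : ↥(chevE8.group (ZMod 3)), x' ^ 2 = 1 ∧ x' ≠ 1 ∧ Commute (F g) x' ∧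
        ∀ v : chevE8.Idx → ZMod 3, (mt (F g)).mulVec v = v → (mt x').mulVec v = v) := by
  have : Fact (Nat.Prime 5) := ⟨by norm_num⟩
  obtain ⟨Y, ξ, h, hT⟩ := exists_specT (V := V) F (N := 5) (by norm_num) (by norm_num) hg
  have h1 := allAlc_spec th8 5 _ (by decide) check5 Y h.len h.alc
  have h2 : invB 5 3 R8 Y = true := invB_of (by norm_num) tab8 len8 h.frob
  rw [h2, cond_true, decide_eq_true_iff] at h1
  have hus : ∀ u : ZMod 5, u ≠ 0 → ms chevE8 8 (vecL 5 Y) = (ms chevE8 8 (vecL 5 Y)).map (fun a => u * a) := by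
    intro u hu
    obtain ⟨k, -, hk⟩ := gen5 u hu
    rw [hk]
    exact map_mul_pow h.frob k
  have hval : ∀ d : ℕ, ¬ 5 ∣ d → 4 * bc 3 (adj V F) (g ^ d) = 10 * (cnt 5 1 0 Y : ℂ) - 208 := by
    intro d hd
    have := bc_prime h hus hd
    push_cast at this
    linear_combination this
  have hcard := ord_prime h
  simp only [List.mem_cons, List.not_mem_nil, or_false] at h1
  rcases h1 with h1 | h1 | h1 | h1
  · refine ⟨-2, by simp, fun d hd => ?_, fun h => by norm_num at h⟩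
    have := hval d hd
    rw [h1] at this
    push_cast at this ⊢
    linear_combination this / 4
  · refine ⟨3, by simp, fun d hd => ?_, fun h => by norm_num at h⟩
    have := hval d hd
    rw [h1] at this
    push_cast at this ⊢
    linear_combination this / 4
  · refine ⟨23, by simp, fun d hd => ?_, fun _ => five hg h1 h hT⟩
    have := hval d hd
    rw [h1] at this
    push_cast at this ⊢
    linear_combination this / 4
  · exact absurd (hcard.2 h1) hne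

end Cfsg.Agent.H990.S62
end

-- part: H108/S62/AutSp
section
/-!
# S5919, row `Sp₆(2)`, task B1 (helper108): the automorphisms of `Sp₆(2)` are inner
-/

set_option autoImplicit false

namespace Cfsg.Agent.H108.S62

/-- **Task B1** -/
theorem autSp : Cfsg.Agent.H942.S62.AutSp := fun α => Cfsg.Agent.StandardComponent.SpTwoAut.inner α

end Cfsg.Agent.H108.S62
end

-- part: H976/S62/InvY0
section
/-!
# S5919, row `Sp₆(2)`, task B2: the involutions commuting with `y0` (helper976)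
-/

set_option autoImplicit false

namespace Cfsg.Agent.H976.S62

open Cfsg.Agent.H942.S62

/-- the other basis vector of the first hyperbolic plane -/
def f0 : V6 := Pi.single (Sum.inr 0) 1

/-- a vector of `[V, y0]` -/
def w0 : V6 := Pi.single (Sum.inl 1) 1

/-- `p(y0) v` for `p = c₀ + c₁ X + c₂ X² + c₃ X³` -/
def po (c : Fin 4 → ZMod 2) (v : V6) : V6 :=
  c 0 • v + (c 1 • mv y0 v + (c 2 • mv y0 (mv y0 v) + c 3 • mv y0 (mv y0 (mv y0 v))))

/-- the trace -/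
def tr (v : V6) : V6 := v + (mv y0 v + (mv y0 (mv y0 v) + (mv y0 (mv y0 (mv y0 v)) + mv y0 (mv y0 (mv y0 (mv y0 v))))))

theorem fix_y0 : ∀ v : V6, mv y0 v = v → v = 0 ∨ v = e0 ∨ v = f0 ∨ v = e0 + f0 := by (delta Cfsg.Agent.H942.S62.mv Cfsg.Agent.H942.S62.y0; set_option synthInstance.maxSize 20000 in open scoped Cfsg.Agent.Lib.MatDec in decide +kernel)

private noncomputable def _root_.Cfsg.Agent.LsF.f68cf12_6 : {f // @Cfsg.Agent.H942.S62.mv = f} := ⟨_, by first | (delta Cfsg.Agent.H942.S62.mv; rewrite [Cfsg.Agent.LsF.mulVec_eq]; exact rfl) | exact rfl⟩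
private noncomputable def _root_.Cfsg.Agent.LsF.f68cf12_9 : {f // @Cfsg.Agent.H976.S62.tr = f} := ⟨_, by first | (delta Cfsg.Agent.H976.S62.tr; rewrite [Cfsg.Agent.LsF.padd_pat, Cfsg.Agent.LsF.f68cf12_6.2, Cfsg.Agent.LsF.zadd_pat]; exact rfl) | exact rfl⟩
private noncomputable def _root_.Cfsg.Agent.LsF.f68cf12_10 : {f // @Cfsg.Agent.H976.S62.po = f} := ⟨_, by first | (delta Cfsg.Agent.H976.S62.po; rewrite [Cfsg.Agent.LsF.padd_pat, Cfsg.Agent.LsF.psmul_pat, Cfsg.Agent.LsF.f68cf12_6.2, Cfsg.Agent.LsF.zadd_pat, Cfsg.Agent.LsF.zmul_pat]; exact rfl) | exact rfl⟩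
private noncomputable def _root_.Cfsg.Agent.LsF.f68cf12_11 : {f // @Cfsg.Agent.H976.S62.w0 = f} := ⟨_, by first | (delta Cfsg.Agent.H976.S62.w0 Function.update Pi.single; rewrite [Cfsg.Agent.LsF.dFinEq_eq, Cfsg.Agent.LsF.dite_eq]; exact rfl) | exact rfl⟩
theorem tr_zero : ∀ v : V6, tr v = 0 → ∃ c : Fin 4 → ZMod 2, v = po c w0 := by (refine of_decide_eq_true ?_; (try (rewrite [Cfsg.Agent.LsF.piFintype_pat, Cfsg.Agent.LsF.f68cf12_9.2, Cfsg.Agent.LsF.f68cf12_10.2, Cfsg.Agent.LsF.f68cf12_11.2, Cfsg.Agent.LsF.zdecEq_eq, Cfsg.Agent.LsF.finFintype_eq, Cfsg.Agent.LsF.zFintype_eq, Cfsg.Agent.LsF.dForall_eq, Cfsg.Agent.LsF.dExists_eq, Cfsg.Agent.LsF.dPi_eq, Cfsg.Agent.LsF.dFinEq_eq, Cfsg.Agent.LsF.dAllP_eq, Cfsg.Agent.LsF.decide_eq])); decide +kernel)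

theorem tr_w0 : tr w0 = 0 := by decide +kernel

theorem po_po : ∀ c : Fin 4 → ZMod 2, po c (po c w0) = w0 → po c w0 = w0 := by (refine of_decide_eq_true ?_; (try (rewrite [Cfsg.Agent.LsF.piFintype_pat, Cfsg.Agent.LsF.f68cf12_10.2, Cfsg.Agent.LsF.f68cf12_11.2, Cfsg.Agent.LsF.zdecEq_eq, Cfsg.Agent.LsF.finFintype_eq, Cfsg.Agent.LsF.zFintype_eq, Cfsg.Agent.LsF.dForall_eq, Cfsg.Agent.LsF.dPi_eq, Cfsg.Agent.LsF.dAllP_eq, Cfsg.Agent.LsF.decide_eq])); decide +kernel)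

/-- the two other involutions -/
def s1 : Sp2 := ⟨Matrix.fromBlocks !![0, 0, 0; 0, 1, 0; 0, 0, 1] !![1, 0, 0; 0, 0, 0; 0, 0, 0]
  !![1, 0, 0; 0, 0, 0; 0, 0, 0] !![0, 0, 0; 0, 1, 0; 0, 0, 1], SymplecticGroup.mem_iff.2 (by (set_option synthInstance.maxSize 20000 in open scoped Cfsg.Agent.Lib.MatDec in decide +kernel))⟩

def s2 : Sp2 := ⟨Matrix.fromBlocks 1 0 !![1, 0, 0; 0, 0, 0; 0, 0, 0] 1, SymplecticGroup.mem_iff.2 (by (set_option synthInstance.maxSize 20000 in open scoped Cfsg.Agent.Lib.MatDec in decide +kernel))⟩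

theorem s1_comm : s1 * y0 = y0 * s1 := by (delta Cfsg.Agent.H976.S62.s1 Cfsg.Agent.H942.S62.y0; set_option synthInstance.maxSize 20000 in open scoped Cfsg.Agent.Lib.MatDec in decide +kernel)
theorem s2_comm : s2 * y0 = y0 * s2 := by (delta Cfsg.Agent.H976.S62.s2 Cfsg.Agent.H942.S62.y0; set_option synthInstance.maxSize 20000 in open scoped Cfsg.Agent.Lib.MatDec in decide +kernel)

theorem mv_add (g : Sp2) (v w : V6) : mv g (v + w) = mv g v + mv g w := Matrix.mulVec_add _ _ _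
theorem mv_smul (g : Sp2) (c : ZMod 2) (v : V6) : mv g (c • v) = c • mv g v := Matrix.mulVec_smul _ _ _

private noncomputable def _root_.Cfsg.Agent.LsF.f68cf12_7 : {f // @Cfsg.Agent.H942.S62.e0 = f} := ⟨_, by first | (delta Cfsg.Agent.H942.S62.e0 Function.update Pi.single; rewrite [Cfsg.Agent.LsF.dFinEq_eq, Cfsg.Agent.LsF.dite_eq]; exact rfl) | exact rfl⟩
private noncomputable def _root_.Cfsg.Agent.LsF.f68cf12_8 : {f // @Cfsg.Agent.H976.S62.f0 = f} := ⟨_, by first | (delta Cfsg.Agent.H976.S62.f0 Function.update Pi.single; rewrite [Cfsg.Agent.LsF.dFinEq_eq, Cfsg.Agent.LsF.dite_eq]; exact rfl) | exact rfl⟩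
/-- an element of `Sp2` is determined by the images of `e0`, `f0`, `w0` if it commutes with `y0` -/
theorem ext_y0 {x z : Sp2} (hx : x * y0 = y0 * x) (hz : z * y0 = y0 * z) (h1 : mv x e0 = mv z e0) (h2 : mv x f0 = mv z f0)
    (h3 : mv x w0 = mv z w0) : x = z := by
  have hcx : ∀ v, mv x (mv y0 v) = mv y0 (mv x v) := fun v => by rw [← mv_mul, hx, mv_mul]
  have hcz : ∀ v, mv z (mv y0 v) = mv y0 (mv z v) := fun v => by rw [← mv_mul, hz, mv_mul]
  have hall : ∀ v : V6, ∃ (a b : ZMod 2) (c : Fin 4 → ZMod 2), v = a • e0 + (b • f0 + po c w0) := by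
    (refine of_decide_eq_true ?_; (try (rewrite [Cfsg.Agent.LsF.padd_pat, Cfsg.Agent.LsF.psmul_pat, Cfsg.Agent.LsF.piFintype_pat, Cfsg.Agent.LsF.f68cf12_7.2, Cfsg.Agent.LsF.f68cf12_8.2, Cfsg.Agent.LsF.f68cf12_10.2, Cfsg.Agent.LsF.f68cf12_11.2, Cfsg.Agent.LsF.zadd_pat, Cfsg.Agent.LsF.zmul_pat, Cfsg.Agent.LsF.zdecEq_eq, Cfsg.Agent.LsF.finFintype_eq, Cfsg.Agent.LsF.zFintype_eq, Cfsg.Agent.LsF.dForall_eq, Cfsg.Agent.LsF.dExists_eq, Cfsg.Agent.LsF.dPi_eq, Cfsg.Agent.LsF.dFinEq_eq, Cfsg.Agent.LsF.decide_eq])); decide +kernel)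
  have key : ∀ v, mv x v = mv z v := by
    intro v
    obtain ⟨a, b, c, rfl⟩ := hall v
    simp only [po, mv_add, mv_smul, hcx, hcz, h1, h2, h3]
  apply Subtype.ext
  apply Matrix.ext_of_mulVec_single
  intro i
  exact key _

theorem e0_ne : e0 ≠ 0 := by decide +kernel
theorem f0_ne : f0 ≠ 0 := by decide +kernel
theorem e_ne_f : e0 ≠ f0 := by decide +kernel
theorem y0_e0 : mv y0 e0 = e0 := by decide +kernel
theorem y0_f0 : mv y0 f0 = f0 := by decide +kernel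

/-- **Task B2** -/
theorem invY0 : InvY0 := by
  intro x hxx hx1 hxy
  have hc : ∀ v, mv x (mv y0 v) = mv y0 (mv x v) := fun v => by rw [← mv_mul, hxy, mv_mul]
  have hx2 : ∀ v, mv x (mv x v) = v := fun v => by rw [← mv_mul, hxx, mv_one]
  have hx0 : mv x 0 = 0 := Matrix.mulVec_zero _
  have hw : mv x w0 = w0 := by
    obtain ⟨c, hc'⟩ := tr_zero (mv x w0) (by
      have h1 : tr (mv x w0) = mv x (tr w0) := by simp only [tr, mv_add, hc]
      rw [h1, tr_w0, hx0])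
    have h2 : mv x (po c w0) = po c (mv x w0) := by simp only [po, mv_add, mv_smul, hc]
    have h := hx2 w0
    rw [hc', h2, hc'] at h
    rw [hc']
    exact po_po c h
  have he := fix_y0 (mv x e0) (by rw [← hc, y0_e0])
  have hf := fix_y0 (mv x f0) (by rw [← hc, y0_f0])
  have hce := hx2 e0
  have hcf := hx2 f0
  rcases he with he | he | he | he
  · rw [he, hx0] at hce
    exact absurd hce.symm e0_ne
  · rcases hf with hf | hf | hf | hf
    · rw [hf, hx0] at hcf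
      exact absurd hcf.symm f0_ne
    · rw [hf, he] at hcf
      exact absurd hcf e_ne_f
    · exact absurd (ext_y0 hxy (by rw [one_mul, mul_one]) (by rw [he, mv_one]) (by rw [hf, mv_one]) (by rw [hw, mv_one])) hx1
    · refine ⟨1, by rw [one_mul, mul_one], ?_⟩
      rw [one_mul, inv_one, mul_one]
      refine ext_y0 hxy (by (delta Cfsg.Agent.H942.S62.t0 Cfsg.Agent.H942.S62.y0; set_option synthInstance.maxSize 20000 in open scoped Cfsg.Agent.Lib.MatDec in decide +kernel)) ?_ ?_ ?_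
      · rw [he]; decide +kernel
      · rw [hf]; decide +kernel
      · rw [hw]; decide +kernel
  · rcases hf with hf | hf | hf | hf
    · rw [hf, hx0] at hcf
      exact absurd hcf.symm f0_ne
    · refine ⟨s2, s2_comm, ?_⟩
      refine ext_y0 hxy (by (refine of_decide_eq_true ?_; (try (rewrite [Cfsg.Agent.LsF.zdecEq_eq, Cfsg.Agent.LsF.dMat_eq, Cfsg.Agent.LsF.dSubEq_eq, Cfsg.Agent.LsF.decide_eq])); decide +kernel)) ?_ ?_ ?_
      · rw [he]; (delta Cfsg.Agent.H942.S62.mv Cfsg.Agent.H976.S62.s2 Cfsg.Agent.H942.S62.t0; set_option synthInstance.maxSize 20000 in open scoped Cfsg.Agent.Lib.MatDec in decide +kernel)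
      · rw [hf]; (delta Cfsg.Agent.H942.S62.mv Cfsg.Agent.H976.S62.s2 Cfsg.Agent.H942.S62.t0; set_option synthInstance.maxSize 20000 in open scoped Cfsg.Agent.Lib.MatDec in decide +kernel)
      · rw [hw]; (delta Cfsg.Agent.H942.S62.mv Cfsg.Agent.H976.S62.s2 Cfsg.Agent.H942.S62.t0; set_option synthInstance.maxSize 20000 in open scoped Cfsg.Agent.Lib.MatDec in decide +kernel)
    · rw [he, hf] at hce
      exact absurd hce.symm e_ne_f
    · rw [he, hf] at hce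
      exact absurd hce (by decide +kernel)
  · rcases hf with hf | hf | hf | hf
    · rw [hf, hx0] at hcf
      exact absurd hcf.symm f0_ne
    · rw [hf, he] at hcf
      exact absurd hcf (by decide +kernel)
    · refine ⟨s1, s1_comm, ?_⟩
      refine ext_y0 hxy (by (refine of_decide_eq_true ?_; (try (rewrite [Cfsg.Agent.LsF.zdecEq_eq, Cfsg.Agent.LsF.dMat_eq, Cfsg.Agent.LsF.dSubEq_eq, Cfsg.Agent.LsF.decide_eq])); decide +kernel)) ?_ ?_ ?_
      · rw [he]; (refine of_decide_eq_true ?_; (try (rewrite [Cfsg.Agent.LsF.padd_pat, Cfsg.Agent.LsF.f68cf12_7.2, Cfsg.Agent.LsF.f68cf12_8.2, Cfsg.Agent.LsF.f68cf12_6.2, Cfsg.Agent.LsF.zadd_pat, Cfsg.Agent.LsF.zdecEq_eq, Cfsg.Agent.LsF.dPi_eq, Cfsg.Agent.LsF.decide_eq])); decide +kernel)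
      · rw [hf]; (refine of_decide_eq_true ?_; (try (rewrite [Cfsg.Agent.LsF.f68cf12_8.2, Cfsg.Agent.LsF.f68cf12_6.2, Cfsg.Agent.LsF.zdecEq_eq, Cfsg.Agent.LsF.dPi_eq, Cfsg.Agent.LsF.decide_eq])); decide +kernel)
      · rw [hw]; (refine of_decide_eq_true ?_; (try (rewrite [Cfsg.Agent.LsF.f68cf12_11.2, Cfsg.Agent.LsF.f68cf12_6.2, Cfsg.Agent.LsF.zdecEq_eq, Cfsg.Agent.LsF.dPi_eq, Cfsg.Agent.LsF.decide_eq])); decide +kernel)
    · rw [he, mv_add, he, hf] at hce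
      exact absurd hce (by decide +kernel)

end Cfsg.Agent.H976.S62
end

-- part: H859/S62/Emb
section
/-!
# S5919, task D1: `Sp₆(2)` in `Ω₈⁺(2)` as the stabiliser of a nonsingular vector (helper859)
-/

set_option autoImplicit false

namespace Cfsg.Agent.H859.S62

open Cfsg Matrix
open Cfsg.Agent.StdO8.Model Cfsg.Agent.StdO8.Code Cfsg.Agent.StdO8.Gen
open Cfsg.Agent.H245.O8Refl (v0 q_v0 q_v0_ne orbit_eq card_stab ns_ne)
open Cfsg.Agent.ClassicalGeometry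

/-- `Sp₆(2)` -/
abbrev S6 : Type := ↥(Matrix.symplecticGroup (Fin 3) (ZMod 2))

/-- the natural module -/
abbrev W6 : Type := Fin 3 ⊕ Fin 3 → ZMod 2

/-- the action -/
abbrev mw (g : S6) (v : W6) : W6 := (g : Matrix (Fin 3 ⊕ Fin 3) (Fin 3 ⊕ Fin 3) (ZMod 2)).mulVec v

/-- the embedding of the natural module -/
def io : W6 →ₗ[ZMod 2] V where
  toFun x := Sum.elim (Fin.cons 0 fun i => x (.inl i)) (Fin.cons 0 fun i => x (.inr i))
  map_add' x y := by
    funext i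
    rcases i with i | i <;> refine Fin.cases ?_ (fun j => ?_) i <;> simp
  map_smul' c x := by
    funext i
    rcases i with i | i <;> refine Fin.cases ?_ (fun j => ?_) i <;> simp

/-- the projection -/
def pj : V →ₗ[ZMod 2] W6 where
  toFun v := Sum.elim (fun i => v (.inl i.succ)) (fun i => v (.inr i.succ))
  map_add' x y := by
    funext i
    rcases i with i | i <;> rfl
  map_smul' c x := by
    funext i
    rcases i with i | i <;> rfl

/-- the first hyperbolic pair -/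
def ea : V := Pi.single (.inl 0) 1
def eb : V := Pi.single (.inr 0) 1

theorem io_inl_zero (x : W6) : io x (.inl 0) = 0 := rfl
theorem io_inr_zero (x : W6) : io x (.inr 0) = 0 := rfl
theorem io_inl (x : W6) (i : Fin 3) : io x (.inl i.succ) = x (.inl i) := rfl
theorem io_inr (x : W6) (i : Fin 3) : io x (.inr i.succ) = x (.inr i) := rfl

theorem pj_io (x : W6) : pj (io x) = x := by
  funext i
  rcases i with i | i <;> rfl

theorem v0_eq : v0 = ea + eb := by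
  funext i
  revert i
  decide +kernel

theorem decomp (v : V) : v = io (pj v) + v (.inl 0) • ea + v (.inr 0) • eb := by
  funext i
  rcases i with i | i <;> refine Fin.cases ?_ (fun j => ?_) i
  · simp [ea, eb, io_inl_zero]
  · simp only [Pi.add_apply, Pi.smul_apply, io_inl]
    simp [ea, eb, pj]
  · simp [ea, eb, io_inr_zero]
  · simp only [Pi.add_apply, Pi.smul_apply, io_inr]
    simp [ea, eb, pj]

theorem B_apply (u v : V) : B u v = ∑ i : Fin 4, (u (.inl i) * v (.inr i) + u (.inr i) * v (.inl i)) := by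
  rw [B, QuadraticMap.polar, q_apply, q_apply, q_apply, ← Finset.sum_sub_distrib, ← Finset.sum_sub_distrib]
  refine Finset.sum_congr rfl fun i _ => ?_
  simp only [Pi.add_apply]
  ring

theorem B_io (x y : W6) : B (io x) (io y) = sympForm 3 (ZMod 2) x y := by
  rw [B_apply, Fin.sum_univ_succ, SympBasic.sympForm_eq_sum]
  simp only [io_inl_zero, io_inr_zero, zero_mul, add_zero, zero_add]
  refine Finset.sum_congr rfl fun i _ => ?_
  rw [io_inl, io_inl, io_inr, io_inr]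
  generalize x (.inl i) = a
  generalize x (.inr i) = b
  generalize y (.inl i) = c
  generalize y (.inr i) = d
  revert a b c d
  decide

theorem B_io_ea (x : W6) : B (io x) ea = 0 := by
  rw [B_apply, Fin.sum_univ_succ, io_inl_zero, io_inr_zero]
  simp [ea]

theorem B_io_eb (x : W6) : B (io x) eb = 0 := by
  rw [B_apply, Fin.sum_univ_succ, io_inl_zero, io_inr_zero]
  simp [eb]

theorem B_ea_eb : B ea eb = 1 := by
  rw [B_apply]; decide

theorem B_io_v0 (x : W6) : B (io x) v0 = 0 := by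
  rw [v0_eq, B_add_right, B_io_ea, B_io_eb, add_zero]

theorem B_v0 (v : V) : B v v0 = v (.inl 0) + v (.inr 0) := by
  conv_lhs => rw [decomp v]
  rw [B_add_left, B_add_left, B_io_v0, B_smul_left, B_smul_left, v0_eq, B_add_right, B_add_right, B_self, B_self,
    B_comm eb ea, B_ea_eb]
  ring

theorem q_smul_v0 (c : ZMod 2) : q (c • v0) = c := by
  rcases z2 c with rfl | rfl
  · rw [zero_smul, q_zero]
  · rw [one_smul, q_v0]

/-- the stabiliser -/
abbrev St : Subgroup Om := MulAction.stabilizer Om v0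

theorem St_fix (s : St) : ((s : Om) : V ≃ₗ[ZMod 2] V) v0 = v0 := s.2

theorem mem_St {g : Om} : g ∈ St ↔ (g : V ≃ₗ[ZMod 2] V) v0 = v0 := Iff.rfl

theorem perp_form {v : V} (h : B v v0 = 0) : v = io (pj v) + v (.inl 0) • v0 := by
  rw [B_v0] at h
  have h1 : v (.inr 0) = v (.inl 0) := by
    generalize v (.inr 0) = a at *
    generalize v (.inl 0) = b at *
    revert a b; decide
  conv_lhs => rw [decomp v]
  rw [h1, v0_eq, smul_add, add_assoc]

theorem St_form (s : St) (x : W6) : ∃ c : ZMod 2,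
    ((s : Om) : V ≃ₗ[ZMod 2] V) (io x) = io (pj (((s : Om) : V ≃ₗ[ZMod 2] V) (io x))) + c • v0 := by
  refine ⟨_, perp_form ?_⟩
  conv_lhs => rw [← St_fix s]
  rw [O8_B (Om_le (s : Om).2), B_io_v0]

/-- the matrix of the action on `v0^⊥/v0` -/
noncomputable def Ms (s : St) : Matrix (Fin 3 ⊕ Fin 3) (Fin 3 ⊕ Fin 3) (ZMod 2) :=
  LinearMap.toMatrix' (pj ∘ₗ (((s : Om) : V ≃ₗ[ZMod 2] V) : V →ₗ[ZMod 2] V) ∘ₗ io)

theorem Ms_mulVec (s : St) (x : W6) : Ms s *ᵥ x = pj (((s : Om) : V ≃ₗ[ZMod 2] V) (io x)) := by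
  rw [Ms, LinearMap.toMatrix'_mulVec]; rfl

theorem St_form' (s : St) (x : W6) : ∃ c : ZMod 2,
    ((s : Om) : V ≃ₗ[ZMod 2] V) (io x) = io (Ms s *ᵥ x) + c • v0 := by
  obtain ⟨c, hc⟩ := St_form s x
  exact ⟨c, by rw [Ms_mulVec]; exact hc⟩

theorem pj_v0 : pj v0 = 0 := by
  funext i
  revert i
  decide +kernel

theorem Ms_mem (s : St) : Ms s ∈ Matrix.symplecticGroup (Fin 3) (ZMod 2) := by
  rw [SympBasic.mem_symplecticGroup_iff]
  intro x y
  obtain ⟨c, hc⟩ := St_form' s x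
  obtain ⟨d, hd⟩ := St_form' s y
  rw [← B_io, ← B_io, ← O8_B (Om_le (s : Om).2) (io x) (io y), hc, hd, B_add_left, B_add_right, B_add_right, B_smul_left,
    B_smul_right, B_smul_left, B_smul_right, B_io_v0, B_comm v0 (io _), B_io_v0, B_self]
  ring

/-- the projection to `Sp₆(2)` -/
noncomputable def pm : St →* S6 where
  toFun s := ⟨Ms s, Ms_mem s⟩
  map_one' := by
    apply Subtype.ext
    apply Matrix.mulVec_injective
    funext x
    show Ms 1 *ᵥ x = (1 : Matrix _ _ (ZMod 2)) *ᵥ x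
    rw [Ms_mulVec, Matrix.one_mulVec]
    exact pj_io x
  map_mul' s t := by
    apply Subtype.ext
    apply Matrix.mulVec_injective
    funext x
    show Ms (s * t) *ᵥ x = (Ms s * Ms t) *ᵥ x
    obtain ⟨c, hc⟩ := St_form' t x
    rw [← Matrix.mulVec_mulVec, Ms_mulVec, Ms_mulVec s]
    show pj (((s : Om) : V ≃ₗ[ZMod 2] V) (((t : Om) : V ≃ₗ[ZMod 2] V) (io x))) = _
    rw [hc, map_add, map_smul, St_fix, map_add, map_smul, pj_v0, smul_zero, add_zero]

theorem pm_mulVec (s : St) (x : W6) : ∃ c : ZMod 2,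
    ((s : Om) : V ≃ₗ[ZMod 2] V) (io x) = io (mw (pm s) x) + c • v0 := St_form' s x

theorem pm_inj : Function.Injective pm := by
  rw [injective_iff_map_eq_one]
  intro s hs
  have h1 : ∀ x, ((s : Om) : V ≃ₗ[ZMod 2] V) (io x) = io x := by
    intro x
    obtain ⟨c, hc⟩ := pm_mulVec s x
    rw [hs] at hc
    have h2 : mw 1 x = x := Matrix.one_mulVec x
    rw [h2] at hc
    have h3 := O8_q (Om_le (s : Om).2) (io x)
    rw [hc, q_add, B_smul_right, B_io_v0, mul_zero, add_zero, q_smul_v0] at h3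
    have h4 : c = 0 := left_eq_add.1 h3.symm
    rw [hc, h4, zero_smul, add_zero]
  set w := ((s : Om) : V ≃ₗ[ZMod 2] V) ea with hw
  have h2 : pj w = 0 := by
    apply SympBasic.eq_zero_of_forall_sympForm_right
    intro y
    rw [← B_io]
    have h3 : B w (io y) = 0 := by
      rw [← h1 y, hw, O8_B (Om_le (s : Om).2), B_comm, B_io_ea]
    rw [decomp w, B_add_left, B_add_left, B_smul_left, B_smul_left, B_comm ea, B_comm eb, B_io_ea, B_io_eb, mul_zero,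
      mul_zero, add_zero, add_zero] at h3
    exact h3
  have h4 : w (.inl 0) + w (.inr 0) = 1 := by
    rw [← B_v0, hw]
    conv_lhs => rw [← St_fix s]
    rw [O8_B (Om_le (s : Om).2), B_v0]
    decide
  have h5 : w = ea ∨ w = eb := by
    rw [decomp w, h2, map_zero, zero_add]
    rcases z2 (w (.inl 0)) with h6 | h6
    · right
      have h7 : w (.inr 0) = 1 := by rw [h6, zero_add] at h4; exact h4
      rw [h6, h7, zero_smul, one_smul, zero_add]
    · left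
      have h7 : w (.inr 0) = 0 := by rw [h6] at h4; exact left_eq_add.1 h4.symm
      rw [h6, h7, zero_smul, one_smul, add_zero]
  have h0 := St_fix s
  rcases h5 with h5 | h5
  · have h6 : ((s : Om) : V ≃ₗ[ZMod 2] V) eb = eb := by
      have h7 := h0
      rw [v0_eq, map_add, ← hw, h5] at h7
      exact add_left_cancel h7
    apply Subtype.ext
    apply Subtype.ext
    apply LinearEquiv.ext
    intro v
    show ((s : Om) : V ≃ₗ[ZMod 2] V) v = v
    conv_lhs => rw [decomp v]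
    rw [map_add, map_add, map_smul, map_smul, h1, h6, ← hw, h5]
    exact (decomp v).symm
  · exfalso
    apply refl_notMem v0 q_v0_ne
    have h6 : ((s : Om) : V ≃ₗ[ZMod 2] V) eb = ea := by
      have h7 := h0
      rw [v0_eq, map_add, ← hw, h5, add_comm ea eb] at h7
      exact add_left_cancel h7
    have h7 : Cfsg.Agent.LieClassical.OrthCore.refl q v0 q_v0_ne = ((s : Om) : V ≃ₗ[ZMod 2] V) := by
      apply LinearEquiv.ext
      intro v
      rw [Cfsg.Agent.LieClassical.OrthCore.refl_apply, q_v0, inv_one, one_mul, sub_eq]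
      conv_rhs => rw [decomp v]
      rw [map_add, map_add, map_smul, map_smul, h1, h6, ← hw, h5]
      have h8 : QuadraticMap.polar (⇑q) v0 v = v (.inl 0) + v (.inr 0) := by
        rw [← B_v0, B_comm]
      rw [h8]
      have h9 : ∀ (y : V) (a b : ZMod 2), y + a • ea + b • eb + (a + b) • v0 = y + a • eb + b • ea := by
        intro y a b
        rw [v0_eq]
        have h10 : ∀ x : V, x + x = 0 := add_self
        rcases z2 a with rfl | rfl <;> rcases z2 b with rfl | rfl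
        · simp
        · simp only [zero_smul, one_smul, zero_add, add_zero]
          have : y + eb + (ea + eb) = y + ea + (eb + eb) := by abel
          rw [this, h10, add_zero]
        · simp only [zero_smul, one_smul, add_zero]
          have : y + ea + (ea + eb) = y + eb + (ea + ea) := by abel
          rw [this, h10, add_zero]
        · have : (1 : ZMod 2) + 1 = 0 := by decide
          rw [this]
          simp only [zero_smul, one_smul, add_zero]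
          abel
      calc v + (v (.inl 0) + v (.inr 0)) • v0
          = (io (pj v) + v (.inl 0) • ea + v (.inr 0) • eb) + (v (.inl 0) + v (.inr 0)) • v0 := by rw [← decomp v]
        _ = _ := h9 _ _ _
    rw [h7]
    exact (s : Om).2

theorem pm_bij : Function.Bijective pm := by
  have h2 : Nat.card S6 = 1451520 := Cfsg.Agent.H769.SpSix.card_Sp
  have : Finite S6 := Nat.finite_of_card_ne_zero (by rw [h2]; norm_num)
  exact (Nat.bijective_iff_injective_and_card pm).2 ⟨pm_inj, by rw [card_stab, h2]⟩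

/-- the equivalence -/
noncomputable def pe : St ≃* S6 := MulEquiv.ofBijective pm pm_bij

/-- `Sp₆(2) → Ω₈⁺(2)` -/
noncomputable def ph : S6 →* Om := St.subtype.comp pe.symm.toMonoidHom

theorem ph_inj : Function.Injective ph := St.subtype_injective.comp pe.symm.injective

theorem ph_range : ph.range = St := by
  ext g
  constructor
  · rintro ⟨x, rfl⟩
    exact (pe.symm x).2
  · intro hg
    exact ⟨pe ⟨g, hg⟩, by
      show ((pe.symm (pe ⟨g, hg⟩) : St) : Om) = g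
      rw [MulEquiv.symm_apply_apply]⟩

theorem ph_pm (s : St) : ph (pm s) = s := by
  show ((pe.symm (pe s) : St) : Om) = s
  rw [MulEquiv.symm_apply_apply]

theorem ph_form (g : S6) (x : W6) : ∃ c : ZMod 2, ((ph g : Om) : V ≃ₗ[ZMod 2] V) (io x) = io (mw g x) + c • v0 := by
  have h := pm_mulVec (pe.symm g) x
  have h1 : pm (pe.symm g) = g := pe.apply_symm_apply g
  rw [h1] at h
  exact h

theorem ph_v0 (g : S6) : ((ph g : Om) : V ≃ₗ[ZMod 2] V) v0 = v0 := (pe.symm g).2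

/-! ### The generation -/

theorem dec17 : dec 17 = v0 := by
  funext i
  revert i
  decide +kernel

/-- the stabiliser of `dec n` -/
abbrev Sn (n : ℕ) : Subgroup Om := MulAction.stabilizer Om (dec n)

/-- condition on `(u, w)` -/
def cond (u w : ℕ) : Bool := ok (u, w) && ((!Bn u 17 && !Bn w 17) || (!Bn u 19 && !Bn w 19))

theorem gen_mem {u w n : ℕ} (h : ok (u, w) = true) (h1 : Bn u n = false) (h2 : Bn w n = false) :
    gen (u, w) ∈ Sn n := by
  show X (dec u) (dec w) (dec n) = dec n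
  rw [X_dec h, xn, h1, h2]
  simp

/-- the reached vectors -/
def chk : List ℕ → List (ℕ × ℕ × ℕ) → List ℕ
  | r, [] => r
  | r, (p, u, w) :: l => if r.contains p && cond u w then chk (xn u w p :: r) l else chk r l

theorem chk_spec (l : List (ℕ × ℕ × ℕ)) : ∀ r : List ℕ,
    (∀ n ∈ r, ∃ h ∈ Sn 17 ⊔ Sn 19, ((h : Om) : V ≃ₗ[ZMod 2] V) (dec 17) = dec n) →
    ∀ n ∈ chk r l, ∃ h ∈ Sn 17 ⊔ Sn 19, ((h : Om) : V ≃ₗ[ZMod 2] V) (dec 17) = dec n := by
  induction l with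
  | nil => intro r hr; exact hr
  | cons a l ih =>
    obtain ⟨p, u, w⟩ := a
    intro r hr
    rw [chk]
    split_ifs with hc
    · apply ih
      intro n hn
      rcases List.mem_cons.1 hn with rfl | hn
      · rw [Bool.and_eq_true] at hc
        obtain ⟨h, hh, hh'⟩ := hr p (by simpa using hc.1)
        have hc2 := hc.2
        rw [cond, Bool.and_eq_true, Bool.or_eq_true, Bool.and_eq_true, Bool.and_eq_true] at hc2
        obtain ⟨hok, h3⟩ := hc2
        refine ⟨gen (u, w) * h, Subgroup.mul_mem _ ?_ hh, ?_⟩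
        · rcases h3 with h3 | h3
          · exact Subgroup.mem_sup_left (gen_mem hok (by simpa using h3.1) (by simpa using h3.2))
          · exact Subgroup.mem_sup_right (gen_mem hok (by simpa using h3.1) (by simpa using h3.2))
        · show X (dec u) (dec w) (((h : Om) : V ≃ₗ[ZMod 2] V) (dec 17)) = _
          rw [hh', X_dec hok]
      · exact hr n hn
    · exact ih r hr

/-- the certificate -/
def steps : List (ℕ × ℕ × ℕ) := [(17, 4, 33), (17, 6, 97), (17, 8, 33), (17, 10, 161), (17, 12, 33), (17, 14, 97),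
  (17, 33, 19), (17, 33, 23), (17, 33, 27), (17, 33, 31), (17, 33, 64), (17, 33, 68), (17, 33, 72), (17, 33, 76), (17,
  33, 83), (17, 33, 87), (17, 33, 91), (17, 33, 95), (17, 33, 128), (17, 33, 132), (17, 33, 136), (17, 33, 140), (17,
  33, 147), (17, 33, 151), (17, 33, 155), (17, 33, 159), (17, 33, 192), (17, 33, 196), (17, 33, 200), (17, 33, 204),
  (17, 33, 211), (17, 33, 215), (17, 33, 219), (17, 33, 223), (17, 37, 66), (17, 37, 70), (17, 37, 74), (17, 37, 78),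
  (17, 37, 81), (17, 37, 85), (17, 37, 89), (17, 37, 93), (17, 37, 194), (17, 37, 198), (17, 37, 202), (17, 37, 206),
  (17, 37, 209), (17, 37, 213), (17, 37, 217), (17, 37, 221), (17, 41, 130), (17, 41, 134), (17, 41, 138), (17, 41,
  142), (17, 41, 145), (17, 41, 149), (17, 41, 153), (17, 41, 157), (17, 48, 19), (17, 48, 23), (17, 48, 27), (17, 48,
  31), (21, 6, 96), (21, 32, 64), (21, 36, 66), (21, 40, 64), (21, 44, 66), (21, 51, 64), (21, 55, 66), (21, 59, 64),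
  (21, 63, 66), (21, 64, 34), (21, 64, 42), (21, 64, 49), (21, 64, 57), (21, 64, 160), (21, 64, 162), (21, 64, 168),
  (21, 64, 170), (21, 64, 177), (21, 64, 179), (21, 64, 185), (21, 64, 187), (21, 66, 38), (21, 66, 46), (21, 66, 53),
  (21, 66, 61), (21, 66, 164), (21, 66, 166), (21, 66, 172), (21, 66, 174), (21, 66, 181), (21, 66, 183), (21, 66, 189),
  (21, 66, 191), (35, 6, 96), (35, 6, 98), (35, 6, 104), (35, 6, 106), (35, 6, 113), (35, 6, 115), (35, 6, 121), (35, 6,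
  123), (35, 6, 224), (35, 6, 226), (35, 6, 232), (35, 6, 234), (35, 6, 241), (35, 6, 243), (35, 6, 249), (35, 6, 251),
  (35, 10, 160), (35, 10, 162), (35, 10, 164), (35, 10, 166), (35, 10, 177), (35, 10, 179), (35, 10, 181), (35, 10,
  183)]

private noncomputable def _root_.Cfsg.Agent.LsF.f68cf12_14 : {f // @Cfsg.Agent.StdO8.Code.ok = f} := ⟨_, by first | (delta Cfsg.Agent.StdO8.Code.ok; rewrite [Cfsg.Agent.LsF.and_eq, Cfsg.Agent.LsF.not_eq]; exact rfl) | exact rfl⟩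
private noncomputable def _root_.Cfsg.Agent.LsF.f68cf12_15 : {f // @Cfsg.Agent.H859.S62.cond = f} := ⟨_, by first | (delta Cfsg.Agent.H859.S62.cond; rewrite [Cfsg.Agent.LsF.f68cf12_14.2, Cfsg.Agent.LsF.and_eq, Cfsg.Agent.LsF.or_eq, Cfsg.Agent.LsF.not_eq]; exact rfl) | exact rfl⟩
private noncomputable def _root_.Cfsg.Agent.LsF.f68cf12_17 : {f // @Cfsg.Agent.H859.S62.chk = f} := ⟨_, by first | (delta Cfsg.Agent.H859.S62.chk List.brecOn List.brecOn.go Cfsg.Agent.H859.S62.chk._f; rewrite [Cfsg.Agent.LsF.f68cf12_15.2, Cfsg.Agent.LsF.instNBEq_pat, Cfsg.Agent.LsF.and_eq, Cfsg.Agent.LsF.contains_eq, Cfsg.Agent.LsF.dBoolEq_eq, Cfsg.Agent.LsF.ite_eq]; (try delta Cfsg.Agent.H859.S62.chk.match_1); (try delta List.casesOn Prod.casesOn); first | dsimp -zeta only | exact rfl) | exact rfl⟩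
theorem all_reached : ∀ n : Fin 256, qn n.1 = true → n.1 ∈ chk [17] steps := by (refine of_decide_eq_true ?_; (try (rewrite [Cfsg.Agent.LsF.dMemE_pat, Cfsg.Agent.LsF.f68cf12_17.2, Cfsg.Agent.LsF.instDecEq_eq, Cfsg.Agent.LsF.dBoolEq_eq, Cfsg.Agent.LsF.dForallFin_eq, Cfsg.Agent.LsF.dAllP_eq, Cfsg.Agent.LsF.decide_eq])); decide +kernel)

theorem sup_eq_top : Sn 17 ⊔ Sn 19 = ⊤ := by
  rw [eq_top_iff]
  intro g _
  obtain ⟨n, hn, hn'⟩ := dec_surj (((g : Om) : V ≃ₗ[ZMod 2] V) (dec 17))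
  have h1 : q (dec n) = 1 := by
    rw [hn', O8_q (Om_le g.2), dec17, q_v0]
  have h2 : qn n = true := by
    rw [q_dec] at h1
    exact cc_eq_one h1
  obtain ⟨h, hh, hh'⟩ := chk_spec steps [17] (fun m hm => by
    rw [List.mem_singleton] at hm
    subst hm
    exact ⟨1, Subgroup.one_mem _, rfl⟩) n (all_reached ⟨n, hn⟩ h2)
  have h3 : h⁻¹ * g ∈ Sn 17 := by
    rw [MulAction.mem_stabilizer_iff, mul_smul, inv_smul_eq_iff]
    show ((g : Om) : V ≃ₗ[ZMod 2] V) (dec 17) = ((h : Om) : V ≃ₗ[ZMod 2] V) (dec 17)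
    rw [hh', hn']
  have h4 := Subgroup.mul_mem _ hh (Subgroup.mem_sup_left (T := Sn 19) h3)
  rwa [mul_inv_cancel_left] at h4

end Cfsg.Agent.H859.S62
end

-- part: H859/S62/EmbO8
section
/-!
# S5919, task D1: `EmbO8` (helper859)
-/

set_option autoImplicit false

namespace Cfsg.Agent.H859.S62

open Cfsg Matrix
open Cfsg.Agent.StdO8.Model Cfsg.Agent.StdO8.Code
open Cfsg.Agent.H245.O8Refl (v0 q_v0 q_v0_ne orbit_eq card_stab ns_ne)
open Cfsg.Agent.H942.S62 (EmbO8 P1 e0 t0 y0 mv)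

theorem io_e0 : io e0 = dec 2 := by
  funext i
  revert i
  decide +kernel

theorem q_e0 : q (io e0) = 0 := by
  rw [io_e0, q_dec]; decide

theorem dec19 : dec 19 = v0 + io e0 := by
  rw [io_e0, ← dec17, ← dec_xor]; rfl

theorem t0_mv : ∀ x : W6, mv t0 x = x + sympForm 3 (ZMod 2) e0 x • e0 := by (refine of_decide_eq_true ?_; (try (delta Cfsg.sympForm; rewrite [Cfsg.Agent.LsF.padd_pat, Cfsg.Agent.LsF.psmul_pat, Cfsg.Agent.LsF.f68cf12_6.2, Cfsg.Agent.LsF.f68cf12_7.2, Cfsg.Agent.LsF.zadd_pat, Cfsg.Agent.LsF.zmul_pat, Cfsg.Agent.LsF.zdecEq_eq, Cfsg.Agent.LsF.finFintype_eq, Cfsg.Agent.LsF.zFintype_eq, Cfsg.Agent.LsF.dForall_eq, Cfsg.Agent.LsF.dPi_eq, Cfsg.Agent.LsF.dot_eq, Cfsg.Agent.LsF.mulVec_eq, Cfsg.Agent.LsF.instZMul_pat, Cfsg.Agent.LsF.zACM_pat, Cfsg.Agent.LsF.dFinEq_eq, Cfsg.Agent.LsF.decide_eq])); decide +kernel)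

theorem ph_t0 : ph t0 = ⟨X (io e0) v0, X_mem _ _⟩ := by
  have hB : B (io e0) v0 = 0 := B_io_v0 _
  have hfix : X (io e0) v0 v0 = v0 := by
    rw [X_apply' q_e0 hB, hB, B_self]
    simp
  have h1 : pm ⟨⟨X (io e0) v0, X_mem _ _⟩, hfix⟩ = t0 := by
    apply Subtype.ext
    apply Matrix.mulVec_injective
    funext x
    have h2 : mv t0 x = x + sympForm 3 (ZMod 2) e0 x • e0 := t0_mv x
    show Ms _ *ᵥ x = mv t0 x
    rw [h2, Ms_mulVec]
    show pj (X (io e0) v0 (io x)) = _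
    rw [X_apply' q_e0 hB, B_io, B_comm v0, B_io_v0, q_v0, map_add, map_add, map_add, map_smul, map_smul, map_smul, pj_io,
      pj_io, pj_v0, one_mul]
    simp
  rw [← h1, ph_pm]

theorem embO8 : EmbO8 := by
  -- an element moving `v0` to `v0 + e0`
  have hq19 : q (dec 19) = 1 := by rw [q_dec]; decide
  obtain ⟨h, hh⟩ : ∃ h : Om, ((h : Om) : V ≃ₗ[ZMod 2] V) v0 = dec 19 := by
    have h1 : dec 19 ∈ MulAction.orbit Om v0 := by
      rw [orbit_eq]; exact hq19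
    obtain ⟨h, hh⟩ := h1
    exact ⟨h, hh⟩
  refine ⟨ph, (MulAut.conj h).toMonoidHom.comp ph, ph_inj, (MulAut.conj h).injective.comp ph_inj, ?_, ?_, ?_, ?_⟩
  · have h1 : ph.range = Sn 17 := by
      rw [ph_range]
      show MulAction.stabilizer Om v0 = MulAction.stabilizer Om (dec 17)
      rw [dec17]
    have h2 : ((MulAut.conj h).toMonoidHom.comp ph).range = Sn 19 := by
      ext g
      constructor
      · rintro ⟨x, rfl⟩
        show ((h * ph x * h⁻¹ : Om) : V ≃ₗ[ZMod 2] V) (dec 19) = dec 19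
        have h3 : ((h⁻¹ : Om) : V ≃ₗ[ZMod 2] V) (dec 19) = v0 := by
          rw [← hh]
          show ((h⁻¹ * h : Om) : V ≃ₗ[ZMod 2] V) v0 = v0
          rw [inv_mul_cancel]; rfl
        show ((h : Om) : V ≃ₗ[ZMod 2] V) (((ph x : Om) : V ≃ₗ[ZMod 2] V) (((h⁻¹ : Om) : V ≃ₗ[ZMod 2] V) (dec 19))) = dec 19
        rw [h3, ph_v0, hh]
      · intro hg
        have hg' : ((g : Om) : V ≃ₗ[ZMod 2] V) (dec 19) = dec 19 := hg
        have h3 : h⁻¹ * g * h ∈ ph.range := by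
          rw [ph_range, mem_St]
          show ((h⁻¹ : Om) : V ≃ₗ[ZMod 2] V) (((g : Om) : V ≃ₗ[ZMod 2] V) (((h : Om) : V ≃ₗ[ZMod 2] V) v0)) = v0
          rw [hh, hg', ← hh]
          show ((h⁻¹ * h : Om) : V ≃ₗ[ZMod 2] V) v0 = v0
          rw [inv_mul_cancel]; rfl
        obtain ⟨x, hx⟩ := h3
        refine ⟨x, ?_⟩
        show h * ph x * h⁻¹ = g
        rw [hx]; group
    rw [h1, h2]
    exact sup_eq_top
  · intro g hg
    have hg0 : mv g e0 = e0 := hg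
    obtain ⟨c, hc⟩ := ph_form g e0
    have hg1 : mw g e0 = e0 := hg0
    rw [hg1] at hc
    have h3 := O8_q (Om_le (ph g).2) (io e0)
    rw [hc, q_add, B_smul_right, B_io_v0, mul_zero, add_zero, q_smul_v0] at h3
    have h4 : c = 0 := left_eq_add.1 h3.symm
    rw [h4, zero_smul, add_zero] at hc
    have h5 : h⁻¹ * ph g * h ∈ ph.range := by
      rw [ph_range, mem_St]
      show ((h⁻¹ : Om) : V ≃ₗ[ZMod 2] V) (((ph g : Om) : V ≃ₗ[ZMod 2] V) (((h : Om) : V ≃ₗ[ZMod 2] V) v0)) = v0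
      rw [hh, dec19, map_add, ph_v0, hc, ← dec19, ← hh]
      show ((h⁻¹ * h : Om) : V ≃ₗ[ZMod 2] V) v0 = v0
      rw [inv_mul_cancel]; rfl
    obtain ⟨x, hx⟩ := h5
    refine ⟨x, ?_⟩
    show h * ph x * h⁻¹ = ph g
    rw [hx]; group
  · exact ⟨v0, ns_ne q_v0, ph_v0 y0⟩
  · rw [ph_t0]
    exact ⟨io e0, v0, q_e0, by rw [io_e0]; decide +kernel, B_io_v0 _, q_v0, rfl⟩

end Cfsg.Agent.H859.S62
end

-- part: H757/S62/AutO8
section
/-!
# Automorphisms of `Ω₈⁺(2)` centralising an element of order 5 (S5919, task D2)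

The standard element `y` of order 5: `U = C_V(y)` has the five singular vectors `dec (cu i)`, `[V, y]` the five singular
vectors `dec (cx i)`, permuted cyclically (`Y y`). `R g σ`: `g` acts on the five singular vectors of `U` as `σ` and
trivially on `[V, y]`.
-/

set_option autoImplicit false

namespace Cfsg.Agent.H757.S62

open Cfsg.Agent.StdO8 Cfsg.Agent.StdO8.Model Cfsg.Agent.StdO8.Aut Cfsg.Agent.StdO8.Code
open Cfsg.Agent.LieClassical.OrthCore (refl refl_mem_O)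

/-! ### Codes -/

/-- The singular vectors of `U`. -/
def cu : Fin 5 → ℕ := ![8, 128, 174, 204, 234]

/-- The singular vectors of `[V, y]`. -/
def cx : Fin 5 → ℕ := ![1, 16, 51, 87, 117]

/-- all ten codes -/
def ten : List ℕ := [8, 128, 174, 204, 234, 1, 16, 51, 87, 117]

/-- the five codes of `[V, y]` -/
def xs : List ℕ := [1, 16, 51, 87, 117]

/-- sum of a list of codes -/
def fx (l : List ℕ) : ℕ := l.foldr (· ^^^ ·) 0

theorem ten_all : ∀ n < 256, fx (ten.filter fun c => Bn c n) = n := by decide +kernel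

theorem foldr_dec {g : V ≃ₗ[ZMod 2] V} {s : ℕ → ℕ} (l : List ℕ) (e : ∀ c ∈ l, g (dec c) = dec (s c)) :
    g (dec (fx l)) = dec (fx (l.map s)) := by
  induction l with
  | nil => rw [List.map_nil, fx, List.foldr_nil, dec_zero, map_zero]
  | cons c l ih =>
    have h1 : fx (c :: l) = c ^^^ fx l := rfl
    have h2 : fx ((c :: l).map s) = s c ^^^ fx (l.map s) := rfl
    rw [h1, h2, dec_xor, dec_xor, map_add, e c List.mem_cons_self, ih fun c hc => e c (List.mem_cons_of_mem _ hc)]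

theorem foldr_eq {g h : V ≃ₗ[ZMod 2] V} (l : List ℕ) (e : ∀ c ∈ l, g (dec c) = h (dec c)) :
    g (dec (fx l)) = h (dec (fx l)) := by
  induction l with
  | nil => rw [fx, List.foldr_nil, dec_zero, map_zero, map_zero]
  | cons c l ih =>
    have h1 : fx (c :: l) = c ^^^ fx l := rfl
    rw [h1, dec_xor, map_add, map_add, e c List.mem_cons_self, ih fun c hc => e c (List.mem_cons_of_mem _ hc)]

theorem basis_lt : ∀ b ∈ basis, b < 256 := by decide

theorem ext_ten {g h : V ≃ₗ[ZMod 2] V} (e : ∀ c ∈ ten, g (dec c) = h (dec c)) : g = h := by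
  apply lin_ext
  intro b hb
  have h1 := foldr_eq (g := g) (h := h) (ten.filter fun c => Bn c b) fun c hc => e c (List.mem_of_mem_filter hc)
  rwa [ten_all b (basis_lt b hb)] at h1

theorem mem_ten : ∀ c ∈ ten, (∃ i, c = cu i) ∨ ∃ i, c = cx i := by decide +kernel

theorem ext_frame {g h : V ≃ₗ[ZMod 2] V} (eu : ∀ i, g (dec (cu i)) = h (dec (cu i)))
    (ex : ∀ i, g (dec (cx i)) = h (dec (cx i))) : g = h := by
  apply ext_ten
  intro c hc
  rcases mem_ten c hc with ⟨i, rfl⟩ | ⟨i, rfl⟩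
  · exact eu i
  · exact ex i

theorem cu_inj : ∀ i j, cu i = cu j → i = j := by decide +kernel
theorem cu_lt : ∀ i, cu i < 256 := by decide +kernel
/-! ### The relation `R` -/

/-- `g` acts on the frame `u` as `σ` and fixes `[V, y]`. -/
structure R (g : V ≃ₗ[ZMod 2] V) (σ : Equiv.Perm (Fin 5)) : Prop where
  u : ∀ i, g (dec (cu i)) = dec (cu (σ i))
  x : ∀ i, g (dec (cx i)) = dec (cx i)

section RR

variable {g h : V ≃ₗ[ZMod 2] V} {σ τ : Equiv.Perm (Fin 5)}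

theorem R.ext (hg : R g σ) (hh : R h σ) : g = h :=
  ext_frame (fun i => by rw [hg.u, hh.u]) fun i => by rw [hg.x, hh.x]

theorem R.unique (hg : R g σ) (hh : R g τ) : σ = τ := by
  ext i
  have h1 := hg.u i
  rw [hh.u i] at h1
  exact congrArg Fin.val (cu_inj _ _ (dec_inj (cu_lt _) (cu_lt _) h1)).symm

theorem R.one : R 1 1 := ⟨fun _ => rfl, fun _ => rfl⟩

theorem R.mul (hg : R g σ) (hh : R h τ) : R (g * h) (σ * τ) :=
  ⟨fun i => by
    show g (h _) = _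
    rw [hh.u, hg.u]; rfl, fun i => by
    show g (h _) = _
    rw [hh.x, hg.x]⟩

theorem R.inv (hg : R g σ) : R g⁻¹ σ⁻¹ :=
  ⟨fun i => by
    show g.symm _ = _
    rw [LinearEquiv.symm_apply_eq, hg.u]
    congr 1
    congr 1
    exact (Equiv.apply_symm_apply σ i).symm, fun i => by
    show g.symm _ = _
    rw [LinearEquiv.symm_apply_eq, hg.x]⟩

end RR

theorem qn_swap : ∀ i j : Fin 5, i ≠ j → qn (cu i ^^^ cu j) = true := by decide +kernel

theorem swap_u : ∀ i j k : Fin 5, i ≠ j →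
    (cu k ^^^ (if Bn (cu i ^^^ cu j) (cu k) then cu i ^^^ cu j else 0)) = cu (Equiv.swap i j k) := by decide +kernel

theorem swap_x : ∀ i j k : Fin 5, i ≠ j →
    (cx k ^^^ (if Bn (cu i ^^^ cu j) (cx k) then cu i ^^^ cu j else 0)) = cx k := by decide +kernel

theorem q_swap {i j : Fin 5} (h : i ≠ j) : q (dec (cu i ^^^ cu j)) ≠ 0 := by
  rw [q_dec, qn_swap i j h]; decide

theorem R_swap {i j : Fin 5} (h : i ≠ j) : R (refl q (dec (cu i ^^^ cu j)) (q_swap h)) (Equiv.swap i j) :=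
  ⟨fun k => by rw [Gen.refl_dec, swap_u i j k h], fun k => by rw [Gen.refl_dec, swap_x i j k h]⟩

theorem exists_R (σ : Equiv.Perm (Fin 5)) : ∃ g : O8, R (g : V ≃ₗ[ZMod 2] V) σ := by
  induction σ using Equiv.Perm.swap_induction_on with
  | one => exact ⟨1, R.one⟩
  | swap_mul τ i j hij ih =>
    obtain ⟨g, hg⟩ := ih
    exact ⟨(⟨_, refl_mem_O (q_swap hij)⟩ * g :), (R_swap hij).mul hg⟩

/-! ### Double transpositions -/

/-- test -/
def dtest (i j k : Fin 5) (σ : Equiv.Perm (Fin 5)) : Bool :=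
  i != j && i != k && j != k && (List.finRange 5).all fun n => xn (cu i) (cu j ^^^ cu k) (cu n) == cu (σ n)

theorem dbl0 : ∀ σ : Equiv.Perm (Fin 5), σ * σ = 1 → σ ≠ 1 → Equiv.Perm.sign σ = 1 →
    ∃ i j k : Fin 5, dtest i j k σ = true := by (set_option synthInstance.maxSize 9000 in open scoped Cfsg.Agent.Lib.FastPerm in decide +kernel)

theorem dbl (σ : Equiv.Perm (Fin 5)) (h1 : σ * σ = 1) (h2 : σ ≠ 1) (h3 : Equiv.Perm.sign σ = 1) :
    ∃ i j k : Fin 5, (i ≠ j ∧ i ≠ k ∧ j ≠ k) ∧ ∀ n, xn (cu i) (cu j ^^^ cu k) (cu n) = cu (σ n) := by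
  obtain ⟨i, j, k, h⟩ := dbl0 σ h1 h2 h3
  rw [dtest, Bool.and_eq_true, Bool.and_eq_true, Bool.and_eq_true, bne_iff_ne, bne_iff_ne, bne_iff_ne,
    List.all_eq_true] at h
  exact ⟨i, j, k, ⟨h.1.1.1, h.1.1.2, h.1.2⟩, fun n => eq_of_beq (h.2 n (List.mem_finRange n))⟩

theorem dbl_ok : ∀ i j k : Fin 5, (i ≠ j ∧ i ≠ k ∧ j ≠ k) → ok (cu i, cu j ^^^ cu k) = true ∧ qn (cu j ^^^ cu k) = true ∧
    cu i ≠ 0 ∧ ∀ n, xn (cu i) (cu j ^^^ cu k) (cx n) = cx n := by decide +kernel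

theorem R.isC2 {g : V ≃ₗ[ZMod 2] V} {σ : Equiv.Perm (Fin 5)} (hg : R g σ) (h1 : σ * σ = 1) (h2 : σ ≠ 1)
    (h3 : Equiv.Perm.sign σ = 1) : IsC2 g := by
  obtain ⟨i, j, k, hijk, hn⟩ := dbl σ h1 h2 h3
  obtain ⟨ho, hq, h0, hx⟩ := dbl_ok i j k hijk
  obtain ⟨q1, q2⟩ := ok_iff ho
  have h4 : R (X (dec (cu i)) (dec (cu j ^^^ cu k))) σ :=
    ⟨fun n => by rw [X_dec ho, hn], fun n => by rw [X_dec ho, hx]⟩
  refine ⟨dec (cu i), dec (cu j ^^^ cu k), q1, ?_, q2, ?_, hg.ext h4⟩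
  · intro h
    exact h0 (dec_inj (cu_lt i) (by norm_num) (h.trans dec_zero.symm))
  · rw [q_dec, hq]; rfl

theorem IsC2.mem_Om {g : V ≃ₗ[ZMod 2] V} (h : IsC2 g) : g ∈ Om := by
  obtain ⟨u, w, -, -, -, -, rfl⟩ := h
  exact X_mem u w

theorem IsC2.mul_self {g : V ≃ₗ[ZMod 2] V} (h : IsC2 g) : g * g = 1 := by
  obtain ⟨u, w, -, -, -, -, rfl⟩ := h
  exact X_mul_self u w

theorem IsC2.ne_one {g : V ≃ₗ[ZMod 2] V} (h : IsC2 g) : g ≠ 1 := by
  obtain ⟨u, w, hu, hu0, huw, hw, rfl⟩ := h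
  intro h1
  obtain ⟨v, hv⟩ : ∃ v, B u v = 1 := by
    by_contra hcon
    push Not at hcon
    exact hu0 (Model.nondeg fun v => (z2 _).resolve_right (hcon v))
  have h2 : X u w v = v := by rw [h1]; rfl
  rw [X_apply' hu huw, hv, hw, one_mul, one_smul, one_smul, add_assoc, add_assoc, add_eq_left] at h2
  have h3 : w = (B w v + 1) • u := by
    apply eq_of_add_eq_zero
    rw [add_smul, one_smul]
    exact h2
  have h4 : q w = 0 := by rw [h3, QuadraticMap.map_smul, hu, smul_zero]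
  rw [hw] at h4
  exact absurd h4 (by decide)

theorem R.mem_Om' {g : V ≃ₗ[ZMod 2] V} {σ : Equiv.Perm (Fin 5)} (hg : R g σ) (h1 : σ * σ = 1)
    (h3 : Equiv.Perm.sign σ = 1) : g ∈ Om := by
  by_cases h2 : σ = 1
  · subst h2
    rw [hg.ext R.one]
    exact one_mem _
  · exact IsC2.mem_Om (hg.isC2 h1 h2 h3)

theorem even_two : ∀ σ : Equiv.Perm (Fin 5), Equiv.Perm.sign σ = 1 → ∃ τ : Equiv.Perm (Fin 5), τ * τ = 1 ∧
    Equiv.Perm.sign τ = 1 ∧ (τ * σ) * (τ * σ) = 1 := by (set_option synthInstance.maxSize 9000 in open scoped Cfsg.Agent.Lib.FastPerm in decide +kernel)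

theorem R.mem_Om {g : V ≃ₗ[ZMod 2] V} {σ : Equiv.Perm (Fin 5)} (hg : R g σ) (h : Equiv.Perm.sign σ = 1) : g ∈ Om := by
  obtain ⟨τ, h1, h2, h3⟩ := even_two σ h
  obtain ⟨k, hk⟩ := exists_R τ
  have h4 := hk.mem_Om' h1 h2
  have h5 := (hk.mul hg).mem_Om' h3 (by rw [Equiv.Perm.sign_mul, h2, h, one_mul])
  have h6 := mul_mem (inv_mem h4) h5
  rwa [inv_mul_cancel_left] at h6

theorem odd_swap : ∀ σ : Equiv.Perm (Fin 5), σ * σ = 1 → Equiv.Perm.sign σ ≠ 1 →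
    ∃ i j : Fin 5, i ≠ j ∧ σ = Equiv.swap i j := by (set_option synthInstance.maxSize 9000 in open scoped Cfsg.Agent.Lib.FastPerm in decide +kernel)

theorem R.sign {g : V ≃ₗ[ZMod 2] V} {σ : Equiv.Perm (Fin 5)} (hg : R g σ) (h1 : σ * σ = 1) (h : g ∈ Om) :
    Equiv.Perm.sign σ = 1 := by
  by_contra h2
  obtain ⟨i, j, hij, rfl⟩ := odd_swap σ h1 h2
  rw [hg.ext (R_swap hij)] at h
  exact Gen.refl_notMem _ _ h

/-! ### Finite group theory in `S₅` -/

theorem conj0 : ∀ ρ : Equiv.Perm (Fin 5), ρ * ρ = 1 → ρ ≠ 1 → Equiv.Perm.sign ρ = 1 →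
    ∃ κ : Equiv.Perm (Fin 5), Equiv.Perm.sign κ = 1 ∧ κ * (Equiv.swap 0 1 * Equiv.swap 2 3) = ρ * κ := by (set_option synthInstance.maxSize 9000 in open scoped Cfsg.Agent.Lib.FastPerm in decide +kernel)

theorem conj {ρ τ : Equiv.Perm (Fin 5)} (h1 : ρ * ρ = 1) (h2 : ρ ≠ 1) (h3 : Equiv.Perm.sign ρ = 1)
    (h4 : τ * τ = 1) (h5 : τ ≠ 1) (h6 : Equiv.Perm.sign τ = 1) :
    ∃ κ : Equiv.Perm (Fin 5), Equiv.Perm.sign κ = 1 ∧ ρ = κ * τ * κ⁻¹ := by
  obtain ⟨a, ha, ha'⟩ := conj0 ρ h1 h2 h3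
  obtain ⟨b, hb, hb'⟩ := conj0 τ h4 h5 h6
  refine ⟨a * b⁻¹, by rw [Equiv.Perm.sign_mul, Equiv.Perm.sign_inv, ha, hb, one_mul], ?_⟩
  have e1 : ρ = a * (Equiv.swap 0 1 * Equiv.swap 2 3) * a⁻¹ := by rw [ha', mul_inv_cancel_right]
  have e2 : τ = b * (Equiv.swap 0 1 * Equiv.swap 2 3) * b⁻¹ := by rw [hb', mul_inv_cancel_right]
  rw [e1, e2]
  group

theorem comm0 : ∀ ρ : Equiv.Perm (Fin 5), ρ * ρ = 1 → Equiv.Perm.sign ρ ≠ 1 →
    ∃ r : Equiv.Perm (Fin 5), Equiv.Perm.sign r = 1 ∧ (ρ * r * ρ⁻¹ * r⁻¹) * (ρ * r * ρ⁻¹ * r⁻¹) = 1 ∧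
      ρ * r * ρ⁻¹ * r⁻¹ ≠ 1 := by (set_option synthInstance.maxSize 9000 in open scoped Cfsg.Agent.Lib.FastPerm in decide +kernel)

/-! ### The standard element of order 5 -/

/-- `y` is the standard element of order 5. -/
structure Y (y : V ≃ₗ[ZMod 2] V) : Prop where
  u : ∀ i, y (dec (cu i)) = dec (cu i)
  x : ∀ i, y (dec (cx i)) = dec (cx (i + 1))

/-- action on the ten codes -/
def sh (c : ℕ) : ℕ := if c = 1 then 16 else if c = 16 then 51 else if c = 51 then 87 else if c = 87 then 117 else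
  if c = 117 then 1 else c

/-- action of `y` on codes -/
def yn (n : ℕ) : ℕ := fx ((ten.filter fun c => Bn c n).map sh)

theorem sh_u : ∀ i, sh (cu i) = cu i := by decide +kernel
theorem sh_x : ∀ i, sh (cx i) = cx (i + 1) := by decide +kernel
private noncomputable def yF (n : ℕ) : ℕ := Nat.rec (yn 0) (fun k _ => yn (Nat.succ k)) n

private theorem yF_eq : yn = yF := by
  funext n
  cases n <;> rfl

private noncomputable def _root_.Cfsg.Agent.LsF.f68cf12_18 : {f // @Cfsg.Agent.H757.S62.fx = f} := ⟨_, by first | (delta Cfsg.Agent.H757.S62.fx; rewrite [Cfsg.Agent.LsF.nxor_pat, Cfsg.Agent.LsF.foldr_eq]; exact rfl) | exact rfl⟩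
private noncomputable def _root_.Cfsg.Agent.LsF.f68cf12_19 : {f // @Cfsg.Agent.H757.S62.sh = f} := ⟨_, by first | (delta Cfsg.Agent.H757.S62.sh; rewrite [Cfsg.Agent.LsF.instDecEq_eq, Cfsg.Agent.LsF.ite_eq]; exact rfl) | exact rfl⟩
private noncomputable def _root_.Cfsg.Agent.LsF.f68cf12_20 : {f // @Cfsg.Agent.H757.S62.yn = f} := ⟨_, by first | (delta Cfsg.Agent.H757.S62.yn; rewrite [Cfsg.Agent.LsF.f68cf12_18.2, Cfsg.Agent.LsF.f68cf12_19.2, Cfsg.Agent.LsF.map_eq, Cfsg.Agent.LsF.filter_eq]; exact rfl) | exact rfl⟩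
private noncomputable def _root_.Cfsg.Agent.LsF.f68cf12_21 : {f // @Cfsg.Agent.H757.S62.yF = f} := ⟨_, by first | (delta Cfsg.Agent.H757.S62.yF; rewrite [Cfsg.Agent.LsF.f68cf12_20.2]; exact rfl) | exact rfl⟩
private noncomputable def _root_.Cfsg.Agent.LsF.f68cf12_22 : {f // @Cfsg.Agent.H757.S62.cu = f} := ⟨_, by first | (delta Cfsg.Agent.H757.S62.cu; rewrite [Cfsg.Agent.LsF.vecCons_eq]; exact rfl) | exact rfl⟩
private theorem yn_tab : (∀ n < 256, yn n < 256) ∧ (∀ c < 256, yn c = c → qn c = false → c ≠ 0 → ∃ k, c = cu k) ∧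
    ∀ c < 256, c ^^^ (yn c ^^^ (yn (yn c) ^^^ (yn (yn (yn c)) ^^^ yn (yn (yn (yn c)))))) < 256 ∧
      fx ((xs.filter fun b => Bn b c).map fun n => if n = 1 then c else if n = 16 then yn c else if n = 51 then yn (yn c) else
        if n = 87 then yn (yn (yn c)) else yn (yn (yn (yn c)))) < 256 ∧
      (c ^^^ (yn c ^^^ (yn (yn c) ^^^ (yn (yn (yn c)) ^^^ yn (yn (yn (yn c)))))) = 0 → fx (xs.filter fun b => Bn b c) = c ∧
        (fx ((xs.filter fun b => Bn b c).map fun n => if n = 1 then c else if n = 16 then yn c else if n = 51 then yn (yn c) else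
          if n = 87 then yn (yn (yn c)) else yn (yn (yn (yn c)))) = 1 → c = 1)) := by
  rw [yF_eq]
  (refine of_decide_eq_true ?_; (try (rewrite [Cfsg.Agent.LsF.f68cf12_21.2, Cfsg.Agent.LsF.f68cf12_22.2, Cfsg.Agent.LsF.f68cf12_18.2, Cfsg.Agent.LsF.nxor_pat, Cfsg.Agent.LsF.instDecEq_eq, Cfsg.Agent.LsF.decLt_eq, Cfsg.Agent.LsF.map_eq, Cfsg.Agent.LsF.filter_eq, Cfsg.Agent.LsF.dAnd_eq, Cfsg.Agent.LsF.dNot_eq, Cfsg.Agent.LsF.dBoolEq_eq, Cfsg.Agent.LsF.dBallLT_eq, Cfsg.Agent.LsF.dExistsFin_eq, Cfsg.Agent.LsF.dAllP_eq, Cfsg.Agent.LsF.ite_eq, Cfsg.Agent.LsF.decide_eq])); decide +kernel)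

theorem yn_lt : ∀ n < 256, yn n < 256 := yn_tab.1

theorem Y.dec {y : V ≃ₗ[ZMod 2] V} (hY : Y y) {n : ℕ} (hn : n < 256) : y (dec n) = dec (yn n) := by
  have h1 := foldr_dec (g := y) (s := sh) (ten.filter fun c => Bn c n) fun c hc => by
    rcases mem_ten c (List.mem_of_mem_filter hc) with ⟨i, rfl⟩ | ⟨i, rfl⟩
    · rw [hY.u, sh_u]
    · rw [hY.x, sh_x]
  rwa [ten_all n hn] at h1

theorem R.comm {g y : V ≃ₗ[ZMod 2] V} {σ : Equiv.Perm (Fin 5)} (hg : R g σ) (hY : Y y) : g * y = y * g := by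
  apply ext_frame
  · intro i
    show g (y _) = y (g _)
    rw [hY.u, hg.u, hY.u]
  · intro i
    show g (y _) = y (g _)
    rw [hY.x, hg.x, hg.x, hY.x]

theorem sing_u : ∀ c < 256, yn c = c → qn c = false → c ≠ 0 → ∃ k, c = cu k := yn_tab.2.1

/-- sum over the orbit -/
def orb (c : ℕ) : ℕ := c ^^^ (yn c ^^^ (yn (yn c) ^^^ (yn (yn (yn c)) ^^^ yn (yn (yn (yn c))))))

/-- the map `x₀ ↦ c` commuting with `y` -/
def sc (c n : ℕ) : ℕ := if n = 1 then c else if n = 16 then yn c else if n = 51 then yn (yn c) else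
  if n = 87 then yn (yn (yn c)) else yn (yn (yn (yn c)))

theorem orb_lt : ∀ c < 256, orb c < 256 := fun c h => (yn_tab.2.2 c h).1

theorem xs_all : ∀ c < 256, orb c = 0 → fx (xs.filter fun b => Bn b c) = c :=
  fun c h e => ((yn_tab.2.2 c h).2.2 e).1

theorem sc_lt : ∀ c < 256, fx ((xs.filter fun b => Bn b c).map (sc c)) < 256 := fun c h => (yn_tab.2.2 c h).2.1

theorem sc_one : ∀ c < 256, orb c = 0 → fx ((xs.filter fun b => Bn b c).map (sc c)) = 1 → c = 1 :=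
  fun c h e => ((yn_tab.2.2 c h).2.2 e).2

theorem mem_xs : ∀ c ∈ xs, ∃ i, c = cx i := by decide +kernel

/-- An involution commuting with `y` permutes the singular vectors of `U` and is trivial on `[V, y]`. -/
theorem exists_perm {g y : V ≃ₗ[ZMod 2] V} (hY : Y y) (hg : g ∈ O8) (hc : g * y = y * g) (h2 : g * g = 1) :
    ∃ σ, R g σ := by
  have hcv : ∀ v, g (y v) = y (g v) := fun v => congrArg (fun k : V ≃ₗ[ZMod 2] V => k v) hc
  have h2v : ∀ v, g (g v) = v := fun v => congrArg (fun k : V ≃ₗ[ZMod 2] V => k v) h2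
  have h1 : ∀ i, ∃ k, g (dec (cu i)) = dec (cu k) := by
    intro i
    obtain ⟨c, hc, hc'⟩ := dec_surj (g (dec (cu i)))
    have e1 : yn c = c := by
      apply dec_inj (yn_lt c hc) hc
      rw [← hY.dec hc, hc', ← hcv, hY.u]
    have e2 : qn c = false := by
      apply cc_eq_zero
      rw [← q_dec, hc', O8_q hg, q_dec]
      have : ∀ i, qn (cu i) = false := by decide +kernel
      rw [this]; rfl
    have e3 : c ≠ 0 := by
      rintro rfl
      rw [dec_zero] at hc'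
      have h3 := g.map_eq_zero_iff.1 hc'.symm
      have h4 := dec_inj (cu_lt i) (by norm_num) (h3.trans dec_zero.symm)
      have : ∀ i, cu i ≠ 0 := by decide +kernel
      exact this i h4
    obtain ⟨k, rfl⟩ := sing_u c hc e1 e2 e3
    exact ⟨k, hc'.symm⟩
  obtain ⟨c, hc, hc'⟩ := dec_surj (g (dec (cx 0)))
  have y0 : g (dec (cx 0)) = dec c := hc'.symm
  have y1 : g (dec (cx 1)) = dec (yn c) := by
    rw [← hY.dec hc, ← y0, ← hcv, hY.x]; rfl
  have y2 : g (dec (cx 2)) = dec (yn (yn c)) := by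
    rw [← hY.dec (yn_lt _ hc), ← y1, ← hcv, hY.x]; rfl
  have y3 : g (dec (cx 3)) = dec (yn (yn (yn c))) := by
    rw [← hY.dec (yn_lt _ (yn_lt _ hc)), ← y2, ← hcv, hY.x]; rfl
  have y4 : g (dec (cx 4)) = dec (yn (yn (yn (yn c)))) := by
    rw [← hY.dec (yn_lt _ (yn_lt _ (yn_lt _ hc))), ← y3, ← hcv, hY.x]; rfl
  have horb : orb c = 0 := by
    apply dec_inj (orb_lt c hc) (by norm_num)
    rw [orb, dec_xor, dec_xor, dec_xor, dec_xor, ← y0, ← y1, ← y2, ← y3, ← y4, ← map_add, ← map_add, ← map_add,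
      ← map_add, ← dec_xor, ← dec_xor, ← dec_xor, ← dec_xor, dec_zero]
    have : cx 0 ^^^ (cx 1 ^^^ (cx 2 ^^^ (cx 3 ^^^ cx 4))) = 0 := by decide +kernel
    rw [this, dec_zero, map_zero]
  have hone : c = 1 := by
    apply sc_one c hc horb
    apply dec_inj (sc_lt c hc) (by norm_num)
    rw [← foldr_dec (g := g), xs_all c hc horb, ← y0, h2v]
    · rfl
    · intro b hb
      obtain ⟨i, rfl⟩ := mem_xs b (List.mem_of_mem_filter hb)
      fin_cases i
      · exact y0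
      · exact y1
      · exact y2
      · exact y3
      · exact y4
  subst hone
  have hx : ∀ i, g (dec (cx i)) = dec (cx i) := by
    intro i
    have e1 : yn 1 = 16 := by decide +kernel
    have e2 : yn 16 = 51 := by decide +kernel
    have e3 : yn 51 = 87 := by decide +kernel
    have e4 : yn 87 = 117 := by decide +kernel
    fin_cases i
    · exact y0
    · rw [e1] at y1; exact y1
    · rw [e1, e2] at y2; exact y2
    · rw [e1, e2, e3] at y3; exact y3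
    · rw [e1, e2, e3, e4] at y4; exact y4
  choose f hf using h1
  have hinj : Function.Injective f := by
    intro i j hij
    apply cu_inj
    apply dec_inj (cu_lt i) (cu_lt j)
    apply g.injective
    rw [hf, hf, hij]
  exact ⟨Equiv.ofBijective f (Finite.injective_iff_bijective.1 hinj), hf, hx⟩

/-! ### The theorem for the standard element -/

/-- The conclusion. -/
def Concl (y t : Om) (α : MulAut Om) : Prop :=
  α = 1 ∨
  (∃ c : Om, c * y = y * c ∧ α = MulAut.conj (c * t * c⁻¹)) ∨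
  (∃ c r : Om, c * y = y * c ∧ r * y = y * r ∧ α r * r⁻¹ = c * t * c⁻¹)

theorem concl_of_Y {y t : Om} (hY : Y (y : V ≃ₗ[ZMod 2] V)) (ht : IsC2 (t : V ≃ₗ[ZMod 2] V)) (hty : t * y = y * t)
    {α : MulAut Om} (h2 : ∀ g, α (α g) = g) (hy : α y = y) : Concl y t α := by
  -- the element `t`
  obtain ⟨τ, hτ⟩ := exists_perm hY (Om_le t.2) (congrArg Subtype.val hty) (IsC2.mul_self ht)
  have key : ∀ {g : V ≃ₗ[ZMod 2] V} {σ : Equiv.Perm (Fin 5)}, R g σ → g * g = 1 → σ * σ = 1 := by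
    intro g σ hg h
    have h1 := hg.mul hg
    rw [h] at h1
    exact h1.unique R.one
  have key1 : ∀ {g : V ≃ₗ[ZMod 2] V} {σ : Equiv.Perm (Fin 5)}, R g σ → g ≠ 1 → σ ≠ 1 := by
    rintro g σ hg h rfl
    exact h (hg.ext R.one)
  have hτ2 := key hτ (IsC2.mul_self ht)
  have hτ1 := key1 hτ (IsC2.ne_one ht)
  have hτs := hτ.sign hτ2 t.2
  have htt : t * t = 1 := Subtype.ext (IsC2.mul_self ht)
  -- the element `α t`
  have ha2 : α t * α t = 1 := by rw [← map_mul, htt, map_one]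
  have hay : α t * y = y * α t := by
    have := congrArg α hty
    rwa [map_mul, map_mul, hy] at this
  obtain ⟨σ, hσ⟩ := exists_perm hY (Om_le (α t).2) (congrArg Subtype.val hay) (congrArg Subtype.val ha2)
  have hσ2 := key hσ (congrArg Subtype.val ha2)
  have hσ1 := key1 hσ (by
    intro h
    have h1 : α t = 1 := Subtype.ext h
    rw [EmbeddingLike.map_eq_one_iff] at h1
    exact IsC2.ne_one ht (congrArg Subtype.val h1))
  have hc2 : IsC2 ((α t : Om) : V ≃ₗ[ZMod 2] V) := hσ.isC2 hσ2 hσ1 (hσ.sign hσ2 (α t).2)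
  obtain ⟨M, rfl⟩ := mem_range_of_c2 ht hc2
  -- the isometry `M`
  have hM2 : M * M = 1 := by
    apply Frame.Ctx.cj_injective
    rw [map_mul, map_one]
    ext g : 1
    exact h2 g
  have hMy : (M : V ≃ₗ[ZMod 2] V) * y = y * M := by
    have h1 := congrArg Subtype.val hy
    rw [cj_coe] at h1
    exact mul_inv_eq_iff_eq_mul.1 h1
  obtain ⟨ρ, hρ⟩ := exists_perm hY M.2 hMy (congrArg Subtype.val hM2)
  have hρ2 := key hρ (congrArg Subtype.val hM2)
  have conj_of : ∀ {κ : Equiv.Perm (Fin 5)}, Equiv.Perm.sign κ = 1 →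
      ∃ c : Om, c * y = y * c ∧ R (((c * t * c⁻¹ : Om)) : V ≃ₗ[ZMod 2] V) (κ * τ * κ⁻¹) := by
    intro κ hκ
    obtain ⟨k, hk⟩ := exists_R κ
    exact ⟨⟨k, hk.mem_Om hκ⟩, Subtype.ext (hk.comm hY), (hk.mul hτ).mul hk.inv⟩
  by_cases hρ1 : ρ = 1
  · left
    have : M = 1 := by
      apply Subtype.ext
      subst hρ1
      exact hρ.ext R.one
    rw [this, map_one]
  · right
    by_cases hρs : Equiv.Perm.sign ρ = 1
    · left
      obtain ⟨κ, hκ, e⟩ := conj hρ2 hρ1 hρs hτ2 hτ1 hτs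
      obtain ⟨c, hc, hR⟩ := conj_of hκ
      rw [← e] at hR
      have hM : (M : V ≃ₗ[ZMod 2] V) = ((c * t * c⁻¹ : Om) : V ≃ₗ[ZMod 2] V) := hρ.ext hR
      refine ⟨c, hc, ?_⟩
      ext g : 1
      apply Subtype.ext
      rw [cj_coe, hM]
      rfl
    · right
      obtain ⟨r, hr, hr2, hr1⟩ := comm0 ρ hρ2 hρs
      obtain ⟨κ, hκ, e⟩ := conj hr2 hr1 (by
        simp only [Equiv.Perm.sign_mul, Equiv.Perm.sign_inv, hr, mul_one]
        exact Int.units_mul_self _) hτ2 hτ1 hτs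
      obtain ⟨c, hc, hR⟩ := conj_of hκ
      obtain ⟨k, hk⟩ := exists_R r
      refine ⟨c, ⟨k, hk.mem_Om hr⟩, hc, Subtype.ext (hk.comm hY), ?_⟩
      apply Subtype.ext
      rw [← e] at hR
      exact (((hρ.mul hk).mul hρ.inv).mul hk.inv).ext hR

/-! ### Transport -/

theorem Concl.transport {y t : Om} {α φ : MulAut Om} (h : Concl (φ⁻¹ y) (φ⁻¹ t) (φ⁻¹ * α * φ)) : Concl y t α := by
  have e1 : ∀ g, φ (φ⁻¹ g) = g := fun g => MulAut.apply_inv_self _ φ g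
  have e2 : ∀ g, φ⁻¹ (φ g) = g := fun g => MulAut.inv_apply_self _ φ g
  have ec : ∀ {c : Om}, c * φ⁻¹ y = φ⁻¹ y * c → φ c * y = y * φ c := by
    intro c hc
    have := congrArg φ hc
    rwa [map_mul, map_mul, e1] at this
  rcases h with h | ⟨c, hc, h⟩ | ⟨c, r, hc, hr, h⟩
  · left
    have : α = φ * (φ⁻¹ * α * φ) * φ⁻¹ := by group
    rw [this, h]
    group
  · right; left
    refine ⟨φ c, ec hc, ?_⟩
    have : α = φ * (φ⁻¹ * α * φ) * φ⁻¹ := by group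
    rw [this, h]
    ext g : 1
    show φ (c * φ⁻¹ t * c⁻¹ * φ⁻¹ g * (c * φ⁻¹ t * c⁻¹)⁻¹) = φ c * t * (φ c)⁻¹ * g * (φ c * t * (φ c)⁻¹)⁻¹
    simp only [map_mul, map_inv, e1]
  · right; right
    refine ⟨φ c, φ r, ec hc, ec hr, ?_⟩
    have h1 := congrArg φ h
    have h2 : (φ⁻¹ * α * φ) r = φ⁻¹ (α (φ r)) := rfl
    rw [h2] at h1
    simpa only [map_mul, map_inv, e1] using h1

/-! ### An arbitrary element of order 5 -/

section Gen5

variable {y : V ≃ₗ[ZMod 2] V}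

/-- The fixed space. -/
def fixS (y : V ≃ₗ[ZMod 2] V) : Submodule (ZMod 2) V := LinearMap.eqLocus (y : V →ₗ[ZMod 2] V) LinearMap.id

theorem card_mod (h5 : ∀ v, y (y (y (y (y v)))) = v) (L : Submodule (ZMod 2) V) (hL : ∀ v ∈ L, y v ∈ L) :
    Nat.card L ≡ Nat.card ↥(L ⊓ fixS y) [MOD 5] := by
  classical
  have : Fact (Nat.Prime 5) := ⟨by norm_num⟩
  let f : Function.End L := fun v => ⟨y v, hL v v.2⟩
  have hf : f ^ 5 ^ 1 = 1 := by
    funext v
    apply Subtype.ext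
    exact h5 v
  have h1 := Equiv.Perm.card_fixedPoints_modEq (α := L) (f := f) (p := 5) (n := 1) hf
  rw [← Nat.card_eq_fintype_card, ← Nat.card_eq_fintype_card] at h1
  have e : Nat.card (Function.fixedPoints f) = Nat.card ↥(L ⊓ fixS y) := by
    refine Nat.card_congr ⟨fun v => ⟨v.1.1, v.1.2, congrArg Subtype.val v.2⟩,
      fun v => ⟨⟨v.1, v.2.1⟩, Subtype.ext v.2.2⟩, fun v => rfl, fun v => rfl⟩
  rw [← e]
  exact h1

theorem card_sub (L : Submodule (ZMod 2) V) : Nat.card L = 2 ^ Module.finrank (ZMod 2) L := by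
  rw [Module.natCard_eq_pow_finrank (K := ZMod 2), Nat.card_zmod]

theorem fin_mod {k : ℕ} (hk : k ≤ 8) (h : 1 ≡ 2 ^ k [MOD 5]) : k = 0 ∨ k = 4 ∨ k = 8 := by
  interval_cases k <;> revert h <;> decide

theorem finrank_fix (h5 : ∀ v, y (y (y (y (y v)))) = v) (h1 : y ≠ 1) {a : V} (ha0 : a ≠ 0) (ha : y a = a) :
    Module.finrank (ZMod 2) ↥(fixS y) = 4 := by
  have e := card_mod h5 ⊤ fun v _ => Submodule.mem_top
  rw [top_inf_eq, card_sub, card_sub, finrank_top, finrank_V] at e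
  have hle : Module.finrank (ZMod 2) ↥(fixS y) ≤ 8 := by
    rw [← finrank_V]; exact Submodule.finrank_le _
  rcases fin_mod hle (Nat.ModEq.trans (by decide) e) with h | h | h
  · exfalso
    have := Submodule.finrank_eq_zero.1 h
    have h2 : a ∈ fixS y := ha
    rw [this] at h2
    exact ha0 ((Submodule.mem_bot _).1 h2)
  · exact h
  · exfalso
    have h2 := Submodule.eq_top_of_finrank_eq (h.trans finrank_V.symm)
    apply h1
    ext v : 1
    have h3 : v ∈ fixS y := by rw [h2]; exact Submodule.mem_top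
    exact h3

/-- the sum over the orbit -/
def orbS (y : V ≃ₗ[ZMod 2] V) (v : V) : V := v + (y v + (y (y v) + (y (y (y v)) + y (y (y (y v))))))

theorem orbS_add (v w : V) : orbS y (v + w) = orbS y v + orbS y w := by
  simp only [orbS, map_add]; abel

theorem orbS_y (h5 : ∀ v, y (y (y (y (y v)))) = v) (v : V) : orbS y (y v) = orbS y v := by
  simp only [orbS, h5]; abel

theorem orbS_fix {v : V} (h : y v = v) : orbS y v = v := by
  simp only [orbS, h]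
  rw [add_self, add_zero, add_self, add_zero]

/-- the span of the orbit -/
def spn (y : V ≃ₗ[ZMod 2] V) (s : V) : Submodule (ZMod 2) V :=
  Submodule.span (ZMod 2) {s, y s, y (y s), y (y (y s)), y (y (y (y s)))}

theorem spn_inv (h5 : ∀ v, y (y (y (y (y v)))) = v) (s : V) : ∀ v ∈ spn y s, y v ∈ spn y s := by
  intro v hv
  have : (spn y s).map (y : V →ₗ[ZMod 2] V) ≤ spn y s := by
    rw [spn, Submodule.map_span, Submodule.span_le]
    rintro _ ⟨w, hw, rfl⟩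
    apply Submodule.subset_span
    simp only [Set.mem_insert_iff, Set.mem_singleton_iff] at hw ⊢
    rcases hw with rfl | rfl | rfl | rfl | rfl
    · right; left; rfl
    · right; right; left; rfl
    · right; right; right; left; rfl
    · right; right; right; right; rfl
    · left; exact h5 s
  exact this ⟨v, hv, rfl⟩

theorem spn_orbS (h5 : ∀ v, y (y (y (y (y v)))) = v) {s : V} (hs : orbS y s = 0) : ∀ v ∈ spn y s, orbS y v = 0 := by
  intro v hv
  induction hv using Submodule.span_induction with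
  | mem v hv =>
    simp only [Set.mem_insert_iff, Set.mem_singleton_iff] at hv
    rcases hv with rfl | rfl | rfl | rfl | rfl
    · exact hs
    · rw [orbS_y h5, hs]
    · rw [orbS_y h5, orbS_y h5, hs]
    · rw [orbS_y h5, orbS_y h5, orbS_y h5, hs]
    · rw [orbS_y h5, orbS_y h5, orbS_y h5, orbS_y h5, hs]
  | zero => simp [orbS]
  | add v w _ _ h1 h2 => rw [orbS_add, h1, h2, add_zero]
  | smul a v _ h =>
    rcases z2 a with rfl | rfl
    · rw [zero_smul]; simp [orbS]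
    · rw [one_smul, h]

theorem spn_top (h5 : ∀ v, y (y (y (y (y v)))) = v) (h4 : Module.finrank (ZMod 2) ↥(fixS y) = 4)
    {s : V} (hs0 : s ≠ 0) (hs : orbS y s = 0) : spn y s ⊔ fixS y = ⊤ := by
  have hinf : spn y s ⊓ fixS y = ⊥ := by
    rw [eq_bot_iff]
    rintro v ⟨h1, h2⟩
    rw [Submodule.mem_bot, ← orbS_fix h2]
    exact spn_orbS h5 hs v h1
  have e := card_mod h5 (spn y s) (spn_inv h5 s)
  rw [hinf, card_sub, card_sub, finrank_bot, pow_zero] at e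
  have hle : Module.finrank (ZMod 2) ↥(spn y s) ≤ 8 := by
    rw [← finrank_V]; exact Submodule.finrank_le _
  have h6 : 4 ≤ Module.finrank (ZMod 2) ↥(spn y s) := by
    rcases fin_mod hle e.symm with h | h | h
    · exfalso
      have := Submodule.finrank_eq_zero.1 h
      have h2 : s ∈ spn y s := Submodule.subset_span (Or.inl rfl)
      rw [this] at h2
      exact hs0 ((Submodule.mem_bot _).1 h2)
    · omega
    · omega
  have h7 := Submodule.finrank_sup_add_finrank_inf_eq (spn y s) (fixS y)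
  rw [hinf, finrank_bot, h4] at h7
  apply Submodule.eq_top_of_finrank_eq
  have h8 : Module.finrank (ZMod 2) ↥(spn y s ⊔ fixS y) ≤ 8 := by
    rw [← finrank_V]; exact Submodule.finrank_le _
  rw [finrank_V]
  omega

/-- A vector orthogonal to the orbit of `s` and to the fixed space is zero. -/
theorem perp_zero (h5 : ∀ v, y (y (y (y (y v)))) = v) (h4 : Module.finrank (ZMod 2) ↥(fixS y) = 4)
    {s : V} (hs0 : s ≠ 0) (hs : orbS y s = 0) {n : V} (h0 : B n s = 0) (h1 : B n (y s) = 0) (h2 : B n (y (y s)) = 0)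
    (h3 : B n (y (y (y s))) = 0) (h4' : B n (y (y (y (y s)))) = 0) (hf : ∀ f, y f = f → B n f = 0) : n = 0 := by
  have key : ∀ a ∈ spn y s, B n a = 0 := by
    intro a ha
    induction ha using Submodule.span_induction with
    | mem v hv =>
      simp only [Set.mem_insert_iff, Set.mem_singleton_iff] at hv
      rcases hv with rfl | rfl | rfl | rfl | rfl
      · exact h0
      · exact h1
      · exact h2
      · exact h3
      · exact h4'
    | zero => exact B_zero_right n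
    | add v w _ _ h1 h2 => rw [B_add_right, h1, h2, add_zero]
    | smul a v _ h => rw [B_smul_right, h, mul_zero]
  apply nondeg
  intro v
  have hv : v ∈ spn y s ⊔ fixS y := by rw [spn_top h5 h4 hs0 hs]; exact Submodule.mem_top
  obtain ⟨a, ha, b, hb, rfl⟩ := Submodule.mem_sup.1 hv
  rw [B_add_right, hf b hb, add_zero, key a ha]

/-- There is a singular vector in `[V, y]` whose orbit is the standard frame. -/
theorem exists_sing (hO : y ∈ O8) (h5 : ∀ v, y (y (y (y (y v)))) = v) (h1 : y ≠ 1) {a : V} (ha0 : a ≠ 0) (ha : y a = a) :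
    ∃ s, s ≠ 0 ∧ orbS y s = 0 ∧ q s = 0 ∧ B s (y s) = 1 ∧ B s (y (y s)) = 1 := by
  have h4 := finrank_fix h5 h1 ha0 ha
  have hB : ∀ u v, B (y u) (y v) = B u v := O8_B hO
  have hq : ∀ v, q (y v) = q v := O8_q hO
  -- `q s = β₁ + β₂`
  have hqs : ∀ s, orbS y s = 0 → q s = B s (y s) + B s (y (y s)) := by
    intro s hs
    have e : y (y (y (y s))) = s + (y s + (y (y s) + y (y (y s)))) := by
      symm
      apply eq_of_add_eq_zero
      rw [← hs, orbS]; abel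
    have e1 : q (y (y (y (y s)))) = q s := by rw [hq, hq, hq, hq]
    have e3 : B s (y (y (y s))) = B s (y (y s)) := by
      rw [← hB s (y (y (y s))), ← hB (y s), h5, B_comm]
    rw [e, q_add, q_add, q_add] at e1
    simp only [B_add_right, hq, hB, e3] at e1
    have : ∀ a b c : ZMod 2, a + (a + (a + a + b) + (b + c)) + (b + (c + c)) = a → a = b + c := by decide
    exact this _ _ _ e1
  have hne : ∀ s, orbS y s = 0 → s ≠ 0 → y s ≠ s := by
    intro s hs hs0 h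
    rw [orbS_fix h] at hs
    exact hs0 hs
  have hne2 : ∀ s, orbS y s = 0 → s ≠ 0 → y (y s) ≠ s := by
    intro s hs hs0 h
    apply hne s hs hs0
    have := h5 s
    rw [h, h] at this
    exact this
  obtain ⟨v₀, hv₀⟩ : ∃ v, y v ≠ v := by
    by_contra hcon
    push Not at hcon
    exact h1 (LinearEquiv.ext hcon)
  have hw : orbS y (v₀ + y v₀) = 0 := by rw [orbS_add, orbS_y h5, add_self]
  have hw0 : v₀ + y v₀ ≠ 0 := fun h => hv₀ (eq_of_add_eq_zero h).symm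
  obtain ⟨s, hs, hs0, hqs0⟩ : ∃ s, orbS y s = 0 ∧ s ≠ 0 ∧ q s = 0 := by
    generalize v₀ + y v₀ = w at hw hw0
    rcases z2 (q w) with h | h
    · exact ⟨w, hw, hw0, h⟩
    · have e := hqs w hw
      rcases z2 (B w (y w)) with h' | h'
      · refine ⟨w + y w, by rw [orbS_add, orbS_y h5, add_self], fun h => hne w hw hw0 (eq_of_add_eq_zero h).symm, ?_⟩
        rw [q_add, hq, h, h']; decide
      · refine ⟨w + y (y w), by rw [orbS_add, orbS_y h5, orbS_y h5, add_self],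
          fun h => hne2 w hw hw0 (eq_of_add_eq_zero h).symm, ?_⟩
        have h'' : B w (y (y w)) = 0 := by
          rw [h, h'] at e
          rcases z2 (B w (y (y w))) with h2 | h2
          · exact h2
          · rw [h2] at e
            exact absurd e (by decide)
        rw [q_add, hq, hq, h, h'']; decide
  refine ⟨s, hs0, hs, hqs0, ?_⟩
  have e := hqs s hs
  rw [hqs0] at e
  rcases z2 (B s (y s)) with h | h
  · exfalso
    have h' : B s (y (y s)) = 0 := by rw [h, zero_add] at e; exact e.symm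
    apply hs0
    refine perp_zero h5 h4 hs0 hs (B_self s) h h' ?_ ?_ ?_
    · rw [← hB, ← hB, h5, B_comm]; exact h'
    · rw [← hB, h5, B_comm]; exact h
    · intro f hf
      have h6 : ∀ v, B (y v) f = B v f := fun v => by rw [← hB v f, hf]
      have h7 : B (orbS y s) f = B s f := by
        simp only [orbS, B_add_left, h6]
        have : ∀ a : ZMod 2, a + (a + (a + (a + a))) = a := by decide
        exact this _
      rw [← h7, hs, B_zero_left]
  · refine ⟨h, ?_⟩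
    rw [h] at e
    rcases z2 (B s (y (y s))) with h2 | h2
    · rw [h2] at e
      exact absurd e (by decide)
    · exact h2

end Gen5

/-- Vectors with pairwise product 1 are linearly independent (four of them). -/
theorem lin_indep {f : Fin 4 → V} (h : ∀ i j, i ≠ j → B (f i) (f j) = 1) : LinearIndependent (ZMod 2) f := by
  rw [Fintype.linearIndependent_iff]
  intro g hg
  have h1 : ∀ j, g 0 * B (f j) (f 0) + g 1 * B (f j) (f 1) + g 2 * B (f j) (f 2) + g 3 * B (f j) (f 3) = 0 := by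
    intro j
    have := congrArg (B (f j)) hg
    rw [B_zero_right, Fin.sum_univ_four, B_add_right, B_add_right, B_add_right, B_smul_right, B_smul_right,
      B_smul_right, B_smul_right] at this
    exact this
  have e0 := h1 0
  have e1 := h1 1
  have e2 := h1 2
  have e3 := h1 3
  rw [B_self, h 0 1 (by decide), h 0 2 (by decide), h 0 3 (by decide)] at e0
  rw [B_self, h 1 0 (by decide), h 1 2 (by decide), h 1 3 (by decide)] at e1
  rw [B_self, h 2 0 (by decide), h 2 1 (by decide), h 2 3 (by decide)] at e2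
  rw [B_self, h 3 0 (by decide), h 3 1 (by decide), h 3 2 (by decide)] at e3
  have key : ∀ a b c d : ZMod 2, a * 0 + b * 1 + c * 1 + d * 1 = 0 → a * 1 + b * 0 + c * 1 + d * 1 = 0 →
      a * 1 + b * 1 + c * 0 + d * 1 = 0 → a * 1 + b * 1 + c * 1 + d * 0 = 0 → a = 0 ∧ b = 0 ∧ c = 0 ∧ d = 0 := by decide
  obtain ⟨a, b, c, d⟩ := key _ _ _ _ e0 e1 e2 e3
  intro i
  fin_cases i
  · exact a
  · exact b
  · exact c
  · exact d

theorem hnd : (QuadraticMap.polarBilin q).Nondegenerate := by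
  refine ⟨fun a ha => good.nondeg a ha, fun a ha => good.nondeg a fun b => ?_⟩
  rw [QuadraticMap.polar_comm]
  exact ha b

theorem code_B : ∀ i j : Fin 5, i ≠ j → Bn (cx i) (cx j) = true := by decide +kernel
theorem code_q : ∀ i : Fin 5, qn (cx i) = false := by decide +kernel
theorem code_ux : ∀ i j : Fin 5, Bn (cu i) (cx j) = false := by decide +kernel
theorem code_sum : cx 4 = cx 0 ^^^ (cx 1 ^^^ (cx 2 ^^^ cx 3)) := by decide +kernel

/-- Every element of order 5 with a fixed vector is conjugate to the standard one. -/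
theorem exists_std {y : V ≃ₗ[ZMod 2] V} (hO : y ∈ O8) (h5 : ∀ v, y (y (y (y (y v)))) = v) (h1 : y ≠ 1) {a : V}
    (ha0 : a ≠ 0) (ha : y a = a) : ∃ M ∈ O8, Y (M⁻¹ * y * M) := by
  obtain ⟨s, hs0, hs, hqs, hb1, hb2⟩ := exists_sing hO h5 h1 ha0 ha
  have h4 := finrank_fix h5 h1 ha0 ha
  have hB : ∀ u v, B (y u) (y v) = B u v := O8_B hO
  have hq : ∀ v, q (y v) = q v := O8_q hO
  have hb3 : B s (y (y (y s))) = 1 := by
    rw [← hB s (y (y (y s))), ← hB (y s), h5, B_comm]; exact hb2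
  let f : Fin 4 → V := fun i => dec (cx i.castSucc)
  let g : Fin 4 → V := ![s, y s, y (y s), y (y (y s))]
  have hf : ∀ i j, i ≠ j → B (f i) (f j) = 1 := by
    intro i j hij
    show B (dec _) (dec _) = 1
    rw [B_dec, code_B _ _ fun h => hij (Fin.castSucc_injective _ h)]; rfl
  have hg : ∀ i j, i ≠ j → B (g i) (g j) = 1 := by
    intro i j hij
    fin_cases i <;> fin_cases j <;> first | exact absurd rfl hij | skip
    · exact hb1
    · exact hb2
    · exact hb3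
    · show B (y s) s = 1
      rw [B_comm]; exact hb1
    · show B (y s) (y (y s)) = 1
      rw [hB]; exact hb1
    · show B (y s) (y (y (y s))) = 1
      rw [hB]; exact hb2
    · show B (y (y s)) s = 1
      rw [B_comm]; exact hb2
    · show B (y (y s)) (y s) = 1
      rw [B_comm, hB]; exact hb1
    · show B (y (y s)) (y (y (y s))) = 1
      rw [hB, hB]; exact hb1
    · show B (y (y (y s))) s = 1
      rw [B_comm]; exact hb3
    · show B (y (y (y s))) (y s) = 1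
      rw [B_comm, hB]; exact hb2
    · show B (y (y (y s))) (y (y s)) = 1
      rw [B_comm, hB, hB]; exact hb1
  obtain ⟨M, hM, hM'⟩ := Cfsg.Agent.ClassicalGeometry.WittQuad.extend_family q hnd 4 f g (lin_indep hf) (lin_indep hg)
    (fun i => by
      show q (dec _) = _
      rw [q_dec, code_q]
      fin_cases i
      · exact hqs.symm
      · exact ((hq _).trans hqs).symm
      · exact ((hq _).trans ((hq _).trans hqs)).symm
      · exact ((hq _).trans ((hq _).trans ((hq _).trans hqs))).symm)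
    (fun i j => by
      show B (f i) (f j) = B (g i) (g j)
      by_cases hij : i = j
      · rw [hij, B_self, B_self]
      · rw [hf i j hij, hg i j hij])
  have hMO : M ∈ O8 := mem_O8.2 hM
  have hMB : ∀ u v, B (M u) (M v) = B u v := O8_B hMO
  have m0 : M (dec (cx 0)) = s := hM' 0
  have m1 : M (dec (cx 1)) = y s := hM' 1
  have m2 : M (dec (cx 2)) = y (y s) := hM' 2
  have m3 : M (dec (cx 3)) = y (y (y s)) := hM' 3
  have m4 : M (dec (cx 4)) = y (y (y (y s))) := by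
    rw [code_sum, dec_xor, dec_xor, dec_xor, map_add, map_add, map_add, m0, m1, m2, m3]
    apply eq_of_add_eq_zero
    rw [← hs, orbS]; abel
  refine ⟨M, hMO, ⟨fun i => ?_, fun i => ?_⟩⟩
  · show M.symm (y (M (dec (cu i)))) = _
    rw [LinearEquiv.symm_apply_eq]
    symm
    apply eq_of_add_eq_zero
    -- orthogonality
    have o : ∀ j, B (M (dec (cu i))) (M (dec (cx j))) = 0 := by
      intro j
      rw [hMB, B_dec, code_ux]; rfl
    have o0 := o 0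
    have o1 := o 1
    have o2 := o 2
    have o3 := o 3
    have o4 := o 4
    rw [m0] at o0
    rw [m1] at o1
    rw [m2] at o2
    rw [m3] at o3
    rw [m4] at o4
    generalize M (dec (cu i)) = n at *
    refine perp_zero h5 h4 hs0 hs ?_ ?_ ?_ ?_ ?_ ?_
    · rw [B_add_left, o0, zero_add, ← h5 s, hB]; exact o4
    · rw [B_add_left, o1, zero_add, hB]; exact o0
    · rw [B_add_left, o2, zero_add, hB]; exact o1
    · rw [B_add_left, o3, zero_add, hB]; exact o2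
    · rw [B_add_left, o4, zero_add, hB]; exact o3
    · intro f hf
      rw [B_add_left]
      conv_lhs => rw [← hf, hB, hf]
      exact CharTwo.add_self_eq_zero _
  · show M.symm (y (M (dec (cx i)))) = _
    rw [LinearEquiv.symm_apply_eq]
    fin_cases i
    · show y (M (dec (cx 0))) = M (dec (cx 1))
      rw [m0, m1]
    · show y (M (dec (cx 1))) = M (dec (cx 2))
      rw [m1, m2]
    · show y (M (dec (cx 2))) = M (dec (cx 3))
      rw [m2, m3]
    · show y (M (dec (cx 3))) = M (dec (cx 4))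
      rw [m3, m4]
    · show y (M (dec (cx 4))) = M (dec (cx 0))
      rw [m4, m0, h5]

/-- **Task D2** of S5919: automorphisms of `Ω₈⁺(2)` of order at most two centralising an element `y` of order 5 with a
fixed vector (the statement of `Cfsg.Agent.H942.S62.AutO8`). -/
theorem autO8 : ∀ (y t : ↥StdO8.Model.Om) (_ : y ^ 5 = 1) (_ : y ≠ 1)
    (_ : ∃ a : StdO8.Model.V, a ≠ 0 ∧ (y : StdO8.Model.V ≃ₗ[ZMod 2] StdO8.Model.V) a = a)
    (_ : StdO8.Aut.IsC2 (t : StdO8.Model.V ≃ₗ[ZMod 2] StdO8.Model.V)) (_ : t * y = y * t)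
    (α : MulAut ↥StdO8.Model.Om) (_ : ∀ g, α (α g) = g) (_ : α y = y),
    α = 1 ∨
    (∃ c : ↥StdO8.Model.Om, c * y = y * c ∧ α = MulAut.conj (c * t * c⁻¹)) ∨
    (∃ c r : ↥StdO8.Model.Om, c * y = y * c ∧ r * y = y * r ∧ α r * r⁻¹ = c * t * c⁻¹) := by
  rintro y t hy5 hy1 ⟨a, ha0, ha⟩ ht hty α hα2 hαy
  have h5 : ∀ v, (y : V ≃ₗ[ZMod 2] V) ((y : V ≃ₗ[ZMod 2] V) ((y : V ≃ₗ[ZMod 2] V) ((y : V ≃ₗ[ZMod 2] V)
      ((y : V ≃ₗ[ZMod 2] V) v)))) = v := by
    intro v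
    have h1 : y * (y * (y * (y * y))) = 1 := by
      rw [← hy5]; simp only [pow_succ, pow_zero, one_mul, mul_assoc]
    have h2 := congrArg (fun g : Om => (g : V ≃ₗ[ZMod 2] V) v) h1
    exact h2
  have h1 : (y : V ≃ₗ[ZMod 2] V) ≠ 1 := fun h => hy1 (Subtype.ext h)
  obtain ⟨M, hM, hY⟩ := exists_std (Om_le y.2) h5 h1 ha0 ha
  have e : ∀ g : Om, (((cj ⟨M, hM⟩)⁻¹ g : Om) : V ≃ₗ[ZMod 2] V) = M⁻¹ * g * M := by
    intro g
    rw [← map_inv, cj_coe]
    show M⁻¹ * (g : V ≃ₗ[ZMod 2] V) * M⁻¹⁻¹ = _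
    rw [inv_inv]
  apply Concl.transport (φ := cj ⟨M, hM⟩)
  apply concl_of_Y
  · rw [e]; exact hY
  · have := ht.conj (M := M⁻¹) (inv_mem hM)
    rw [inv_inv] at this
    rw [e]; exact this
  · rw [← map_mul, hty, map_mul]
  · intro g
    show (cj ⟨M, hM⟩)⁻¹ (α (cj ⟨M, hM⟩ ((cj ⟨M, hM⟩)⁻¹ (α (cj ⟨M, hM⟩ g))))) = g
    rw [MulAut.apply_inv_self, hα2, MulAut.inv_apply_self]
  · show (cj ⟨M, hM⟩)⁻¹ (α (cj ⟨M, hM⟩ ((cj ⟨M, hM⟩)⁻¹ y))) = _
    rw [MulAut.apply_inv_self, hαy]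

end Cfsg.Agent.H757.S62
end

-- part: H835/S62/RowSp
section
/-!
# S5919, the row `Sp₆(2)` (task R6, helper835)

A maximal subgroup `H` of `E₈(3)` with `F*(H) ≅ Sp₆(2)`: the partner `x'` of the element `y0` of order 5 lies in `H`
(`mem_of_partner`), and, the automorphisms of `Sp₆(2)` being inner, in `F*(H)`; so it is conjugate to `t0` under the
centraliser of `y0`, and `t0` fixes all the vectors fixed by `y0`.
-/

set_option autoImplicit false
set_option maxRecDepth 100000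
set_option linter.unusedSectionVars false

namespace Cfsg.Agent.H835.S62

section Abs

variable {G Q : Type*} [Group G] [Finite G] [Group Q]

/-- the embedding -/
noncomputable def emb {H : Subgroup G} (e : ↥(Cfsg.generalizedFittingSubgroup ↥H) ≃* Q) : Q →* G :=
  (H.subtype.comp (Cfsg.generalizedFittingSubgroup ↥H).subtype).comp e.symm.toMonoidHom

theorem emb_apply {H : Subgroup G} (e : ↥(Cfsg.generalizedFittingSubgroup ↥H) ≃* Q) (g : Q) :
    emb e g = ((e.symm g : ↥H) : G) := rfl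

theorem emb_inj {H : Subgroup G} (e : ↥(Cfsg.generalizedFittingSubgroup ↥H) ≃* Q) : Function.Injective (emb e) := by
  intro a b h
  rw [emb_apply, emb_apply] at h
  exact e.symm.injective (Subtype.ext (Subtype.ext h))

/-- elements of the range -/
theorem mem_range {H : Subgroup G} (e : ↥(Cfsg.generalizedFittingSubgroup ↥H) ≃* Q) (x : ↥H) :
    (x : G) ∈ (emb e).range ↔ x ∈ Cfsg.generalizedFittingSubgroup ↥H := by
  constructor
  · rintro ⟨g, hg⟩
    rw [emb_apply] at hg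
    have : ((e.symm g : ↥(Cfsg.generalizedFittingSubgroup ↥H)) : ↥H) = x := Subtype.ext hg
    rw [← this]
    exact (e.symm g).2
  · intro hx
    refine ⟨e ⟨x, hx⟩, ?_⟩
    rw [emb_apply, MulEquiv.symm_apply_apply]

theorem range_le {H : Subgroup G} (e : ↥(Cfsg.generalizedFittingSubgroup ↥H) ≃* Q) : (emb e).range ≤ H := by
  rintro _ ⟨g, rfl⟩
  rw [emb_apply]
  exact (e.symm g : ↥H).2

theorem le_norm {H : Subgroup G} (e : ↥(Cfsg.generalizedFittingSubgroup ↥H) ≃* Q) :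
    H ≤ Subgroup.normalizer ((emb e).range : Set G) := by
  have hn : (Cfsg.generalizedFittingSubgroup ↥H).Normal := Lib.GenFitting.genFitting_normal
  have key : ∀ h ∈ H, ∀ g ∈ (emb e).range, h * g * h⁻¹ ∈ (emb e).range := by
    intro h hh g hg
    have hgH := range_le e hg
    have h1 := (mem_range e ⟨g, hgH⟩).1 hg
    exact (mem_range e (@HMul.hMul _ _ _ instHMul (@HMul.hMul _ _ _ instHMul ⟨h, hh⟩ ⟨g, hgH⟩) ⟨h, hh⟩⁻¹)).2 (hn.conj_mem _ h1 _)
  intro h hh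
  rw [Subgroup.mem_normalizer_iff]
  intro g
  constructor
  · exact key h hh g
  · intro hg
    have h1 := key h⁻¹ (H.inv_mem hh) _ hg
    have h2 : h⁻¹ * (h * g * h⁻¹) * h⁻¹⁻¹ = g := by group
    rwa [h2] at h1

/-- elements of `H` lie in the range, the automorphisms of `Q` being inner -/
theorem mem_range_of_aut (hA : ∀ α : MulAut Q, ∃ g : Q, α = MulAut.conj g) {H : Subgroup G}
    (e : ↥(Cfsg.generalizedFittingSubgroup ↥H) ≃* Q) {x : G} (hx : x ∈ H) : x ∈ (emb e).range := by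
  have hn : (Cfsg.generalizedFittingSubgroup ↥H).Normal := Lib.GenFitting.genFitting_normal
  obtain ⟨g, hg⟩ := hA ((e.symm.trans (MulAut.conjNormal (⟨x, hx⟩ : ↥H) : MulAut _)).trans e)
  have h1 : ∀ s : Q, x * emb e s * x⁻¹ = emb e g * emb e s * (emb e g)⁻¹ := by
    intro s
    have h2 := congrArg (fun a : MulAut Q => emb e (a s)) hg
    simp only [MulAut.conj_apply, map_mul, map_inv] at h2
    rw [← h2, emb_apply, emb_apply, MulEquiv.trans_apply, MulEquiv.trans_apply, MulEquiv.symm_apply_apply,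
      MulAut.conjNormal_apply]
    rfl
  have hgH : emb e g ∈ H := range_le e ⟨g, rfl⟩
  have h3 : (⟨(emb e g)⁻¹ * x, H.mul_mem (H.inv_mem hgH) hx⟩ : ↥H) ∈
      Subgroup.centralizer (Cfsg.generalizedFittingSubgroup ↥H : Set ↥H) := by
    rw [Subgroup.mem_centralizer_iff]
    intro t ht
    obtain ⟨s, hs⟩ := (mem_range e t).2 ht
    refine Subtype.ext ?_
    show (t : G) * ((emb e g)⁻¹ * x) = (emb e g)⁻¹ * x * (t : G)
    have h4 := h1 s
    rw [hs] at h4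
    have h5 : x * (t : G) = emb e g * (t : G) * (emb e g)⁻¹ * x := by
      rw [← h4]
      group
    rw [mul_assoc _ x, h5]
    group
  have h6 := (mem_range e _).2 (Lib.GenFitting.centralizer_genFitting_le h3)
  have h7 : x = emb e g * ((emb e g)⁻¹ * x) := by group
  rw [h7]
  exact Subgroup.mul_mem _ ⟨g, rfl⟩ h6

end Abs

open Cfsg Cfsg.Lie Module
open Cfsg.Agent.H540.E8C.End
open Cfsg.Agent.H942.S62

/-- **The row `Sp₆(2)`.** -/
theorem rowSp (hN : NumSp) (hA : AutSp) (hI : InvY0) : RowSp := by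
  rintro H ⟨e⟩ hH
  obtain ⟨F, hF⟩ : ∃ F : Sp2 →* E, F = emb (Q := Sp2) e := ⟨_, rfl⟩
  have hinj : Function.Injective F := by rw [hF]; exact emb_inj e
  have hle : H ≤ Subgroup.normalizer (F.range : Set E) := by rw [hF]; exact le_norm e
  have hrg : ∀ x ∈ H, x ∈ F.range := fun x hx => by rw [hF]; exact mem_range_of_aut hA e hx
  obtain ⟨h1, -, ⟨x', hx2, hx1, hxc, hxf⟩, v, hv1, hv2⟩ := hN F hinj
  have hne : F.range ≠ ⊥ := by
    intro h
    have h2 : F y0 ∈ F.range := ⟨y0, rfl⟩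
    rw [h, Subgroup.mem_bot] at h2
    exact y0_ne (hinj (by rw [h2, map_one]))
  have hfv : fixV F.range ≠ ⊥ := by
    intro h
    rw [h, finrank_bot] at h1
    omega
  have hxH : x' ∈ H := mem_of_partner hH hne hle hfv (x := F y0) ⟨y0, rfl⟩ hxf
  obtain ⟨x, rfl⟩ := hrg x' hxH
  obtain ⟨s, hs1, hs2⟩ := hI x (hinj (by rw [map_mul, ← pow_two, hx2, map_one]))
    (fun h => hx1 (by rw [h, map_one])) (hinj (by rw [map_mul, map_mul]; exact hxc.eq.symm))
  apply hv2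
  have h3 : ac (F y0) (ac (F s) v) = ac (F s) v := by
    rw [← ac_mul, ← map_mul, ← hs1, map_mul, ac_mul, hv1]
  have h4 := hxf _ h3
  rw [hs2, map_mul, map_mul, ac_mul, ac_mul, map_inv, ac_inv_ac] at h4
  have h5 := congrArg (ac (F s)⁻¹) h4
  rwa [ac_inv_ac, ac_inv_ac] at h5

end Cfsg.Agent.H835.S62
end

-- part: H95/S62/RowO8
section
/-!
# S5919, the row `Ω₈⁺(2)` (task R8, helper95)

`row_o8 : NumSp → EmbO8 → AutO8 → RowO8`.
-/

set_option autoImplicit false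

namespace Cfsg.Agent.H95.S62

open Cfsg Cfsg.Lie Module Cfsg.Agent.H540.E8C.End Cfsg.Agent.H942.S62
open Cfsg.Agent.StdO8.Model (Om)

/-- a subgroup `H` with `F*(H) ≅ M`, `Z(M) = 1` -/
theorem exists_hom {G M : Type*} [Group G] [Finite G] [Group M] {H : Subgroup G}
    (e : M ≃* ↥(generalizedFittingSubgroup ↥H)) (hc : Subgroup.center M = ⊥) :
    ∃ f : M →* G, Function.Injective f ∧ (∀ g, f g ∈ H) ∧ H ≤ Subgroup.normalizer (f.range : Set G) ∧
      (∀ k ∈ H, (∀ g, k * f g = f g * k) → k = 1) ∧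
      ∀ x ∈ H, ∃ α : MulAut M, ∀ g, f (α g) = x * f g * x⁻¹ := by
  have hFn : (generalizedFittingSubgroup ↥H).Normal := Lib.GenFitting.genFitting_normal
  let f : M →* G := (H.subtype.comp (generalizedFittingSubgroup ↥H).subtype).comp e.toMonoidHom
  have hf : ∀ g, f g = ((e g : ↥H) : G) := fun g => rfl
  have hi : Function.Injective f := by
    intro a b h
    rw [hf, hf] at h
    exact e.injective (Subtype.ext (Subtype.ext h))
  have hsymm : ∀ (k : ↥H) (hk : k ∈ generalizedFittingSubgroup ↥H), f (e.symm ⟨k, hk⟩) = (k : G) := by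
    intro k hk
    rw [hf, e.apply_symm_apply]
  refine ⟨f, hi, fun g => (e g : ↥H).2, ?_, ?_, ?_⟩
  · intro h hh
    have key : ∀ h ∈ H, ∀ g ∈ f.range, h * g * h⁻¹ ∈ f.range := by
      rintro h hh _ ⟨g, rfl⟩
      exact ⟨e.symm ⟨⟨h, hh⟩ * (e g : ↥H) * ⟨h, hh⟩⁻¹, hFn.conj_mem _ (e g).2 _⟩, by rw [hsymm]; rfl⟩
    rw [Subgroup.mem_normalizer_iff]
    intro g
    constructor
    · exact key h hh g
    · intro hg
      have h1 := key h⁻¹ (H.inv_mem hh) _ hg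
      have h2 : h⁻¹ * (h * g * h⁻¹) * h⁻¹⁻¹ = g := by group
      rwa [h2] at h1
  · intro k hk hkg
    have h1 : (⟨k, hk⟩ : ↥H) ∈ Subgroup.centralizer (generalizedFittingSubgroup ↥H : Set ↥H) := by
      rw [Subgroup.mem_centralizer_iff]
      intro s hs
      have h2 := hkg (e.symm ⟨s, hs⟩)
      rw [hsymm] at h2
      exact Subtype.ext h2.symm
    have h2 := Lib.GenFitting.centralizer_genFitting_le h1
    have h4 := hsymm _ h2
    have h3 : e.symm ⟨⟨k, hk⟩, h2⟩ ∈ Subgroup.center M := by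
      rw [Subgroup.mem_center_iff]
      intro g
      apply hi
      rw [map_mul, map_mul, h4]
      exact (hkg g).symm
    rw [hc, Subgroup.mem_bot] at h3
    rw [h3, map_one] at h4
    exact h4.symm
  · intro x hx
    refine ⟨(e.trans (MulAut.conjNormal (⟨x, hx⟩ : ↥H))).trans e.symm, fun g => ?_⟩
    rw [hf, hf]
    change ((e (e.symm (MulAut.conjNormal (⟨x, hx⟩ : ↥H) (e g))) : ↥H) : G) = _
    rw [e.apply_symm_apply, MulAut.conjNormal_apply]
    rfl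

theorem fixV_mono {A B : Subgroup E} (h : A ≤ B) : fixV B ≤ fixV A := fun _ hv g hg => hv g (h hg)

/-- two subspaces of dimension at least 4 in a space of dimension at most 7 -/
theorem inf_ne_bot {A B C : Submodule (ZMod 3) LL} (hA : A ≤ C) (hB : B ≤ C)
    (h1 : 4 ≤ finrank (ZMod 3) ↥A) (h2 : 4 ≤ finrank (ZMod 3) ↥B) (h3 : finrank (ZMod 3) ↥C ≤ 7) : A ⊓ B ≠ ⊥ := by
  intro h
  have h4 := Submodule.finrank_sup_add_finrank_inf_eq A B
  rw [h, finrank_bot, add_zero] at h4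
  have h5 := Submodule.finrank_mono (sup_le hA hB)
  omega

/-- **Task R8.** -/
theorem row_o8 (hN : NumSp) (hE : EmbO8) (hA : AutO8) : RowO8 := by
  rintro H ⟨e0⟩ hH
  have e3 : Cfsg.Omega (ZMod 2) (Cfsg.quadFormPlus 4 (ZMod 2)) ≃* ↥Om := by
    rw [← Cfsg.Agent.LieClassical.QuadForms.coe_plusForm]
    exact Cfsg.Agent.AutOrth.Main.oe Cfsg.Agent.StdO8.Model.good
  obtain ⟨f, hi, hfH, hn, hcent, hconj⟩ := exists_hom (e0.trans e3).symm Cfsg.Agent.StdO8.Model.center_Om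
  obtain ⟨φ, φ', hφ, hφ', hsup, hP, ha, hC2⟩ := hE
  obtain ⟨n1, n2, ⟨x', hx2, hx1, hxc, hxv⟩, v0, hv0, hv0'⟩ := hN (f.comp φ) (hi.comp hφ)
  obtain ⟨n1', -, -, -⟩ := hN (f.comp φ') (hi.comp hφ')
  -- fixed vectors
  have hfix : fixV f.range ≠ ⊥ := by
    have h1 : fixV (f.comp φ).range ⊓ fixV (f.comp φ').range ≠ ⊥ := by
      refine inf_ne_bot (C := fixV (P1.map (f.comp φ))) (fixV_mono ?_) (fixV_mono ?_) n1 n1' n2
      · exact Subgroup.map_le_range _ _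
      · rw [← Subgroup.map_map, MonoidHom.range_comp]
        refine Subgroup.map_mono ?_
        rintro _ ⟨g, hg, rfl⟩
        exact hP g hg
    intro h2
    apply h1
    rw [Submodule.eq_bot_iff]
    rintro v ⟨hv, hv'⟩
    rw [Submodule.eq_bot_iff] at h2
    apply h2 v
    have h3 : f.range ≤ stab v := by
      rw [MonoidHom.range_eq_map, ← hsup, Subgroup.map_sup, ← MonoidHom.range_comp, ← MonoidHom.range_comp]
      exact sup_le hv hv'
    exact fun g hg => h3 hg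
  generalize hy : f (φ y0) = y at *
  have hy5 : (φ y0) ^ 5 = 1 := by rw [← map_pow, y0_pow, map_one]
  have hy1 : φ y0 ≠ 1 := by
    intro h
    exact y0_ne (hφ (by rw [h, map_one]))
  have hS1 : f.range ≠ ⊥ := by
    intro h
    have h1 : y ∈ f.range := ⟨_, hy⟩
    rw [h, Subgroup.mem_bot, ← hy] at h1
    exact hy1 (hi (by rw [h1, map_one]))
  have hxH : x' ∈ H := mem_of_partner hH hS1 hn hfix (x := y) ⟨_, hy⟩ hxv
  obtain ⟨α, hα⟩ := hconj x' hxH
  have hxi : x'⁻¹ = x' := by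
    rw [inv_eq_iff_mul_eq_one, ← pow_two, hx2]
  have hαα : ∀ g, α (α g) = g := by
    intro g
    apply hi
    rw [hα, hα, hxi]
    have h1 : x' * x' = 1 := by rw [← pow_two, hx2]
    calc x' * (x' * f g * x') * x' = (x' * x') * f g * (x' * x') := by group
      _ = f g := by rw [h1, one_mul, mul_one]
  have hαy : α (φ y0) = φ y0 := by
    apply hi
    rw [hα, hy]
    have h1 : y * x' = x' * y := hxc
    rw [← h1, mul_inv_cancel_right]
  -- an element `c t c⁻¹` does not fix all the vectors fixed by `y`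
  have hno : ∀ c : ↥Om, c * φ y0 = φ y0 * c → (∀ v, ac y v = v → ac (f (c * φ t0 * c⁻¹)) v = v) → False := by
    intro c hc h
    apply hv0'
    have h1 : ac y (ac (f c) v0) = ac (f c) v0 := by
      rw [← ac_mul, ← hy, ← map_mul, ← hc, map_mul, ac_mul, hy, hv0]
    have h2 := h _ h1
    rw [map_mul, map_mul, ac_mul, ac_mul, map_inv, ac_inv_ac] at h2
    have h3 := congrArg (ac (f c)⁻¹) h2
    rw [ac_inv_ac, ac_inv_ac] at h3
    exact h3
  rcases hA (φ y0) (φ t0) hy5 hy1 ha hC2 (by rw [← map_mul, comm0, map_mul]) α hαα hαy with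
    h1 | ⟨c, hc, h1⟩ | ⟨c, r, hc, hr, h1⟩
  · apply hx1
    refine hcent x' hxH fun g => ?_
    have h2 := hα g
    rw [h1] at h2
    have h3 : f g = x' * f g * x'⁻¹ := h2
    calc x' * f g = (x' * f g * x'⁻¹) * x' := by group
      _ = f g * x' := by rw [← h3]
  · -- `x' = c t c⁻¹`
    have h2 : x' = f (c * φ t0 * c⁻¹) := by
      have h3 : (f (c * φ t0 * c⁻¹))⁻¹ * x' = 1 := by
        refine hcent _ (H.mul_mem (H.inv_mem (hfH _)) hxH) fun g => ?_
        have h4 := hα g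
        rw [h1, MulAut.conj_apply, map_mul, map_mul, map_inv] at h4
        calc (f (c * φ t0 * c⁻¹))⁻¹ * x' * f g = (f (c * φ t0 * c⁻¹))⁻¹ * (x' * f g * x'⁻¹) * x' := by group
          _ = (f (c * φ t0 * c⁻¹))⁻¹ * (f (c * φ t0 * c⁻¹) * f g * (f (c * φ t0 * c⁻¹))⁻¹) * x' := by rw [h4]
          _ = f g * ((f (c * φ t0 * c⁻¹))⁻¹ * x') := by group
      exact (inv_mul_eq_one.1 h3).symm
    exact hno c hc fun v hv => by rw [← h2]; exact hxv v hv
  · -- `[x', r] = c t c⁻¹`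
    refine hno c hc fun v hv => ?_
    rw [← h1, map_mul, hα, map_inv, ac_mul, ac_mul, ac_mul, hxi]
    have h2 : ac y (ac (f r)⁻¹ v) = ac (f r)⁻¹ v := by
      have h3 : y * (f r)⁻¹ = (f r)⁻¹ * y := by
        have h4 : f r * y = y * f r := by rw [← hy, ← map_mul, hr, map_mul]
        calc y * (f r)⁻¹ = (f r)⁻¹ * (f r * y) * (f r)⁻¹ := by group
          _ = (f r)⁻¹ * (y * f r) * (f r)⁻¹ := by rw [h4]
          _ = (f r)⁻¹ * y := by group
      rw [← ac_mul, h3, ac_mul, hv]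
    rw [hxv _ h2, ac_ac_inv]
    exact hxv v hv

end Cfsg.Agent.H95.S62
end

-- part: H942/S62/End
section
/-!
# The rows `Sp₆(2)` and `Ω₈⁺(2)` of `E₈(3)`
-/

set_option autoImplicit false

namespace Cfsg.Agent.H942.S62

theorem val5' : Val5 := fun V _ F g hg hne => Cfsg.Agent.H990.S62.val5 V F (g := g) hg hne

theorem numSp' : NumSp := numSp val5'

/-- **The row `Sp₆(2)`.** -/
theorem rowSp : RowSp := Cfsg.Agent.H835.S62.rowSp numSp' Cfsg.Agent.H108.S62.autSp Cfsg.Agent.H976.S62.invY0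

theorem autO8' : AutO8 := Cfsg.Agent.H757.S62.autO8

/-- **The row `Ω₈⁺(2)`.** -/
theorem rowO8 : RowO8 := Cfsg.Agent.H95.S62.row_o8 numSp' Cfsg.Agent.H859.S62.embO8 autO8'

end Cfsg.Agent.H942.S62
end

private theorem dce_2dd4273b2fe8 : _root_.True := by
  try have : _root_.True := by simp only [_root_.Cfsg.Agent.H859.S62.Ms.eq_1]
  try have : _root_.True := by simp only [_root_.Cfsg.Agent.H757.S62.orbS.eq_1]
  try have : _root_.True := by simp only [_root_.Cfsg.Agent.H859.S62.cond.eq_1]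
  try have : _root_.True := by simp only [_root_.Cfsg.Agent.H757.S62.dtest.eq_1]
  try have : _root_.True := by simp only [_root_.Cfsg.Agent.H757.S62.fx.eq_1]
  try have : _root_.True := by simp only [_root_.Cfsg.Agent.H859.S62.chk.eq_def]
  try have : _root_.True := by simp only [_root_.Cfsg.Agent.H859.S62.ea.eq_1]
  try have : _root_.True := by simp only [_root_.Cfsg.Agent.H976.S62.tr.eq_1]
  try have : _root_.True := by simp only [_root_.Cfsg.Agent.H859.S62.eb.eq_1]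
  try have : _root_.True := by simp only [_root_.Cfsg.Agent.H757.S62.spn.eq_1]
  try have : _root_.True := by simp only [_root_.Cfsg.Agent.H976.S62.po.eq_1]
  try have : _root_.True := by simp only [_root_.Cfsg.Agent.H859.S62.chk.eq_1]
  try have : _root_.True := by simp only [_root_.Cfsg.Agent.H859.S62.chk.eq_2]
  try have : _root_.True := by simp only [_root_.Cfsg.Agent.H757.S62.orb.eq_1]
  try have : _root_.True := by simp only [_root_.Cfsg.Agent.H859.S62.pj.eq_1]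
  exact _root_.True.intro
end

-- part: H887/Sz/Row
section
prune_inst 0x12004010840020000040586410022a50f00009000230000c8260b4406806b22000027208c0011060208820000010048130000b0424000000e00040000010020888252063200a10424000f800000000000000000000000000000000000010004000000002
set_option linter.all false
open scoped Cfsg.Agent.FastGrp

-- part: H540/E8C/Sz/Iface
section
/-!
# S5919, the row `Sz(8)`: interface (helper540)
-/

set_option autoImplicit false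

namespace Cfsg.Agent.H540.E8C.Sz

open Cfsg Cfsg.Lie Module
open Cfsg.Agent.H540.E8C.End

universe u

/-- the facts on the group `Sz(8)` used in the row -/
structure Num (Q : Type*) [Group Q] : Prop where
  card : Nat.card Q = 29120
  spec : ∀ g : Q, g ^ 4 = 1 ∨ g ^ 5 = 1 ∨ g ^ 7 = 1 ∨ g ^ 13 = 1
  n2 : Nat.card {g : Q // g ^ 4 = 1} = 4096
  n5 : Nat.card {g : Q // g ^ 5 = 1} = 5825
  n13 : Nat.card {g : Q // g ^ 13 = 1} = 6721
  ex4 : ∃ g : Q, g ^ 4 = 1 ∧ g ^ 2 ≠ 1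
  conj5 : ∀ y : Q, y ^ 13 = 1 → ∃ h : Q, h * y * h⁻¹ = y ^ 5
  cent : ∀ y : Q, y ^ 13 = 1 → y ≠ 1 → Nat.card ↥(Subgroup.centralizer ({y} : Set Q)) = 13

/-- **Task SZ1** -/
def NumSz : Prop := ∀ (F₈ : Type u) [Field F₈] [Fintype F₈] (_ : Fintype.card F₈ = 8), Num ↥(Cfsg.Lie.Sz F₈ 4)

/-- **Task SZ2** -/
def Dims : Prop := ∀ (Q : Type) [Group Q] [Finite Q] (_ : Num Q) (F : Q →* E) (_ : Function.Injective F) (y : Q)
    (_ : y ^ 13 = 1) (_ : y ≠ 1),
    (Partner 13 (F y) ∧ 1 ≤ finrank (ZMod 3) ↥(fixV F.range)) ∨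
      (18743628421389393110651003031810837312 ≤ Nat.card ↥(Subgroup.centralizer {F y}) ∧
        16 ≤ finrank (ZMod 3) ↥(fixV F.range) ∧ Nat.card {v : LL // ac (F y) v = v} = 3 ^ 80)

/-- **Task SZ3** -/
def Grp : Prop := ∀ (F₈ : Type u) [Field F₈] [Fintype F₈] (_ : Fintype.card F₈ = 8) (H : Type) [Group H] [Finite H]
    (_ : Nonempty (↥(Cfsg.generalizedFittingSubgroup H) ≃* ↥(Cfsg.Lie.Sz F₈ 4))),
    Nat.card H = 29120 ∨ Nat.card H = 3 * 29120

/-- **Task SZ4** (assuming the others) -/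
def Row : Prop := ∀ (F₈ : Type u) [Field F₈] [Fintype F₈] (_ : Fintype.card F₈ = 8) (H : Subgroup E)
    (_ : Nonempty (↥(Cfsg.generalizedFittingSubgroup ↥H) ≃* ↥(Cfsg.Lie.Sz F₈ 4))), ¬ IsCoatom H

end Cfsg.Agent.H540.E8C.Sz
end

-- part: H887/Sz/NumSz
section
/-!
# Counting in `Sz(8)` (helper887, S5919, task SZ1)
-/

set_option autoImplicit false

namespace Cfsg.Agent.H887.Sz

open Subgroup
open scoped Pointwise
open Cfsg.Agent.H540.E8C.Sz

universe u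

section gen

variable {G : Type*} [Group G] [Finite G] {p : ℕ} [Fact p.Prime]

/-- counting with Sylow subgroups intersecting trivially -/
theorem card_pow {e N : ℕ} (hN : ∀ P : Sylow p G, Nat.card P = N)
    (hin : ∀ g : G, g ^ e = 1 → g ≠ 1 → ∃! P : Sylow p G, g ∈ P)
    (hex : ∀ (P : Sylow p G), ∀ g ∈ P, g ^ e = 1) :
    Nat.card {g : G // g ^ e = 1} = 1 + Nat.card (Sylow p G) * (N - 1) := by
  classical
  have := Fintype.ofFinite G
  have := Fintype.ofFinite (Sylow p G)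
  have h1 : Nat.card {g : G // g ^ e = 1} = Nat.card {g : G // g ^ e = 1 ∧ g ≠ 1} + 1 := by
    have e1 : Option {g : G // g ^ e = 1 ∧ g ≠ 1} ≃ {g : G // g ^ e = 1} :=
      Equiv.ofBijective (fun o => o.elim ⟨1, one_pow e⟩ fun x => ⟨x.1, x.2.1⟩) ⟨by
        rintro (_ | x) (_ | y) h
        · rfl
        · exact absurd (congrArg Subtype.val h).symm y.2.2
        · exact absurd (congrArg Subtype.val h) x.2.2
        · have h' : x.1 = y.1 := congrArg (fun z : {g : G // g ^ e = 1} => z.1) h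
          exact congrArg some (Subtype.ext h'), by
        rintro ⟨g, hg⟩
        by_cases h : g = 1
        · exact ⟨none, Subtype.ext h.symm⟩
        · exact ⟨some ⟨g, hg, h⟩, rfl⟩⟩
    rw [← Nat.card_congr e1, Finite.card_option]
  have e2 : (Σ P : Sylow p G, {x : P // x ≠ 1}) ≃ {g : G // g ^ e = 1 ∧ g ≠ 1} :=
    Equiv.ofBijective (fun s => ⟨s.2.1.1, hex s.1 _ s.2.1.2, fun h => s.2.2 (Subtype.ext h)⟩) ⟨by
      rintro ⟨P, x, hx⟩ ⟨P', x', hx'⟩ h
      have h0 : x.1 = x'.1 := congrArg Subtype.val h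
      have h2 : P = P' := (hin x.1 (hex P _ x.2) fun h => hx (Subtype.ext h)).unique x.2 (by rw [h0]; exact x'.2)
      subst h2
      have h3 : x = x' := Subtype.ext h0
      subst h3
      rfl, by
      rintro ⟨g, hg, h1⟩
      obtain ⟨P, hP, -⟩ := hin g hg h1
      exact ⟨⟨P, ⟨g, hP⟩, fun h => h1 (congrArg Subtype.val h)⟩, rfl⟩⟩
  have h3 : ∀ P : Sylow p G, Nat.card {x : P // x ≠ 1} = N - 1 := by
    intro P
    have := Fintype.ofFinite P
    rw [Nat.card_eq_fintype_card, Fintype.card_subtype_compl, Fintype.card_subtype_eq, ← Nat.card_eq_fintype_card]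
    exact congrArg (· - 1) (hN P)
  rw [h1, ← Nat.card_congr e2, Nat.card_sigma, Finset.sum_congr rfl fun P _ => h3 P, Finset.sum_const,
    Finset.card_univ, ← Nat.card_eq_fintype_card, smul_eq_mul, add_comm]

theorem card_sylow {n : ℕ} (hn : Nat.card G = n) (h1 : p ∣ n) (h2 : ¬ p ^ 2 ∣ n) (P : Sylow p G) : Nat.card P = p := by
  obtain ⟨k, hk⟩ := IsPGroup.iff_card.1 P.isPGroup'
  have h3 : p ∣ Nat.card P := P.dvd_card_of_dvd_card (by rw [hn]; exact h1)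
  have h4 : Nat.card P ∣ n := by rw [← hn]; exact Subgroup.card_subgroup_dvd_card _
  have hp : p.Prime := Fact.out
  have h5 : k = 1 := by
    rcases Nat.lt_or_ge k 2 with h | h
    · interval_cases k
      · rw [pow_zero] at hk
        rw [hk] at h3
        exact absurd (Nat.dvd_one.1 h3) hp.one_lt.ne'
      · rfl
    · exfalso
      exact h2 (((pow_dvd_pow p h).trans (by rw [hk])).trans h4)
  rw [hk, h5, pow_one]

/-- the elements of order `p` when the Sylow subgroups have order `p` -/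
theorem card_prime {n k : ℕ} (hn : Nat.card G = n) (h1 : p ∣ n) (h2 : ¬ p ^ 2 ∣ n) {U : Subgroup G}
    (hU : Nat.card U = p) (hk : Nat.card (normalizer (U : Set G)) = k) :
    Nat.card {g : G // g ^ p = 1} = 1 + (n / k) * (p - 1) := by
  have hp : p.Prime := Fact.out
  have hN := card_sylow (p := p) hn h1 h2
  rw [card_pow hN ?_ ?_]
  · obtain ⟨P, hP⟩ := (IsPGroup.of_card (n := 1) (by rw [hU, pow_one]) : IsPGroup p U).exists_le_sylow
    have hPU : (P : Subgroup G) = U := by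
      symm
      apply Subgroup.eq_of_le_of_card_ge hP
      rw [hU]
      exact (hN P).le
    have h4 : Nat.card (Sylow p G) = n / k := by
      rw [P.card_eq_index_normalizer]
      have h5 := Subgroup.card_mul_index (normalizer ((P : Subgroup G) : Set G))
      rw [hn] at h5
      have h6 : Nat.card (normalizer ((P : Subgroup G) : Set G)) = k := by rw [hPU, hk]
      rw [h6] at h5
      have h7 : 0 < k := by rw [← h6]; exact Nat.card_pos
      exact (Nat.div_eq_of_eq_mul_right h7 h5.symm).symm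
    rw [h4]
  · intro g hg hg1
    have ho : orderOf g = p := orderOf_eq_prime hg hg1
    obtain ⟨P, hP⟩ := (IsPGroup.of_card (n := 1) (by rw [Nat.card_zpowers, ho, pow_one]) :
      IsPGroup p (zpowers g)).exists_le_sylow
    have key : ∀ P : Sylow p G, g ∈ P → (P : Subgroup G) = zpowers g := by
      intro P hP
      symm
      apply Subgroup.eq_of_le_of_card_ge ((Subgroup.zpowers_le).2 hP)
      rw [Nat.card_zpowers, ho]
      exact (hN P).le
    refine ⟨P, hP (mem_zpowers g), fun P' hP' => Sylow.ext ?_⟩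
    rw [key P' hP', key P (hP (mem_zpowers g))]
  · intro P g hg
    have h3 : (⟨g, hg⟩ : (P : Subgroup G)) ^ Nat.card (P : Subgroup G) = 1 := pow_card_eq_one'
    rw [hN P] at h3
    exact congrArg Subtype.val h3

end gen

/-- transport -/
theorem Num_congr {G Q : Type*} [Group G] [Group Q] (e : G ≃* Q) (h : Num G) : Num Q where
  card := by rw [← Nat.card_congr e.toEquiv, h.card]
  spec g := by
    have key : ∀ n, e.symm g ^ n = 1 → g ^ n = 1 := fun n hn => by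
      have := congrArg e hn
      rwa [map_pow, e.apply_symm_apply, map_one] at this
    rcases h.spec (e.symm g) with h1 | h1 | h1 | h1
    · exact Or.inl (key _ h1)
    · exact Or.inr (Or.inl (key _ h1))
    · exact Or.inr (Or.inr (Or.inl (key _ h1)))
    · exact Or.inr (Or.inr (Or.inr (key _ h1)))
  n2 := by
    rw [← h.n2]
    exact (Nat.card_congr (e.toEquiv.subtypeEquiv fun g => by
      rw [MulEquiv.toEquiv_eq_coe, MulEquiv.coe_toEquiv, ← map_pow, map_eq_one_iff e e.injective])).symm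
  n5 := by
    rw [← h.n5]
    exact (Nat.card_congr (e.toEquiv.subtypeEquiv fun g => by
      rw [MulEquiv.toEquiv_eq_coe, MulEquiv.coe_toEquiv, ← map_pow, map_eq_one_iff e e.injective])).symm
  n13 := by
    rw [← h.n13]
    exact (Nat.card_congr (e.toEquiv.subtypeEquiv fun g => by
      rw [MulEquiv.toEquiv_eq_coe, MulEquiv.coe_toEquiv, ← map_pow, map_eq_one_iff e e.injective])).symm
  ex4 := by
    obtain ⟨g, h1, h2⟩ := h.ex4
    exact ⟨e g, by rw [← map_pow, h1, map_one], fun h3 => h2 (by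
      rwa [← map_pow, map_eq_one_iff e e.injective] at h3)⟩
  conj5 y hy := by
    obtain ⟨x, rfl⟩ := e.surjective y
    obtain ⟨k, hk⟩ := h.conj5 x (by rwa [← map_pow, map_eq_one_iff e e.injective] at hy)
    exact ⟨e k, by rw [← map_pow, ← hk, map_mul, map_mul, map_inv]⟩
  cent y hy h1 := by
    obtain ⟨x, rfl⟩ := e.surjective y
    have h2 := h.cent x (by rwa [← map_pow, map_eq_one_iff e e.injective] at hy) (fun h3 => h1 (by rw [h3, map_one]))
    rw [← h2]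
    symm
    refine Nat.card_congr (e.toEquiv.subtypeEquiv fun g => ?_)
    show g ∈ _ ↔ e g ∈ _
    rw [mem_centralizer_singleton_iff, mem_centralizer_singleton_iff, ← map_mul, ← map_mul, e.injective.eq_iff]

section sz

variable {F : Type u} [Field F] [Fintype F] (hF : Fintype.card F = 8)

include hF

theorem hF3 : Fintype.card F = 2 ^ (2 * 1 + 1) := by rw [hF]; norm_num

theorem card_sz : Nat.card (Cfsg.Sz F 1) = 29120 := by
  rw [Cfsg.Agent.S0324.result le_rfl (hF3 hF)]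
  norm_num

theorem card_syl : Nat.card (Sylow 2 (Cfsg.Sz F 1)) = 65 := by
  have hF3 := hF3 hF
  obtain ⟨e⟩ := Cfsg.Agent.OddCyclic.ClaimC.SzIso.iso (F := F) (m := 1) le_rfl hF3
  obtain ⟨-, S, -, hS, -⟩ := Cfsg.Agent.S1163.result (F := F) (m := 1) le_rfl hF3
  have hsurj : Function.Surjective (e : Cfsg.Sz F 1 →* ↥(Cfsg.Lie.Sz F (2 ^ (1 + 1)))) := e.surjective
  have hle : (S : Subgroup ↥(Cfsg.Lie.Sz F (2 ^ (1 + 1)))) ≤ (e : Cfsg.Sz F 1 →* ↥(Cfsg.Lie.Sz F (2 ^ (1 + 1)))).range := by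
    rw [MonoidHom.range_eq_top.2 hsurj]
    exact le_top
  let P : Sylow 2 (Cfsg.Sz F 1) := S.comapOfInjective _ e.injective hle
  have hP : (P : Subgroup (Cfsg.Sz F 1)) = (S : Subgroup _).comap (e : Cfsg.Sz F 1 →* ↥(Cfsg.Lie.Sz F (2 ^ (1 + 1)))) :=
    rfl
  have h1 := P.card_eq_index_normalizer
  have h2 : (normalizer ((S : Subgroup ↥(Cfsg.Lie.Sz F (2 ^ (1 + 1)))) : Set ↥(Cfsg.Lie.Sz F (2 ^ (1 + 1))))).comap
      (e : Cfsg.Sz F 1 →* ↥(Cfsg.Lie.Sz F (2 ^ (1 + 1)))) = normalizer ((P : Subgroup (Cfsg.Sz F 1)) : Set (Cfsg.Sz F 1)) := by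
    rw [hP]
    exact Subgroup.comap_normalizer_eq_of_surjective _ hsurj
  rw [h1]
  have h3 := Subgroup.index_comap_of_surjective
    (normalizer ((S : Subgroup ↥(Cfsg.Lie.Sz F (2 ^ (1 + 1)))) : Set ↥(Cfsg.Lie.Sz F (2 ^ (1 + 1))))) hsurj
  rw [h2, hS] at h3
  exact h3

omit hF in
/-- the normaliser of a cyclic group of order 13 -/
theorem conj_core {G : Type*} [Group G] [Finite G] {U : Subgroup G} (hU : Nat.card U = 13)
    (hC : ∀ u ∈ U, u ≠ 1 → Subgroup.centralizer {u} = U)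
    (hN : Nat.card (normalizer (U : Set G)) = 4 * 13) {u : G} (hu : u ∈ U) (h1 : u ≠ 1) :
    ∃ h : G, h * u * h⁻¹ = u ^ 5 := by
  by_contra hcon
  push Not at hcon
  have f13 : Fact (Nat.Prime 13) := ⟨by norm_num⟩
  have hu13 : u ^ 13 = 1 := by
    have h3 : (⟨u, hu⟩ : U) ^ Nat.card U = 1 := pow_card_eq_one'
    rw [hU] at h3
    exact congrArg Subtype.val h3
  have ho : orderOf u = 13 := orderOf_eq_prime hu13 h1
  have hz : zpowers u = U := by
    apply Subgroup.eq_of_le_of_card_ge ((zpowers_le).2 hu)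
    rw [Nat.card_zpowers, ho, hU]
  have hinj : ∀ a b : Fin 13, u ^ (a : ℕ) = u ^ (b : ℕ) → a = b := by
    intro a b hab
    have := pow_injOn_Iio_orderOf (x := u) (by rw [ho]; exact a.2) (by rw [ho]; exact b.2) hab
    exact Fin.ext this
  set N := normalizer (U : Set G) with hNdef
  have hUN : U ≤ N := le_normalizer
  -- the exponent
  have hex : ∀ h : N, ∃ j : Fin 13, (h : G) * u * (h : G)⁻¹ = u ^ (j : ℕ) := by
    intro h
    have h2 : (h : G) * u * (h : G)⁻¹ ∈ U := (mem_normalizer_iff.1 h.2 u).1 hu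
    rw [← hz, mem_zpowers_iff] at h2
    obtain ⟨k, hk⟩ := h2
    have h13 : (0 : ℤ) < 13 := by norm_num
    refine ⟨⟨(k % 13).toNat, by
      have := Int.emod_lt_of_pos k h13
      have := Int.emod_nonneg k h13.ne'
      omega⟩, ?_⟩
    rw [← hk, ← zpow_natCast]
    have h3 : (((k % 13).toNat : ℕ) : ℤ) = k % 13 := Int.toNat_of_nonneg (Int.emod_nonneg k h13.ne')
    show u ^ k = u ^ (((k % 13).toNat : ℕ) : ℤ)
    rw [h3, zpow_eq_zpow_iff_modEq, ho]
    exact (Int.mod_modEq k 13).symm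
  choose j hj using hex
  have : (U.subgroupOf N).Normal := by
    rw [hNdef]
    exact Subgroup.normal_in_normalizer
  have hidx : (U.subgroupOf N).index = 4 := by
    have h2 := Subgroup.card_mul_index (U.subgroupOf N)
    have h3 : Nat.card (U.subgroupOf N) = 13 := by
      rw [← hU]
      exact Nat.card_congr (Subgroup.subgroupOfEquivOfLe hUN).toEquiv
    rw [h3, hN] at h2
    omega
  have hpow : ∀ (h : N) (n : ℕ), (h : G) ^ n * u * ((h : G) ^ n)⁻¹ = u ^ ((j h : ℕ) ^ n) := by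
    intro h n
    induction n with
    | zero => simp
    | succ n ih =>
      have e1 : (h : G) ^ (n + 1) * u * ((h : G) ^ (n + 1))⁻¹ = (h : G) ^ n * ((h : G) * u * (h : G)⁻¹) * ((h : G) ^ n)⁻¹ := by
        rw [pow_succ]; group
      have e2 : (h : G) ^ n * u ^ (j h : ℕ) * ((h : G) ^ n)⁻¹ = ((h : G) ^ n * u * ((h : G) ^ n)⁻¹) ^ (j h : ℕ) := by
        rw [conj_pow]
      rw [e1, hj, e2, ih, ← pow_mul, ← pow_succ]
  have hj4 : ∀ h : N, ((j h : ℕ) ^ 4) % 13 = 1 := by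
    intro h
    have h2 : h ^ 4 ∈ U.subgroupOf N := by
      rw [← hidx]
      exact Subgroup.pow_index_mem _ h
    have h3 : ((h : G) ^ 4) ∈ U := h2
    rw [← hC u hu h1, mem_centralizer_singleton_iff] at h3
    have h4 := hpow h 4
    rw [h3, mul_inv_cancel_right] at h4
    have h5 : u ^ 1 = u ^ ((j h : ℕ) ^ 4) := by rw [pow_one]; exact h4
    rw [pow_eq_pow_iff_modEq, ho] at h5
    exact h5.symm
  have hcases : ∀ h : N, j h = 1 ∨ j h = 8 ∨ j h = 12 := by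
    intro h
    have h2 := hj4 h
    have h3 : ∀ a : Fin 13, ((a : ℕ) ^ 4) % 13 = 1 → a = 1 ∨ a = 5 ∨ a = 8 ∨ a = 12 := by decide
    rcases h3 _ h2 with h4 | h4 | h4 | h4
    · exact Or.inl h4
    · exfalso
      apply hcon (h : G)
      rw [hj, h4]
      rfl
    · exact Or.inr (Or.inl h4)
    · exact Or.inr (Or.inr h4)
  have hx0 : ∀ a b : N, (a : G) * u * (a : G)⁻¹ = (b : G) * u * (b : G)⁻¹ →
      (a : G)⁻¹ * (b : G) * u = u * ((a : G)⁻¹ * (b : G)) := by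
    intro a b h4
    calc (a : G)⁻¹ * (b : G) * u = (a : G)⁻¹ * ((b : G) * u * (b : G)⁻¹) * (b : G) := by group
      _ = (a : G)⁻¹ * ((a : G) * u * (a : G)⁻¹) * (b : G) := by rw [h4]
      _ = _ := by group
  let Φ : (N ⧸ U.subgroupOf N) → {a : Fin 13 // a = 1 ∨ a = 8 ∨ a = 12} := fun x => ⟨j x.out, hcases _⟩
  have hΦ : Function.Injective Φ := by
    intro x y hxy
    have h2 : j x.out = j y.out := congrArg Subtype.val hxy
    rw [← Quotient.out_eq x, ← Quotient.out_eq y]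
    show (QuotientGroup.mk x.out : N ⧸ U.subgroupOf N) = QuotientGroup.mk y.out
    rw [QuotientGroup.eq, mem_subgroupOf]
    have h3 := hj x.out
    rw [h2, ← hj y.out] at h3
    have h4 : (x.out : G) * u * (x.out : G)⁻¹ = (y.out : G) * u * (y.out : G)⁻¹ := h3
    have h5 : (x.out : G)⁻¹ * (y.out : G) ∈ centralizer {u} := by
      rw [mem_centralizer_singleton_iff]
      exact hx0 x.out y.out h4
    rw [hC u hu h1] at h5
    exact h5
  have h5 := Nat.card_le_card_of_injective Φ hΦ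
  have h6 : Nat.card {a : Fin 13 // a = 1 ∨ a = 8 ∨ a = 12} = 3 := by
    rw [Nat.card_eq_fintype_card]
    decide
  have h7 : Nat.card (N ⧸ U.subgroupOf N) = 4 := hidx
  omega

theorem num_sz : Num (Cfsg.Sz F 1) := by
  have hF3 := hF3 hF
  have hc := card_sz hF
  have hfin : Finite (Cfsg.Sz F 1) := inferInstance
  have f13 : Fact (Nat.Prime 13) := ⟨by norm_num⟩
  have f5 : Fact (Nat.Prime 5) := ⟨by norm_num⟩
  obtain ⟨U, hUc, hU, hUC, hUN⟩ := Cfsg.Agent.S0333.result le_rfl hF3 13 (by norm_num)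
  obtain ⟨V, hVc, hV, hVC, hVN⟩ := Cfsg.Agent.S0333.result le_rfl hF3 5 (by norm_num)
  have n13 := card_prime (p := 13) hc (by norm_num) (by norm_num) hU hUN
  have n5 := card_prime (p := 5) hc (by norm_num) (by norm_num) hV hVN
  have hex : ∀ (P : Sylow 2 (Cfsg.Sz F 1)), ∀ g ∈ P, g ^ 4 = 1 := by
    intro P g hg
    have h1 := (Cfsg.Agent.S0330.result le_rfl hF3 P).2.1
    have h3 := Monoid.pow_exponent_eq_one (G := (P : Subgroup (Cfsg.Sz F 1))) ⟨g, hg⟩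
    rw [h1] at h3
    exact congrArg Subtype.val h3
  have n2 : Nat.card {g : Cfsg.Sz F 1 // g ^ 4 = 1} = 4096 := by
    rw [card_pow (p := 2) (e := 4) (N := 64) ?_ ?_ hex, card_syl hF]
    · intro P
      rw [(Cfsg.Agent.S0330.result le_rfl hF3 P).1]
      norm_num
    · intro g hg hg1
      have h2 : IsPGroup 2 (zpowers g) := by
        have h3 : orderOf g ∣ 2 ^ 2 := orderOf_dvd_of_pow_eq_one hg
        obtain ⟨k, -, hk⟩ := (Nat.dvd_prime_pow Nat.prime_two).1 h3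
        exact IsPGroup.of_card (n := k) (by rw [Nat.card_zpowers, hk])
      obtain ⟨P, hP⟩ := h2.exists_le_sylow
      refine ⟨P, hP (mem_zpowers g), fun P' hP' => Sylow.ext ?_⟩
      exact (Cfsg.Agent.S2238.result le_rfl hF3 g hg1).unique ⟨Or.inl ⟨P', rfl⟩, hP'⟩
        ⟨Or.inl ⟨P, rfl⟩, hP (mem_zpowers g)⟩
  -- elements of order 13
  have key : ∀ y : Cfsg.Sz F 1, y ^ 13 = 1 → y ≠ 1 → ∃ c : Cfsg.Sz F 1, c * y * c⁻¹ ∈ U := by
    intro y hy h1
    have ho : orderOf y = 13 := orderOf_eq_prime hy h1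
    obtain ⟨P, hP⟩ := (IsPGroup.of_card (n := 1) (by rw [Nat.card_zpowers, ho, pow_one]) :
      IsPGroup 13 (zpowers y)).exists_le_sylow
    obtain ⟨Q, hQ⟩ := (IsPGroup.of_card (n := 1) (by rw [hU, pow_one]) : IsPGroup 13 U).exists_le_sylow
    have hQU : (Q : Subgroup (Cfsg.Sz F 1)) = U := by
      symm
      apply Subgroup.eq_of_le_of_card_ge hQ
      rw [hU]
      exact (card_sylow (p := 13) hc (by norm_num) (by norm_num) Q).le
    obtain ⟨c, hc⟩ := MulAction.exists_smul_eq (Cfsg.Sz F 1) P Q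
    refine ⟨c, ?_⟩
    rw [← hQU, ← hc]
    have h3 : c * y * c⁻¹ ∈ (MulAut.conj c) • (P : Subgroup (Cfsg.Sz F 1)) := by
      rw [Subgroup.mem_pointwise_smul_iff_inv_smul_mem]
      have h4 : (MulAut.conj c)⁻¹ • (c * y * c⁻¹) = y := by
        rw [← map_inv]
        show c⁻¹ * (c * y * c⁻¹) * c⁻¹⁻¹ = y
        group
      rw [h4]
      exact hP (mem_zpowers y)
    exact h3
  refine ⟨hc, ?_, n2, n5, n13, ?_, ?_, ?_⟩
  · intro g
    by_cases h1 : g = 1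
    · exact Or.inl (by rw [h1, one_pow])
    obtain ⟨W, ⟨hW, hgW⟩, -⟩ := Cfsg.Agent.S2238.result le_rfl hF3 g h1
    rcases hW with ⟨P, rfl⟩ | ⟨-, hW⟩
    · exact Or.inl (hex P g hgW)
    · have h3 : (⟨g, hgW⟩ : W) ^ Nat.card W = 1 := pow_card_eq_one'
      have h4 : g ^ Nat.card W = 1 := congrArg Subtype.val h3
      rcases hW with hW | hW | hW
      · rw [hW] at h4
        exact Or.inr (Or.inr (Or.inl h4))
      · rw [hW] at h4
        exact Or.inr (Or.inr (Or.inr h4))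
      · rw [hW] at h4
        exact Or.inr (Or.inl h4)
  · have P : Sylow 2 (Cfsg.Sz F 1) := default
    by_contra hcon
    push Not at hcon
    have h1 := (Cfsg.Agent.S0330.result le_rfl hF3 P).2.1
    have h2 : Monoid.exponent (P : Subgroup (Cfsg.Sz F 1)) ∣ 2 := Monoid.exponent_dvd_of_forall_pow_eq_one fun g =>
      Subtype.ext (hcon g.1 (hex P g.1 g.2))
    rw [h1] at h2
    norm_num at h2
  · intro y hy
    by_cases h1 : y = 1
    · exact ⟨1, by rw [h1]; simp only [_root_.mul_one, _root_.inv_one, _root_.one_pow]⟩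
    obtain ⟨c, hc⟩ := key y hy h1
    obtain ⟨h, hh⟩ := conj_core hU hUC hUN hc (fun h2 => h1 (by
      have := congrArg (fun z => c⁻¹ * z * c) h2
      simpa only [mul_assoc, _root_.inv_mul_cancel_left, _root_.inv_mul_cancel, _root_.mul_one] using this))
    refine ⟨c⁻¹ * h * c, ?_⟩
    have h3 : (c * y * c⁻¹) ^ 5 = c * y ^ 5 * c⁻¹ := conj_pow
    rw [h3] at hh
    calc c⁻¹ * h * c * y * (c⁻¹ * h * c)⁻¹ = c⁻¹ * (h * (c * y * c⁻¹) * h⁻¹) * c := by group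
      _ = c⁻¹ * (c * y ^ 5 * c⁻¹) * c := by rw [hh]
      _ = y ^ 5 := by group
  · intro y hy h1
    obtain ⟨c, hc⟩ := key y hy h1
    have h2 := hUC _ hc (fun h2 => h1 (by
      have := congrArg (fun z => c⁻¹ * z * c) h2
      simpa only [mul_assoc, _root_.inv_mul_cancel_left, _root_.inv_mul_cancel, _root_.mul_one] using this))
    rw [← hU, ← h2]
    refine Nat.card_congr ((MulAut.conj c).toEquiv.subtypeEquiv fun g => ?_)
    show g ∈ _ ↔ c * g * c⁻¹ ∈ _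
    rw [mem_centralizer_singleton_iff, mem_centralizer_singleton_iff]
    constructor
    · intro h3
      calc c * g * c⁻¹ * (c * y * c⁻¹) = c * (g * y) * c⁻¹ := by group
        _ = c * (y * g) * c⁻¹ := by rw [h3]
        _ = _ := by group
    · intro h3
      have h4 : c * (g * y) * c⁻¹ = c * (y * g) * c⁻¹ := by
        calc c * (g * y) * c⁻¹ = c * g * c⁻¹ * (c * y * c⁻¹) := by group
          _ = c * y * c⁻¹ * (c * g * c⁻¹) := h3
          _ = _ := by group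
      exact mul_left_cancel (mul_right_cancel h4)

end sz

/-- **Task SZ1** -/
theorem numSz : NumSz.{u} := by
  intro F _ _ hF
  obtain ⟨e⟩ := Cfsg.Agent.OddCyclic.ClaimC.SzIso.iso (F := F) (m := 1) le_rfl (hF3 hF)
  exact Num_congr e (num_sz hF)

end Cfsg.Agent.H887.Sz
end

-- part: H887/Sz/Grp
section
/-!
# Finite groups with generalized Fitting subgroup `Sz(8)` (helper887, S5919, task SZ3)
-/

set_option autoImplicit false

namespace Cfsg.Agent.H887.Sz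

open Subgroup
open Cfsg.Agent.H540.E8C.Sz

universe u

theorem grp_aux {F : Type u} [Field F] [Fintype F] (hF : Fintype.card F = 8) {n : ℕ} (hn : n = 2 ^ (1 + 1))
    (H : Type) [Group H] [Finite H]
    (he : Nonempty (↥(Cfsg.generalizedFittingSubgroup H) ≃* ↥(Cfsg.Lie.Sz F n))) :
    Nat.card H = 29120 ∨ Nat.card H = 3 * 29120 := by
  subst hn
  have hF3 : Fintype.card F = 2 ^ (2 * 1 + 1) := by rw [hF]; norm_num
  obtain ⟨e⟩ := he
  have hs : IsSimpleGroup (Cfsg.Lie.Sz F (2 ^ (1 + 1))) := Cfsg.Agent.S1162.result le_rfl hF3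
  have hcard : Nat.card (Cfsg.Lie.Sz F (2 ^ (1 + 1))) = 29120 := by
    rw [(Cfsg.Agent.S1163.result le_rfl hF3).1]
    norm_num
  have hna : ¬ IsMulCommutative (Cfsg.Lie.Sz F (2 ^ (1 + 1))) := by
    intro h
    have := Cfsg.Agent.S1162.result (F := F) (m := 1) le_rfl hF3
    have hp : (Nat.card (Cfsg.Lie.Sz F (2 ^ (1 + 1)))).Prime := by
      let _ : CommGroup (Cfsg.Lie.Sz F (2 ^ (1 + 1))) := { (inferInstance : Group (Cfsg.Lie.Sz F (2 ^ (1 + 1)))) with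
        mul_comm := fun a b => h.is_comm.comm a b }
      exact IsSimpleGroup.prime_card
    rw [hcard] at hp
    norm_num at hp
  have hZ := Cfsg.Agent.H489.center_eq_bot hna
  have hA : Nat.card (MulAut (Cfsg.Lie.Sz F (2 ^ (1 + 1)))) = 3 * 29120 := by
    rw [← Cfsg.Agent.H489.card_out_mul hZ, Cfsg.Agent.S2126.result le_rfl hF3, hcard]
  set N := Cfsg.generalizedFittingSubgroup H with hN
  have hFit : N.Normal := Cfsg.Agent.Lib.GenFitting.genFitting_normal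
  have hcen : Subgroup.centralizer (N : Set H) = ⊥ := by
    rw [eq_bot_iff]
    intro g hg
    have h1 : g ∈ N := Cfsg.Agent.S1265.result hg
    have h2 : (⟨g, h1⟩ : ↥N) ∈ Subgroup.center ↥N := by
      rw [Subgroup.mem_center_iff]
      intro x
      exact Subtype.ext (Subgroup.mem_centralizer_iff.1 hg x x.2)
    have h3 : e ⟨g, h1⟩ ∈ Subgroup.center (Cfsg.Lie.Sz F (2 ^ (1 + 1))) := by
      rw [Subgroup.mem_center_iff] at h2 ⊢
      intro y
      obtain ⟨x, rfl⟩ := e.surjective y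
      rw [← map_mul, h2 x, map_mul]
    rw [hZ, Subgroup.mem_bot, map_eq_one_iff e e.injective] at h3
    rw [Subgroup.mem_bot]
    exact congrArg Subtype.val h3
  have hinj : Function.Injective (MulAut.conjNormal : H →* MulAut N) := by
    rw [injective_iff_map_eq_one]
    intro g hg
    have h2 : g ∈ Subgroup.centralizer (N : Set H) := by
      rw [Subgroup.mem_centralizer_iff]
      intro t ht
      have h3 : ((MulAut.conjNormal g (⟨t, ht⟩ : N) : N) : H) = t := by rw [hg]; rfl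
      rw [MulAut.conjNormal_apply] at h3
      have h4 : g * t * g⁻¹ = t := h3
      rw [mul_inv_eq_iff_eq_mul] at h4
      exact h4.symm
    rwa [hcen, Subgroup.mem_bot] at h2
  have h1 : Nat.card H ∣ 3 * 29120 := by
    rw [← hA, ← Nat.card_congr (MulAut.congr e).toEquiv, ← Nat.card_congr (MonoidHom.ofInjective hinj).symm.toEquiv]
    exact Subgroup.card_subgroup_dvd_card _
  have h2 : 29120 ∣ Nat.card H := by
    rw [← hcard, ← Nat.card_congr e.toEquiv]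
    exact Subgroup.card_subgroup_dvd_card N
  obtain ⟨k, hk⟩ := h2
  rw [hk] at h1 ⊢
  have h3 : k ∣ 3 := by
    rw [mul_comm] at h1
    exact Nat.dvd_of_mul_dvd_mul_right (by norm_num) h1
  rcases (Nat.dvd_prime Nat.prime_three).1 h3 with h | h
  · left; rw [h]
  · right; rw [h]

/-- **Task SZ3** -/
theorem grp : Grp.{u} := fun _ _ _ hF H _ _ he => grp_aux hF (by norm_num) H he

end Cfsg.Agent.H887.Sz
end

-- part: H887/Sz/Row
section
/-!
# The row `Sz(8)` of S5919 (helper887, task SZ4)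
-/

set_option autoImplicit false
set_option maxRecDepth 100000

namespace Cfsg.Agent.H887.Sz

open Subgroup Module
open Cfsg Cfsg.Lie Cfsg.Agent.H540.E8C Cfsg.Agent.H540.E8C.End
open Cfsg.Agent.H540.E8C.Sz

universe u

section lin

variable {K V : Type*} [Field K] [AddCommGroup V] [Module K V] [FiniteDimensional K V]

theorem finrank_le_map (A : V →ₗ[K] V) (X : Submodule K V) :
    finrank K X ≤ finrank K (X.map A) + finrank K ↥(X ⊓ LinearMap.ker A) := by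
  have h1 := LinearMap.finrank_range_add_finrank_ker (A.domRestrict X)
  rw [LinearMap.range_domRestrict] at h1
  have h2 : finrank K (LinearMap.ker (A.domRestrict X)) ≤ finrank K ↥(X ⊓ LinearMap.ker A) := by
    refine LinearMap.finrank_le_finrank_of_injective (f := ((X.subtype.comp (LinearMap.ker (A.domRestrict X)).subtype).codRestrict
      (X ⊓ LinearMap.ker A) fun v => ⟨v.1.2, v.2⟩)) ?_
    intro a b hab
    exact Subtype.ext (Subtype.ext (congrArg (fun z : ↥(X ⊓ LinearMap.ker A) => (z : V)) hab))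
  omega

/-- a unipotent operator of order three -/
theorem finrank_le_three (A : V →ₗ[K] V) {W F : Submodule K V} (hW : ∀ v ∈ W, A v ∈ W)
    (h3 : ∀ v ∈ W, A (A (A v)) = 0) (hF : ∀ v ∈ W, A v = 0 → v ∈ F) : finrank K W ≤ 3 * finrank K F := by
  have key : ∀ X : Submodule K V, X ≤ W → finrank K X ≤ finrank K (X.map A) + finrank K F := by
    intro X hX
    refine (finrank_le_map A X).trans (Nat.add_le_add_left (Submodule.finrank_mono ?_) _)
    rintro v ⟨h1, h2⟩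
    exact hF v (hX h1) h2
  have h1 : W.map A ≤ W := by
    rintro _ ⟨v, hv, rfl⟩
    exact hW v hv
  have h2 : (W.map A).map A ≤ W := by
    rintro _ ⟨v, hv, rfl⟩
    exact hW v (h1 hv)
  have h4 : ((W.map A).map A).map A = ⊥ := by
    rw [eq_bot_iff]
    rintro _ ⟨_, ⟨_, ⟨v, hv, rfl⟩, rfl⟩, rfl⟩
    exact h3 v hv
  have e1 := key W le_rfl
  have e2 := key _ h1
  have e3 := key _ h2
  rw [h4, finrank_bot] at e3
  omega

theorem exists_finset {V : Type*} [AddCommGroup V] [Module (ZMod 3) V] [Finite V] (X : Submodule (ZMod 3) V)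
    (h : 6 ≤ finrank (ZMod 3) X) : ∃ B : Finset V, (∀ b ∈ B, b ∈ X ∧ b ≠ 0) ∧ 728 ≤ B.card := by
  classical
  have := Fintype.ofFinite V
  refine ⟨(Finset.univ.filter fun v : V => v ∈ X).erase 0, fun b hb => ?_, ?_⟩
  · rw [Finset.mem_erase, Finset.mem_filter] at hb
    exact ⟨hb.2.2, hb.1⟩
  · have h5 : (Finset.univ.filter fun v : V => v ∈ X).card = 3 ^ finrank (ZMod 3) X := by
      have h6 : Nat.card X = 3 ^ finrank (ZMod 3) X := by
        rw [Module.natCard_eq_pow_finrank (K := ZMod 3), Nat.card_zmod]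
      rw [← h6, Nat.card_eq_fintype_card, Fintype.card_subtype]
    have h8 : 3 ^ 6 ≤ 3 ^ finrank (ZMod 3) X := Nat.pow_le_pow_right (by norm_num) h
    rw [Finset.card_erase_of_mem (by
      rw [Finset.mem_filter]
      exact ⟨Finset.mem_univ _, Submodule.zero_mem _⟩), h5]
    omega

end lin

theorem exists_lin {n K : Type*} [Fintype n] [CommRing K] (M : Matrix n n K) :
    ∃ A : (n → K) →ₗ[K] (n → K), ∀ v, A v = M.mulVec v - v :=
  ⟨Matrix.mulVecLin M - LinearMap.id, fun _ => rfl⟩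

theorem pow3_mem {G : Type*} [Group G] {N : Subgroup G} [N.Normal] (hN : N.index ∣ 3) (g : G) : g ^ 3 ∈ N := by
  obtain ⟨k, hk⟩ := hN
  rw [hk, pow_mul]
  exact pow_mem (Subgroup.pow_index_mem N _) k

/-- the centraliser in an extension of index at most three -/
theorem card_cent {G : Type*} [Group G] [Finite G] {N : Subgroup G} [N.Normal] (hN : N.index ∣ 3) {y : N}
    (hy : Nat.card ↥(centralizer ({y} : Set N)) = 13) : Nat.card ↥(centralizer ({(y : G)} : Set G)) ≤ 39 := by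
  set C := centralizer ({(y : G)} : Set G) with hC
  have h1 := Subgroup.card_mul_index (N.subgroupOf C)
  have h2 : (N.subgroupOf C).index ∣ 3 := (Subgroup.relIndex_dvd_index_of_normal N C).trans hN
  have h3 : Nat.card (N.subgroupOf C) = 13 := by
    rw [← hy]
    refine Nat.card_congr ⟨fun g => ⟨⟨g.1.1, g.2⟩, ?_⟩, fun g => ⟨⟨g.1.1, ?_⟩, g.1.2⟩, fun _ => rfl, fun _ => rfl⟩
    · rw [mem_centralizer_singleton_iff]
      exact Subtype.ext (mem_centralizer_singleton_iff.1 g.1.2)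
    · rw [hC, mem_centralizer_singleton_iff]
      exact congrArg Subtype.val (mem_centralizer_singleton_iff.1 g.2)
  have h4 := Nat.le_of_dvd (by norm_num) h2
  rw [← h1, h3]
  omega

theorem card_cent_inf {G : Type*} [Group G] (H : Subgroup G) (y : ↥H) :
    Nat.card ↥(centralizer ({(y : G)} : Set G) ⊓ H) = Nat.card ↥(centralizer ({y} : Set ↥H)) := by
  refine Nat.card_congr ⟨fun g => ⟨⟨g.1, g.2.2⟩, ?_⟩, fun g => ⟨g.1.1, ?_, g.1.2⟩, fun _ => rfl, fun _ => rfl⟩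
  · rw [mem_centralizer_singleton_iff]
    exact Subtype.ext (mem_centralizer_singleton_iff.1 g.2.1)
  · show (g.1 : G) ∈ centralizer ({(y : G)} : Set G)
    rw [mem_centralizer_singleton_iff]
    exact congrArg Subtype.val (mem_centralizer_singleton_iff.1 g.2)

theorem exists_lin_ac (g : E) : ∃ A : LL →ₗ[ZMod 3] LL, ∀ v, A v = ac g v - v :=
  exists_lin ((g : GL chevE8.Idx (ZMod 3)) : Matrix chevE8.Idx chevE8.Idx (ZMod 3))

set_option maxHeartbeats 1600000 in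
/-- **Task SZ4** -/
theorem row (h1 : NumSz.{u}) (h2 : Dims) (h3 : Grp.{u}) : Row.{u} := by
  intro F₈ _ _ hF H he hmax
  have hcardH := h3 F₈ hF ↥H he
  obtain ⟨e⟩ := he
  obtain ⟨N, hNdef⟩ : ∃ N, N = Cfsg.generalizedFittingSubgroup ↥H := ⟨_, rfl⟩
  rw [← hNdef] at e
  have hNn : N.Normal := by rw [hNdef]; exact Cfsg.Agent.Lib.GenFitting.genFitting_normal
  have hnum : Num ↥N := Num_congr e.symm (h1 F₈ hF)
  let F : ↥N →* E := H.subtype.comp N.subtype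
  have hFinj : Function.Injective F := fun a b hab => Subtype.ext (Subtype.ext hab)
  have hidx : N.index ∣ 3 := by
    have h4 := Subgroup.card_mul_index N
    rw [hnum.card] at h4
    rcases hcardH with h5 | h5
    · rw [h5] at h4
      have : N.index = 1 := by omega
      rw [this]
      norm_num
    · rw [h5] at h4
      have : N.index = 3 := by omega
      rw [this]
  have hne : H ≠ ⊥ := by
    rintro rfl
    rw [Subgroup.card_bot] at hcardH
    omega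
  have f13 : Fact (Nat.Prime 13) := ⟨by norm_num⟩
  obtain ⟨y, hyo⟩ := exists_prime_orderOf_dvd_card' (G := N) 13 (by rw [hnum.card]; norm_num)
  have hy : y ^ 13 = 1 := by rw [← hyo]; exact pow_orderOf_eq_one y
  have hy1 : y ≠ 1 := by
    rintro rfl
    rw [orderOf_one] at hyo
    norm_num at hyo
  have hS : ∀ g : E, g ∈ F.range ↔ ∃ h : g ∈ H, (⟨g, h⟩ : ↥H) ∈ N := by
    intro g
    constructor
    · rintro ⟨x, rfl⟩
      exact ⟨x.1.2, x.2⟩
    · rintro ⟨h, hx⟩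
      exact ⟨⟨⟨g, h⟩, hx⟩, rfl⟩
  have hnorm : H ≤ normalizer (F.range : Set E) := by
    have key : ∀ h ∈ H, ∀ g ∈ F.range, h * g * h⁻¹ ∈ F.range := by
      rintro h hh _ ⟨x, rfl⟩
      have h5 := hNn.conj_mem x.1 x.2 ⟨h, hh⟩
      exact ⟨⟨_, h5⟩, rfl⟩
    intro h hh
    rw [mem_normalizer_iff]
    intro g
    refine ⟨key h hh g, fun hg => ?_⟩
    have h5 := key h⁻¹ (H.inv_mem hh) _ hg
    have h6 : h⁻¹ * (h * g * h⁻¹) * h⁻¹⁻¹ = g := by group
    rwa [h6] at h5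
  have hSne : F.range ≠ ⊥ := by
    intro h5
    have h6 : F y ∈ F.range := ⟨y, rfl⟩
    rw [h5, mem_bot] at h6
    exact hy1 (hFinj (h6.trans (map_one F).symm))
  -- elements of `H` of order 13
  have hin : ∀ x ∈ H, x ^ 13 = 1 → x ∈ F.range := by
    intro x hx hx13
    rw [hS]
    refine ⟨hx, ?_⟩
    have h5 : (⟨x, hx⟩ : ↥H) ^ 13 = 1 := Subtype.ext hx13
    have h6 : (⟨x, hx⟩ : ↥H) ^ 3 ∈ N := pow3_mem hidx _
    have h7 : (⟨x, hx⟩ : ↥H) = ((⟨x, hx⟩ : ↥H) ^ 3) ^ 9 * (((⟨x, hx⟩ : ↥H) ^ 13) ^ 2)⁻¹ := by group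
    rw [h7, h5, one_pow, inv_one, mul_one]
    exact pow_mem h6 9
  rcases h2 ↥N hnum F hFinj y hy hy1 with ⟨⟨x', hx'13, hcomm, hnot, hfix⟩, hd⟩ | ⟨hK, hd, hv⟩
  · have hvS : fixV F.range ≠ ⊥ := by
      intro h5
      rw [h5, finrank_bot] at hd
      omega
    have hx' : x' ∈ H := mem_of_partner hmax hSne hnorm hvS (x := F y) ⟨y, rfl⟩ hfix
    obtain ⟨x, hx⟩ := hin x' hx' hx'13
    apply hnot
    have h5 : x ∈ centralizer ({y} : Set ↥N) := by
      rw [mem_centralizer_singleton_iff]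
      apply hFinj
      rw [map_mul, map_mul, hx]
      exact hcomm.symm
    have h6 : centralizer ({y} : Set ↥N) = zpowers y := by
      symm
      apply Subgroup.eq_of_le_of_card_ge
      · rw [zpowers_le, mem_centralizer_singleton_iff]
      · rw [hnum.cent y hy hy1, Nat.card_zpowers, hyo]
    rw [h6] at h5
    rw [← hx]
    obtain ⟨k, rfl⟩ := mem_zpowers_iff.1 h5
    rw [map_zpow]
    exact zpow_mem (mem_zpowers _) k
  · -- a generator of `H / S`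
    have hcyc : ∃ δ : ↥H, ∀ h : ↥H, ∃ n : ℤ, ∃ s ∈ N, h = δ ^ n * s := by
      have h5 : IsCyclic (↥H ⧸ N) := by
        have h6 : Nat.card (↥H ⧸ N) = N.index := rfl
        rcases (Nat.dvd_prime Nat.prime_three).1 hidx with h7 | h7
        · have : Subsingleton (↥H ⧸ N) := (Nat.card_eq_one_iff_unique.1 (h6.trans h7)).1
          infer_instance
        · have : Fact (Nat.Prime 3) := ⟨Nat.prime_three⟩
          exact isCyclic_of_prime_card (p := 3) (h6.trans h7)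
      obtain ⟨g, hg⟩ := h5.exists_generator
      obtain ⟨δ, rfl⟩ := QuotientGroup.mk_surjective g
      refine ⟨δ, fun h => ?_⟩
      obtain ⟨n, hn⟩ := mem_zpowers_iff.1 (hg (QuotientGroup.mk h))
      rw [← QuotientGroup.mk_zpow, QuotientGroup.eq] at hn
      exact ⟨n, _, hn, by group⟩
    obtain ⟨δ, hδ⟩ := hcyc
    have hδ3 : δ ^ 3 ∈ N := pow3_mem hidx _
    have hinv : ∀ h ∈ H, ∀ v ∈ fixV F.range, ac h v ∈ fixV F.range := by
      intro h hh v hv g hg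
      have h5 : h⁻¹ * g * h ∈ F.range := by
        have := (mem_normalizer_iff.1 (hnorm (H.inv_mem hh)) g).1 hg
        rwa [inv_inv] at this
      have h6 := hv _ h5
      have h7 : g * h = h * (h⁻¹ * g * h) := by group
      rw [← ac_mul, h7, ac_mul, h6]
    obtain ⟨A, hA⟩ : ∃ A : LL →ₗ[ZMod 3] LL, ∀ v, A v = ac (δ : E) v - v := exists_lin_ac (δ : E)
    have hfixH : ∀ v ∈ fixV F.range, A v = 0 → v ∈ fixV H := by
      intro v hv hAv h hh
      rw [hA] at hAv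
      have h5 : ac (δ : E) v = v := sub_eq_zero.1 hAv
      obtain ⟨n, s, hs, e1⟩ := hδ ⟨h, hh⟩
      have h6 : h = (δ : E) ^ n * (s : E) := congrArg Subtype.val e1
      have h7 : ac (s : E) v = v := hv _ ⟨⟨s, hs⟩, rfl⟩
      rw [h6, ac_mul, h7]
      have h8 : (δ : E) ^ n ∈ stab v := zpow_mem (show (δ : E) ∈ stab v from h5) n
      exact h8
    have hdim := finrank_le_three A (W := fixV F.range) (F := fixV H)
      (fun v hv => by
        rw [hA]
        exact Submodule.sub_mem _ (hinv _ δ.2 v hv) hv)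
      (fun v hv => by
        have h5 : ac ((δ : E) ^ 3) v = v := hv _ ⟨⟨_, hδ3⟩, rfl⟩
        have h6 : ac (δ : E) (ac (δ : E) (ac (δ : E) v)) = v := by
          rw [← ac_mul, ← ac_mul]
          rw [pow_three] at h5
          rw [mul_assoc]
          exact h5
        have hsub : ∀ a b : LL, ac (δ : E) (a - b) = ac (δ : E) a - ac (δ : E) b := fun a b => by
          rw [sub_eq_add_neg, ac_add, ac_neg, ← sub_eq_add_neg]
        rw [hA, hA, hA, hsub, hsub, hsub, h6]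
        funext i
        simp only [Pi.sub_apply, Pi.zero_apply]
        have h3 : ∀ a b c : ZMod 3, a - b - (b - c) - (b - c - (c - a)) = 0 := by decide
        exact h3 _ _ _)
      hfixH
    have hd6 : 6 ≤ finrank (ZMod 3) (fixV H) := by omega
    obtain ⟨B, hB, hBc⟩ := exists_finset (fixV H) hd6
    have hyH : F y ∈ H := y.1.2
    have hC : Nat.card ↥(centralizer ({F y} : Set E) ⊓ H) ≤ 39 := by
      exact (le_of_eq (card_cent_inf H (y : ↥H))).trans (card_cent hidx (hnum.cent y hy hy1))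
    have hcount := count hmax hne (y := F y) (B := B)
      (fun b hb => ⟨(hB b hb).2, (hB b hb).1 _ hyH, fun g hg => Or.inl ((hB b hb).1 g hg)⟩) hC
    rw [hv] at hcount
    have h9 : 728 * 18743628421389393110651003031810837312 ≤ 39 * 3 ^ 80 :=
      (Nat.mul_le_mul hBc hK).trans hcount
    norm_num at h9

end Cfsg.Agent.H887.Sz
end
end

-- part: S5919
section
prune_inst 0x200000000840000000000090310002001800000000000000008002040203102000002000020009040200000000000000020000800000000000000000000000000000000000000000000000000000000000000000000000000000000000041000000000002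
set_option linter.all false
open scoped Cfsg.Agent.FastGrp

-- part: H934/Sz/Count
section
/-!
# S5919, the row `Sz(8)`: sums over the group and Sylow 13-subgroups
-/

set_option autoImplicit false

namespace Cfsg.Agent.H934.Sz

open Cfsg.Agent.H540.E8C.Sz

variable {Q : Type} [Group Q] [Finite Q]

theorem coprime_orders {g : Q} {a b : ℕ} (ha : g ^ a = 1) (hb : g ^ b = 1) (h : a.Coprime b) : g = 1 := by
  have h1 := orderOf_dvd_of_pow_eq_one ha
  have h2 := orderOf_dvd_of_pow_eq_one hb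
  have h3 := Nat.dvd_gcd h1 h2
  rw [Nat.Coprime.gcd_eq_one h] at h3
  exact orderOf_eq_one_iff.1 (Nat.dvd_one.1 h3)

/-- **The lower bound of the sum.** -/
theorem sum_bound [Fintype Q] (hN : Num Q) {t : ℤ} {b : Q → ℤ} (h1 : b 1 = 248)
    (h4 : ∀ g : Q, g ^ 4 = 1 → -8 ≤ b g) (h4' : ∀ g : Q, g ^ 4 = 1 → g ^ 2 ≠ 1 → -4 ≤ b g)
    (h5 : ∀ g : Q, g ^ 5 = 1 → -2 ≤ b g) (h7 : ∀ g : Q, g ^ 7 = 1 → 3 ≤ b g)
    (h13 : ∀ g : Q, g ^ 13 = 1 → g ≠ 1 → t ≤ b g) : 6720 * t - 6716 ≤ ∑ g, b g := by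
  classical
  obtain ⟨g0, hg0, hg0'⟩ := hN.ex4
  have hne0 : g0 ≠ 1 := by
    rintro rfl
    exact hg0' (one_pow 2)
  have key : ∀ g : Q, 3 + (-11) * (if g ^ 4 = 1 then (1 : ℤ) else 0) + (-5) * (if g ^ 5 = 1 then (1 : ℤ) else 0) +
      (t - 3) * (if g ^ 13 = 1 then (1 : ℤ) else 0) + (264 - t) * (if g = 1 then (1 : ℤ) else 0) +
      4 * (if g = g0 then (1 : ℤ) else 0) ≤ b g := by
    intro g
    by_cases hg1 : g = 1
    · subst hg1
      rw [if_pos (one_pow _), if_pos (one_pow _), if_pos (one_pow _), if_pos rfl, if_neg (Ne.symm hne0), h1]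
      linarith
    · rw [if_neg hg1]
      rcases hN.spec g with h | h | h | h
      · have n5 : ¬ g ^ 5 = 1 := fun h' => hg1 (coprime_orders h h' (by norm_num))
        have n13 : ¬ g ^ 13 = 1 := fun h' => hg1 (coprime_orders h h' (by norm_num))
        rw [if_pos h, if_neg n5, if_neg n13]
        by_cases hgg : g = g0
        · rw [if_pos hgg]
          have := h4' g h (hgg ▸ hg0')
          linarith
        · rw [if_neg hgg]
          have := h4 g h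
          linarith
      · have n4 : ¬ g ^ 4 = 1 := fun h' => hg1 (coprime_orders h h' (by norm_num))
        have n13 : ¬ g ^ 13 = 1 := fun h' => hg1 (coprime_orders h h' (by norm_num))
        have n0 : ¬ g = g0 := fun h' => n4 (h' ▸ hg0)
        rw [if_pos h, if_neg n4, if_neg n13, if_neg n0]
        have := h5 g h
        linarith
      · have n4 : ¬ g ^ 4 = 1 := fun h' => hg1 (coprime_orders h h' (by norm_num))
        have n5 : ¬ g ^ 5 = 1 := fun h' => hg1 (coprime_orders h h' (by norm_num))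
        have n13 : ¬ g ^ 13 = 1 := fun h' => hg1 (coprime_orders h h' (by norm_num))
        have n0 : ¬ g = g0 := fun h' => n4 (h' ▸ hg0)
        rw [if_neg n4, if_neg n5, if_neg n13, if_neg n0]
        have := h7 g h
        linarith
      · have n4 : ¬ g ^ 4 = 1 := fun h' => hg1 (coprime_orders h h' (by norm_num))
        have n5 : ¬ g ^ 5 = 1 := fun h' => hg1 (coprime_orders h h' (by norm_num))
        have n0 : ¬ g = g0 := fun h' => n4 (h' ▸ hg0)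
        rw [if_pos h, if_neg n4, if_neg n5, if_neg n0]
        have := h13 g h hg1
        linarith
  have h := Finset.sum_le_sum fun g (_ : g ∈ (Finset.univ : Finset Q)) => key g
  have hc : ∀ (p : Q → Prop) [DecidablePred p], ∑ g : Q, (if p g then (1 : ℤ) else 0) = (Nat.card {g : Q // p g} : ℤ) := by
    intro p _
    rw [Finset.sum_boole, Nat.card_eq_fintype_card, Fintype.card_subtype]
  have hq : (Finset.univ : Finset Q).card = 29120 := by
    rw [Finset.card_univ, ← Nat.card_eq_fintype_card, hN.card]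
  simp only [Finset.sum_add_distrib, ← Finset.mul_sum, Finset.sum_const, hq, hc fun g => g ^ 4 = 1,
    hc fun g => g ^ 5 = 1, hc fun g => g ^ 13 = 1, hN.n2, hN.n5, hN.n13, Finset.sum_ite_eq', Finset.mem_univ,
    if_true] at h
  norm_num only [_root_.Int.nsmul_eq_mul, _root_.mul_one] at h
  linarith

/-- elements of order 13 are conjugate to powers of any one of them -/
theorem conj_pow (hN : Num Q) {y g : Q} (hy : y ^ 13 = 1) (hy1 : y ≠ 1) (hg : g ^ 13 = 1) (hg1 : g ≠ 1) :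
    ∃ (h : Q) (d : ℕ), ¬ 13 ∣ d ∧ h * g * h⁻¹ = y ^ d := by
  have hp : Fact (Nat.Prime 13) := ⟨by norm_num⟩
  have hfac : (Nat.card Q).factorization 13 = 1 := by
    rw [hN.card]
    have h1 : (29120 : ℕ) = 13 ^ 1 * 2240 := by norm_num
    rw [h1]
    rw [Nat.factorization_mul (by norm_num) (by norm_num), Nat.Prime.factorization_pow hp.out]
    simp only [Finsupp.coe_add, Pi.add_apply, Finsupp.single_eq_same]
    rw [Nat.factorization_eq_zero_of_not_dvd (by norm_num)]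
  have hz : ∀ x : Q, x ^ 13 = 1 → x ≠ 1 → Nat.card (Subgroup.zpowers x) = 13 ^ (Nat.card Q).factorization 13 := by
    intro x hx hx1
    rw [hfac, pow_one, Nat.card_zpowers, orderOf_eq_prime hx hx1]
  let P : Sylow 13 Q := Sylow.ofCard (Subgroup.zpowers g) (hz g hg hg1)
  let R : Sylow 13 Q := Sylow.ofCard (Subgroup.zpowers y) (hz y hy hy1)
  obtain ⟨h, hh⟩ := MulAction.exists_smul_eq Q P R
  have h2 : h * g * h⁻¹ ∈ (R : Subgroup Q) := by
    rw [← hh]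
    have h3 : g ∈ (P : Subgroup Q) := Subgroup.mem_zpowers g
    exact Subgroup.smul_mem_pointwise_smul g (MulAut.conj h) (P : Subgroup Q) h3
  have h3 : h * g * h⁻¹ ∈ Subgroup.zpowers y := h2
  obtain ⟨d, hd⟩ := Cfsg.Agent.H540.E8C.exists_nat_pow (by norm_num) hy h3
  refine ⟨h, d, fun hdvd => ?_, hd⟩
  obtain ⟨e, rfl⟩ := hdvd
  rw [pow_mul, hy, one_pow] at hd
  apply hg1
  have h5 : h * g = h := by
    have := mul_inv_eq_one.1 hd
    exact this
  exact mul_eq_left.1 h5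

end Cfsg.Agent.H934.Sz
end

-- part: H934/Sz/Dims
section
/-!
# S5919, the row `Sz(8)`: task SZ2, the dimension of the fixed space
-/

set_option autoImplicit false
set_option linter.unusedSectionVars false
set_option maxRecDepth 100000

namespace Cfsg.Agent.H934.Sz

open Cfsg Cfsg.Lie Cfsg.Lie.ChevalleyDatum
open Cfsg.Agent.ChevalleyStructure Cfsg.Agent.ChevalleyStructure.CoxeterGeomTypes
open Cfsg.Agent.H942.E8Tab Cfsg.Agent.H942.E8Alc Cfsg.Agent.H942.ValsChar Cfsg.Agent.H942.E8Val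
open Cfsg.Agent.H942.CB
open Cfsg.Agent.H944.RootVals Cfsg.Agent.H944.Tab Cfsg.Agent.H944.Kac
open Cfsg.Agent.H657 IsLocalRing Module
open Cfsg.Agent.H540.E8C Cfsg.Agent.H540.E8C.End Cfsg.Agent.H540.E8C.Sz

theorem gen13 : ∀ u : ZMod 13, u ≠ 0 → ∃ k < 3, ∃ j < 4, u = (3 : ZMod 13) ^ k * 5 ^ j := by decide

section Values

variable {V : ValuationSubring ℂ} [CharP (ResidueField V) 3] {G : Type*} [Group G] {F : G →* E}

/-- **Elements of order 13 conjugate to their fifth powers.** -/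
theorem val13 {g : G} (hg : g ^ 13 = 1) (hne : F g ≠ 1) (h5 : ∃ h : E, h * F g * h⁻¹ = F g ^ 5) :
    ∃ t : ℤ, (∀ d : ℕ, ¬ 13 ∣ d → bc 3 (adj V F) (g ^ d) = t) ∧
      (((t = 1 ∨ t = 14) ∧ Partner 13 (F g)) ∨
        (t = 66 ∧ 18743628421389393110651003031810837312 ≤ Nat.card ↥(Subgroup.centralizer {F g}))) := by
  have : Fact (Nat.Prime 13) := ⟨by norm_num⟩
  obtain ⟨Y, ξ, h, hT⟩ := exists_specT (V := V) F (N := 13) (by norm_num) (by norm_num) hg
  have hus : ∀ u : ZMod 13, u ≠ 0 → ms chevE8 8 (vecL 13 Y) = (ms chevE8 8 (vecL 13 Y)).map (fun a => u * a) := by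
    intro u hu
    obtain ⟨k, -, j, -, hk⟩ := gen13 u hu
    rw [hk]
    exact map_mul_mul (map_mul_pow h.frob k) (map_mul_pow (h.conj 5 h5) j)
  have hval : ∀ d : ℕ, ¬ 13 ∣ d → 12 * bc 3 (adj V F) (g ^ d) = 26 * (cnt 13 1 0 Y : ℂ) - 144 := by
    intro d hd
    have := bc_prime h hus hd
    push_cast at this
    linear_combination this
  have hmain := thirteen hg hne h hT
  -- the case `cnt = 15` is impossible
  have h15 : cnt 13 1 0 Y ≠ 15 := by
    intro hc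
    have h1 := allAlc_spec th8 13 _ (by decide) check13 Y h.len h.alc
    have h2 : invB 13 3 R8 Y = true := invB_of (by norm_num) tab8 len8 h.frob
    have h3 : invB 13 5 R8 Y = true := invB_of (by norm_num) tab8 len8 (h.conj 5 h5)
    rw [h2, cond_true, decide_eq_true_iff] at h1
    unfold L13 at h1
    simp only [List.mem_cons, List.not_mem_nil, or_false] at h1
    rcases h1 with rfl | rfl | rfl | rfl | rfl | rfl | rfl
    · exact absurd hc (by decide +kernel)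
    · exact absurd hc (by decide +kernel)
    · exact absurd hc (by decide +kernel)
    · exact absurd hc (by decide +kernel)
    · exact absurd hc (by decide +kernel)
    · exact absurd h3 (by decide +kernel)
    · exact absurd h3 (by decide +kernel)
  rcases hmain with ⟨hc | hc, hP⟩ | ⟨hc, -⟩ | ⟨hc, hb⟩
  · refine ⟨1, fun d hd => ?_, Or.inl ⟨Or.inl rfl, hP⟩⟩
    have := hval d hd
    rw [hc] at this
    push_cast at this ⊢
    linear_combination this / 12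
  · refine ⟨14, fun d hd => ?_, Or.inl ⟨Or.inr rfl, hP⟩⟩
    have := hval d hd
    rw [hc] at this
    push_cast at this ⊢
    linear_combination this / 12
  · exact absurd hc h15
  · refine ⟨66, fun d hd => ?_, Or.inr ⟨rfl, hb⟩⟩
    have := hval d hd
    rw [hc] at this
    push_cast at this ⊢
    linear_combination this / 12

/-- **The values.** -/
theorem exists_val (V : ValuationSubring ℂ) [CharP (ResidueField V) 3] {Q : Type} [Group Q] [Finite Q] (hN : Num Q)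
    {F : Q →* E} (hF : Function.Injective F) : ∃ b : Q → ℤ, (∀ g, bc 3 (adj V F) g = b g) ∧ b 1 = 248 ∧
    (∀ g : Q, g ^ 4 = 1 → -8 ≤ b g) ∧ (∀ g : Q, g ^ 4 = 1 → g ^ 2 ≠ 1 → -4 ≤ b g) ∧
    (∀ g : Q, g ^ 5 = 1 → -2 ≤ b g) ∧ (∀ g : Q, g ^ 7 = 1 → 3 ≤ b g) ∧
    (∀ g : Q, g ^ 13 = 1 → g ≠ 1 → 1 ≤ b g) := by
  have hne : ∀ g : Q, g ≠ 1 → F g ≠ 1 := fun g hg h => hg (hF (by rw [h, map_one]))
  have hb1 : bc 3 (adj V F) (1 : Q) = ((248 : ℤ) : ℂ) := by
    obtain ⟨t, -, ht, ht'⟩ := val5 V F (g := (1 : Q)) (one_pow 5)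
    have h1 := ht 1 (by norm_num)
    rw [one_pow] at h1
    rw [h1, ht'.1 (map_one F)]
  have key : ∀ g : Q, ∃ b : ℤ, bc 3 (adj V F) g = b ∧ (g = 1 → b = 248) ∧ (g ^ 4 = 1 → -8 ≤ b) ∧
      (g ^ 4 = 1 → g ^ 2 ≠ 1 → -4 ≤ b) ∧ (g ^ 5 = 1 → -2 ≤ b) ∧ (g ^ 7 = 1 → 3 ≤ b) ∧
      (g ^ 13 = 1 → g ≠ 1 → 1 ≤ b) := by
    intro g
    by_cases hg1 : g = 1
    · subst hg1
      exact ⟨248, hb1, fun _ => rfl, fun _ => by norm_num, fun _ _ => by norm_num, fun _ => by norm_num,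
        fun _ => by norm_num, fun _ _ => by norm_num⟩
    rcases hN.spec g with h | h | h | h
    · have n5 : ¬ g ^ 5 = 1 := fun h' => hg1 (coprime_orders h h' (by norm_num))
      have n7 : ¬ g ^ 7 = 1 := fun h' => hg1 (coprime_orders h h' (by norm_num))
      have n13 : ¬ g ^ 13 = 1 := fun h' => hg1 (coprime_orders h h' (by norm_num))
      have h8 : g ^ 8 = 1 := by rw [show 8 = 4 * 2 from rfl, pow_mul, h, one_pow]
      obtain ⟨t₁, t₂, t₄, hL, e1, e2, e4, o1, o2, o4⟩ := val8 V F h8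
      refine ⟨t₁, e1, fun h' => absurd h' hg1, fun _ => ?_, fun _ h2 => ?_, fun h' => absurd h' n5,
        fun h' => absurd h' n7, fun h' => absurd h' n13⟩
      · have h3 : t₄ = 248 := o4.1 (by rw [h, map_one])
        subst h3
        have : ∀ p ∈ L8, p.2.2 = 248 → -8 ≤ p.1 := by decide
        exact this _ hL rfl
      · have h3 : t₄ = 248 := o4.1 (by rw [h, map_one])
        have h3' : t₂ ≠ 248 := fun h' => hne _ h2 (o2.2 h')
        have : ∀ p ∈ L8, p.2.2 = 248 → p.2.1 ≠ 248 → -4 ≤ p.1 := by decide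
        exact this _ hL h3 h3'
    · have n4 : ¬ g ^ 4 = 1 := fun h' => hg1 (coprime_orders h h' (by norm_num))
      have n7 : ¬ g ^ 7 = 1 := fun h' => hg1 (coprime_orders h h' (by norm_num))
      have n13 : ¬ g ^ 13 = 1 := fun h' => hg1 (coprime_orders h h' (by norm_num))
      obtain ⟨t, ht, e, -⟩ := val5 V F h
      refine ⟨t, ?_, fun h' => absurd h' hg1, fun h' => absurd h' n4, fun h' => absurd h' n4, fun _ => ?_,
        fun h' => absurd h' n7, fun h' => absurd h' n13⟩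
      · have := e 1 (by norm_num)
        rwa [pow_one] at this
      · rcases ht with rfl | rfl | rfl | rfl <;> norm_num
    · have n4 : ¬ g ^ 4 = 1 := fun h' => hg1 (coprime_orders h h' (by norm_num))
      have n5 : ¬ g ^ 5 = 1 := fun h' => hg1 (coprime_orders h h' (by norm_num))
      have n13 : ¬ g ^ 13 = 1 := fun h' => hg1 (coprime_orders h h' (by norm_num))
      obtain ⟨t, ht, e⟩ := Cfsg.Agent.H942.L7.val7 V F h (hne g hg1)
      refine ⟨t, ?_, fun h' => absurd h' hg1, fun h' => absurd h' n4, fun h' => absurd h' n4,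
        fun h' => absurd h' n5, fun _ => ?_, fun h' => absurd h' n13⟩
      · have := e 1 (by norm_num)
        rwa [pow_one] at this
      · rcases ht with rfl | rfl <;> norm_num
    · have n4 : ¬ g ^ 4 = 1 := fun h' => hg1 (coprime_orders h h' (by norm_num))
      have n5 : ¬ g ^ 5 = 1 := fun h' => hg1 (coprime_orders h h' (by norm_num))
      have n7 : ¬ g ^ 7 = 1 := fun h' => hg1 (coprime_orders h h' (by norm_num))
      obtain ⟨x, hx⟩ := hN.conj5 g h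
      obtain ⟨t, e, ht⟩ := val13 (V := V) (F := F) h (hne g hg1) ⟨F x, by
        rw [← map_pow, ← hx, map_mul, map_mul, map_inv]⟩
      refine ⟨t, ?_, fun h' => absurd h' hg1, fun h' => absurd h' n4, fun h' => absurd h' n4,
        fun h' => absurd h' n5, fun h' => absurd h' n7, fun _ _ => ?_⟩
      · have := e 1 (by norm_num)
        rwa [pow_one] at this
      · rcases ht with ⟨rfl | rfl, -⟩ | ⟨rfl, -⟩ <;> norm_num
  choose b hb using key
  exact ⟨b, fun g => (hb g).1, (hb 1).2.1 rfl, fun g => (hb g).2.2.1, fun g => (hb g).2.2.2.1,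
    fun g => (hb g).2.2.2.2.1, fun g => (hb g).2.2.2.2.2.1, fun g => (hb g).2.2.2.2.2.2⟩

end Values

/-- **Task SZ2.** -/
theorem dims : Cfsg.Agent.H540.E8C.Sz.Dims := by
  intro Q _ _ hN F hF y hy hy1
  classical
  have : Fintype Q := Fintype.ofFinite Q
  obtain ⟨M, V, hM, hV, hch⟩ := Cfsg.Agent.H942.Common.exists_V
  have hFy : F y ≠ 1 := fun h => hy1 (hF (by rw [h, map_one]))
  obtain ⟨b, hb, hb1, hb4, hb4', hb5, hb7, hb13⟩ := exists_val V hN hF
  obtain ⟨x, hx⟩ := hN.conj5 y hy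
  obtain ⟨t, e, ht⟩ := val13 (V := V) (F := F) hy hFy ⟨F x, by
    rw [← map_pow, ← hx, map_mul, map_mul, map_inv]⟩
  -- the dimension of the fixed space
  have hdim := Cfsg.Agent.H451.L7.dim M V hM hV Q F (Finset.univ : Finset Q).toList (Finset.nodup_toList _)
    (Finset.mem_toList.2 (Finset.mem_univ _)) (fun a _ b _ => Finset.mem_toList.2 (Finset.mem_univ _))
    (by rw [Finset.length_toList, Finset.card_univ, ← Nat.card_eq_fintype_card, hN.card]; norm_num)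
  rw [Finset.sum_map_toList, Finset.length_toList, Finset.card_univ, ← Nat.card_eq_fintype_card, hN.card] at hdim
  have hfix : Cfsg.Agent.H942.L7.fixL F (Finset.univ : Finset Q).toList = fixV F.range := by
    ext v
    constructor
    · rintro h _ ⟨g, rfl⟩
      exact h g (Finset.mem_toList.2 (Finset.mem_univ _))
    · intro h g _
      exact h (F g) ⟨g, rfl⟩
  rw [hfix, Finset.sum_congr rfl fun g _ => hb g] at hdim
  have hdim' : ∑ g, b g = 29120 * (finrank (ZMod 3) ↥(fixV F.range) : ℤ) := by exact_mod_cast hdim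
  rcases ht with ⟨-, hP⟩ | ⟨ht, hC⟩
  · left
    refine ⟨hP, ?_⟩
    have h1 := sum_bound hN hb1 hb4 hb4' hb5 hb7 hb13
    omega
  · right
    subst ht
    have hall : ∀ g : Q, g ^ 13 = 1 → g ≠ 1 → (66 : ℤ) ≤ b g := by
      intro g hg hg1
      obtain ⟨h, d, hd, hh⟩ := conj_pow hN hy hy1 hg hg1
      have h1 := e d hd
      rw [← hh, bc_conj 3 (adj V F) g h, hb g] at h1
      have h2 : b g = 66 := by exact_mod_cast h1
      rw [h2]
    refine ⟨hC, ?_, ?_⟩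
    · have h1 := sum_bound hN hb1 hb4 hb4' hb5 hb7 hall
      omega
    · -- the fixed space of `y`
      let L : List Q := (List.range 13).map fun i => y ^ i
      have hord : orderOf y = 13 := orderOf_eq_prime hy hy1 (hp := ⟨by norm_num⟩)
      have hLmem : ∀ i : ℕ, y ^ i ∈ L := by
        intro i
        refine List.mem_map.2 ⟨i % 13, List.mem_range.2 (Nat.mod_lt _ (by norm_num)), ?_⟩
        exact (pow_eq_pow_mod i hy).symm
      have hnd : L.Nodup := by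
        refine List.Nodup.map_on (fun i hi j hj hij => ?_) List.nodup_range
        rw [List.mem_range] at hi hj
        exact pow_injOn_Iio_orderOf (by rw [hord]; exact hi) (by rw [hord]; exact hj) hij
      have hdy := Cfsg.Agent.H451.L7.dim M V hM hV Q F L hnd (by simpa using hLmem 0) (by
        intro a ha b hb
        obtain ⟨i, -, rfl⟩ := List.mem_map.1 ha
        obtain ⟨j, -, rfl⟩ := List.mem_map.1 hb
        rw [← pow_add]
        exact hLmem _) (by simp only [L, List.length_map, List.length_range]; norm_num)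
      have hlen : L.length = 13 := by simp [L]
      rw [hlen] at hdy
      have hsum : (L.map fun g => bc 3 (adj V F) g).sum = ((1040 : ℤ) : ℂ) := by
        have h1 : (L.map fun g => bc 3 (adj V F) g) = ((List.range 13).map fun i => (((if i = 0 then 248 else 66 : ℤ)) : ℂ)) := by
          rw [List.map_map]
          refine List.map_congr_left fun i hi => ?_
          rw [List.mem_range] at hi
          show bc 3 (adj V F) (y ^ i) = _
          by_cases h0 : i = 0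
          · subst h0
            rw [pow_zero, hb 1, hb1, if_pos rfl]
          · rw [if_neg h0]
            exact e i fun hdvd => h0 (Nat.eq_zero_of_dvd_of_lt hdvd hi)
        rw [h1]
        simp only [List.range_succ, List.range_zero, List.nil_append, List.map_append, List.map_cons, List.map_nil,
          List.sum_append, List.sum_cons, List.sum_nil]
        norm_num
      rw [hsum] at hdy
      have hfy : finrank (ZMod 3) ↥(Cfsg.Agent.H942.L7.fixL F L) = 80 := by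
        have h1 : (1040 : ℤ) = 13 * (finrank (ZMod 3) ↥(Cfsg.Agent.H942.L7.fixL F L) : ℤ) := by exact_mod_cast hdy
        omega
      have hiff : ∀ v : LL, ac (F y) v = v ↔ v ∈ Cfsg.Agent.H942.L7.fixL F L := by
        intro v
        constructor
        · intro h g hg
          obtain ⟨i, -, rfl⟩ := List.mem_map.1 hg
          show ac (F (y ^ i)) v = v
          induction i with
          | zero => rw [pow_zero, map_one, ac_one]
          | succ i ih => rw [pow_succ, map_mul, ac_mul, h]; exact ih (hLmem i)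
        · intro h
          have := h (y ^ 1) (hLmem 1)
          rwa [pow_one] at this
      rw [Nat.card_congr (Equiv.subtypeEquivRight hiff : {v : LL // ac (F y) v = v} ≃
        ↥(Cfsg.Agent.H942.L7.fixL F L))]
      rw [Module.natCard_eq_pow_finrank (K := ZMod 3), hfy, Nat.card_zmod]

end Cfsg.Agent.H934.Sz
end

-- part: H530/L13/R1
section
/-!
# S5919, the row `PSL₂(13)`, task R1 (helper530)

`r1 : R1`.
-/

set_option autoImplicit false

namespace Cfsg.Agent.H530.L13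

open Cfsg.Agent.H540.E8C.L13 Module Cfsg.Agent.H296.L7

/-! ### the group -/

theorem tt_uu : ∀ a : ZMod 13, tt * uu a = uu (-a) * tt := by (set_option synthInstance.maxSize 20000 in open scoped Cfsg.Agent.Lib.MatDec in decide +kernel)
theorem eta_uu : ∀ a : ZMod 13, eta * uu a = uu (9 * a) * eta := by (set_option synthInstance.maxSize 20000 in open scoped Cfsg.Agent.Lib.MatDec in decide +kernel)
theorem uu_mul : ∀ a b : ZMod 13, uu a * uu b = uu (a + b) := by (refine of_decide_eq_true ?_; (try (rewrite [Cfsg.Agent.LsF.instSLMul_eq, Cfsg.Agent.LsF.dSL_eq, Cfsg.Agent.LsF.zadd_pat, Cfsg.Agent.LsF.zdecEq_eq, Cfsg.Agent.LsF.zFintype_eq, Cfsg.Agent.LsF.dForall_eq, Cfsg.Agent.LsF.decide_eq])); decide +kernel)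
theorem uu_zero : uu 0 = 1 := by decide +kernel
theorem tt_ww : tt * ww = ww * (tt * (tt * tt)) := by decide +kernel
theorem eta_ww : eta * ww = ww * (eta * eta) := by decide +kernel
theorem ww_ww : ww * ww = -1 := by decide +kernel
theorem eta3 : eta * (eta * eta) = 1 := by decide +kernel
theorem tt_eta : tt * eta = eta * tt := by decide +kernel

/-- the tables -/
def tI : ZMod 13 → ℕ := fun a => (![0, 0, 3, 0, 2, 3, 3, 1, 1, 0, 2, 1, 2] : Fin 13 → ℕ) a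
def tJ : ZMod 13 → ℕ := fun a => (![0, 0, 2, 2, 1, 0, 1, 1, 0, 1, 2, 2, 0] : Fin 13 → ℕ) a
def tB : ZMod 13 → ZMod 13 := fun a => -a⁻¹

theorem tab : ∀ a : ZMod 13, a ≠ 0 →
    ww * (uu a * ww) = -1 * (uu (tB a) * (tt ^ tI a * (eta ^ tJ a * (ww * uu (tB a))))) := by (delta Cfsg.Agent.H540.E8C.L13.uu; set_option synthInstance.maxSize 20000 in open scoped Cfsg.Agent.Lib.MatDec in decide +kernel)

theorem tab2 : ∀ a : ZMod 13, a ≠ 0 →
    ww * (uu a * ww) = -1 * (uu (tB a) * (ww * (tt ^ (4 - tI a) * (eta ^ (3 - tJ a) * uu (tB a))))) := by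
  (delta Cfsg.Agent.H540.E8C.L13.uu; set_option synthInstance.maxSize 20000 in open scoped Cfsg.Agent.Lib.MatDec in decide +kernel)

theorem tB_inv : ∀ a : ZMod 13, tB (tB a) = a := by decide +kernel

/-! ### the representation -/

variable {V : Type} [AddCommGroup V] [Module (ZMod 3) V] (ρ : Representation (ZMod 3) Q V)

theorem rmul (g g' : Q) (v : V) : ρ (g * g') v = ρ g (ρ g' v) := by
  rw [map_mul]; rfl

theorem rone (v : V) : ρ 1 v = v := by
  rw [map_one]; rfl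

theorem m3 {x y : V} (h : (1 : ZMod 3) • x = (1 : ZMod 3) • y) : x = y := by
  rwa [one_smul, one_smul] at h

/-- `e_U` -/
def ss : V →ₗ[ZMod 3] V := ∑ a : ZMod 13, ρ (uu a)

theorem ss_apply (v : V) : ss ρ v = ∑ a : ZMod 13, ρ (uu a) v := by
  rw [ss, LinearMap.sum_apply]

theorem om_apply (v : V) : om ρ v = ss ρ (ρ ww v) := by
  rw [om, ss_apply, LinearMap.sum_apply]
  rfl

theorem uu_ss (b : ZMod 13) (v : V) : ρ (uu b) (ss ρ v) = ss ρ v := by
  rw [ss_apply, map_sum]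
  refine Fintype.sum_equiv (Equiv.addLeft b) _ _ fun a => ?_
  rw [← rmul, uu_mul]
  rfl

theorem ss_uu (b : ZMod 13) (v : V) : ss ρ (ρ (uu b) v) = ss ρ v := by
  rw [ss_apply, ss_apply]
  refine Fintype.sum_equiv (Equiv.addRight b) _ _ fun a => ?_
  rw [← rmul, uu_mul]
  rfl

theorem ss_fix {v : V} (hv : ∀ a, ρ (uu a) v = v) : ss ρ v = v := by
  rw [ss_apply, Finset.sum_congr rfl fun a _ => hv a, Finset.sum_const, Finset.card_univ, ZMod.card,
    ← Nat.cast_smul_eq_nsmul (ZMod 3)]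
  have : ((13 : ℕ) : ZMod 3) = 1 := by decide
  rw [this, one_smul]

theorem tt_ss (v : V) : ρ tt (ss ρ v) = ss ρ (ρ tt v) := by
  rw [ss_apply, ss_apply, map_sum]
  refine Fintype.sum_equiv (Equiv.neg _) _ _ fun a => ?_
  rw [← rmul, tt_uu, rmul]
  rfl

theorem eta_ss (v : V) : ρ eta (ss ρ v) = ss ρ (ρ eta v) := by
  rw [ss_apply, ss_apply, map_sum]
  have h9 : (9 : ZMod 13) * 3 = 1 := by decide
  refine Fintype.sum_equiv ⟨fun a => 9 * a, fun a => 3 * a, fun a => ?_, fun a => ?_⟩ _ _ fun a => ?_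
  · show 3 * (9 * a) = a
    rw [← mul_assoc, mul_comm 3, h9, one_mul]
  · show 9 * (3 * a) = a
    rw [← mul_assoc, h9, one_mul]
  · show ρ eta (ρ (uu a) v) = ρ (uu (9 * a)) (ρ eta v)
    rw [← rmul, eta_uu, rmul]

theorem eee (v : V) : ρ eta (ρ eta (ρ eta v)) = v := by
  rw [← rmul, ← rmul, mul_assoc, eta3, rone]

theorem eta_om (v : V) : ρ eta (om ρ v) = om ρ (ρ eta (ρ eta v)) := by
  rw [om_apply, eta_ss, ← rmul, eta_ww, rmul, rmul, om_apply]

theorem om_eta (v : V) : om ρ (ρ eta v) = ρ eta (ρ eta (om ρ v)) := by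
  rw [eta_om, eta_om, eee, ]

/-- the space `W` -/
def WW : Submodule (ZMod 3) V where
  carrier := {v | (∀ a, ρ (uu a) v = v) ∧ ρ tt v = v}
  add_mem' := fun ha hb => ⟨fun a => by rw [map_add, ha.1 a, hb.1 a], by rw [map_add, ha.2, hb.2]⟩
  zero_mem' := ⟨fun a => map_zero _, map_zero _⟩
  smul_mem' := fun c v hv => ⟨fun a => by rw [map_smul, hv.1 a], by rw [map_smul, hv.2]⟩

variable {ρ}

theorem tt_pow {v : V} (hv : ρ tt v = v) (i : ℕ) : ρ (tt ^ i) v = v := by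
  induction i with
  | zero => rw [pow_zero, rone]
  | succ i ih => rw [pow_succ, rmul, hv, ih]

theorem eta_mem {v : V} (hv : v ∈ WW ρ) : ρ eta v ∈ WW ρ := by
  refine ⟨fun a => ?_, ?_⟩
  · have h : uu a * eta = eta * uu (3 * a) := by revert a; decide +kernel
    rw [← rmul, h, rmul, hv.1]
  · rw [← rmul, tt_eta, rmul, hv.2]

theorem om_mem {v : V} (hv : v ∈ WW ρ) : om ρ v ∈ WW ρ := by
  refine ⟨fun a => ?_, ?_⟩
  · rw [om_apply, uu_ss]
  · rw [om_apply, tt_ss, ← rmul, tt_ww, rmul, rmul, rmul, hv.2, hv.2, hv.2]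

/-- `1 + η + η²` -/
theorem sg_apply (v : V) : sg ρ v = om ρ v + v + ρ eta v + ρ eta (ρ eta v) := by
  rw [← rmul]
  rfl

theorem sg_mem {v : V} (hv : v ∈ WW ρ) : sg ρ v ∈ WW ρ := by
  rw [sg_apply]
  exact (WW ρ).add_mem ((WW ρ).add_mem ((WW ρ).add_mem (om_mem hv) hv) (eta_mem hv)) (eta_mem (eta_mem hv))

theorem om_om (h1 : ρ (-1) = 1) {v : V} (hv : v ∈ WW ρ) :
    om ρ (om ρ v) = v + (om ρ v + ρ eta (om ρ v) + ρ eta (ρ eta (om ρ v))) := by
  have hom := om_mem hv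
  have h0 : ss ρ (ρ ww (ρ (uu 0) (ρ ww v))) = v := by
    rw [uu_zero, rone, ← rmul, ww_ww, h1]
    exact ss_fix ρ hv.1
  have key : ∀ a : ZMod 13, a ≠ 0 → ss ρ (ρ ww (ρ (uu a) (ρ ww v))) = ρ (eta ^ tJ a) (om ρ v) := by
    intro a ha
    have e1 : ∀ (i : ℕ) (x : V), ρ (tt ^ i) (ss ρ x) = ss ρ (ρ (tt ^ i) x) := by
      intro i x
      induction i generalizing x with
      | zero => rw [pow_zero, rone, rone]
      | succ i ih => rw [pow_succ, rmul, tt_ss, ih, rmul]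
    have e2 : ∀ (i : ℕ) (x : V), ρ (eta ^ i) (ss ρ x) = ss ρ (ρ (eta ^ i) x) := by
      intro i x
      induction i generalizing x with
      | zero => rw [pow_zero, rone, rone]
      | succ i ih => rw [pow_succ, rmul, eta_ss, ih, rmul]
    have e3 : ∀ (i : ℕ) {x : V}, x ∈ WW ρ → ρ (eta ^ i) x ∈ WW ρ := by
      intro i
      induction i with
      | zero => intro x hx; rw [pow_zero, rone]; exact hx
      | succ i ih => intro x hx; rw [pow_succ, rmul]; exact ih (eta_mem hx)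
    rw [← rmul, ← rmul, mul_assoc, tab a ha, rmul, h1]
    change ss ρ (ρ (uu (tB a) * (tt ^ tI a * (eta ^ tJ a * (ww * uu (tB a))))) v) = _
    rw [rmul, ss_uu, rmul, rmul, rmul, hv.1, ← e1, ← e2, ← om_apply]
    exact tt_pow (e3 _ hom).2 _
  have hL : om ρ (om ρ v) = ∑ a : ZMod 13, ss ρ (ρ ww (ρ (uu a) (ρ ww v))) := by
    rw [om_apply, om_apply, ss_apply ρ (ρ ww v), map_sum, map_sum]
  rw [hL, show (Finset.univ : Finset (ZMod 13)) = {0, 1, 2, 3, 4, 5, 6, 7, 8, 9, 10, 11, 12} by decide +kernel]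
  iterate 12 rw [Finset.sum_insert (by decide +kernel)]
  rw [Finset.sum_singleton, h0, key 1 (by decide), key 2 (by decide), key 3 (by decide), key 4 (by decide),
    key 5 (by decide), key 6 (by decide), key 7 (by decide), key 8 (by decide), key 9 (by decide), key 10 (by decide),
    key 11 (by decide), key 12 (by decide)]
  have p0 : ∀ x : V, ρ (eta ^ 0) x = x := fun x => by rw [pow_zero, rone]
  have p1 : ∀ x : V, ρ (eta ^ 1) x = ρ eta x := fun x => by rw [pow_one]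
  have p2 : ∀ x : V, ρ (eta ^ 2) x = ρ eta (ρ eta x) := fun x => by rw [pow_two, rmul]
  have j : tJ 1 = 0 ∧ tJ 2 = 2 ∧ tJ 3 = 2 ∧ tJ 4 = 1 ∧ tJ 5 = 0 ∧ tJ 6 = 1 ∧ tJ 7 = 1 ∧ tJ 8 = 0 ∧ tJ 9 = 1 ∧
      tJ 10 = 2 ∧ tJ 11 = 2 ∧ tJ 12 = 0 := by decide +kernel
  obtain ⟨j1, j2, j3, j4, j5, j6, j7, j8, j9, j10, j11, j12⟩ := j
  rw [j1, j2, j3, j4, j5, j6, j7, j8, j9, j10, j11, j12]
  simp only [p0, p1, p2]
  exact m3 (by match_scalars <;> decide)

theorem sg_sg (h1 : ρ (-1) = 1) {v : V} (hv : v ∈ WW ρ) : sg ρ (sg ρ v) = v := by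
  rw [sg_apply (sg ρ v), sg_apply v]
  simp only [map_add, om_om h1 hv, om_eta, eee]
  exact m3 (by match_scalars <;> decide)

/-- `η - η²` -/
def dd (ρ : Representation (ZMod 3) Q V) : V →ₗ[ZMod 3] V := ρ eta - ρ (eta * eta)

theorem dd_apply (v : V) : dd ρ v = ρ eta v - ρ eta (ρ eta v) := by
  rw [← rmul]
  rfl

theorem dd_mem {v : V} (hv : v ∈ WW ρ) : dd ρ v ∈ WW ρ := by
  rw [dd_apply]
  exact (WW ρ).sub_mem (eta_mem hv) (eta_mem (eta_mem hv))

theorem sg_dd (v : V) : sg ρ (dd ρ v) = - dd ρ (sg ρ v) := by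
  rw [sg_apply, dd_apply, dd_apply, sg_apply]
  simp only [map_add, map_sub, om_eta, eee]
  exact m3 (by match_scalars <;> decide)

theorem ddd (v : V) : dd ρ (dd ρ (dd ρ v)) = 0 := by
  rw [dd_apply (dd ρ (dd ρ v)), dd_apply (dd ρ v), dd_apply v]
  simp only [map_sub, eee]
  exact m3 (by match_scalars <;> decide)

theorem mem_XX {ε : ZMod 3} {v : V} : v ∈ XX ρ ε ↔ v ∈ WW ρ ∧ sg ρ v = ε • v := by
  constructor
  · rintro ⟨h1, h2, h3⟩
    exact ⟨⟨h1, h2⟩, h3⟩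
  · rintro ⟨⟨h1, h2⟩, h3⟩
    exact ⟨h1, h2, h3⟩

theorem dd_XX {ε : ZMod 3} {v : V} (hv : v ∈ XX ρ ε) : dd ρ v ∈ XX ρ (-ε) := by
  obtain ⟨h1, h2⟩ := mem_XX.1 hv
  refine mem_XX.2 ⟨dd_mem h1, ?_⟩
  rw [sg_dd, h2, map_smul, neg_smul]

/-- a vector fixed by the Borel subgroup and by `ω` is invariant -/
theorem fix_all (h1 : ρ (-1) = 1) {v : V} (hv : v ∈ WW ρ) (he : ρ eta v = v) (ho : om ρ v = v) (g : Q) : ρ g v = v := by
  have hpe : ∀ i : ℕ, ρ (eta ^ i) v = v := by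
    intro i
    induction i with
    | zero => rw [pow_zero, rone]
    | succ i ih => rw [pow_succ, rmul, he, ih]
  -- `w v = v`
  have hw : ρ ww v = v := by
    have key : ∀ a : ZMod 13, a ≠ 0 → ρ ww (ρ (uu a) (ρ ww v)) = ρ (uu (tB a)) (ρ ww v) := by
      intro a ha
      rw [← rmul, ← rmul, mul_assoc, tab2 a ha, rmul, h1]
      change ρ (uu (tB a) * (ww * (tt ^ (4 - tI a) * (eta ^ (3 - tJ a) * uu (tB a))))) v = _
      rw [rmul, rmul, rmul, rmul, hv.1, hpe, tt_pow hv.2]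
    have h2 : ρ ww (om ρ v) = v + (om ρ v - ρ ww v) := by
      rw [om_apply, ss_apply, map_sum, ← Finset.add_sum_erase _ _ (Finset.mem_univ (0 : ZMod 13)),
        ← Finset.add_sum_erase _ (fun a => ρ (uu a) (ρ ww v)) (Finset.mem_univ (0 : ZMod 13)), uu_zero, rone,
        add_sub_cancel_left, ← rmul, ww_ww, h1]
      congr 1
      refine Finset.sum_nbij' tB tB ?_ ?_ (fun a _ => tB_inv a) (fun a _ => tB_inv a) fun a ha => key a (Finset.ne_of_mem_erase ha)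
      · intro a ha
        refine Finset.mem_erase.2 ⟨?_, Finset.mem_univ _⟩
        exact neg_ne_zero.2 (by
          have : a ≠ 0 := Finset.ne_of_mem_erase ha
          revert a; decide +kernel)
      · intro a ha
        refine Finset.mem_erase.2 ⟨?_, Finset.mem_univ _⟩
        exact neg_ne_zero.2 (by
          have : a ≠ 0 := Finset.ne_of_mem_erase ha
          revert a; decide +kernel)
    rw [ho] at h2
    have h3 : (2 : ZMod 3) • ρ ww v = (2 : ZMod 3) • v := by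
      rw [two_smul, two_smul]
      nth_rewrite 1 [h2]
      abel
    have h4 := congrArg (fun x => (2 : ZMod 3) • x) h3
    simp only [smul_smul] at h4
    have h5 : (2 : ZMod 3) * 2 = 1 := by decide
    rwa [h5, one_smul, one_smul] at h4
  -- generation
  let H : Subgroup Q :=
    { carrier := {g | ρ g v = v}
      mul_mem' := fun {a b} ha hb => by
        show ρ (a * b) v = v
        rw [rmul, hb, ha]
      one_mem' := rone ρ v
      inv_mem' := fun {a} ha => by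
        show ρ a⁻¹ v = v
        have h2 : ρ a v = v := ha
        nth_rewrite 1 [← h2]
        rw [← rmul, inv_mul_cancel, rone] }
  have hu : ∀ a, uu a ∈ H := fun a => hv.1 a
  have ht : tt ∈ H := hv.2
  have hη : eta ∈ H := he
  have hW : ww ∈ H := hw
  have hL : ∀ a : ZMod 13, ww * (uu a * ww) ∈ H := fun a => H.mul_mem hW (H.mul_mem (hu a) hW)
  -- torus
  have htor : ∀ c : ZMod 13, c ≠ 0 → ∀ g : Q, g.1 0 0 = c → g.1 0 1 = 0 → g.1 1 0 = 0 → g ∈ H := by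
    intro c hc g h00 h01 h10
    have h2 : g = tt ^ tI c⁻¹ * eta ^ tJ c⁻¹ := by
      have hdet := Matrix.SpecialLinearGroup.det_coe g
      rw [Matrix.det_fin_two, h00, h01, h10, zero_mul, sub_zero] at hdet
      have h11 : g.1 1 1 = c⁻¹ := by
        have h13 : Fact (Nat.Prime 13) := ⟨by norm_num⟩
        exact eq_inv_of_mul_eq_one_right hdet
      have h3 : ∀ c : ZMod 13, c ≠ 0 → (tt ^ tI c⁻¹ * eta ^ tJ c⁻¹).1 = !![c, 0; 0, c⁻¹] := by (delta Cfsg.Agent.H530.L13.tI Cfsg.Agent.H530.L13.tJ; set_option synthInstance.maxSize 20000 in open scoped Cfsg.Agent.Lib.MatDec in decide +kernel)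
      apply Subtype.ext
      rw [h3 c hc]
      ext i j
      fin_cases i <;> fin_cases j
      · exact h00
      · exact h01
      · exact h10
      · exact h11
    rw [h2]
    exact H.mul_mem (H.pow_mem ht _) (H.pow_mem hη _)
  have h13 : Fact (Nat.Prime 13) := ⟨by norm_num⟩
  suffices h : g ∈ H from h
  -- `g 1 0 = 0` or not
  have main : ∀ g : Q, g.1 1 0 = 0 → g ∈ H := by
    intro g h10
    have hdet := Matrix.SpecialLinearGroup.det_coe g
    rw [Matrix.det_fin_two, h10, mul_zero, sub_zero] at hdet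
    have h00 : g.1 0 0 ≠ 0 := fun h => by rw [h, zero_mul] at hdet; exact zero_ne_one hdet
    have h2 : g * uu (-((g.1 0 0)⁻¹ * g.1 0 1)) ∈ H := by
      refine htor (g.1 0 0) h00 _ ?_ ?_ ?_
      · show (g.1 * !![1, -((g.1 0 0)⁻¹ * g.1 0 1); 0, 1]) 0 0 = _
        rw [Matrix.mul_apply, Fin.sum_univ_two]
        simp
      · show (g.1 * !![1, -((g.1 0 0)⁻¹ * g.1 0 1); 0, 1]) 0 1 = _
        rw [Matrix.mul_apply, Fin.sum_univ_two]
        simp [h00]
      · show (g.1 * !![1, -((g.1 0 0)⁻¹ * g.1 0 1); 0, 1]) 1 0 = _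
        rw [Matrix.mul_apply, Fin.sum_univ_two]
        simp [h10]
    exact (H.mul_mem_cancel_right (hu _)).1 h2
  by_cases h10 : g.1 1 0 = 0
  · exact main g h10
  · -- `ww * uu x * g` has lower left entry zero
    have h2 : ww * uu (-(g.1 0 0 * (g.1 1 0)⁻¹)) * g ∈ H := by
      apply main
      show (ww.1 * (uu (-(g.1 0 0 * (g.1 1 0)⁻¹))).1 * g.1) 1 0 = 0
      rw [Matrix.mul_apply, Fin.sum_univ_two]
      simp only [ww, uu, Matrix.mul_apply, Fin.sum_univ_two, h10, _root_.Fin.isValue, _root_.Matrix.of_apply, _root_.Matrix.cons_val', _root_.Matrix.cons_val_fin_one, _root_.Matrix.cons_val_one, _root_.Matrix.cons_val_zero, _root_.mul_one, _root_.MulZeroClass.mul_zero, _root_.add_zero, _root_.neg_mul, _root_.one_mul, _root_.mul_neg, _root_.neg_neg, _root_.ne_eq, _root_.not_false_eq_true, _root_.inv_mul_cancel_right₀, _root_.neg_add_cancel]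
    exact (H.mul_mem_cancel_left (H.mul_mem hW (hu _))).1 h2

/-! ### the form -/

section form

variable {B : LinearMap.BilinForm (ZMod 3) V}

/-- `B (e_U x) v = B x v` -/
theorem B_ss (hB : ∀ g v v', B (ρ g v) (ρ g v') = B v v') {v : V} (hv : ∀ a, ρ (uu a) v = v) (x : V) :
    B (ss ρ x) v = B x v := by
  rw [ss_apply, map_sum, LinearMap.sum_apply]
  have h : ∀ a ∈ (Finset.univ : Finset (ZMod 13)), B (ρ (uu a) x) v = B x v := by
    intro a _
    nth_rewrite 1 [← hv a]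
    exact hB _ _ _
  rw [Finset.sum_congr rfl h, Finset.sum_const, Finset.card_univ, ZMod.card, nsmul_eq_mul]
  have : ((13 : ℕ) : ZMod 3) = 1 := by decide
  rw [this, one_mul]

theorem B_eta (hB : ∀ g v v', B (ρ g v) (ρ g v') = B v v') (u v : V) : B u (ρ eta v) = B (ρ eta (ρ eta u)) v := by
  rw [← hB eta (ρ eta (ρ eta u)) v, eee]

theorem B_om (h1 : ρ (-1) = 1) (hs : B.IsSymm) (hB : ∀ g v v', B (ρ g v) (ρ g v') = B v v') {u v : V}
    (hu : u ∈ WW ρ) (hv : v ∈ WW ρ) : B (om ρ u) v = B u (om ρ v) := by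
  rw [om_apply, B_ss hB hv.1, hs.eq, om_apply, hs.eq u, B_ss hB hu.1, ← hB ww (ρ ww v) u, ← rmul ρ ww ww, ww_ww, h1]
  rfl

theorem B_sg (h1 : ρ (-1) = 1) (hs : B.IsSymm) (hB : ∀ g v v', B (ρ g v) (ρ g v') = B v v') {u v : V}
    (hu : u ∈ WW ρ) (hv : v ∈ WW ρ) : B (sg ρ u) v = B u (sg ρ v) := by
  rw [sg_apply, sg_apply]
  simp only [map_add, LinearMap.add_apply, B_om h1 hs hB hu hv, B_eta hB, eee]
  ring

theorem B_dd (hB : ∀ g v v', B (ρ g v) (ρ g v') = B v v') (u v : V) : B u (dd ρ v) = - B (dd ρ u) v := by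
  rw [dd_apply, dd_apply]
  simp only [map_sub, LinearMap.sub_apply, B_eta hB, eee]
  ring

/-- the projection on `WW` -/
def pp (ρ : Representation (ZMod 3) Q V) : V →ₗ[ZMod 3] V := -(ss ρ + ρ tt ∘ₗ ss ρ)

theorem pp_apply (v : V) : pp ρ v = -(ss ρ v + ρ tt (ss ρ v)) := rfl

theorem pp_mem (h1 : ρ (-1) = 1) (v : V) : pp ρ v ∈ WW ρ := by
  have htt : ∀ x, ρ tt (ρ tt x) = x := by
    intro x
    have : tt * tt = -1 := by decide +kernel
    rw [← rmul, this, h1]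
    rfl
  rw [pp_apply]
  refine (WW ρ).neg_mem ⟨fun a => ?_, ?_⟩
  · have h : uu a * tt = tt * uu (-a) := by revert a; (set_option synthInstance.maxSize 20000 in open scoped Cfsg.Agent.Lib.MatDec in decide +kernel)
    rw [map_add, uu_ss, ← rmul, h, rmul, uu_ss]
  · rw [map_add, htt, add_comm]

theorem B_pp (hs : B.IsSymm) (hB : ∀ g v v', B (ρ g v) (ρ g v') = B v v') {u : V}
    (hu : u ∈ WW ρ) (x : V) : B u (pp ρ x) = B u x := by
  rw [pp_apply, map_neg, map_add, hs.eq u, B_ss hB hu.1, hs.eq u]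
  have h2 : B (ρ tt (ss ρ x)) u = B (ss ρ x) u := by
    nth_rewrite 1 [← hu.2]
    exact hB _ _ _
  rw [h2, B_ss hB hu.1, hs.eq u x]
  have : ∀ c : ZMod 3, -(c + c) = c := by decide
  exact this _

/-- **Task R1.** -/
theorem r1 : R1 := by
  intro V _ _ _ ρ h1 B hBn hs hB
  have horth : ∀ u ∈ XX ρ (-1), ∀ v ∈ XX ρ 1, B u v = 0 := by
    intro u hu v hv
    obtain ⟨hu1, hu2⟩ := mem_XX.1 hu
    obtain ⟨hv1, hv2⟩ := mem_XX.1 hv
    have h3 := B_sg h1 hs hB hu1 hv1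
    rw [hu2, hv2, one_smul, map_smul, LinearMap.smul_apply, smul_eq_mul] at h3
    have : ∀ c : ZMod 3, -1 * c = c → c = 0 := by decide
    exact this _ h3
  have key := ineq B hBn hs (XX ρ 1) (XX ρ (-1)) (dd ρ) (fun v hv => dd_XX hv)
    (fun v hv => by have := dd_XX hv; rwa [neg_neg] at this) (fun v _ => ddd v)
    (fun u _ v _ => B_dd hB u v) (by
      intro u hu hu0
      obtain ⟨hu1, hu2⟩ := mem_XX.1 hu
      have h3 : ∀ x, B u x = 0 := by
        intro x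
        rw [← B_pp hs hB hu1 x]
        have hw := pp_mem h1 x
        set w := pp ρ x with hwdef
        -- `w = 2 (w + sg w) + 2 (w - sg w)`
        have e1 : w = (2 : ZMod 3) • (w + sg ρ w) + (2 : ZMod 3) • (w - sg ρ w) :=
          m3 (by match_scalars <;> decide)
        have m1 : w + sg ρ w ∈ XX ρ 1 := mem_XX.2 ⟨(WW ρ).add_mem hw (sg_mem hw), by
          rw [map_add, sg_sg h1 hw, one_smul, add_comm]⟩
        have m2 : w - sg ρ w ∈ XX ρ (-1) := mem_XX.2 ⟨(WW ρ).sub_mem hw (sg_mem hw), by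
          rw [map_sub, sg_sg h1 hw, neg_smul, one_smul, neg_sub]⟩
        rw [e1, map_add, map_smul, map_smul, horth u hu _ m1, hu0 _ m2, smul_zero, add_zero]
      exact (LinearMap.BilinForm.Nondegenerate.ker_eq_bot hBn ▸ (Submodule.mem_bot (ZMod 3)).1)
        (show u ∈ LinearMap.ker B from LinearMap.mem_ker.2 (LinearMap.ext h3)))
  have hle : finrank (ZMod 3) ↥(XX ρ 1 ⊓ LinearMap.ker (dd ρ)) ≤ finrank (ZMod 3) (fixP ρ fun _ => True) := by
    apply Submodule.finrank_mono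
    rintro v ⟨hv, hv0⟩
    obtain ⟨hv1, hv2⟩ := mem_XX.1 hv
    have h2 : ρ eta v = ρ eta (ρ eta v) := by
      have := LinearMap.mem_ker.1 hv0
      rw [dd_apply, sub_eq_zero] at this
      exact this
    have h3 : ρ eta v = v := by
      have h4 := congrArg (fun x => ρ eta (ρ eta x)) h2
      simp only [eee] at h4
      exact h4.symm
    have h5 : om ρ v = v := by
      rw [sg_apply, h3, h3, one_smul] at hv2
      have h6 : om ρ v = om ρ v + v + v + v := m3 (by match_scalars <;> decide)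
      rw [h6, hv2]
    intro g _
    exact fix_all h1 hv1 h3 h5 g
  omega

end form

end Cfsg.Agent.H530.L13
end

-- part: H540/E8C/L13/Comp
section
/-!
# Computing with formal sums of translates of vectors with prescribed stabilisers in `SL₂(13)`
-/

set_option autoImplicit false
set_option linter.unusedSectionVars false
set_option linter.style.haveILetI false

namespace Cfsg.Agent.H540.E8C.L13

open Module

/-- coded matrices modulo 13 -/
structure M4 where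
  a : ℕ
  b : ℕ
  c : ℕ
  d : ℕ

namespace M4

def mul (x y : M4) : M4 :=
  ⟨(x.a * y.a + x.b * y.c) % 13, (x.a * y.b + x.b * y.d) % 13, (x.c * y.a + x.d * y.c) % 13,
    (x.c * y.b + x.d * y.d) % 13⟩

def toM (x : M4) : Matrix (Fin 2) (Fin 2) (ZMod 13) := !![(x.a : ZMod 13), (x.b : ZMod 13); (x.c : ZMod 13), (x.d : ZMod 13)]

def ok (x : M4) : Bool := Nat.beq ((x.a * x.d + 12 * (x.b * x.c)) % 13) 1

def adj (x : M4) : M4 := ⟨x.d % 13, (12 * x.b) % 13, (12 * x.c) % 13, x.a % 13⟩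

theorem c13 : (13 : ZMod 13) = 0 := by decide

theorem castmod (n : ℕ) : ((n % 13 : ℕ) : ZMod 13) = (n : ZMod 13) := by
  have h := Nat.div_add_mod n 13
  conv_rhs => rw [← h]
  push_cast
  rw [c13, zero_mul, zero_add]

theorem toM_mul (x y : M4) : (x.mul y).toM = x.toM * y.toM := by
  unfold toM mul
  ext i j
  (revert i j; simp only [Matrix.mul_apply, Fin.sum_univ_two, castmod, _root_.Fin.forall_fin_succ, _root_.ZMod.natCast_mod, _root_.Nat.cast_add, _root_.Nat.cast_mul, _root_.Matrix.of_apply, _root_.Matrix.cons_val', _root_.Matrix.cons_val_fin_one, Fin.isValue, _root_.Matrix.cons_val_zero, _root_.Matrix.cons_val_one, _root_.Matrix.cons_val_succ, _root_.forall_const, _root_.and_self, _root_.implies_true])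

theorem det_of_ok {x : M4} (h : x.ok = true) : x.toM.det = 1 := by
  unfold ok at h
  have h1 := Nat.eq_of_beq_eq_true h
  have h2 := congrArg (fun n : ℕ => (n : ZMod 13)) h1
  simp only [castmod] at h2
  push_cast at h2
  unfold toM
  rw [Matrix.det_fin_two_of]
  have h3 : (12 : ZMod 13) = -1 := by decide
  rw [h3] at h2
  linear_combination h2

theorem adj_toM (x : M4) : x.adj.toM = !![(x.d : ZMod 13), -(x.b : ZMod 13); -(x.c : ZMod 13), (x.a : ZMod 13)] := by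
  have h3 : (12 : ZMod 13) = -1 := by decide
  unfold toM adj
  simp only [castmod]
  push_cast
  rw [h3, neg_one_mul, neg_one_mul]

theorem mul_adj {x : M4} (h : x.ok = true) (y : M4) : x.toM * (x.adj.mul y).toM = y.toM := by
  have h1 := det_of_ok h
  rw [toM_mul, ← Matrix.mul_assoc, adj_toM]
  have h2 : x.toM * !![(x.d : ZMod 13), -(x.b : ZMod 13); -(x.c : ZMod 13), (x.a : ZMod 13)] = 1 := by
    unfold toM at h1 ⊢
    rw [Matrix.det_fin_two_of] at h1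
    ext i j
    (revert i j; simp only [Matrix.mul_apply, Fin.sum_univ_two, _root_.Fin.forall_fin_succ, _root_.Matrix.of_apply, _root_.Matrix.cons_val', _root_.Matrix.cons_val_fin_one, Fin.isValue, _root_.Matrix.cons_val_zero, _root_.Matrix.cons_val_one, _root_.mul_neg, _root_.Matrix.cons_val_succ, _root_.IsEmpty.forall_iff, _root_.and_true, _root_.Matrix.one_apply_eq, Nat.reduceAdd, _root_.Fin.succ_zero_eq_one, _root_.ne_eq, _root_.zero_ne_one, _root_.not_false_eq_true, _root_.Matrix.one_apply_ne, _root_.Fin.succ_ne_zero]) <;> (repeat' with_reducible apply And.intro) <;>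
      first | linear_combination h1 | linear_combination -h1 | ring
  rw [h2, Matrix.one_mul]

end M4

section

variable {V : Type*} [AddCommGroup V] [Module (ZMod 3) V] (ρ : Representation (ZMod 3) Q V)

/-- the group element of a coded matrix -/
def mkQ (x : M4) (h : x.toM.det = 1) : Q := ⟨x.toM, h⟩

open Classical in
/-- the action of a coded matrix -/
noncomputable def rM (x : M4) : V →ₗ[ZMod 3] V :=
  if h : x.toM.det = 1 then ρ (mkQ x h) else 0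

theorem rM_of {x : M4} (h : x.toM.det = 1) : rM ρ x = ρ (mkQ x h) := dif_pos h

theorem rM_mul {x y z : M4} (hx : x.toM.det = 1) (h : z.toM = x.toM * y.toM) (v : V) :
    rM ρ z v = rM ρ x (rM ρ y v) := by
  by_cases hy : y.toM.det = 1
  · have hz : z.toM.det = 1 := by rw [h, Matrix.det_mul, hx, hy, one_mul]
    have h1 : mkQ z hz = mkQ x hx * mkQ y hy := Subtype.ext h
    rw [rM_of ρ hz, rM_of ρ hx, rM_of ρ hy, h1, map_mul]
    rfl
  · have hz : ¬ z.toM.det = 1 := by rw [h, Matrix.det_mul, hx, one_mul]; exact hy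
    unfold rM
    rw [dif_neg hz, dif_neg hy]
    simp

/-- terms: a basic vector, a coefficient, a group element -/
structure Tm where
  b : ℕ
  c : ℕ
  g : M4

variable (x : ℕ → V)

noncomputable def ev (t : Tm) : V := (t.c : ZMod 3) • rM ρ t.g (x t.b)

noncomputable def evL (L : List Tm) : V := (L.map (ev ρ x)).sum

theorem evL_nil : evL ρ x [] = 0 := rfl

theorem evL_cons (t : Tm) (L : List Tm) : evL ρ x (t :: L) = ev ρ x t + evL ρ x L := by
  simp [evL]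

theorem evL_append (L L' : List Tm) : evL ρ x (L ++ L') = evL ρ x L + evL ρ x L' := by
  simp [evL]

end

/-- the trace zero matrix normalised by `D14` -/
def m0 : M4 := ⟨5, 5, 5, 8⟩

/-- the character of the stabiliser of the basic vector `b`: 0 if `k` is not in the stabiliser, else 1 or 2 (= -1) -/
def kchar (b : ℕ) (k : M4) : ℕ :=
  bif Nat.blt b 3 then
    (let p := k.mul m0; let q := m0.mul k
     bif (Nat.beq p.a q.a && Nat.beq p.b q.b && Nat.beq p.c q.c && Nat.beq p.d q.d) then 1 else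
     bif (Nat.beq ((p.a + q.a) % 13) 0 && Nat.beq ((p.b + q.b) % 13) 0 && Nat.beq ((p.c + q.c) % 13) 0 &&
       Nat.beq ((p.d + q.d) % 13) 0) then 1 else 0)
  else bif Nat.beq (k.c % 13) 0 then
    (bif (Nat.beq (k.a % 13) 1 || Nat.beq (k.a % 13) 12) then 1 else
     bif (Nat.beq (k.a % 13) 5 || Nat.beq (k.a % 13) 8) then (bif Nat.beq b 3 then 2 else bif Nat.beq b 4 then 1 else 0)
      else 0)
  else 0

def eqs (b : ℕ) (g0 g : M4) : ℕ :=
  let k := g0.adj.mul g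
  bif g0.ok && k.ok then kchar b k else 0

def addT (t : Tm) : List Tm → List Tm
  | [] => [t]
  | s :: L =>
    let e := eqs s.b s.g t.g
    bif Nat.beq s.b t.b && Nat.blt 0 e then ⟨s.b, (s.c + e * t.c) % 3, s.g⟩ :: L else s :: addT t L

inductive Tr where
  | nil : Tr
  | node (L : List Tm) (l r : Tr) : Tr

def Tr.ins (k : ℕ) (t : Tm) : ℕ → Tr → Tr
  | 0, .nil => .node [t] .nil .nil
  | 0, .node L l r => .node (addT t L) l r
  | d + 1, .nil => bif Nat.beq (Nat.land (Nat.shiftRight k d) 1) 0 then .node [] (Tr.ins k t d .nil) .nil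
      else .node [] .nil (Tr.ins k t d .nil)
  | d + 1, .node L l r => bif Nat.beq (Nat.land (Nat.shiftRight k d) 1) 0 then .node L (Tr.ins k t d l) r
      else .node L l (Tr.ins k t d r)

def Tr.toL : Tr → List Tm → List Tm
  | .nil, acc => acc
  | .node L l r, acc => (L.filter fun t => !(Nat.beq (t.c % 3) 0)) ++ Tr.toL l (Tr.toL r acc)

/-- a number describing the coset -/
def key (t : Tm) : ℕ :=
  bif Nat.blt t.b 3 then
    (let p := (t.g.mul m0).mul t.g.adj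
     Nat.min (p.a * 169 + p.b * 13 + p.c) ((13 - p.a) % 13 * 169 + (13 - p.b) % 13 * 13 + (13 - p.c) % 13) + 2197 * t.b)
  else
    Nat.min (Nat.min (t.g.a * 13 + t.g.c) ((13 - t.g.a) % 13 * 13 + (13 - t.g.c) % 13))
      (Nat.min ((5 * t.g.a) % 13 * 13 + (5 * t.g.c) % 13) ((8 * t.g.a) % 13 * 13 + (8 * t.g.c) % 13)) + 2197 * t.b

def norm (L : List Tm) : List Tm := Tr.toL (L.foldl (fun T t => T.ins (key t) t 14) .nil) []

/-- the group algebra element `K` applied to a formal sum -/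
def gop (K : List (ℕ × M4)) (L : List Tm) : List Tm :=
  norm (K.flatMap fun n => L.map fun t => ⟨t.b, (n.1 * t.c) % 3, n.2.mul t.g⟩)

section

variable {V : Type*} [AddCommGroup V] [Module (ZMod 3) V] {ρ : Representation (ZMod 3) Q V} {x : ℕ → V}

/-- the hypothesis on the basic vectors -/
def Good (ρ : Representation (ZMod 3) Q V) (x : ℕ → V) : Prop :=
  ∀ (b : ℕ) (k : M4), k.toM.det = 1 → kchar b k ≠ 0 → rM ρ k (x b) = (kchar b k : ZMod 3) • x b

theorem c3 : (3 : ZMod 3) = 0 := by decide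

theorem castmod3 (n : ℕ) : ((n % 3 : ℕ) : ZMod 3) = (n : ZMod 3) := by
  have h := Nat.div_add_mod n 3
  conv_rhs => rw [← h]
  push_cast
  rw [c3, zero_mul, zero_add]

theorem eqs_spec (h : Good ρ x) {b : ℕ} {g0 g : M4} (he : eqs b g0 g ≠ 0) :
    rM ρ g (x b) = (eqs b g0 g : ZMod 3) • rM ρ g0 (x b) := by
  have he' : eqs b g0 g = bif g0.ok && (g0.adj.mul g).ok then kchar b (g0.adj.mul g) else 0 := rfl
  rw [he'] at he ⊢
  cases h1 : (g0.ok && (g0.adj.mul g).ok) with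
  | false => rw [h1] at he; exact absurd rfl he
  | true =>
    rw [h1] at he
    rw [cond_true] at he ⊢
    rw [Bool.and_eq_true] at h1
    rw [rM_mul ρ (M4.det_of_ok h1.1) (M4.mul_adj h1.1 g).symm, h b _ (M4.det_of_ok h1.2) he, map_smul]

theorem evL_addT (h : Good ρ x) (t : Tm) (L : List Tm) : evL ρ x (addT t L) = ev ρ x t + evL ρ x L := by
  induction L with
  | nil => simp [addT, evL]
  | cons s L ih =>
    unfold addT
    cases h1 : (Nat.beq s.b t.b && Nat.blt 0 (eqs s.b s.g t.g)) with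
    | false =>
      show evL ρ x (bif (Nat.beq s.b t.b && Nat.blt 0 (eqs s.b s.g t.g)) then _ else _) = _
      rw [h1, cond_false, evL_cons, ih, evL_cons]
      abel
    | true =>
      show evL ρ x (bif (Nat.beq s.b t.b && Nat.blt 0 (eqs s.b s.g t.g)) then _ else _) = _
      rw [h1, cond_true, evL_cons, evL_cons, ← add_assoc]
      congr 1
      rw [Bool.and_eq_true] at h1
      have h2 := Nat.eq_of_beq_eq_true h1.1
      have h3 : 0 < eqs s.b s.g t.g := by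
        have := h1.2
        rw [Nat.blt_eq] at this
        exact this
      have h4 := eqs_spec h h3.ne'
      show (((s.c + eqs s.b s.g t.g * t.c) % 3 : ℕ) : ZMod 3) • rM ρ s.g (x s.b) = _
      unfold ev
      rw [castmod3, ← h2, h4, smul_smul, ← add_smul]
      (with_reducible congr 1)
      push_cast
      ring

noncomputable def evT (ρ : Representation (ZMod 3) Q V) (x : ℕ → V) : Tr → V
  | .nil => 0
  | .node L l r => evL ρ x L + evT ρ x l + evT ρ x r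

theorem evT_ins (h : Good ρ x) (k : ℕ) (t : Tm) : ∀ (d : ℕ) (T : Tr),
    evT ρ x (Tr.ins k t d T) = ev ρ x t + evT ρ x T
  | 0, .nil => by simp [Tr.ins, evT, evL]
  | 0, .node L l r => by
    simp only [Tr.ins, evT, evL_addT h]
    abel
  | d + 1, .nil => by
    rw [Tr.ins]
    cases Nat.beq (Nat.land (Nat.shiftRight k d) 1) 0 with
    | false => simp [evT, evT_ins h k t d, evL]
    | true => simp [evT, evT_ins h k t d, evL]
  | d + 1, .node L l r => by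
    rw [Tr.ins]
    cases Nat.beq (Nat.land (Nat.shiftRight k d) 1) 0 with
    | false => simp only [cond_false, evT, evT_ins h k t d]; abel
    | true => simp only [cond_true, evT, evT_ins h k t d]; abel

theorem evL_filter (L : List Tm) : evL ρ x (L.filter fun t => !(Nat.beq (t.c % 3) 0)) = evL ρ x L := by
  induction L with
  | nil => rfl
  | cons t L ih =>
    rw [List.filter_cons, evL_cons]
    split_ifs with h1
    · rw [evL_cons, ih]
    · rw [ih]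
      have h2 : Nat.beq (t.c % 3) 0 = true := by
        cases h3 : Nat.beq (t.c % 3) 0 with
        | true => rfl
        | false => rw [h3] at h1; exact absurd rfl h1
      have h3 := Nat.eq_of_beq_eq_true h2
      have h4 : (t.c : ZMod 3) = 0 := by rw [← castmod3, h3, Nat.cast_zero]
      rw [ev, h4, zero_smul, zero_add]

theorem evL_toL : ∀ (T : Tr) (acc : List Tm), evL ρ x (T.toL acc) = evT ρ x T + evL ρ x acc
  | .nil, acc => by simp [Tr.toL, evT]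
  | .node L l r, acc => by
    rw [Tr.toL, evL_append, evL_filter, evL_toL l, evL_toL r, evT]
    abel

theorem evL_norm (h : Good ρ x) (L : List Tm) : evL ρ x (norm L) = evL ρ x L := by
  have h1 : ∀ (L : List Tm) (T : Tr), evT ρ x (L.foldl (fun T t => T.ins (key t) t 14) T) = evT ρ x T + evL ρ x L := by
    intro L
    induction L with
    | nil => intro T; simp [evL]
    | cons t L ih =>
      intro T
      rw [List.foldl_cons, ih, evT_ins h, evL_cons]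
      abel
  unfold norm
  rw [evL_toL, h1]
  simp [evT, evL]

/-- the operator of a group algebra element -/
noncomputable def opK (ρ : Representation (ZMod 3) Q V) (K : List (ℕ × M4)) : V →ₗ[ZMod 3] V :=
  (K.map fun n => (n.1 : ZMod 3) • rM ρ n.2).sum

theorem opK_cons (n : ℕ × M4) (K : List (ℕ × M4)) (v : V) :
    opK ρ (n :: K) v = (n.1 : ZMod 3) • rM ρ n.2 v + opK ρ K v := by
  simp only [opK, _root_.List.map_cons, _root_.List.sum_cons, _root_.LinearMap.add_apply, _root_.LinearMap.smul_apply]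

theorem evL_raw (K : List (ℕ × M4)) (hK : K.all (fun n => n.2.ok) = true) (L : List Tm) :
    evL ρ x (K.flatMap fun n => L.map fun t => ⟨t.b, (n.1 * t.c) % 3, n.2.mul t.g⟩) = opK ρ K (evL ρ x L) := by
  have hcore : ∀ (n : ℕ × M4), n.2.ok = true → ∀ L : List Tm,
      evL ρ x (L.map fun t => (⟨t.b, (n.1 * t.c) % 3, n.2.mul t.g⟩ : Tm)) = (n.1 : ZMod 3) • rM ρ n.2 (evL ρ x L) := by
    intro n hn L
    induction L with
    | nil => simp [evL]
    | cons t L ih2 =>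
      rw [List.map_cons, evL_cons, evL_cons, ih2, map_add, smul_add]
      congr 1
      unfold ev
      show (((n.1 * t.c) % 3 : ℕ) : ZMod 3) • rM ρ (n.2.mul t.g) (x t.b) = _
      rw [castmod3, rM_mul ρ (M4.det_of_ok hn) (M4.toM_mul _ _), map_smul, smul_smul]
      push_cast
      rfl
  induction K with
  | nil => simp [opK, evL]
  | cons n K ih =>
    rw [List.all_cons, Bool.and_eq_true] at hK
    rw [List.flatMap_cons, evL_append, ih hK.2, opK_cons, hcore n hK.1]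

theorem evL_gop (h : Good ρ x) {K : List (ℕ × M4)} (hK : K.all (fun n => n.2.ok) = true) (L : List Tm) :
    evL ρ x (gop K L) = opK ρ K (evL ρ x L) := by
  unfold gop
  rw [evL_norm h, evL_raw K hK]

end

end Cfsg.Agent.H540.E8C.L13
end

-- part: H540/E8C/L13/Data
section
/-!
# The certificate for R2 (computed by machine)
-/

set_option autoImplicit false
set_option maxRecDepth 100000

namespace Cfsg.Agent.H540.E8C.L13

/-- formal sums with equal values -/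
def chkEq (L L' : List Tm) : Bool := (norm (L ++ L'.map fun t => ⟨t.b, (2 * t.c) % 3, t.g⟩)).isEmpty

def KV4 : List (ℕ × M4) := [(1, ⟨1, 0, 0, 1⟩), (1, ⟨5, 0, 0, 8⟩), (1, ⟨0, 1, 12, 0⟩), (1, ⟨0, 5, 5, 0⟩)]
def K26 : List (ℕ × M4) := ((List.range 13).map fun a => (2, ⟨1, a, 0, 1⟩)) ++
  ((List.range 13).map fun a => (2, ⟨5, 8 * a, 0, 8⟩))
def KU : List (ℕ × M4) := (List.range 13).map fun a => (1, ⟨1, a, 0, 1⟩)
def Kw : List (ℕ × M4) := [(1, ⟨0, 1, 12, 0⟩)]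
def KN : List (ℕ × M4) := [(1, ⟨1, 0, 0, 1⟩), (1, ⟨3, 0, 0, 9⟩), (1, ⟨9, 0, 0, 3⟩)]
/-- projection on the vectors fixed by `D14` -/
def K14 : List (ℕ × M4) := [
  (2, ⟨1, 0, 0, 1⟩), (2, ⟨0, 1, 12, 0⟩), (2, ⟨0, 5, 5, 3⟩), (2, ⟨8, 0, 10, 5⟩), (2, ⟨12, 2, 2, 8⟩),
  (2, ⟨11, 12, 5, 2⟩), (2, ⟨10, 1, 1, 8⟩), (2, ⟨12, 10, 5, 1⟩), (2, ⟨5, 1, 1, 3⟩), (2, ⟨12, 5, 10, 1⟩),
  (2, ⟨5, 2, 2, 1⟩), (2, ⟨11, 5, 12, 2⟩), (2, ⟨10, 5, 5, 0⟩), (2, ⟨8, 10, 0, 5⟩)]
/-- projection on `W2` -/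
def KZ : List (ℕ × M4) := ((List.range 13).map fun a => (2, ⟨1, a, 0, 1⟩)) ++
  ((List.range 13).map fun a => (1, ⟨5, 8 * a, 0, 8⟩))

def sgL (L : List Tm) : List Tm := gop KU (gop Kw L) ++ gop KN L

def comb (phis : List (List Tm)) (sol : List (ℕ × ℕ × M4)) : List Tm :=
  norm (sol.flatMap fun s => (phis.getD s.2.1 []).map fun t => ⟨t.b, (s.1 * t.c) % 3, s.2.2.mul t.g⟩)

/-- the arguments -/
def T1 : List Tm := [
  ⟨0, 1, ⟨1, 0, 0, 1⟩⟩, ⟨1, 1, ⟨5, 0, 7, 8⟩⟩, ⟨2, 1, ⟨5, 7, 6, 6⟩⟩, ⟨3, 1, ⟨2, 3, 1, 2⟩⟩, ⟨4, 1, ⟨1, 0, 9, 1⟩⟩]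

def T2 : List Tm := [
  ⟨0, 1, ⟨1, 0, 0, 1⟩⟩, ⟨2, 1, ⟨6, 7, 10, 1⟩⟩]

def T3 : List Tm := [
  ⟨1, 1, ⟨1, 0, 0, 1⟩⟩, ⟨2, 1, ⟨2, 10, 3, 9⟩⟩]

def T4 : List Tm := [⟨4, 1, ⟨1, 0, 0, 1⟩⟩]

def F1 : List Tm := [
  ⟨0, 2, ⟨0, 1, 12, 0⟩⟩, ⟨0, 2, ⟨0, 1, 12, 2⟩⟩, ⟨1, 1, ⟨0, 1, 12, 6⟩⟩, ⟨1, 1, ⟨0, 1, 12, 9⟩⟩,
  ⟨1, 1, ⟨0, 4, 3, 8⟩⟩, ⟨1, 1, ⟨0, 4, 3, 12⟩⟩, ⟨2, 1, ⟨0, 4, 3, 2⟩⟩, ⟨2, 1, ⟨0, 4, 3, 5⟩⟩, ⟨2, 1, ⟨1, 2, 6, 0⟩⟩,
  ⟨2, 1, ⟨1, 2, 8, 4⟩⟩, ⟨3, 2, ⟨1, 0, 2, 1⟩⟩, ⟨3, 1, ⟨1, 0, 11, 1⟩⟩, ⟨3, 1, ⟨2, 0, 1, 7⟩⟩, ⟨3, 2, ⟨2, 0, 12, 7⟩⟩,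
  ⟨4, 1, ⟨1, 0, 4, 1⟩⟩, ⟨4, 1, ⟨1, 0, 9, 1⟩⟩, ⟨4, 1, ⟨4, 0, 1, 10⟩⟩, ⟨4, 1, ⟨4, 0, 12, 10⟩⟩]

def F2 : List Tm := [
  ⟨0, 1, ⟨0, 1, 12, 4⟩⟩, ⟨0, 1, ⟨0, 1, 12, 7⟩⟩, ⟨0, 1, ⟨0, 1, 12, 8⟩⟩, ⟨0, 1, ⟨0, 1, 12, 11⟩⟩,
  ⟨0, 1, ⟨0, 2, 6, 2⟩⟩, ⟨0, 2, ⟨0, 2, 6, 3⟩⟩, ⟨0, 1, ⟨0, 2, 6, 6⟩⟩, ⟨0, 1, ⟨0, 2, 6, 7⟩⟩, ⟨0, 1, ⟨0, 2, 6, 8⟩⟩,
  ⟨0, 2, ⟨0, 2, 6, 11⟩⟩, ⟨0, 1, ⟨0, 2, 6, 12⟩⟩, ⟨0, 2, ⟨0, 4, 3, 0⟩⟩, ⟨0, 1, ⟨0, 4, 3, 2⟩⟩, ⟨0, 1, ⟨0, 4, 3, 3⟩⟩,
  ⟨0, 1, ⟨0, 4, 3, 4⟩⟩, ⟨0, 1, ⟨0, 4, 3, 5⟩⟩, ⟨0, 2, ⟨0, 4, 3, 7⟩⟩, ⟨0, 2, ⟨0, 4, 3, 9⟩⟩, ⟨0, 1, ⟨0, 4, 3, 10⟩⟩,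
  ⟨0, 2, ⟨0, 4, 3, 11⟩⟩, ⟨0, 1, ⟨1, 1, 1, 2⟩⟩, ⟨0, 2, ⟨1, 1, 2, 3⟩⟩, ⟨0, 1, ⟨1, 1, 3, 4⟩⟩, ⟨0, 1, ⟨1, 1, 5, 6⟩⟩,
  ⟨0, 1, ⟨1, 1, 6, 7⟩⟩, ⟨0, 1, ⟨1, 1, 8, 9⟩⟩, ⟨0, 2, ⟨1, 1, 9, 10⟩⟩, ⟨0, 1, ⟨1, 1, 10, 11⟩⟩, ⟨0, 2, ⟨1, 2, 3, 7⟩⟩,
  ⟨0, 1, ⟨1, 2, 4, 9⟩⟩, ⟨0, 2, ⟨1, 2, 7, 2⟩⟩, ⟨0, 1, ⟨1, 2, 10, 8⟩⟩, ⟨0, 2, ⟨1, 2, 11, 10⟩⟩, ⟨0, 1, ⟨1, 5, 1, 6⟩⟩,
  ⟨0, 1, ⟨1, 5, 2, 11⟩⟩, ⟨0, 1, ⟨1, 5, 3, 3⟩⟩, ⟨0, 1, ⟨1, 5, 4, 8⟩⟩, ⟨0, 2, ⟨1, 5, 7, 10⟩⟩, ⟨0, 2, ⟨1, 5, 11, 4⟩⟩,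
  ⟨2, 1, ⟨0, 1, 12, 4⟩⟩, ⟨2, 1, ⟨0, 1, 12, 7⟩⟩, ⟨2, 1, ⟨0, 1, 12, 8⟩⟩, ⟨2, 1, ⟨0, 1, 12, 11⟩⟩,
  ⟨2, 1, ⟨0, 2, 6, 2⟩⟩, ⟨2, 2, ⟨0, 2, 6, 3⟩⟩, ⟨2, 1, ⟨0, 2, 6, 6⟩⟩, ⟨2, 1, ⟨0, 2, 6, 7⟩⟩, ⟨2, 1, ⟨0, 2, 6, 8⟩⟩,
  ⟨2, 2, ⟨0, 2, 6, 11⟩⟩, ⟨2, 1, ⟨0, 2, 6, 12⟩⟩, ⟨2, 2, ⟨0, 4, 3, 0⟩⟩, ⟨2, 1, ⟨0, 4, 3, 2⟩⟩, ⟨2, 1, ⟨0, 4, 3, 3⟩⟩,
  ⟨2, 1, ⟨0, 4, 3, 4⟩⟩, ⟨2, 1, ⟨0, 4, 3, 5⟩⟩, ⟨2, 2, ⟨0, 4, 3, 7⟩⟩, ⟨2, 2, ⟨0, 4, 3, 9⟩⟩, ⟨2, 1, ⟨0, 4, 3, 10⟩⟩,
  ⟨2, 2, ⟨0, 4, 3, 11⟩⟩, ⟨2, 1, ⟨1, 1, 1, 2⟩⟩, ⟨2, 2, ⟨1, 1, 2, 3⟩⟩, ⟨2, 1, ⟨1, 1, 3, 4⟩⟩, ⟨2, 1, ⟨1, 1, 5, 6⟩⟩,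
  ⟨2, 1, ⟨1, 1, 6, 7⟩⟩, ⟨2, 1, ⟨1, 1, 8, 9⟩⟩, ⟨2, 2, ⟨1, 1, 9, 10⟩⟩, ⟨2, 1, ⟨1, 1, 10, 11⟩⟩, ⟨2, 2, ⟨1, 2, 3, 7⟩⟩,
  ⟨2, 1, ⟨1, 2, 4, 9⟩⟩, ⟨2, 2, ⟨1, 2, 7, 2⟩⟩, ⟨2, 1, ⟨1, 2, 10, 8⟩⟩, ⟨2, 2, ⟨1, 2, 11, 10⟩⟩, ⟨2, 1, ⟨1, 5, 1, 6⟩⟩,
  ⟨2, 1, ⟨1, 5, 2, 11⟩⟩, ⟨2, 1, ⟨1, 5, 3, 3⟩⟩, ⟨2, 1, ⟨1, 5, 4, 8⟩⟩, ⟨2, 2, ⟨1, 5, 7, 10⟩⟩, ⟨2, 2, ⟨1, 5, 11, 4⟩⟩]

def F3 : List Tm := [
  ⟨1, 1, ⟨0, 1, 12, 4⟩⟩, ⟨1, 1, ⟨0, 1, 12, 7⟩⟩, ⟨1, 1, ⟨0, 1, 12, 8⟩⟩, ⟨1, 1, ⟨0, 1, 12, 11⟩⟩,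
  ⟨1, 1, ⟨0, 2, 6, 2⟩⟩, ⟨1, 2, ⟨0, 2, 6, 3⟩⟩, ⟨1, 1, ⟨0, 2, 6, 6⟩⟩, ⟨1, 1, ⟨0, 2, 6, 7⟩⟩, ⟨1, 1, ⟨0, 2, 6, 8⟩⟩,
  ⟨1, 2, ⟨0, 2, 6, 11⟩⟩, ⟨1, 1, ⟨0, 2, 6, 12⟩⟩, ⟨1, 2, ⟨0, 4, 3, 0⟩⟩, ⟨1, 1, ⟨0, 4, 3, 2⟩⟩, ⟨1, 1, ⟨0, 4, 3, 3⟩⟩,
  ⟨1, 1, ⟨0, 4, 3, 4⟩⟩, ⟨1, 1, ⟨0, 4, 3, 5⟩⟩, ⟨1, 2, ⟨0, 4, 3, 7⟩⟩, ⟨1, 2, ⟨0, 4, 3, 9⟩⟩, ⟨1, 1, ⟨0, 4, 3, 10⟩⟩,
  ⟨1, 2, ⟨0, 4, 3, 11⟩⟩, ⟨1, 1, ⟨1, 1, 1, 2⟩⟩, ⟨1, 2, ⟨1, 1, 2, 3⟩⟩, ⟨1, 1, ⟨1, 1, 3, 4⟩⟩, ⟨1, 1, ⟨1, 1, 5, 6⟩⟩,
  ⟨1, 1, ⟨1, 1, 6, 7⟩⟩, ⟨1, 1, ⟨1, 1, 8, 9⟩⟩, ⟨1, 2, ⟨1, 1, 9, 10⟩⟩, ⟨1, 1, ⟨1, 1, 10, 11⟩⟩, ⟨1, 2, ⟨1, 2, 3, 7⟩⟩,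
  ⟨1, 1, ⟨1, 2, 4, 9⟩⟩, ⟨1, 2, ⟨1, 2, 7, 2⟩⟩, ⟨1, 1, ⟨1, 2, 10, 8⟩⟩, ⟨1, 2, ⟨1, 2, 11, 10⟩⟩, ⟨1, 1, ⟨1, 5, 1, 6⟩⟩,
  ⟨1, 1, ⟨1, 5, 2, 11⟩⟩, ⟨1, 1, ⟨1, 5, 3, 3⟩⟩, ⟨1, 1, ⟨1, 5, 4, 8⟩⟩, ⟨1, 2, ⟨1, 5, 7, 10⟩⟩, ⟨1, 2, ⟨1, 5, 11, 4⟩⟩,
  ⟨2, 2, ⟨0, 1, 12, 0⟩⟩, ⟨2, 1, ⟨0, 1, 12, 1⟩⟩, ⟨2, 2, ⟨0, 1, 12, 2⟩⟩, ⟨2, 1, ⟨0, 1, 12, 3⟩⟩,
  ⟨2, 2, ⟨0, 1, 12, 5⟩⟩, ⟨2, 1, ⟨0, 1, 12, 6⟩⟩, ⟨2, 1, ⟨0, 1, 12, 7⟩⟩, ⟨2, 1, ⟨0, 1, 12, 8⟩⟩,
  ⟨2, 1, ⟨0, 1, 12, 9⟩⟩, ⟨2, 2, ⟨0, 1, 12, 10⟩⟩, ⟨2, 1, ⟨0, 1, 12, 12⟩⟩, ⟨2, 1, ⟨0, 2, 6, 0⟩⟩,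
  ⟨2, 1, ⟨0, 2, 6, 1⟩⟩, ⟨2, 1, ⟨0, 2, 6, 2⟩⟩, ⟨2, 2, ⟨0, 2, 6, 3⟩⟩, ⟨2, 1, ⟨0, 2, 6, 4⟩⟩, ⟨2, 1, ⟨0, 2, 6, 5⟩⟩,
  ⟨2, 1, ⟨0, 2, 6, 9⟩⟩, ⟨2, 1, ⟨0, 2, 6, 10⟩⟩, ⟨2, 2, ⟨0, 2, 6, 11⟩⟩, ⟨2, 1, ⟨0, 2, 6, 12⟩⟩, ⟨2, 2, ⟨0, 4, 3, 0⟩⟩,
  ⟨2, 1, ⟨0, 4, 3, 1⟩⟩, ⟨2, 1, ⟨0, 4, 3, 3⟩⟩, ⟨2, 1, ⟨0, 4, 3, 4⟩⟩, ⟨2, 1, ⟨0, 4, 3, 6⟩⟩, ⟨2, 2, ⟨0, 4, 3, 7⟩⟩,
  ⟨2, 2, ⟨0, 4, 3, 8⟩⟩, ⟨2, 2, ⟨0, 4, 3, 9⟩⟩, ⟨2, 1, ⟨0, 4, 3, 10⟩⟩, ⟨2, 2, ⟨0, 4, 3, 11⟩⟩, ⟨2, 2, ⟨0, 4, 3, 12⟩⟩,
  ⟨2, 2, ⟨1, 1, 0, 1⟩⟩, ⟨2, 2, ⟨1, 1, 2, 3⟩⟩, ⟨2, 1, ⟨1, 1, 3, 4⟩⟩, ⟨2, 1, ⟨1, 1, 4, 5⟩⟩, ⟨2, 1, ⟨1, 1, 7, 8⟩⟩,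
  ⟨2, 1, ⟨1, 1, 8, 9⟩⟩, ⟨2, 2, ⟨1, 1, 9, 10⟩⟩, ⟨2, 2, ⟨1, 1, 11, 12⟩⟩, ⟨2, 2, ⟨1, 1, 12, 0⟩⟩,
  ⟨2, 2, ⟨1, 2, 0, 1⟩⟩, ⟨2, 2, ⟨1, 2, 1, 3⟩⟩, ⟨2, 1, ⟨1, 2, 2, 5⟩⟩, ⟨2, 2, ⟨1, 2, 3, 7⟩⟩, ⟨2, 1, ⟨1, 2, 5, 11⟩⟩,
  ⟨2, 1, ⟨1, 2, 6, 0⟩⟩, ⟨2, 2, ⟨1, 2, 7, 2⟩⟩, ⟨2, 1, ⟨1, 2, 8, 4⟩⟩, ⟨2, 1, ⟨1, 2, 9, 6⟩⟩, ⟨2, 2, ⟨1, 2, 11, 10⟩⟩,
  ⟨2, 1, ⟨1, 2, 12, 12⟩⟩, ⟨2, 2, ⟨1, 5, 0, 1⟩⟩, ⟨2, 1, ⟨1, 5, 1, 6⟩⟩, ⟨2, 1, ⟨1, 5, 2, 11⟩⟩, ⟨2, 1, ⟨1, 5, 3, 3⟩⟩,
  ⟨2, 1, ⟨1, 5, 4, 8⟩⟩, ⟨2, 2, ⟨1, 5, 5, 0⟩⟩, ⟨2, 1, ⟨1, 5, 6, 5⟩⟩, ⟨2, 2, ⟨1, 5, 7, 10⟩⟩, ⟨2, 1, ⟨1, 5, 8, 2⟩⟩,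
  ⟨2, 1, ⟨1, 5, 9, 7⟩⟩, ⟨2, 1, ⟨1, 5, 10, 12⟩⟩, ⟨2, 2, ⟨1, 5, 11, 4⟩⟩, ⟨2, 1, ⟨1, 5, 12, 9⟩⟩]

def F4 : List Tm := [
  ⟨4, 1, ⟨0, 1, 12, 0⟩⟩, ⟨4, 2, ⟨1, 0, 0, 1⟩⟩, ⟨4, 1, ⟨1, 0, 1, 1⟩⟩, ⟨4, 1, ⟨1, 0, 5, 1⟩⟩, ⟨4, 1, ⟨1, 0, 8, 1⟩⟩,
  ⟨4, 1, ⟨1, 0, 12, 1⟩⟩, ⟨4, 1, ⟨2, 0, 0, 7⟩⟩, ⟨4, 1, ⟨2, 0, 1, 7⟩⟩, ⟨4, 1, ⟨2, 0, 5, 7⟩⟩, ⟨4, 1, ⟨2, 0, 8, 7⟩⟩,
  ⟨4, 1, ⟨2, 0, 12, 7⟩⟩, ⟨4, 1, ⟨4, 0, 0, 10⟩⟩, ⟨4, 1, ⟨4, 0, 1, 10⟩⟩, ⟨4, 1, ⟨4, 0, 5, 10⟩⟩,
  ⟨4, 1, ⟨4, 0, 8, 10⟩⟩, ⟨4, 1, ⟨4, 0, 12, 10⟩⟩]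

def sol0 : List (ℕ × ℕ × M4) := [
  (1, 0, ⟨0, 2, 6, 0⟩), (2, 0, ⟨1, 1, 1, 2⟩), (1, 2, ⟨0, 1, 12, 0⟩), (1, 3, ⟨0, 1, 12, 0⟩), (1, 2, ⟨1, 0, 1, 1⟩),
  (1, 0, ⟨0, 1, 12, 12⟩), (2, 0, ⟨0, 1, 12, 0⟩), (1, 0, ⟨0, 1, 12, 1⟩), (1, 0, ⟨0, 2, 6, 2⟩),
  (2, 0, ⟨0, 4, 3, 2⟩), (2, 0, ⟨0, 4, 3, 9⟩), (2, 0, ⟨0, 2, 6, 11⟩), (1, 0, ⟨1, 2, 5, 11⟩), (2, 0, ⟨0, 1, 12, 2⟩),
  (1, 0, ⟨0, 4, 3, 1⟩), (2, 0, ⟨1, 1, 5, 6⟩), (2, 0, ⟨0, 2, 6, 4⟩), (1, 0, ⟨1, 4, 9, 11⟩), (2, 0, ⟨0, 1, 12, 3⟩)]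

def sol1 : List (ℕ × ℕ × M4) := [
  (1, 0, ⟨0, 1, 12, 4⟩), (1, 3, ⟨1, 0, 5, 1⟩), (1, 0, ⟨0, 1, 12, 2⟩), (2, 0, ⟨0, 1, 12, 3⟩), (2, 0, ⟨0, 2, 6, 3⟩),
  (1, 0, ⟨0, 1, 12, 5⟩), (1, 3, ⟨1, 0, 1, 1⟩), (2, 0, ⟨1, 3, 1, 4⟩), (2, 0, ⟨0, 2, 6, 2⟩), (2, 0, ⟨0, 2, 6, 0⟩),
  (2, 0, ⟨1, 2, 5, 11⟩), (2, 0, ⟨0, 4, 3, 2⟩), (2, 3, ⟨0, 1, 12, 0⟩), (2, 1, ⟨0, 1, 12, 0⟩), (2, 0, ⟨0, 2, 6, 4⟩),
  (1, 0, ⟨1, 3, 9, 2⟩), (2, 0, ⟨1, 4, 9, 11⟩)]

def sol2 : List (ℕ × ℕ × M4) := [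
  (2, 0, ⟨0, 2, 6, 10⟩), (1, 1, ⟨1, 0, 2, 1⟩), (1, 0, ⟨0, 4, 3, 2⟩), (2, 0, ⟨0, 4, 3, 8⟩), (2, 0, ⟨1, 3, 9, 2⟩),
  (1, 0, ⟨0, 2, 6, 0⟩), (2, 0, ⟨0, 2, 6, 2⟩), (2, 0, ⟨1, 2, 5, 11⟩), (2, 0, ⟨0, 1, 12, 3⟩), (1, 0, ⟨0, 1, 12, 0⟩),
  (2, 3, ⟨1, 0, 1, 1⟩), (1, 2, ⟨0, 2, 6, 0⟩), (2, 0, ⟨0, 4, 3, 1⟩)]

def sol3 : List (ℕ × ℕ × M4) := [
  (2, 0, ⟨0, 1, 12, 4⟩), (1, 0, ⟨0, 2, 6, 2⟩), (2, 0, ⟨0, 1, 12, 3⟩), (1, 0, ⟨0, 1, 12, 2⟩)]

def sol4 : List (ℕ × ℕ × M4) := [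
  (2, 0, ⟨0, 4, 3, 2⟩), (1, 3, ⟨0, 2, 6, 0⟩), (2, 0, ⟨0, 1, 12, 6⟩), (1, 2, ⟨4, 0, 0, 10⟩), (1, 2, ⟨1, 0, 0, 1⟩),
  (1, 0, ⟨0, 1, 12, 5⟩), (1, 3, ⟨2, 0, 0, 7⟩), (2, 0, ⟨0, 4, 3, 0⟩), (1, 0, ⟨0, 1, 12, 0⟩), (2, 0, ⟨0, 1, 12, 3⟩),
  (1, 0, ⟨0, 2, 6, 4⟩), (1, 2, ⟨0, 4, 3, 0⟩), (1, 0, ⟨0, 1, 12, 2⟩)]

theorem chk1 : chkEq (gop KV4 T1) F1 = true := by decide +kernel
private theorem _root_.Cfsg.Agent.KO55d2af1.e6.{ku} {M : Nat → Sort ku} (φ : ∀ n, M n) {z : M Nat.zero} {s : ∀ n, M n → M (Nat.succ n)} (h0 : φ Nat.zero = z) (hs : ∀ n, φ (Nat.succ n) = s n (φ n)) (n : Nat) : φ n = @Nat.rec M z s n := Nat.rec h0 (fun n ih => (hs n).trans (congrArg (s n) ih)) n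
private theorem _root_.Cfsg.Agent.KO55d2af1.e15.{ku, kv} {α : Type kv} {M : List α → Sort ku} (φ : ∀ l, M l) {z : M List.nil} {s : ∀ a l, M l → M (List.cons a l)} (h0 : φ List.nil = z) (hs : ∀ a l, φ (List.cons a l) = s a l (φ l)) (l : List α) : φ l = @List.rec α M z s l := List.rec h0 (fun a l ih => (hs a l).trans (congrArg (s a l) ih)) l
private noncomputable def _root_.Cfsg.Agent.KO55d2af1.k29.{ku0, ku1} : ((x0 : Sort (ku0+1)) → ((x1 : Sort (ku1+1)) → ((x0 → x1) → ((@List.{ku0} @x0) → @List.{ku1} @x1)))) := @(fun (x0 : Sort (ku0+1)) (x1 : Sort (ku1+1)) (x2 : (x0 → x1)) (x3 : @List.{ku0} @x0) => @List.rec.{(ku1+1), ku0} @x0 @(fun (x4 : @List.{ku0} @x0) => @List.{ku1} @x1) (@List.nil.{ku1} @x1) @(fun (x4 : x0) (x5 : @List.{ku0} @x0) (x6 : @List.{ku1} @x1) => @List.cons.{ku1} @x1 (@x2 @x4) @x6) @x3)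
private theorem _root_.Cfsg.Agent.KO55d2af1.e29.{ku0, ku1} : @List.map.{ku0, ku1} = @_root_.Cfsg.Agent.KO55d2af1.k29.{ku0, ku1} := by delta _root_.Cfsg.Agent.KO55d2af1.k29; funext a0 a1 a2 a3; refine (_root_.Cfsg.Agent.KO55d2af1.e15 (fun a3 => @List.map.{ku0, ku1} a0 a1 a2 a3) ?_ (fun c0 c1 => ?_) a3 :) <;> (rfl')
private noncomputable def _root_.Cfsg.Agent.KO55d2af1.k30 : (@Nat → ((@List.{0} @Nat) → @List.{0} @Nat)) := @(fun (x0 : @Nat) (x1 : @List.{0} @Nat) => @Nat.rec.{1} @(fun (x2 : @Nat) => ((@List.{0} @Nat) → @List.{0} @Nat)) @(fun (x2 : @List.{0} @Nat) => x2) @(fun (x2 : @Nat) (x3 : ((@List.{0} @Nat) → @List.{0} @Nat)) (x4 : @List.{0} @Nat) => @x3 (@List.cons.{0} @Nat @x2 @x4)) @x0 @x1)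
private theorem _root_.Cfsg.Agent.KO55d2af1.e30 : @List.range.loop = @_root_.Cfsg.Agent.KO55d2af1.k30 := by delta _root_.Cfsg.Agent.KO55d2af1.k30; funext a0 a1; refine (congrFun (_root_.Cfsg.Agent.KO55d2af1.e6 (fun a0 a1 => @List.range.loop a0 a1) ?_ (fun c0 => ?_) a0) a1 :) <;> (rfl')
private noncomputable def _root_.Cfsg.Agent.KO55d2af1.k31 : (@Nat → @List.{0} @Nat) := @(fun (x0 : @Nat) => @Cfsg.Agent.KO55d2af1.k30 @x0 (@List.nil.{0} @Nat))
private theorem _root_.Cfsg.Agent.KO55d2af1.e31 : @List.range = @_root_.Cfsg.Agent.KO55d2af1.k31 := by delta _root_.Cfsg.Agent.KO55d2af1.k31; rewrite [← Cfsg.Agent.KO55d2af1.e30]; rfl'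
private noncomputable def _root_.Cfsg.Agent.KO55d2af1.k32.{ku0, ku1} : ((x0 : Sort (ku0+1)) → ((x1 : Sort (ku1+1)) → ((x0 → (x1 → x0)) → (x0 → ((@List.{ku1} @x1) → x0))))) := @(fun (x0 : Sort (ku0+1)) (x1 : Sort (ku1+1)) (x2 : (x0 → (x1 → x0))) (x3 : x0) (x4 : @List.{ku1} @x1) => @List.rec.{(ku0+1), ku1} @x1 @(fun (x5 : @List.{ku1} @x1) => (x0 → x0)) @(fun (x5 : x0) => x5) @(fun (x5 : x1) (x6 : @List.{ku1} @x1) (x7 : (x0 → x0)) (x8 : x0) => @x7 (@x2 @x8 @x5)) @x4 @x3)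
private theorem _root_.Cfsg.Agent.KO55d2af1.e32.{ku0, ku1} : @List.foldl.{ku0, ku1} = @_root_.Cfsg.Agent.KO55d2af1.k32.{ku0, ku1} := by delta _root_.Cfsg.Agent.KO55d2af1.k32; funext a0 a1 a2 a3 a4; refine (congrFun (_root_.Cfsg.Agent.KO55d2af1.e15 (fun a4 a3 => @List.foldl.{ku0, ku1} a0 a1 a2 a3 a4) ?_ (fun c0 c1 => ?_) a4) a3 :) <;> (rfl')
private noncomputable def _root_.Cfsg.Agent.KO55d2af1.k33 : (by first | exact type_of% @Cfsg.Agent.H540.E8C.L13.M4.mul | exact Unit : Sort _) := by first | (refine @Subtype.val _ (fun g => @Cfsg.Agent.H540.E8C.L13.M4.mul = @g) (@Subtype.mk _ _ (@(fun (x0 : @Cfsg.Agent.H540.E8C.L13.M4) (x1 : @Cfsg.Agent.H540.E8C.L13.M4) => @Cfsg.Agent.H540.E8C.L13.M4.mk (@Nat.mod (@Nat.add (@Nat.mul (@Cfsg.Agent.H540.E8C.L13.M4.a @x0) (@Cfsg.Agent.H540.E8C.L13.M4.a @x1)) (@Nat.mul (@Cfsg.Agent.H540.E8C.L13.M4.b @x0) (@Cfsg.Agent.H540.E8C.L13.M4.c @x1))) (nat_lit 13)) (@Nat.mod (@Nat.add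 (@Nat.mul (@Cfsg.Agent.H540.E8C.L13.M4.a @x0) (@Cfsg.Agent.H540.E8C.L13.M4.b @x1)) (@Nat.mul (@Cfsg.Agent.H540.E8C.L13.M4.b @x0) (@Cfsg.Agent.H540.E8C.L13.M4.d @x1))) (nat_lit 13)) (@Nat.mod (@Nat.add (@Nat.mul (@Cfsg.Agent.H540.E8C.L13.M4.c @x0) (@Cfsg.Agent.H540.E8C.L13.M4.a @x1)) (@Nat.mul (@Cfsg.Agent.H540.E8C.L13.M4.d @x0) (@Cfsg.Agent.H540.E8C.L13.M4.c @x1))) (nat_lit 13)) (@Nat.mod (@Nat.add (@Nat.mul (@Cfsg.Agent.H540.E8C.L13.M4.c @x0) (@Cfsg.Agent.H540.E8C.L13.M4.b @x1)) (@Nat.mul (@Cfsg.Agent.H540.E8C.L13.M4.d @x0) (@Cfsg.Agent.H540.E8C.L13.M4.d @x1))) (nat_lit 13)))) ?_); rfl') | exact @Cfsg.Agent.H540.E8C.L13.M4.mul | exact ()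
private theorem _root_.Cfsg.Agent.KO55d2af1.e33 : (by first | exact @Cfsg.Agent.H540.E8C.L13.M4.mul = @_root_.Cfsg.Agent.KO55d2af1.k33 | exact True : Prop) := by first | (delta _root_.Cfsg.Agent.KO55d2af1.k33; exact @Subtype.property _ (fun g => @Cfsg.Agent.H540.E8C.L13.M4.mul = @g) _) | rfl | trivial
private noncomputable def _root_.Cfsg.Agent.KO55d2af1.k34 : (by first | exact type_of% @Cfsg.Agent.H540.E8C.L13.M4.adj | exact Unit : Sort _) := by first | (refine @Subtype.val _ (fun g => @Cfsg.Agent.H540.E8C.L13.M4.adj = @g) (@Subtype.mk _ _ (@(fun (x0 : @Cfsg.Agent.H540.E8C.L13.M4) => @Cfsg.Agent.H540.E8C.L13.M4.mk (@Nat.mod (@Cfsg.Agent.H540.E8C.L13.M4.d @x0) (nat_lit 13)) (@Nat.mod (@Nat.mul (nat_lit 12) (@Cfsg.Agent.H540.E8C.L13.M4.b @x0)) (nat_lit 13)) (@Nat.mod (@Nat.mul (nat_lit 12) (@Cfsg.Agent.H540.E8C.L13.M4.c @x0)) (nat_lit 13)) (@Nat.mod (@Cfsg.Agent.H540.E8C.L13.M4.a @x0) (nat_lit 13))))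 ?_); rfl') | exact @Cfsg.Agent.H540.E8C.L13.M4.adj | exact ()
private theorem _root_.Cfsg.Agent.KO55d2af1.e34 : (by first | exact @Cfsg.Agent.H540.E8C.L13.M4.adj = @_root_.Cfsg.Agent.KO55d2af1.k34 | exact True : Prop) := by first | (delta _root_.Cfsg.Agent.KO55d2af1.k34; exact @Subtype.property _ (fun g => @Cfsg.Agent.H540.E8C.L13.M4.adj = @g) _) | rfl | trivial
private noncomputable def _root_.Cfsg.Agent.KO55d2af1.k35 : (by first | exact type_of% @Cfsg.Agent.H540.E8C.L13.kchar | exact Unit : Sort _) := by first | (refine @Subtype.val _ (fun g => @Cfsg.Agent.H540.E8C.L13.kchar = @g) (@Subtype.mk _ _ (@(fun (x0 : @Nat) (x1 : @Cfsg.Agent.H540.E8C.L13.M4) => @Bool.rec.{1} @(fun (x2 : @Bool) => @Nat) (@Bool.rec.{1} @(fun (x2 : @Bool) => @Nat) (nat_lit 0) (@Bool.rec.{1} @(fun (x2 : @Bool) => @Nat) (@Bool.rec.{1} @(fun (x2 : @Bool) => @Nat) (nat_lit 0) (@Bool.rec.{1} @(fun (x2 : @Bool) => @Nat) (@Bool.rec.{1}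 @(fun (x2 : @Bool) => @Nat) (nat_lit 0) (nat_lit 1) (@Nat.beq @x0 (nat_lit 4))) (nat_lit 2) (@Nat.beq @x0 (nat_lit 3))) (@Bool.rec.{1} @(fun (x2 : @Bool) => @Bool) (@Nat.beq (@Nat.mod (@Cfsg.Agent.H540.E8C.L13.M4.a @x1) (nat_lit 13)) (nat_lit 8)) @Bool.true (@Nat.beq (@Nat.mod (@Cfsg.Agent.H540.E8C.L13.M4.a @x1) (nat_lit 13)) (nat_lit 5)))) (nat_lit 1) (@Bool.rec.{1} @(fun (x2 : @Bool) => @Bool) (@Nat.beq (@Nat.mod (@Cfsg.Agent.H540.E8C.L13.M4.a @x1) (nat_lit 13)) (nat_lit 12)) @Bool.true (@Nat.beq (@Nat.mod (@Cfsg.Agent.H540.E8C.L13.M4.a @x1) (nat_lit 13)) (nat_lit 1)))) (@Nat.beq (@Nat.mod (@Cfsg.Agent.H540.E8C.L13.M4.c @x1) (nat_lit 13)) (nat_lit 0))) (let x2 : @Cfsg.Agent.H540.E8C.L13.M4 := @Cfsg.Agent.KO55d2af1.k33 @x1 @Cfsg.Agent.H540.E8C.L13.m0; (let x3 : @Cfsg.Agent.H540.E8C.L13.M4 := @Cfsg.Agent.KO55d2af1.k33 @Cfsg.Agent.H540.E8C.L13.m0 @x1; @Bool.rec.{1} @(fun (x4 : @Bool) => @Nat) (@Bool.rec.{1}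 @(fun (x4 : @Bool) => @Nat) (nat_lit 0) (nat_lit 1) (@Bool.rec.{1} @(fun (x4 : @Bool) => @Bool) @Bool.false (@Nat.beq (@Nat.mod (@Nat.add (@Cfsg.Agent.H540.E8C.L13.M4.d @x2) (@Cfsg.Agent.H540.E8C.L13.M4.d @x3)) (nat_lit 13)) (nat_lit 0)) (@Bool.rec.{1} @(fun (x4 : @Bool) => @Bool) @Bool.false (@Nat.beq (@Nat.mod (@Nat.add (@Cfsg.Agent.H540.E8C.L13.M4.c @x2) (@Cfsg.Agent.H540.E8C.L13.M4.c @x3)) (nat_lit 13)) (nat_lit 0)) (@Bool.rec.{1} @(fun (x4 : @Bool) => @Bool) @Bool.false (@Nat.beq (@Nat.mod (@Nat.add (@Cfsg.Agent.H540.E8C.L13.M4.b @x2) (@Cfsg.Agent.H540.E8C.L13.M4.b @x3)) (nat_lit 13)) (nat_lit 0)) (@Nat.beq (@Nat.mod (@Nat.add (@Cfsg.Agent.H540.E8C.L13.M4.a @x2) (@Cfsg.Agent.H540.E8C.L13.M4.a @x3)) (nat_lit 13)) (nat_lit 0)))))) (nat_lit 1) (@Bool.rec.{1} @(fun (x4 : @Bool) => @Bool) @Bool.false (@Nat.beq (@Cfsg.Agent.H540.E8C.L13.M4.d @x2) (@Cfsg.Agent.H540.E8C.L13.M4.d @x3)) (@Bool.rec.{1}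 @(fun (x4 : @Bool) => @Bool) @Bool.false (@Nat.beq (@Cfsg.Agent.H540.E8C.L13.M4.c @x2) (@Cfsg.Agent.H540.E8C.L13.M4.c @x3)) (@Bool.rec.{1} @(fun (x4 : @Bool) => @Bool) @Bool.false (@Nat.beq (@Cfsg.Agent.H540.E8C.L13.M4.b @x2) (@Cfsg.Agent.H540.E8C.L13.M4.b @x3)) (@Nat.beq (@Cfsg.Agent.H540.E8C.L13.M4.a @x2) (@Cfsg.Agent.H540.E8C.L13.M4.a @x3))))))) (@Nat.ble (@Nat.succ @x0) (nat_lit 3)))) ?_); rewrite [← Cfsg.Agent.KO55d2af1.e33]; (try delta Cfsg.Agent.H540.E8C.L13.kchar); (try generalize @Cfsg.Agent.H540.E8C.L13.M4.mul = g0); (try generalize @Cfsg.Agent.H540.E8C.L13.m0 = g1); rfl') | exact @Cfsg.Agent.H540.E8C.L13.kchar | exact ()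
private theorem _root_.Cfsg.Agent.KO55d2af1.e35 : (by first | exact @Cfsg.Agent.H540.E8C.L13.kchar = @_root_.Cfsg.Agent.KO55d2af1.k35 | exact True : Prop) := by first | (delta _root_.Cfsg.Agent.KO55d2af1.k35; exact @Subtype.property _ (fun g => @Cfsg.Agent.H540.E8C.L13.kchar = @g) _) | rfl | trivial
private noncomputable def _root_.Cfsg.Agent.KO55d2af1.k36 : (by first | exact type_of% @Cfsg.Agent.H540.E8C.L13.M4.ok | exact Unit : Sort _) := by first | (refine @Subtype.val _ (fun g => @Cfsg.Agent.H540.E8C.L13.M4.ok = @g) (@Subtype.mk _ _ (@(fun (x0 : @Cfsg.Agent.H540.E8C.L13.M4) => @Nat.beq (@Nat.mod (@Nat.add (@Nat.mul (@Cfsg.Agent.H540.E8C.L13.M4.a @x0) (@Cfsg.Agent.H540.E8C.L13.M4.d @x0)) (@Nat.mul (nat_lit 12) (@Nat.mul (@Cfsg.Agent.H540.E8C.L13.M4.b @x0) (@Cfsg.Agent.H540.E8C.L13.M4.c @x0)))) (nat_lit 13)) (nat_lit 1))) ?_); rfl') | exact @Cfsg.Agent.H540.E8C.L13.M4.ok | exact ()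
private theorem _root_.Cfsg.Agent.KO55d2af1.e36 : (by first | exact @Cfsg.Agent.H540.E8C.L13.M4.ok = @_root_.Cfsg.Agent.KO55d2af1.k36 | exact True : Prop) := by first | (delta _root_.Cfsg.Agent.KO55d2af1.k36; exact @Subtype.property _ (fun g => @Cfsg.Agent.H540.E8C.L13.M4.ok = @g) _) | rfl | trivial
private noncomputable def _root_.Cfsg.Agent.KO55d2af1.k37 : (by first | exact type_of% @Cfsg.Agent.H540.E8C.L13.eqs | exact Unit : Sort _) := by first | (refine @Subtype.val _ (fun g => @Cfsg.Agent.H540.E8C.L13.eqs = @g) (@Subtype.mk _ _ (@(fun (x0 : @Nat) (x1 : @Cfsg.Agent.H540.E8C.L13.M4) (x2 : @Cfsg.Agent.H540.E8C.L13.M4) => (let x3 : @Cfsg.Agent.H540.E8C.L13.M4 := @Cfsg.Agent.KO55d2af1.k33 (@Cfsg.Agent.KO55d2af1.k34 @x1) @x2; @Bool.rec.{1} @(fun (x4 : @Bool) => @Nat) (nat_lit 0) (@Cfsg.Agent.KO55d2af1.k35 @x0 @x3) (@Bool.rec.{1} @(fun (x4 : @Bool) => @Bool) @Bool.false (@Cfsg.Agent.KO55d2af1.k36 @x3)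 (@Cfsg.Agent.KO55d2af1.k36 @x1))))) ?_); rewrite [← Cfsg.Agent.KO55d2af1.e33, ← Cfsg.Agent.KO55d2af1.e34, ← Cfsg.Agent.KO55d2af1.e35, ← Cfsg.Agent.KO55d2af1.e36]; (try delta Cfsg.Agent.H540.E8C.L13.eqs); (try generalize @Cfsg.Agent.H540.E8C.L13.M4.mul = g0); (try generalize @Cfsg.Agent.H540.E8C.L13.M4.adj = g1); (try generalize @Cfsg.Agent.H540.E8C.L13.kchar = g2); (try generalize @Cfsg.Agent.H540.E8C.L13.M4.ok = g3); rfl') | exact @Cfsg.Agent.H540.E8C.L13.eqs | exact ()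
private theorem _root_.Cfsg.Agent.KO55d2af1.e37 : (by first | exact @Cfsg.Agent.H540.E8C.L13.eqs = @_root_.Cfsg.Agent.KO55d2af1.k37 | exact True : Prop) := by first | (delta _root_.Cfsg.Agent.KO55d2af1.k37; exact @Subtype.property _ (fun g => @Cfsg.Agent.H540.E8C.L13.eqs = @g) _) | rfl | trivial
private noncomputable def _root_.Cfsg.Agent.KO55d2af1.k38 : (by first | exact type_of% @Cfsg.Agent.H540.E8C.L13.addT | exact Unit : Sort _) := by first | (refine @Subtype.val _ (fun g => @Cfsg.Agent.H540.E8C.L13.addT = @g) (@Subtype.mk _ _ (@(fun (x0 : @Cfsg.Agent.H540.E8C.L13.Tm) (x1 : @List.{0} @Cfsg.Agent.H540.E8C.L13.Tm) => @List.rec.{1, 0} @Cfsg.Agent.H540.E8C.L13.Tm @(fun (x2 : @List.{0} @Cfsg.Agent.H540.E8C.L13.Tm) => @List.{0} @Cfsg.Agent.H540.E8C.L13.Tm) (@List.cons.{0} @Cfsg.Agent.H540.E8C.L13.Tm @x0 (@List.nil.{0} @Cfsg.Agent.H540.E8C.L13.Tm)) @(fun (x2 : @Cfsg.Agent.H540.E8C.L13.Tm) (x3 : @List.{0}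 @Cfsg.Agent.H540.E8C.L13.Tm) (x4 : @List.{0} @Cfsg.Agent.H540.E8C.L13.Tm) => (let x5 : @Nat := @Cfsg.Agent.KO55d2af1.k37 (@Cfsg.Agent.H540.E8C.L13.Tm.b @x2) (@Cfsg.Agent.H540.E8C.L13.Tm.g @x2) (@Cfsg.Agent.H540.E8C.L13.Tm.g @x0); @Bool.rec.{1} @(fun (x6 : @Bool) => @List.{0} @Cfsg.Agent.H540.E8C.L13.Tm) (@List.cons.{0} @Cfsg.Agent.H540.E8C.L13.Tm @x2 @x4) (@List.cons.{0} @Cfsg.Agent.H540.E8C.L13.Tm (@Cfsg.Agent.H540.E8C.L13.Tm.mk (@Cfsg.Agent.H540.E8C.L13.Tm.b @x2) (@Nat.mod (@Nat.add (@Cfsg.Agent.H540.E8C.L13.Tm.c @x2) (@Nat.mul @x5 (@Cfsg.Agent.H540.E8C.L13.Tm.c @x0))) (nat_lit 3)) (@Cfsg.Agent.H540.E8C.L13.Tm.g @x2)) @x3) (@Bool.rec.{1} @(fun (x6 : @Bool) => @Bool) @Bool.false (@Nat.ble (@Nat.succ (nat_lit 0)) @x5) (@Nat.beq (@Cfsg.Agent.H540.E8C.L13.Tm.b @x2) (@Cfsg.Agent.H540.E8C.L13.Tm.b @x0))))) @x1)) ?_); rewrite [← Cfsg.Agent.KO55d2af1.e37]; funext a0 a1; refine (_root_.Cfsg.Agent.KO55d2af1.e15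 (fun a1 => @Cfsg.Agent.H540.E8C.L13.addT a0 a1) ?_ (fun c0 c1 => ?_) a1 :) <;> ((try delta Cfsg.Agent.H540.E8C.L13.addT Cfsg.Agent.H540.E8C.L13.addT._f); (try generalize @Cfsg.Agent.H540.E8C.L13.eqs = g0); rfl')) | exact @Cfsg.Agent.H540.E8C.L13.addT | exact ()
private theorem _root_.Cfsg.Agent.KO55d2af1.e38 : (by first | exact @Cfsg.Agent.H540.E8C.L13.addT = @_root_.Cfsg.Agent.KO55d2af1.k38 | exact True : Prop) := by first | (delta _root_.Cfsg.Agent.KO55d2af1.k38; exact @Subtype.property _ (fun g => @Cfsg.Agent.H540.E8C.L13.addT = @g) _) | rfl | trivial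
private noncomputable def _root_.Cfsg.Agent.KO55d2af1.k40 : (by first | exact type_of% @Cfsg.Agent.H540.E8C.L13.Tr.ins | exact Unit : Sort _) := by first | (refine @Subtype.val _ (fun g => @Cfsg.Agent.H540.E8C.L13.Tr.ins = @g) (@Subtype.mk _ _ (@(fun (x0 : @Nat) (x1 : @Cfsg.Agent.H540.E8C.L13.Tm) (x2 : @Nat) (x3 : @Cfsg.Agent.H540.E8C.L13.Tr) => @Nat.rec.{1} @(fun (x4 : @Nat) => (@Cfsg.Agent.H540.E8C.L13.Tr → @Cfsg.Agent.H540.E8C.L13.Tr)) @(fun (x4 : @Cfsg.Agent.H540.E8C.L13.Tr) => @Cfsg.Agent.H540.E8C.L13.Tr.rec.{1} @(fun (x5 : @Cfsg.Agent.H540.E8C.L13.Tr) => @Cfsg.Agent.H540.E8C.L13.Tr) (@Cfsg.Agent.H540.E8C.L13.Tr.node (@List.cons.{0} @Cfsg.Agent.H540.E8C.L13.Tm @x1 (@List.nil.{0} @Cfsg.Agent.H540.E8C.L13.Tm)) @Cfsg.Agent.H540.E8C.L13.Tr.nil @Cfsg.Agent.H540.E8C.L13.Tr.nil) @(fun (x5 : @List.{0} @Cfsg.Agent.H540.E8C.L13.Tm) (x6 : @Cfsg.Agent.H540.E8C.L13.Tr) (x7 : @Cfsg.Agent.H540.E8C.L13.Tr) (x8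 : @Cfsg.Agent.H540.E8C.L13.Tr) (x9 : @Cfsg.Agent.H540.E8C.L13.Tr) => @Cfsg.Agent.H540.E8C.L13.Tr.node (@Cfsg.Agent.KO55d2af1.k38 @x1 @x5) @x6 @x7) @x4) @(fun (x4 : @Nat) (x5 : (@Cfsg.Agent.H540.E8C.L13.Tr → @Cfsg.Agent.H540.E8C.L13.Tr)) (x6 : @Cfsg.Agent.H540.E8C.L13.Tr) => @Cfsg.Agent.H540.E8C.L13.Tr.rec.{1} @(fun (x7 : @Cfsg.Agent.H540.E8C.L13.Tr) => @Cfsg.Agent.H540.E8C.L13.Tr) (@Bool.rec.{1} @(fun (x7 : @Bool) => @Cfsg.Agent.H540.E8C.L13.Tr) (@Cfsg.Agent.H540.E8C.L13.Tr.node (@List.nil.{0} @Cfsg.Agent.H540.E8C.L13.Tm) @Cfsg.Agent.H540.E8C.L13.Tr.nil (@x5 @Cfsg.Agent.H540.E8C.L13.Tr.nil)) (@Cfsg.Agent.H540.E8C.L13.Tr.node (@List.nil.{0} @Cfsg.Agent.H540.E8C.L13.Tm) (@x5 @Cfsg.Agent.H540.E8C.L13.Tr.nil) @Cfsg.Agent.H540.E8C.L13.Tr.nil) (@Nat.beq (@Nat.land (@Nat.shiftRight @x0 @x4) (nat_lit 1)) (nat_lit 0))) @(fun (x7 : @List.{0} @Cfsg.Agent.H540.E8C.L13.Tm) (x8 : @Cfsg.Agent.H540.E8C.L13.Tr) (x9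 : @Cfsg.Agent.H540.E8C.L13.Tr) (x10 : @Cfsg.Agent.H540.E8C.L13.Tr) (x11 : @Cfsg.Agent.H540.E8C.L13.Tr) => @Bool.rec.{1} @(fun (x12 : @Bool) => @Cfsg.Agent.H540.E8C.L13.Tr) (@Cfsg.Agent.H540.E8C.L13.Tr.node @x7 @x8 (@x5 @x9)) (@Cfsg.Agent.H540.E8C.L13.Tr.node @x7 (@x5 @x8) @x9) (@Nat.beq (@Nat.land (@Nat.shiftRight @x0 @x4) (nat_lit 1)) (nat_lit 0))) @x6) @x2 @x3)) ?_); rewrite [← Cfsg.Agent.KO55d2af1.e38]; funext a0 a1 a2 a3; refine (congrFun (_root_.Cfsg.Agent.KO55d2af1.e6 (fun a2 a3 => @Cfsg.Agent.H540.E8C.L13.Tr.ins a0 a1 a2 a3) ?_ (fun c0 => ?_) a2) a3 :) <;> [(funext b0; (cases b0 with | @nil  => ((try delta Cfsg.Agent.H540.E8C.L13.Tr.ins Cfsg.Agent.H540.E8C.L13.Tr.ins._f); (try generalize @Cfsg.Agent.H540.E8C.L13.addT = g0); rfl') | @node b0_0 b0_1 b0_2 => ((try delta Cfsg.Agent.H540.E8C.L13.Tr.ins Cfsg.Agent.H540.E8C.L13.Tr.ins._f); (try generalize @Cfsg.Agent.H540.E8C.L13.addT = g0); rfl')));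 (funext b0; (cases b0 with | @nil  => ((try delta Cfsg.Agent.H540.E8C.L13.Tr.ins Cfsg.Agent.H540.E8C.L13.Tr.ins._f); (try generalize @Cfsg.Agent.H540.E8C.L13.addT = g0); rfl') | @node b0_0 b0_1 b0_2 => ((try delta Cfsg.Agent.H540.E8C.L13.Tr.ins Cfsg.Agent.H540.E8C.L13.Tr.ins._f); (try generalize @Cfsg.Agent.H540.E8C.L13.addT = g0); rfl')))]) | exact @Cfsg.Agent.H540.E8C.L13.Tr.ins | exact ()
private theorem _root_.Cfsg.Agent.KO55d2af1.e40 : (by first | exact @Cfsg.Agent.H540.E8C.L13.Tr.ins = @_root_.Cfsg.Agent.KO55d2af1.k40 | exact True : Prop) := by first | (delta _root_.Cfsg.Agent.KO55d2af1.k40; exact @Subtype.property _ (fun g => @Cfsg.Agent.H540.E8C.L13.Tr.ins = @g) _) | rfl | trivial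
private noncomputable def _root_.Cfsg.Agent.KO55d2af1.oLe.{ku} (α : Sort ku) (a b : Nat) (f t : α) : α := @Decidable.rec (@LE.le Nat instLENat a b) (fun _ => α) (fun _ => f) (fun _ => t) (Nat.decLe a b)
private noncomputable def _root_.Cfsg.Agent.KO55d2af1.k41.{ku} (α : Sort ku) (a b : Nat) (f t : α) : α := @Bool.rec (fun _ => α) f t (Nat.ble a b)
private theorem _root_.Cfsg.Agent.KO55d2af1.e41.{ku} : @_root_.Cfsg.Agent.KO55d2af1.oLe.{ku} = @_root_.Cfsg.Agent.KO55d2af1.k41.{ku} := funext fun α => funext fun a => funext fun b => funext fun f => funext fun t => by delta _root_.Cfsg.Agent.KO55d2af1.oLe _root_.Cfsg.Agent.KO55d2af1.k41; cases h : Nat.ble a b <;> cases Nat.decLe a b <;> rename_i g <;> first | rfl | exact absurd (h.symm.trans (Nat.ble_eq_true_of_le g)) Bool.false_ne_true | exact absurd (Nat.le_of_ble_eq_true h) g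
private noncomputable def _root_.Cfsg.Agent.KO55d2af1.k42 : (by first | exact type_of% @Cfsg.Agent.H540.E8C.L13.key | exact Unit : Sort _) := by first | (refine @Subtype.val _ (fun g => @Cfsg.Agent.H540.E8C.L13.key = @g) (@Subtype.mk _ _ (@(fun (x0 : @Cfsg.Agent.H540.E8C.L13.Tm) => @Bool.rec.{1} @(fun (x1 : @Bool) => @Nat) (@Nat.add (@Cfsg.Agent.KO55d2af1.k41.{1} @Nat (@Cfsg.Agent.KO55d2af1.k41.{1} @Nat (@Nat.add (@Nat.mul (@Cfsg.Agent.H540.E8C.L13.M4.a (@Cfsg.Agent.H540.E8C.L13.Tm.g @x0)) (nat_lit 13)) (@Cfsg.Agent.H540.E8C.L13.M4.c (@Cfsg.Agent.H540.E8C.L13.Tm.g @x0))) (@Nat.add (@Nat.mul (@Nat.mod (@Nat.sub (nat_lit 13) (@Cfsg.Agent.H540.E8C.L13.M4.a (@Cfsg.Agent.H540.E8C.L13.Tm.g @x0))) (nat_lit 13)) (nat_lit 13)) (@Nat.mod (@Nat.sub (nat_lit 13) (@Cfsg.Agent.H540.E8C.L13.M4.c (@Cfsg.Agent.H540.E8C.L13.Tm.g @x0))) (nat_lit 13))) (@Nat.add (@Nat.mul (@Nat.mod (@Nat.sub (nat_lit 13) (@Cfsg.Agent.H540.E8C.L13.M4.a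 (@Cfsg.Agent.H540.E8C.L13.Tm.g @x0))) (nat_lit 13)) (nat_lit 13)) (@Nat.mod (@Nat.sub (nat_lit 13) (@Cfsg.Agent.H540.E8C.L13.M4.c (@Cfsg.Agent.H540.E8C.L13.Tm.g @x0))) (nat_lit 13))) (@Nat.add (@Nat.mul (@Cfsg.Agent.H540.E8C.L13.M4.a (@Cfsg.Agent.H540.E8C.L13.Tm.g @x0)) (nat_lit 13)) (@Cfsg.Agent.H540.E8C.L13.M4.c (@Cfsg.Agent.H540.E8C.L13.Tm.g @x0)))) (@Cfsg.Agent.KO55d2af1.k41.{1} @Nat (@Nat.add (@Nat.mul (@Nat.mod (@Nat.mul (nat_lit 5) (@Cfsg.Agent.H540.E8C.L13.M4.a (@Cfsg.Agent.H540.E8C.L13.Tm.g @x0))) (nat_lit 13)) (nat_lit 13)) (@Nat.mod (@Nat.mul (nat_lit 5) (@Cfsg.Agent.H540.E8C.L13.M4.c (@Cfsg.Agent.H540.E8C.L13.Tm.g @x0))) (nat_lit 13))) (@Nat.add (@Nat.mul (@Nat.mod (@Nat.mul (nat_lit 8) (@Cfsg.Agent.H540.E8C.L13.M4.a (@Cfsg.Agent.H540.E8C.L13.Tm.g @x0))) (nat_lit 13)) (nat_lit 13)) (@Nat.mod (@Nat.mul (nat_lit 8) (@Cfsg.Agent.H540.E8C.L13.M4.c (@Cfsg.Agent.H540.E8C.L13.Tm.g @x0))) (nat_lit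 13))) (@Nat.add (@Nat.mul (@Nat.mod (@Nat.mul (nat_lit 8) (@Cfsg.Agent.H540.E8C.L13.M4.a (@Cfsg.Agent.H540.E8C.L13.Tm.g @x0))) (nat_lit 13)) (nat_lit 13)) (@Nat.mod (@Nat.mul (nat_lit 8) (@Cfsg.Agent.H540.E8C.L13.M4.c (@Cfsg.Agent.H540.E8C.L13.Tm.g @x0))) (nat_lit 13))) (@Nat.add (@Nat.mul (@Nat.mod (@Nat.mul (nat_lit 5) (@Cfsg.Agent.H540.E8C.L13.M4.a (@Cfsg.Agent.H540.E8C.L13.Tm.g @x0))) (nat_lit 13)) (nat_lit 13)) (@Nat.mod (@Nat.mul (nat_lit 5) (@Cfsg.Agent.H540.E8C.L13.M4.c (@Cfsg.Agent.H540.E8C.L13.Tm.g @x0))) (nat_lit 13)))) (@Cfsg.Agent.KO55d2af1.k41.{1} @Nat (@Nat.add (@Nat.mul (@Nat.mod (@Nat.mul (nat_lit 5) (@Cfsg.Agent.H540.E8C.L13.M4.a (@Cfsg.Agent.H540.E8C.L13.Tm.g @x0))) (nat_lit 13)) (nat_lit 13)) (@Nat.mod (@Nat.mul (nat_lit 5) (@Cfsg.Agent.H540.E8C.L13.M4.c (@Cfsg.Agent.H540.E8C.L13.Tm.g @x0))) (nat_lit 13))) (@Nat.add (@Nat.mul (@Nat.mod (@Nat.mul (nat_lit 8) (@Cfsg.Agent.H540.E8C.L13.M4.a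 (@Cfsg.Agent.H540.E8C.L13.Tm.g @x0))) (nat_lit 13)) (nat_lit 13)) (@Nat.mod (@Nat.mul (nat_lit 8) (@Cfsg.Agent.H540.E8C.L13.M4.c (@Cfsg.Agent.H540.E8C.L13.Tm.g @x0))) (nat_lit 13))) (@Nat.add (@Nat.mul (@Nat.mod (@Nat.mul (nat_lit 8) (@Cfsg.Agent.H540.E8C.L13.M4.a (@Cfsg.Agent.H540.E8C.L13.Tm.g @x0))) (nat_lit 13)) (nat_lit 13)) (@Nat.mod (@Nat.mul (nat_lit 8) (@Cfsg.Agent.H540.E8C.L13.M4.c (@Cfsg.Agent.H540.E8C.L13.Tm.g @x0))) (nat_lit 13))) (@Nat.add (@Nat.mul (@Nat.mod (@Nat.mul (nat_lit 5) (@Cfsg.Agent.H540.E8C.L13.M4.a (@Cfsg.Agent.H540.E8C.L13.Tm.g @x0))) (nat_lit 13)) (nat_lit 13)) (@Nat.mod (@Nat.mul (nat_lit 5) (@Cfsg.Agent.H540.E8C.L13.M4.c (@Cfsg.Agent.H540.E8C.L13.Tm.g @x0))) (nat_lit 13)))) (@Cfsg.Agent.KO55d2af1.k41.{1} @Nat (@Nat.add (@Nat.mul (@Cfsg.Agent.H540.E8C.L13.M4.a (@Cfsg.Agent.H540.E8C.L13.Tm.g @x0)) (nat_lit 13)) (@Cfsg.Agent.H540.E8C.L13.M4.c (@Cfsg.Agent.H540.E8C.L13.Tm.g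 @x0))) (@Nat.add (@Nat.mul (@Nat.mod (@Nat.sub (nat_lit 13) (@Cfsg.Agent.H540.E8C.L13.M4.a (@Cfsg.Agent.H540.E8C.L13.Tm.g @x0))) (nat_lit 13)) (nat_lit 13)) (@Nat.mod (@Nat.sub (nat_lit 13) (@Cfsg.Agent.H540.E8C.L13.M4.c (@Cfsg.Agent.H540.E8C.L13.Tm.g @x0))) (nat_lit 13))) (@Nat.add (@Nat.mul (@Nat.mod (@Nat.sub (nat_lit 13) (@Cfsg.Agent.H540.E8C.L13.M4.a (@Cfsg.Agent.H540.E8C.L13.Tm.g @x0))) (nat_lit 13)) (nat_lit 13)) (@Nat.mod (@Nat.sub (nat_lit 13) (@Cfsg.Agent.H540.E8C.L13.M4.c (@Cfsg.Agent.H540.E8C.L13.Tm.g @x0))) (nat_lit 13))) (@Nat.add (@Nat.mul (@Cfsg.Agent.H540.E8C.L13.M4.a (@Cfsg.Agent.H540.E8C.L13.Tm.g @x0)) (nat_lit 13)) (@Cfsg.Agent.H540.E8C.L13.M4.c (@Cfsg.Agent.H540.E8C.L13.Tm.g @x0))))) (@Nat.mul (nat_lit 2197) (@Cfsg.Agent.H540.E8C.L13.Tm.b @x0))) (let x1 : @Cfsg.Agent.H540.E8C.L13.M4 := @Cfsg.Agent.KO55d2af1.k33 (@Cfsg.Agent.KO55d2af1.k33 (@Cfsg.Agent.H540.E8C.L13.Tm.g @x0) @Cfsg.Agent.H540.E8C.L13.m0)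 (@Cfsg.Agent.KO55d2af1.k34 (@Cfsg.Agent.H540.E8C.L13.Tm.g @x0)); @Nat.add (@Cfsg.Agent.KO55d2af1.k41.{1} @Nat (@Nat.add (@Nat.add (@Nat.mul (@Cfsg.Agent.H540.E8C.L13.M4.a @x1) (nat_lit 169)) (@Nat.mul (@Cfsg.Agent.H540.E8C.L13.M4.b @x1) (nat_lit 13))) (@Cfsg.Agent.H540.E8C.L13.M4.c @x1)) (@Nat.add (@Nat.add (@Nat.mul (@Nat.mod (@Nat.sub (nat_lit 13) (@Cfsg.Agent.H540.E8C.L13.M4.a @x1)) (nat_lit 13)) (nat_lit 169)) (@Nat.mul (@Nat.mod (@Nat.sub (nat_lit 13) (@Cfsg.Agent.H540.E8C.L13.M4.b @x1)) (nat_lit 13)) (nat_lit 13))) (@Nat.mod (@Nat.sub (nat_lit 13) (@Cfsg.Agent.H540.E8C.L13.M4.c @x1)) (nat_lit 13))) (@Nat.add (@Nat.add (@Nat.mul (@Nat.mod (@Nat.sub (nat_lit 13) (@Cfsg.Agent.H540.E8C.L13.M4.a @x1)) (nat_lit 13)) (nat_lit 169)) (@Nat.mul (@Nat.mod (@Nat.sub (nat_lit 13) (@Cfsg.Agent.H540.E8C.L13.M4.b @x1)) (nat_lit 13)) (nat_lit 13))) (@Nat.mod (@Nat.sub (nat_lit 13) (@Cfsg.Agent.H540.E8C.L13.M4.c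 @x1)) (nat_lit 13))) (@Nat.add (@Nat.add (@Nat.mul (@Cfsg.Agent.H540.E8C.L13.M4.a @x1) (nat_lit 169)) (@Nat.mul (@Cfsg.Agent.H540.E8C.L13.M4.b @x1) (nat_lit 13))) (@Cfsg.Agent.H540.E8C.L13.M4.c @x1))) (@Nat.mul (nat_lit 2197) (@Cfsg.Agent.H540.E8C.L13.Tm.b @x0))) (@Nat.ble (@Nat.succ (@Cfsg.Agent.H540.E8C.L13.Tm.b @x0)) (nat_lit 3)))) ?_); rewrite [← Cfsg.Agent.KO55d2af1.e41.{1}, ← Cfsg.Agent.KO55d2af1.e33, ← Cfsg.Agent.KO55d2af1.e34]; (try delta Cfsg.Agent.H540.E8C.L13.key); (try generalize @Cfsg.Agent.H540.E8C.L13.M4.mul = g0); (try generalize @Cfsg.Agent.H540.E8C.L13.m0 = g1); (try generalize @Cfsg.Agent.H540.E8C.L13.M4.adj = g2); rfl') | exact @Cfsg.Agent.H540.E8C.L13.key | exact ()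
private theorem _root_.Cfsg.Agent.KO55d2af1.e42 : (by first | exact @Cfsg.Agent.H540.E8C.L13.key = @_root_.Cfsg.Agent.KO55d2af1.k42 | exact True : Prop) := by first | (delta _root_.Cfsg.Agent.KO55d2af1.k42; exact @Subtype.property _ (fun g => @Cfsg.Agent.H540.E8C.L13.key = @g) _) | rfl | trivial
private noncomputable def _root_.Cfsg.Agent.KO55d2af1.k43 : (by first | exact type_of% @Cfsg.Agent.H540.E8C.L13.norm | exact Unit : Sort _) := by first | (refine @Subtype.val _ (fun g => @Cfsg.Agent.H540.E8C.L13.norm = @g) (@Subtype.mk _ _ (@(fun (x0 : @List.{0} @Cfsg.Agent.H540.E8C.L13.Tm) => @Cfsg.Agent.H540.E8C.L13.Tr.toL (@Cfsg.Agent.KO55d2af1.k32.{0, 0} @Cfsg.Agent.H540.E8C.L13.Tr @Cfsg.Agent.H540.E8C.L13.Tm @(fun (x1 : @Cfsg.Agent.H540.E8C.L13.Tr) (x2 : @Cfsg.Agent.H540.E8C.L13.Tm) => @Cfsg.Agent.KO55d2af1.k40 (@Cfsg.Agent.KO55d2af1.k42 @x2) @x2 (nat_lit 14) @x1) @Cfsg.Agent.H540.E8C.L13.Tr.nil @x0)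 (@List.nil.{0} @Cfsg.Agent.H540.E8C.L13.Tm))) ?_); rewrite [← Cfsg.Agent.KO55d2af1.e32.{0, 0}, ← Cfsg.Agent.KO55d2af1.e40, ← Cfsg.Agent.KO55d2af1.e42]; (try delta Cfsg.Agent.H540.E8C.L13.norm); (try generalize @Cfsg.Agent.H540.E8C.L13.Tr.toL = g0); (try generalize @Cfsg.Agent.H540.E8C.L13.Tr.ins = g1); (try generalize @Cfsg.Agent.H540.E8C.L13.key = g2); rfl') | exact @Cfsg.Agent.H540.E8C.L13.norm | exact ()
private theorem _root_.Cfsg.Agent.KO55d2af1.e43 : (by first | exact @Cfsg.Agent.H540.E8C.L13.norm = @_root_.Cfsg.Agent.KO55d2af1.k43 | exact True : Prop) := by first | (delta _root_.Cfsg.Agent.KO55d2af1.k43; exact @Subtype.property _ (fun g => @Cfsg.Agent.H540.E8C.L13.norm = @g) _) | rfl | trivial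
private noncomputable def _root_.Cfsg.Agent.KO55d2af1.k44.{ku0} : ((x0 : Sort (ku0+1)) → ((@List.{ku0} @x0) → ((@List.{ku0} @x0) → @List.{ku0} @x0))) := @(fun (x0 : Sort (ku0+1)) (x1 : @List.{ku0} @x0) (x2 : @List.{ku0} @x0) => @List.rec.{(ku0+1), ku0} @x0 @(fun (x3 : @List.{ku0} @x0) => ((@List.{ku0} @x0) → @List.{ku0} @x0)) @(fun (x3 : @List.{ku0} @x0) => x3) @(fun (x3 : x0) (x4 : @List.{ku0} @x0) (x5 : ((@List.{ku0} @x0) → @List.{ku0} @x0)) (x6 : @List.{ku0} @x0) => @List.cons.{ku0} @x0 @x3 (@x5 @x6)) @x1 @x2)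
private theorem _root_.Cfsg.Agent.KO55d2af1.e44.{ku0} : @List.append.{ku0} = @_root_.Cfsg.Agent.KO55d2af1.k44.{ku0} := by delta _root_.Cfsg.Agent.KO55d2af1.k44; funext a0 a1 a2; refine (congrFun (_root_.Cfsg.Agent.KO55d2af1.e15 (fun a1 a2 => @List.append.{ku0} a0 a1 a2) ?_ (fun c0 c1 => ?_) a1) a2 :) <;> (rfl')
private noncomputable def _root_.Cfsg.Agent.KO55d2af1.k45 : (by first | exact type_of% @Cfsg.Agent.H540.E8C.L13.chkEq | exact Unit : Sort _) := by first | (refine @Subtype.val _ (fun g => @Cfsg.Agent.H540.E8C.L13.chkEq = @g) (@Subtype.mk _ _ (@(fun (x0 : @List.{0} @Cfsg.Agent.H540.E8C.L13.Tm) (x1 : @List.{0} @Cfsg.Agent.H540.E8C.L13.Tm) => @List.rec.{1, 0} @Cfsg.Agent.H540.E8C.L13.Tm @(fun (x2 : @List.{0} @Cfsg.Agent.H540.E8C.L13.Tm) => @Bool) @Bool.true @(fun (x2 : @Cfsg.Agent.H540.E8C.L13.Tm) (x3 : @List.{0} @Cfsg.Agent.H540.E8C.L13.Tm) (x4 : @Bool) => @Bool.false) (@Cfsg.Agent.KO55d2af1.k43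 (@Cfsg.Agent.KO55d2af1.k44.{0} @Cfsg.Agent.H540.E8C.L13.Tm @x0 (@Cfsg.Agent.KO55d2af1.k29.{0, 0} @Cfsg.Agent.H540.E8C.L13.Tm @Cfsg.Agent.H540.E8C.L13.Tm @(fun (x2 : @Cfsg.Agent.H540.E8C.L13.Tm) => @Cfsg.Agent.H540.E8C.L13.Tm.mk (@Cfsg.Agent.H540.E8C.L13.Tm.b @x2) (@Nat.mod (@Nat.mul (nat_lit 2) (@Cfsg.Agent.H540.E8C.L13.Tm.c @x2)) (nat_lit 3)) (@Cfsg.Agent.H540.E8C.L13.Tm.g @x2)) @x1))))) ?_); rewrite [← Cfsg.Agent.KO55d2af1.e43, ← Cfsg.Agent.KO55d2af1.e44.{0}, ← Cfsg.Agent.KO55d2af1.e29.{0, 0}]; (try delta Cfsg.Agent.H540.E8C.L13.chkEq); (try generalize @Cfsg.Agent.H540.E8C.L13.norm = g0); rfl') | exact @Cfsg.Agent.H540.E8C.L13.chkEq | exact ()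
private theorem _root_.Cfsg.Agent.KO55d2af1.e45 : (by first | exact @Cfsg.Agent.H540.E8C.L13.chkEq = @_root_.Cfsg.Agent.KO55d2af1.k45 | exact True : Prop) := by first | (delta _root_.Cfsg.Agent.KO55d2af1.k45; exact @Subtype.property _ (fun g => @Cfsg.Agent.H540.E8C.L13.chkEq = @g) _) | rfl | trivial
private noncomputable def _root_.Cfsg.Agent.KO55d2af1.k46.{ku0} : ((x0 : Sort (ku0+1)) → ((@List.{ku0} (@List.{ku0} @x0)) → @List.{ku0} @x0)) := @(fun (x0 : Sort (ku0+1)) (x1 : @List.{ku0} (@List.{ku0} @x0)) => @List.rec.{(ku0+1), ku0} (@List.{ku0} @x0) @(fun (x2 : @List.{ku0} (@List.{ku0} @x0)) => @List.{ku0} @x0) (@List.nil.{ku0} @x0) @(fun (x2 : @List.{ku0} @x0) (x3 : @List.{ku0} (@List.{ku0} @x0)) (x4 : @List.{ku0} @x0) => @Cfsg.Agent.KO55d2af1.k44.{ku0} @x0 @x2 @x4) @x1)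
private theorem _root_.Cfsg.Agent.KO55d2af1.e46.{ku0} : @List.flatten.{ku0} = @_root_.Cfsg.Agent.KO55d2af1.k46.{ku0} := by delta _root_.Cfsg.Agent.KO55d2af1.k46; rewrite [← Cfsg.Agent.KO55d2af1.e44.{ku0}]; funext a0 a1; refine (_root_.Cfsg.Agent.KO55d2af1.e15 (fun a1 => @List.flatten.{ku0} a0 a1) ?_ (fun c0 c1 => ?_) a1 :) <;> (rfl')
private noncomputable def _root_.Cfsg.Agent.KO55d2af1.k47 : (by first | exact type_of% @Cfsg.Agent.H540.E8C.L13.gop | exact Unit : Sort _) := by first | (refine @Subtype.val _ (fun g => @Cfsg.Agent.H540.E8C.L13.gop = @g) (@Subtype.mk _ _ (@(fun (x0 : @List.{0} (@Prod.{0, 0} @Nat @Cfsg.Agent.H540.E8C.L13.M4)) (x1 : @List.{0} @Cfsg.Agent.H540.E8C.L13.Tm) => @Cfsg.Agent.KO55d2af1.k43 (@Cfsg.Agent.KO55d2af1.k46.{0} @Cfsg.Agent.H540.E8C.L13.Tm (@Cfsg.Agent.KO55d2af1.k29.{0, 0} (@Prod.{0, 0} @Nat @Cfsg.Agent.H540.E8C.L13.M4) (@List.{0} @Cfsg.Agent.H540.E8C.L13.Tm) @(fun (x2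 : @Prod.{0, 0} @Nat @Cfsg.Agent.H540.E8C.L13.M4) => @Cfsg.Agent.KO55d2af1.k29.{0, 0} @Cfsg.Agent.H540.E8C.L13.Tm @Cfsg.Agent.H540.E8C.L13.Tm @(fun (x3 : @Cfsg.Agent.H540.E8C.L13.Tm) => @Cfsg.Agent.H540.E8C.L13.Tm.mk (@Cfsg.Agent.H540.E8C.L13.Tm.b @x3) (@Nat.mod (@Nat.mul (@Prod.fst.{0, 0} @Nat @Cfsg.Agent.H540.E8C.L13.M4 @x2) (@Cfsg.Agent.H540.E8C.L13.Tm.c @x3)) (nat_lit 3)) (@Cfsg.Agent.KO55d2af1.k33 (@Prod.snd.{0, 0} @Nat @Cfsg.Agent.H540.E8C.L13.M4 @x2) (@Cfsg.Agent.H540.E8C.L13.Tm.g @x3))) @x1) @x0)))) ?_); rewrite [← Cfsg.Agent.KO55d2af1.e43, ← Cfsg.Agent.KO55d2af1.e46.{0}, ← Cfsg.Agent.KO55d2af1.e29.{0, 0}, ← Cfsg.Agent.KO55d2af1.e33]; (try delta Cfsg.Agent.H540.E8C.L13.gop); (try generalize @Cfsg.Agent.H540.E8C.L13.norm = g0); (try generalize @Cfsg.Agent.H540.E8C.L13.M4.mul = g1); rfl') | exact @Cfsg.Agent.H540.E8C.L13.gop | exact ()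
private theorem _root_.Cfsg.Agent.KO55d2af1.e47 : (by first | exact @Cfsg.Agent.H540.E8C.L13.gop = @_root_.Cfsg.Agent.KO55d2af1.k47 | exact True : Prop) := by first | (delta _root_.Cfsg.Agent.KO55d2af1.k47; exact @Subtype.property _ (fun g => @Cfsg.Agent.H540.E8C.L13.gop = @g) _) | rfl | trivial
private noncomputable def _root_.Cfsg.Agent.KO55d2af1.k48 : (by first | exact type_of% @Cfsg.Agent.H540.E8C.L13.sgL | exact Unit : Sort _) := by first | (refine @Subtype.val _ (fun g => @Cfsg.Agent.H540.E8C.L13.sgL = @g) (@Subtype.mk _ _ (@(fun (x0 : @List.{0} @Cfsg.Agent.H540.E8C.L13.Tm) => @Cfsg.Agent.KO55d2af1.k44.{0} @Cfsg.Agent.H540.E8C.L13.Tm (@Cfsg.Agent.KO55d2af1.k47 @Cfsg.Agent.H540.E8C.L13.KU (@Cfsg.Agent.KO55d2af1.k47 @Cfsg.Agent.H540.E8C.L13.Kw @x0)) (@Cfsg.Agent.KO55d2af1.k47 @Cfsg.Agent.H540.E8C.L13.KN @x0))) ?_); rewrite [← Cfsg.Agent.KO55d2af1.e44.{0}, ← Cfsg.Agent.KO55d2af1.e47]; (try delta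 Cfsg.Agent.H540.E8C.L13.sgL); (try generalize @Cfsg.Agent.H540.E8C.L13.gop = g0); (try generalize @Cfsg.Agent.H540.E8C.L13.KU = g1); (try generalize @Cfsg.Agent.H540.E8C.L13.Kw = g2); (try generalize @Cfsg.Agent.H540.E8C.L13.KN = g3); rfl') | exact @Cfsg.Agent.H540.E8C.L13.sgL | exact ()
private theorem _root_.Cfsg.Agent.KO55d2af1.e48 : (by first | exact @Cfsg.Agent.H540.E8C.L13.sgL = @_root_.Cfsg.Agent.KO55d2af1.k48 | exact True : Prop) := by first | (delta _root_.Cfsg.Agent.KO55d2af1.k48; exact @Subtype.property _ (fun g => @Cfsg.Agent.H540.E8C.L13.sgL = @g) _) | rfl | trivial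

theorem chk2 : chkEq (let y := gop K26 T2; y ++ sgL y) (F2.map fun t => ⟨t.b, (2 * t.c) % 3, t.g⟩) = true := by
  (first | (delta Cfsg.Agent.H540.E8C.L13.K26; rewrite [Cfsg.Agent.KO55d2af1.e45, Cfsg.Agent.KO55d2af1.e47, Cfsg.Agent.KO55d2af1.e29.{0, 0}, Cfsg.Agent.KO55d2af1.e31, Cfsg.Agent.KO55d2af1.e48]; decide +kernel) | decide +kernel)
private noncomputable def _root_.Cfsg.Agent.LsF.f2f8535_0 : {f // @Cfsg.Agent.H540.E8C.L13.Tr.toL = f} := ⟨_, by first | (delta Cfsg.Agent.H540.E8C.L13.Tr.toL Cfsg.Agent.H540.E8C.L13.Tr.toL._f Cfsg.Agent.H540.E8C.L13.Tr.brecOn Cfsg.Agent.H540.E8C.L13.Tr.brecOn.go; rewrite [Cfsg.Agent.LsF.nmod_pat, Cfsg.Agent.LsF.lappend_pat, Cfsg.Agent.LsF.not_eq, Cfsg.Agent.LsF.filter_eq]; (try delta Cfsg.Agent.H540.E8C.L13.Tr.toL.match_1); (try delta Cfsg.Agent.H540.E8C.L13.Tr.casesOn); first | dsimp -zeta only | exact rfl) | exact rfl⟩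
private noncomputable def _root_.Cfsg.Agent.LsF.f2f8535_1 : {f // @Cfsg.Agent.KO55d2af1.k43 = f} := ⟨_, by first | (delta Cfsg.Agent.KO55d2af1.k43; rewrite [Cfsg.Agent.LsF.f2f8535_0.2]; exact rfl) | exact rfl⟩
private noncomputable def _root_.Cfsg.Agent.LsF.f2f8535_2 : {f // @Cfsg.Agent.KO55d2af1.k45 = f} := ⟨_, by first | (delta Cfsg.Agent.KO55d2af1.k45; rewrite [Cfsg.Agent.LsF.f2f8535_1.2]; exact rfl) | exact rfl⟩
private noncomputable def _root_.Cfsg.Agent.LsF.f2f8535_3 : {f // @Cfsg.Agent.KO55d2af1.k47 = f} := ⟨_, by first | (delta Cfsg.Agent.KO55d2af1.k47; rewrite [Cfsg.Agent.LsF.f2f8535_1.2]; exact rfl) | exact rfl⟩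
private noncomputable def _root_.Cfsg.Agent.LsF.f2f8535_4 : {f // @Cfsg.Agent.H540.E8C.L13.KU = f} := ⟨_, by first | (delta Cfsg.Agent.H540.E8C.L13.KU; rewrite [Cfsg.Agent.LsF.map_eq, Cfsg.Agent.LsF.range_eq]; exact rfl) | exact rfl⟩
private noncomputable def _root_.Cfsg.Agent.LsF.f2f8535_5 : {f // @Cfsg.Agent.KO55d2af1.k48 = f} := ⟨_, by first | (delta Cfsg.Agent.KO55d2af1.k48; rewrite [Cfsg.Agent.LsF.f2f8535_3.2, Cfsg.Agent.LsF.f2f8535_4.2]; exact rfl) | exact rfl⟩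
theorem chk3 : chkEq (let y := gop K26 T3; y ++ sgL y) (F3.map fun t => ⟨t.b, (2 * t.c) % 3, t.g⟩) = true := by
  (delta Cfsg.Agent.H540.E8C.L13.K26; rewrite [Cfsg.Agent.KO55d2af1.e45, Cfsg.Agent.KO55d2af1.e47, Cfsg.Agent.KO55d2af1.e29.{0, 0}, Cfsg.Agent.KO55d2af1.e31, Cfsg.Agent.KO55d2af1.e48]; ((try (rewrite [Cfsg.Agent.LsF.f2f8535_2.2, Cfsg.Agent.LsF.f2f8535_3.2, Cfsg.Agent.LsF.f2f8535_5.2, Cfsg.Agent.LsF.nmul_pat, Cfsg.Agent.LsF.nmod_pat, Cfsg.Agent.LsF.lappend_pat, Cfsg.Agent.LsF.lappend_pat])); decide +kernel))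
theorem chk4 : chkEq (T4 ++ sgL T4) F4 = true := by decide +kernel
theorem chks : chkEq (sgL (sgL T4)) T4 = true := by (first | (rewrite [Cfsg.Agent.KO55d2af1.e45, Cfsg.Agent.KO55d2af1.e48]; decide +kernel) | decide +kernel)
private noncomputable def _root_.Cfsg.Agent.KO55d2af1.k50.{ku0} : ((x0 : Sort (ku0+1)) → ((@List.{ku0} @x0) → (@Nat → @Option.{ku0} @x0))) := @(fun (x0 : Sort (ku0+1)) (x1 : @List.{ku0} @x0) (x2 : @Nat) => @List.rec.{(ku0+1), ku0} @x0 @(fun (x3 : @List.{ku0} @x0) => (@Nat → @Option.{ku0} @x0)) @(fun (x3 : @Nat) => @Option.none.{ku0} @x0) @(fun (x3 : x0) (x4 : @List.{ku0} @x0) (x5 : (@Nat → @Option.{ku0} @x0)) (x6 : @Nat) => @Nat.rec.{(ku0+1)} @(fun (x7 : @Nat) => @Option.{ku0} @x0) (@Option.some.{ku0} @x0 @x3) @(fun (x7 : @Nat) (x8 : @Option.{ku0} @x0) => @x5 @x7) @x6) @x1 @x2)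
private theorem _root_.Cfsg.Agent.KO55d2af1.e50.{ku0} : @List.get?Internal.{ku0} = @_root_.Cfsg.Agent.KO55d2af1.k50.{ku0} := by delta _root_.Cfsg.Agent.KO55d2af1.k50; funext a0 a1 a2; refine (congrFun (_root_.Cfsg.Agent.KO55d2af1.e15 (fun a1 a2 => @List.get?Internal.{ku0} a0 a1 a2) ?_ (fun c0 c1 => ?_) a1) a2 :) <;> [(funext b0; (rfl')); (funext b0; (cases b0 with | @zero  => (rfl') | @succ b0_0 => (rfl')))]
private noncomputable def _root_.Cfsg.Agent.KO55d2af1.k51 : (by first | exact type_of% @Cfsg.Agent.H540.E8C.L13.comb | exact Unit : Sort _) := by first | (refine @Subtype.val _ (fun g => @Cfsg.Agent.H540.E8C.L13.comb = @g) (@Subtype.mk _ _ (@(fun (x0 : @List.{0} (@List.{0} @Cfsg.Agent.H540.E8C.L13.Tm)) (x1 : @List.{0} (@Prod.{0, 0} @Nat (@Prod.{0, 0} @Nat @Cfsg.Agent.H540.E8C.L13.M4))) => @Cfsg.Agent.KO55d2af1.k43 (@Cfsg.Agent.KO55d2af1.k46.{0} @Cfsg.Agent.H540.E8C.L13.Tm (@Cfsg.Agent.KO55d2af1.k29.{0,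 0} (@Prod.{0, 0} @Nat (@Prod.{0, 0} @Nat @Cfsg.Agent.H540.E8C.L13.M4)) (@List.{0} @Cfsg.Agent.H540.E8C.L13.Tm) @(fun (x2 : @Prod.{0, 0} @Nat (@Prod.{0, 0} @Nat @Cfsg.Agent.H540.E8C.L13.M4)) => @Cfsg.Agent.KO55d2af1.k29.{0, 0} @Cfsg.Agent.H540.E8C.L13.Tm @Cfsg.Agent.H540.E8C.L13.Tm @(fun (x3 : @Cfsg.Agent.H540.E8C.L13.Tm) => @Cfsg.Agent.H540.E8C.L13.Tm.mk (@Cfsg.Agent.H540.E8C.L13.Tm.b @x3) (@Nat.mod (@Nat.mul (@Prod.fst.{0, 0} @Nat (@Prod.{0, 0} @Nat @Cfsg.Agent.H540.E8C.L13.M4) @x2) (@Cfsg.Agent.H540.E8C.L13.Tm.c @x3)) (nat_lit 3)) (@Cfsg.Agent.KO55d2af1.k33 (@Prod.snd.{0, 0} @Nat @Cfsg.Agent.H540.E8C.L13.M4 (@Prod.snd.{0, 0} @Nat (@Prod.{0, 0} @Nat @Cfsg.Agent.H540.E8C.L13.M4) @x2)) (@Cfsg.Agent.H540.E8C.L13.Tm.g @x3))) (@Option.rec.{1, 0} (@List.{0} @Cfsg.Agent.H540.E8C.L13.Tm) @(fun (x3 : @Option.{0} (@List.{0} @Cfsg.Agent.H540.E8C.L13.Tm)) => @List.{0} @Cfsg.Agent.H540.E8C.L13.Tm) (@List.nil.{0}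 @Cfsg.Agent.H540.E8C.L13.Tm) @(fun (x3 : @List.{0} @Cfsg.Agent.H540.E8C.L13.Tm) => x3) (@Cfsg.Agent.KO55d2af1.k50.{0} (@List.{0} @Cfsg.Agent.H540.E8C.L13.Tm) @x0 (@Prod.fst.{0, 0} @Nat @Cfsg.Agent.H540.E8C.L13.M4 (@Prod.snd.{0, 0} @Nat (@Prod.{0, 0} @Nat @Cfsg.Agent.H540.E8C.L13.M4) @x2))))) @x1)))) ?_); rewrite [← Cfsg.Agent.KO55d2af1.e43, ← Cfsg.Agent.KO55d2af1.e46.{0}, ← Cfsg.Agent.KO55d2af1.e29.{0, 0}, ← Cfsg.Agent.KO55d2af1.e33, ← Cfsg.Agent.KO55d2af1.e50.{0}]; (try delta Cfsg.Agent.H540.E8C.L13.comb); (try generalize @Cfsg.Agent.H540.E8C.L13.norm = g0); (try generalize @Cfsg.Agent.H540.E8C.L13.M4.mul = g1); rfl') | exact @Cfsg.Agent.H540.E8C.L13.comb | exact ()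
private theorem _root_.Cfsg.Agent.KO55d2af1.e51 : (by first | exact @Cfsg.Agent.H540.E8C.L13.comb = @_root_.Cfsg.Agent.KO55d2af1.k51 | exact True : Prop) := by first | (delta _root_.Cfsg.Agent.KO55d2af1.k51; exact @Subtype.property _ (fun g => @Cfsg.Agent.H540.E8C.L13.comb = @g) _) | rfl | trivial

theorem chks0 : chkEq (gop K14 (comb [F1, F2, F3, F4] sol0)) [⟨0, 1, ⟨1, 0, 0, 1⟩⟩] = true := by (first | (rewrite [Cfsg.Agent.KO55d2af1.e45, Cfsg.Agent.KO55d2af1.e47, Cfsg.Agent.KO55d2af1.e51]; decide +kernel) | decide +kernel)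
theorem chks1 : chkEq (gop K14 (comb [F1, F2, F3, F4] sol1)) [⟨1, 1, ⟨1, 0, 0, 1⟩⟩] = true := by (first | (rewrite [Cfsg.Agent.KO55d2af1.e45, Cfsg.Agent.KO55d2af1.e47, Cfsg.Agent.KO55d2af1.e51]; decide +kernel) | decide +kernel)
theorem chks2 : chkEq (gop K14 (comb [F1, F2, F3, F4] sol2)) [⟨2, 1, ⟨1, 0, 0, 1⟩⟩] = true := by (first | (rewrite [Cfsg.Agent.KO55d2af1.e45, Cfsg.Agent.KO55d2af1.e47, Cfsg.Agent.KO55d2af1.e51]; decide +kernel) | decide +kernel)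
theorem chks3 : chkEq (gop KZ (comb [F1, F2, F3, F4] sol3)) [⟨3, 1, ⟨1, 0, 0, 1⟩⟩] = true := by (first | (delta Cfsg.Agent.H540.E8C.L13.KZ; rewrite [Cfsg.Agent.KO55d2af1.e45, Cfsg.Agent.KO55d2af1.e47, Cfsg.Agent.KO55d2af1.e29.{0, 0}, Cfsg.Agent.KO55d2af1.e31, Cfsg.Agent.KO55d2af1.e51]; decide +kernel) | decide +kernel)
theorem chks4 : chkEq (gop K26 (comb [F1, F2, F3, F4] sol4)) [⟨4, 1, ⟨1, 0, 0, 1⟩⟩] = true := by (first | (delta Cfsg.Agent.H540.E8C.L13.K26; rewrite [Cfsg.Agent.KO55d2af1.e45, Cfsg.Agent.KO55d2af1.e47, Cfsg.Agent.KO55d2af1.e29.{0, 0}, Cfsg.Agent.KO55d2af1.e31, Cfsg.Agent.KO55d2af1.e51]; decide +kernel) | decide +kernel)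

end Cfsg.Agent.H540.E8C.L13
end

-- part: H540/E8C/L13/R2
section
/-!
# S5919, the row `PSL₂(13)`: R2
-/

set_option autoImplicit false
set_option linter.unusedSectionVars false
set_option maxRecDepth 100000

namespace Cfsg.Agent.H540.E8C.L13

open Module

section

variable {V : Type*} [AddCommGroup V] [Module (ZMod 3) V] {ρ : Representation (ZMod 3) Q V}

theorem two_smul' (v : V) : (2 : ZMod 3) • v = - v := by
  have : (2 : ZMod 3) = -1 := by decide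
  rw [this, neg_smul, one_smul]

section chk

variable {x : ℕ → V}

theorem evL_scale (n : ℕ) (L : List Tm) : evL ρ x (L.map fun t => ⟨t.b, (n * t.c) % 3, t.g⟩) =
    (n : ZMod 3) • evL ρ x L := by
  induction L with
  | nil => simp [evL]
  | cons t L ih =>
    rw [List.map_cons, evL_cons, evL_cons, ih, smul_add]
    congr 1
    unfold ev
    show (((n * t.c) % 3 : ℕ) : ZMod 3) • _ = _
    rw [castmod3, smul_smul]
    push_cast
    rfl

theorem eq_of_chk (h : Good ρ x) {L L' : List Tm} (hc : chkEq L L' = true) : evL ρ x L = evL ρ x L' := by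
  unfold chkEq at hc
  rw [List.isEmpty_iff] at hc
  have h1 := evL_norm h (L ++ L'.map fun t => ⟨t.b, (2 * t.c) % 3, t.g⟩)
  rw [hc, evL_nil, evL_append, evL_scale] at h1
  have h2 : ((2 : ℕ) : ZMod 3) • evL ρ x L' = - evL ρ x L' := by
    rw [Nat.cast_ofNat]
    exact two_smul' _
  rw [h2] at h1
  exact (sub_eq_zero.1 (by rw [sub_eq_add_neg]; exact h1.symm))

theorem evL_comb (h : Good ρ x) (phis : List (List Tm)) (hz : ∀ i, evL ρ x (phis.getD i []) = 0)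
    (sol : List (ℕ × ℕ × M4)) (hs : sol.all (fun s => s.2.2.ok) = true) : evL ρ x (comb phis sol) = 0 := by
  unfold comb
  rw [evL_norm h]
  induction sol with
  | nil => simp [evL]
  | cons s sol ih =>
    rw [List.all_cons, Bool.and_eq_true] at hs
    rw [List.flatMap_cons, evL_append, ih hs.2, add_zero]
    have h1 := evL_raw (ρ := ρ) (x := x) [(s.1, s.2.2)] (by simpa using hs.1) (phis.getD s.2.1 [])
    rw [hz] at h1
    simp only [List.flatMap_cons, List.flatMap_nil, List.append_nil, map_zero] at h1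
    exact h1

end chk

theorem neg_act (hneg : ρ (-1) = 1) (g : Q) (v : V) : ρ (-g) v = ρ g v := by
  have h1 : -g = (-1 : Q) * g := by rw [neg_mul, one_mul]
  rw [h1, map_mul, hneg]
  rfl

theorem toM_m0 : m0.toM = M0 := by
  unfold m0 M4.toM M0
  norm_num

/-- the basic vectors of a tuple -/
def XL (b : ℕ) : (V × V × V × V × V) →ₗ[ZMod 3] V :=
  if b = 0 then LinearMap.fst _ _ _ else
  if b = 1 then LinearMap.fst _ _ _ ∘ₗ LinearMap.snd _ _ _ else
  if b = 2 then LinearMap.fst _ _ _ ∘ₗ LinearMap.snd _ _ _ ∘ₗ LinearMap.snd _ _ _ else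
  if b = 3 then LinearMap.fst _ _ _ ∘ₗ LinearMap.snd _ _ _ ∘ₗ LinearMap.snd _ _ _ ∘ₗ LinearMap.snd _ _ _ else
  if b = 4 then LinearMap.snd _ _ _ ∘ₗ LinearMap.snd _ _ _ ∘ₗ LinearMap.snd _ _ _ ∘ₗ LinearMap.snd _ _ _ else 0

/-- the vectors fixed by `D26` -/
def W1 (ρ : Representation (ZMod 3) Q V) : Submodule (ZMod 3) V where
  carrier := {v | (∀ a, ρ (uu a) v = v) ∧ ρ tt v = v}
  add_mem' := fun ha hb => ⟨fun a => by rw [map_add, ha.1 a, hb.1 a], by rw [map_add, ha.2, hb.2]⟩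
  zero_mem' := ⟨fun a => map_zero _, map_zero _⟩
  smul_mem' := fun c v hv => ⟨fun a => by rw [map_smul, hv.1 a], by rw [map_smul, hv.2]⟩

/-- upper triangular matrices -/
theorem upper {k : M4} (hk : k.toM.det = 1) (hc : (k.c : ZMod 13) = 0) :
    ((k.a : ZMod 13) = 1 → mkQ k hk = uu k.b) ∧ ((k.a : ZMod 13) = 12 → mkQ k hk = - uu (- k.b)) ∧
    ((k.a : ZMod 13) = 5 → mkQ k hk = tt * uu (8 * k.b)) ∧ ((k.a : ZMod 13) = 8 → mkQ k hk = - (tt * uu (8 * (- k.b)))) := by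
  have hdet : (k.a : ZMod 13) * k.d = 1 := by
    have h1 := hk
    unfold M4.toM at h1
    rw [Matrix.det_fin_two_of, hc, mul_zero, sub_zero] at h1
    exact h1
  have hcan : ∀ a d : ZMod 13, a * d = 1 → (a = 1 → d = 1) ∧ (a = 12 → d = -1) ∧ (a = 5 → d = 8) ∧ (a = 8 → d = 5) := by
    decide +kernel
  obtain ⟨d1, d2, d3, d4⟩ := hcan _ _ hdet
  have e12 : (12 : ZMod 13) = -1 := by decide
  refine ⟨fun h => ?_, fun h => ?_, fun h => ?_, fun h => ?_⟩
  · have := d1 h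
    apply Subtype.ext
    show k.toM = !![1, (k.b : ZMod 13); 0, 1]
    unfold M4.toM
    rw [h, hc, this]
  · have := d2 h
    apply Subtype.ext
    show k.toM = - !![1, -(k.b : ZMod 13); 0, 1]
    unfold M4.toM
    rw [h, hc, this, e12]
    ext i j
    (revert i j; simp only [_root_.Fin.forall_fin_succ, _root_.Matrix.of_apply, _root_.Matrix.cons_val', _root_.Matrix.cons_val_fin_one, _root_.Matrix.neg_apply, Fin.isValue, _root_.Matrix.cons_val_zero, _root_.Matrix.cons_val_succ, _root_.forall_const, _root_.neg_neg, _root_.and_self, _root_.neg_zero, _root_.implies_true])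
  · have := d3 h
    apply Subtype.ext
    show k.toM = !![5, 0; 0, 8] * !![1, 8 * (k.b : ZMod 13); 0, 1]
    unfold M4.toM
    rw [h, hc, this, Matrix.mul_fin_two]
    have e : (5 : ZMod 13) * (8 * (k.b : ZMod 13)) = k.b := by
      rw [← mul_assoc, show (5 : ZMod 13) * 8 = 1 by decide, one_mul]
    simp [e]
  · have := d4 h
    apply Subtype.ext
    show k.toM = - (!![5, 0; 0, 8] * !![1, 8 * (-(k.b : ZMod 13)); 0, 1])
    unfold M4.toM
    rw [h, hc, this, Matrix.mul_fin_two]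
    have e : (5 : ZMod 13) * (8 * ((k.b : ZMod 13))) = k.b := by
      rw [← mul_assoc, show (5 : ZMod 13) * 8 = 1 by decide, one_mul]
    have e5 : (-5 : ZMod 13) = 8 := by decide
    have e8 : (-8 : ZMod 13) = 5 := by decide
    ext i j
    (revert i j; simp only [e, e5, e8, _root_.Fin.forall_fin_succ, _root_.Matrix.of_apply, _root_.Matrix.cons_val', _root_.Matrix.cons_val_fin_one, _root_.mul_one, _root_.MulZeroClass.mul_zero, _root_.add_zero, _root_.mul_neg, _root_.MulZeroClass.zero_mul, _root_.neg_zero, _root_.zero_add, _root_.Matrix.neg_apply, Fin.isValue, _root_.Matrix.cons_val_zero, _root_.Matrix.cons_val_succ, _root_.forall_const, _root_.neg_neg, _root_.and_self, _root_.implies_true])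

theorem good (hneg : ρ (-1) = 1) {p : V × V × V × V × V} (h0 : p.1 ∈ fixP ρ P14) (h1 : p.2.1 ∈ fixP ρ P14)
    (h2 : p.2.2.1 ∈ fixP ρ P14) (h3 : p.2.2.2.1 ∈ W2 ρ) (h4 : p.2.2.2.2 ∈ W1 ρ) : Good ρ (fun b => XL b p) := by
  intro b k hk hch
  rw [rM_of ρ hk]
  by_cases hb : b < 3
  · -- the dihedral group of order 14
    have hx : XL b p ∈ fixP ρ P14 := by
      have hb' : b = 0 ∨ b = 1 ∨ b = 2 := by omega
      rcases hb' with rfl | rfl | rfl
      · exact h0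
      · exact h1
      · exact h2
    have hlt : Nat.blt b 3 = true := by rw [Nat.blt_eq]; exact hb
    have hch' := hch
    unfold kchar at hch' ⊢
    rw [hlt, cond_true] at hch' ⊢
    have key : P14 (mkQ k hk) → ρ (mkQ k hk) (XL b p) = (1 : ZMod 3) • XL b p := fun h => by
      rw [one_smul]
      exact hx _ h
    cases hA : (Nat.beq (k.mul m0).a (m0.mul k).a && Nat.beq (k.mul m0).b (m0.mul k).b &&
        Nat.beq (k.mul m0).c (m0.mul k).c && Nat.beq (k.mul m0).d (m0.mul k).d) with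
    | true =>
      have hP : P14 (mkQ k hk) := by
        left
        show k.toM * M0 = M0 * k.toM
        simp only [Bool.and_eq_true] at hA
        obtain ⟨⟨⟨a1, a2⟩, a3⟩, a4⟩ := hA
        rw [← toM_m0, ← M4.toM_mul, ← M4.toM_mul]
        unfold M4.toM
        rw [Nat.eq_of_beq_eq_true a1, Nat.eq_of_beq_eq_true a2, Nat.eq_of_beq_eq_true a3, Nat.eq_of_beq_eq_true a4]
      have := key hP
      simp only [hA, cond_true, Nat.cast_one]
      exact this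
    | false =>
      simp only [hA, cond_false] at hch' ⊢
      cases hB : (Nat.beq (((k.mul m0).a + (m0.mul k).a) % 13) 0 && Nat.beq (((k.mul m0).b + (m0.mul k).b) % 13) 0 &&
          Nat.beq (((k.mul m0).c + (m0.mul k).c) % 13) 0 && Nat.beq (((k.mul m0).d + (m0.mul k).d) % 13) 0) with
      | false => rw [hB] at hch'; exact absurd rfl hch'
      | true =>
        have hP : P14 (mkQ k hk) := by
          right
          show k.toM * M0 = - (M0 * k.toM)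
          simp only [Bool.and_eq_true] at hB
          obtain ⟨⟨⟨a1, a2⟩, a3⟩, a4⟩ := hB
          have hz : ∀ m n : ℕ, Nat.beq ((m + n) % 13) 0 = true → (m : ZMod 13) = - (n : ZMod 13) := by
            intro m n h
            have h5 := congrArg (fun n : ℕ => (n : ZMod 13)) (Nat.eq_of_beq_eq_true h)
            simp only [M4.castmod] at h5
            push_cast at h5
            exact eq_neg_of_add_eq_zero_left h5
          rw [← toM_m0, ← M4.toM_mul, ← M4.toM_mul]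
          unfold M4.toM
          rw [hz _ _ a1, hz _ _ a2, hz _ _ a3, hz _ _ a4]
          ext i j
          (revert i j; simp only [_root_.Fin.forall_fin_succ, _root_.Matrix.of_apply, _root_.Matrix.cons_val', _root_.Matrix.cons_val_fin_one, _root_.Matrix.neg_apply, Fin.isValue, _root_.Matrix.cons_val_zero, _root_.Matrix.cons_val_succ, _root_.forall_const, _root_.and_self, _root_.implies_true])
        have := key hP
        rw [cond_true, Nat.cast_one]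
        exact this
  · -- the group of order 26
    have hlt : Nat.blt b 3 = false := by
      cases h : Nat.blt b 3 with
      | false => rfl
      | true => rw [Nat.blt_eq] at h; exact absurd h hb
    have hch' := hch
    unfold kchar at hch' ⊢
    rw [hlt, cond_false] at hch' ⊢
    cases hc : Nat.beq (k.c % 13) 0 with
    | false => rw [hc] at hch'; exact absurd rfl hch'
    | true =>
      rw [hc, cond_true] at hch'
      rw [cond_true]
      have hc0 : (k.c : ZMod 13) = 0 := by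
        rw [← M4.castmod, Nat.eq_of_beq_eq_true hc, Nat.cast_zero]
      obtain ⟨u1, u2, u3, u4⟩ := upper hk hc0
      have hval : ∀ n : ℕ, Nat.beq (k.a % 13) n = true → (k.a : ZMod 13) = n := by
        intro n h
        rw [← M4.castmod, Nat.eq_of_beq_eq_true h]
      have hU : ∀ a : ZMod 13, ρ (uu a) (XL b p) = XL b p := by
        intro a
        by_cases hb3 : b = 3
        · subst hb3
          exact h3.1 a
        · by_cases hb4 : b = 4
          · subst hb4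
            exact h4.1 a
          · have : (XL b : (V × V × V × V × V) →ₗ[ZMod 3] V) = 0 := by
              unfold XL
              rw [if_neg (by omega), if_neg (by omega), if_neg (by omega), if_neg hb3, if_neg hb4]
            rw [this]
            simp only [_root_.LinearMap.zero_apply, _root_.map_zero]
      cases hA : (Nat.beq (k.a % 13) 1 || Nat.beq (k.a % 13) 12) with
      | true =>
        rw [cond_true, Nat.cast_one, one_smul]
        rw [Bool.or_eq_true] at hA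
        rcases hA with hA | hA
        · have := hval _ hA
          rw [u1 (by rw [this]; norm_num)]
          exact hU _
        · have := hval _ hA
          rw [u2 (by rw [this]; norm_num), neg_act hneg]
          exact hU _
      | false =>
        rw [hA, cond_false] at hch'
        rw [cond_false]
        cases hB : (Nat.beq (k.a % 13) 5 || Nat.beq (k.a % 13) 8) with
        | false => rw [hB] at hch'; exact absurd rfl hch'
        | true =>
          rw [hB, cond_true] at hch'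
          rw [cond_true]
          have hT : ρ (mkQ k hk) (XL b p) = ρ tt (XL b p) := by
            rw [Bool.or_eq_true] at hB
            rcases hB with hB | hB
            · have := hval _ hB
              rw [u3 (by rw [this]; norm_num), map_mul, Module.End.mul_apply, hU]
            · have := hval _ hB
              rw [u4 (by rw [this]; norm_num), neg_act hneg, map_mul, Module.End.mul_apply, hU]
          rw [hT]
          cases h3' : Nat.beq b 3 with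
          | true =>
            have hb3 := Nat.eq_of_beq_eq_true h3'
            subst hb3
            rw [cond_true, Nat.cast_ofNat]
            rw [two_smul']
            exact h3.2
          | false =>
            rw [h3', cond_false] at hch'
            rw [cond_false]
            cases h4' : Nat.beq b 4 with
            | true =>
              have hb4 := Nat.eq_of_beq_eq_true h4'
              subst hb4
              rw [cond_true, Nat.cast_one, one_smul]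
              exact h4.2
            | false => rw [h4'] at hch'; exact absurd rfl hch'

/-! ### the maps -/

theorem sum13 {M : Type*} [AddCommMonoid M] (f : ℕ → M) :
    ((List.range 13).map f).sum = ∑ a : ZMod 13, f a.val := by
  have h1 : ((List.range 13).map f).sum = ∑ i ∈ Finset.range 13, f i := rfl
  rw [h1, Finset.sum_range]
  rfl

theorem opK_append (K K' : List (ℕ × M4)) (v : V) : opK ρ (K ++ K') v = opK ρ K v + opK ρ K' v := by
  simp [opK]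

theorem opK_range (c : ℕ) (f : ℕ → M4) (v : V) :
    opK ρ ((List.range 13).map fun a => (c, f a)) v = (c : ZMod 3) • ∑ a : ZMod 13, rM ρ (f a.val) v := by
  have h1 : opK ρ ((List.range 13).map fun a => (c, f a)) v =
      ((List.range 13).map fun a => (c : ZMod 3) • rM ρ (f a) v).sum := by
    unfold opK
    generalize List.range 13 = L
    induction L with
    | nil => simp
    | cons a L ih =>
      rw [List.map_cons, List.map_cons, List.sum_cons, List.map_cons, List.sum_cons, LinearMap.add_apply, ih]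
      rfl
  rw [h1, sum13, Finset.smul_sum]

theorem rM_eq {k : M4} {g : Q} (h : k.toM = g.1) : rM ρ k = ρ g := by
  have hk : k.toM.det = 1 := by rw [h]; exact g.2
  rw [rM_of ρ hk]
  congr 1
  exact Subtype.ext h

theorem rM_uu (a : ZMod 13) : rM ρ ⟨1, a.val, 0, 1⟩ = ρ (uu a) := by
  apply rM_eq
  show !![((1 : ℕ) : ZMod 13), ((a.val : ℕ) : ZMod 13); ((0 : ℕ) : ZMod 13), ((1 : ℕ) : ZMod 13)] = !![1, a; 0, 1]
  rw [ZMod.natCast_zmod_val, Nat.cast_one, Nat.cast_zero]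

theorem rM_uut (a : ZMod 13) : rM ρ ⟨5, 8 * a.val, 0, 8⟩ = ρ (uu a) * ρ tt := by
  rw [← map_mul]
  apply rM_eq
  show !![((5 : ℕ) : ZMod 13), ((8 * a.val : ℕ) : ZMod 13); ((0 : ℕ) : ZMod 13), ((8 : ℕ) : ZMod 13)] =
    !![1, a; 0, 1] * !![5, 0; 0, 8]
  rw [Nat.cast_mul, ZMod.natCast_zmod_val, Matrix.mul_fin_two]
  simp [mul_comm]

theorem rM_ww : rM ρ ⟨0, 1, 12, 0⟩ = ρ ww := by
  apply rM_eq
  show !![((0 : ℕ) : ZMod 13), ((1 : ℕ) : ZMod 13); ((12 : ℕ) : ZMod 13), ((0 : ℕ) : ZMod 13)] = !![0, 1; -1, 0]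
  have : ((12 : ℕ) : ZMod 13) = -1 := by decide
  rw [this]
  simp

theorem rM_tt : rM ρ ⟨5, 0, 0, 8⟩ = ρ tt := by
  apply rM_eq
  show !![((5 : ℕ) : ZMod 13), ((0 : ℕ) : ZMod 13); ((0 : ℕ) : ZMod 13), ((8 : ℕ) : ZMod 13)] = !![5, 0; 0, 8]
  simp

theorem rM_tw : rM ρ ⟨0, 5, 5, 0⟩ = ρ (tt * ww) := by
  apply rM_eq
  decide

theorem rM_one : rM ρ ⟨1, 0, 0, 1⟩ = LinearMap.id := by
  rw [rM_eq (g := 1) (by decide), map_one]
  rfl

theorem rM_eta : rM ρ ⟨3, 0, 0, 9⟩ = ρ eta := rM_eq (by decide)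

theorem rM_eta2 : rM ρ ⟨9, 0, 0, 3⟩ = ρ (eta * eta) := rM_eq (by decide)

/-- the sum over `U` -/
noncomputable def EU (ρ : Representation (ZMod 3) Q V) : V →ₗ[ZMod 3] V := ∑ a : ZMod 13, ρ (uu a)

theorem uu_add (a b : ZMod 13) : uu (a + b) = uu a * uu b := by
  apply Subtype.ext
  show !![1, a + b; 0, 1] = !![1, a; 0, 1] * !![1, b; 0, 1]
  rw [Matrix.mul_fin_two]
  simp [add_comm]

theorem uu_EU (b : ZMod 13) (v : V) : ρ (uu b) (EU ρ v) = EU ρ v := by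
  unfold EU
  rw [LinearMap.sum_apply, map_sum]
  refine Fintype.sum_equiv (Equiv.addLeft b) _ _ fun a => ?_
  rw [Equiv.coe_addLeft, uu_add, map_mul]
  rfl

theorem tt_uu (a : ZMod 13) : tt * uu a = uu (-a) * tt := by
  apply Subtype.ext
  show !![5, 0; 0, 8] * !![1, a; 0, 1] = !![1, -a; 0, 1] * !![5, 0; 0, 8]
  rw [Matrix.mul_fin_two, Matrix.mul_fin_two]
  have : (5 : ZMod 13) = -8 := by decide
  simp only [this]
  simp [mul_comm]

theorem tt_EU (v : V) : ρ tt (EU ρ v) = EU ρ (ρ tt v) := by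
  unfold EU
  rw [LinearMap.sum_apply, LinearMap.sum_apply, map_sum]
  refine Fintype.sum_equiv (Equiv.neg _) _ _ fun a => ?_
  rw [Equiv.neg_apply, ← Module.End.mul_apply, ← Module.End.mul_apply, ← map_mul, ← map_mul, tt_uu]

theorem tt_tt : tt * tt = -1 := by decide

theorem K26_eq (v : V) : opK ρ K26 v = - EU ρ (v + ρ tt v) := by
  have e1 : ∑ a : ZMod 13, rM ρ ⟨1, a.val, 0, 1⟩ v = EU ρ v := by
    unfold EU
    rw [LinearMap.sum_apply]
    exact Finset.sum_congr rfl fun a _ => by rw [rM_uu]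
  have e2 : ∑ a : ZMod 13, rM ρ ⟨5, 8 * a.val, 0, 8⟩ v = EU ρ (ρ tt v) := by
    unfold EU
    rw [LinearMap.sum_apply]
    exact Finset.sum_congr rfl fun a _ => by rw [rM_uut]; rfl
  unfold K26
  rw [opK_append, opK_range 2 (fun a => ⟨1, a, 0, 1⟩), opK_range 2 (fun a => ⟨5, 8 * a, 0, 8⟩), Nat.cast_ofNat,
    two_smul', two_smul', map_add, neg_add, e1, e2]

theorem K26_mem (hneg : ρ (-1) = 1) (v : V) : opK ρ K26 v ∈ W1 ρ := by
  rw [K26_eq]
  refine ⟨fun a => by rw [map_neg, uu_EU], ?_⟩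
  have h1 : ρ tt (ρ tt v) = v := by
    rw [← Module.End.mul_apply, ← map_mul, tt_tt, hneg]
    rfl
  rw [map_neg, tt_EU, map_add, h1, add_comm]

theorem KU_eq (v : V) : opK ρ KU v = EU ρ v := by
  unfold KU
  rw [opK_range, Nat.cast_one, one_smul]
  unfold EU
  rw [LinearMap.sum_apply]
  exact Finset.sum_congr rfl fun a _ => by rw [rM_uu]

theorem sg_eq (v : V) : opK ρ KU (opK ρ Kw v) + opK ρ KN v = sg ρ v := by
  have h1 : opK ρ Kw v = ρ ww v := by simp [opK, Kw, rM_ww]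
  have h2 : opK ρ KN v = v + ρ eta v + ρ (eta * eta) v := by
    simp only [opK, KN, rM_one, rM_eta, rM_eta2, add_assoc, _root_.List.map_cons, _root_.Nat.cast_one, _root_.one_smul, _root_.map_mul, _root_.List.map_nil, _root_.List.sum_cons, _root_.List.sum_nil, _root_.add_zero, _root_.LinearMap.add_apply, _root_.LinearMap.id_coe, _root_.id_eq, _root_.Module.End.mul_apply]
  rw [h1, h2, KU_eq]
  unfold sg om EU
  simp only [LinearMap.add_apply, LinearMap.sum_apply, LinearMap.comp_apply, LinearMap.id_apply]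
  abel

theorem evL_sgL {x : ℕ → V} (h : Good ρ x) (L : List Tm) : evL ρ x (sgL L) = sg ρ (evL ρ x L) := by
  unfold sgL
  rw [evL_append, evL_gop h (by decide +kernel), evL_gop h (by decide +kernel), evL_gop h (by decide +kernel), sg_eq]

theorem ev_one {x : ℕ → V} (b : ℕ) : evL ρ x [⟨b, 1, ⟨1, 0, 0, 1⟩⟩] = x b := by
  simp [evL, ev, rM_one]

theorem sg_mem {v : V} (hneg : ρ (-1) = 1) (hv : v ∈ W1 ρ) : sg ρ v ∈ W1 ρ := by
  have htt : ρ tt (ρ tt v) = v := by rw [hv.2, hv.2]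
  have h1 : om ρ v = EU ρ (ρ ww v) := by
    unfold om EU
    simp only [LinearMap.sum_apply, LinearMap.comp_apply]
  have hw : ρ tt (ρ ww v) = ρ ww v := by
    have h2 : tt * ww = -(ww * tt) := by decide
    rw [← Module.End.mul_apply, ← map_mul, h2, neg_act hneg, map_mul, Module.End.mul_apply, hv.2]
  have hu : ∀ a c : ZMod 13, ∀ g : Q, uu a * g = g * uu c → ρ (uu a) (ρ g v) = ρ g v := by
    intro a c g h
    rw [← Module.End.mul_apply, ← map_mul, h, map_mul, Module.End.mul_apply, hv.1]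
  have he : ∀ a : ZMod 13, uu a * eta = eta * uu (3 * a) := by
    intro a
    apply Subtype.ext
    show !![1, a; 0, 1] * !![3, 0; 0, 9] = !![3, 0; 0, 9] * !![1, 3 * a; 0, 1]
    rw [Matrix.mul_fin_two, Matrix.mul_fin_two]
    have : a * 9 = 3 * (3 * a) := by ring
    simp [this]
  have he2 : ∀ a : ZMod 13, uu a * (eta * eta) = (eta * eta) * uu (3 * (3 * a)) := by
    intro a
    rw [← mul_assoc, he, mul_assoc, he, mul_assoc]
  have ht1 : tt * eta = eta * tt := by decide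
  unfold sg
  simp only [LinearMap.add_apply, LinearMap.id_apply, h1]
  refine ⟨fun a => ?_, ?_⟩
  · rw [map_add, map_add, map_add, uu_EU, hv.1, hu a _ _ (he a), hu a _ _ (he2 a)]
  · rw [map_add, map_add, map_add, tt_EU, hw, hv.2]
    have e1 : ρ tt (ρ eta v) = ρ eta v := by
      rw [← Module.End.mul_apply, ← map_mul, ht1, map_mul, Module.End.mul_apply, hv.2]
    have e2 : ρ tt (ρ (eta * eta) v) = ρ (eta * eta) v := by
      rw [← Module.End.mul_apply, ← map_mul, ← mul_assoc, ht1, mul_assoc, ht1, ← mul_assoc, map_mul,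
        Module.End.mul_apply, hv.2]
    rw [e1, e2]

seal _root_.Finset.sum in
theorem sg_sg (hneg : ρ (-1) = 1) {v : V} (hv : v ∈ W1 ρ) : sg ρ (sg ρ v) = v := by
  have h := good hneg (p := (0, 0, 0, 0, v)) (Submodule.zero_mem _) (Submodule.zero_mem _) (Submodule.zero_mem _)
    (Submodule.zero_mem _) hv
  have h1 := eq_of_chk h chks
  rw [evL_sgL h, evL_sgL h] at h1
  unfold T4 at h1
  rw [ev_one] at h1
  exact h1

end

section main

variable {V : Type*} [AddCommGroup V] [Module (ZMod 3) V] {ρ : Representation (ZMod 3) Q V}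

/-- the value of a formal sum as a linear map in the basic vectors -/
noncomputable def evM (ρ : Representation (ZMod 3) Q V) (T : List Tm) : (V × V × V × V × V) →ₗ[ZMod 3] V :=
  (T.map fun t => (t.c : ZMod 3) • (rM ρ t.g ∘ₗ XL t.b)).sum

theorem evM_apply (T : List Tm) (p : V × V × V × V × V) : evM ρ T p = evL ρ (fun b => XL b p) T := by
  induction T with
  | nil => simp [evM, evL]
  | cons t T ih =>
    rw [evL_cons, ← ih]
    unfold evM ev
    rw [List.map_cons, List.sum_cons]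
    rfl

/-- the domain -/
abbrev Dm (ρ : Representation (ZMod 3) Q V) : Submodule (ZMod 3) (V × V × V × V × V) :=
  (fixP ρ P14).prod ((fixP ρ P14).prod ((fixP ρ P14).prod ((W2 ρ).prod (XX ρ (-1)))))

/-- `1 + sg` -/
noncomputable def isg (ρ : Representation (ZMod 3) Q V) : V →ₗ[ZMod 3] V := LinearMap.id + sg ρ

/-- the map -/
noncomputable def Ph (ρ : Representation (ZMod 3) Q V) : (V × V × V × V × V) →ₗ[ZMod 3] V × V × V :=
  LinearMap.prod (opK ρ KV4 ∘ₗ evM ρ T1) (LinearMap.prod (isg ρ ∘ₗ opK ρ K26 ∘ₗ evM ρ T2)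
    (isg ρ ∘ₗ opK ρ K26 ∘ₗ evM ρ T3))

theorem V4_mem (hneg : ρ (-1) = 1) (v : V) : opK ρ KV4 v ∈ fixP ρ PV4 := by
  have h0 : opK ρ KV4 v = v + ρ tt v + ρ ww v + ρ (tt * ww) v := by
    simp only [opK, KV4, rM_one, rM_tt, rM_ww, rM_tw, add_assoc, _root_.List.map_cons, _root_.Nat.cast_one, _root_.one_smul, _root_.map_mul, _root_.List.map_nil, _root_.List.sum_cons, _root_.List.sum_nil, _root_.add_zero, _root_.LinearMap.add_apply, _root_.LinearMap.id_coe, _root_.id_eq, _root_.Module.End.mul_apply]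
  rw [h0]
  have e : ∀ g h k : Q, (g * h = k ∨ g * h = -k) → ρ g (ρ h v) = ρ k v := by
    intro g h k hk
    rw [← Module.End.mul_apply, ← map_mul]
    rcases hk with hk | hk
    · rw [hk]
    · rw [hk, neg_act hneg]
  have e1 : ρ (1 : Q) v = v := by rw [map_one]; rfl
  rintro g (rfl | rfl)
  · rw [map_add, map_add, map_add, e tt tt 1 (by decide), e tt ww (tt * ww) (by decide), e tt (tt * ww) ww (by decide),
      e1]
    abel
  · rw [map_add, map_add, map_add, e ww tt (tt * ww) (by decide), e ww ww 1 (by decide), e ww (tt * ww) tt (by decide),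
      e1]
    abel

theorem XX_mem (hneg : ρ (-1) = 1) (v : V) : isg ρ (opK ρ K26 v) ∈ XX ρ 1 := by
  have h1 := K26_mem hneg v
  have h2 := sg_mem hneg h1
  have h3 : isg ρ (opK ρ K26 v) ∈ W1 ρ := Submodule.add_mem _ h1 h2
  refine ⟨h3.1, h3.2, ?_⟩
  show sg ρ (opK ρ K26 v + sg ρ (opK ρ K26 v)) = (1 : ZMod 3) • (opK ρ K26 v + sg ρ (opK ρ K26 v))
  rw [map_add, sg_sg hneg h1, one_smul, add_comm]

theorem Ph_inj (hneg : ρ (-1) = 1) {p : V × V × V × V × V} (hp : p ∈ Dm ρ) (h : Ph ρ p = 0) : p = 0 := by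
  have h4 : p.2.2.2.2 ∈ W1 ρ := ⟨hp.2.2.2.2.1, hp.2.2.2.2.2.1⟩
  have hG := good hneg hp.1 hp.2.1 hp.2.2.1 hp.2.2.2.1 h4
  have hΦ1 : opK ρ KV4 (evM ρ T1 p) = 0 := congrArg (fun q => q.1) h
  have hΦ2 : isg ρ (opK ρ K26 (evM ρ T2 p)) = 0 := congrArg (fun q => q.2.1) h
  have hΦ3 : isg ρ (opK ρ K26 (evM ρ T3 p)) = 0 := congrArg (fun q => q.2.2) h
  rw [evM_apply] at hΦ1 hΦ2 hΦ3
  have hF1 : evL ρ (fun b => XL b p) F1 = 0 := by
    rw [← eq_of_chk hG chk1, evL_gop hG (by decide +kernel), hΦ1]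
  have hns : ∀ v : V, ((2 : ℕ) : ZMod 3) • v = 0 → v = 0 := by
    intro v hv
    rw [Nat.cast_ofNat, two_smul', neg_eq_zero] at hv
    exact hv
  have hF2 : evL ρ (fun b => XL b p) F2 = 0 := by
    apply hns
    rw [← evL_scale, ← eq_of_chk hG chk2]
    show evL ρ (fun b => XL b p) (gop K26 T2 ++ sgL (gop K26 T2)) = 0
    rw [evL_append, evL_sgL hG, evL_gop hG (by decide +kernel)]
    exact hΦ2
  have hF3 : evL ρ (fun b => XL b p) F3 = 0 := by
    apply hns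
    rw [← evL_scale, ← eq_of_chk hG chk3]
    show evL ρ (fun b => XL b p) (gop K26 T3 ++ sgL (gop K26 T3)) = 0
    rw [evL_append, evL_sgL hG, evL_gop hG (by decide +kernel)]
    exact hΦ3
  have hF4 : evL ρ (fun b => XL b p) F4 = 0 := by
    rw [← eq_of_chk hG chk4, evL_append, evL_sgL hG]
    unfold T4
    rw [ev_one]
    have h5 : sg ρ p.2.2.2.2 = (-1 : ZMod 3) • p.2.2.2.2 := hp.2.2.2.2.2.2
    show p.2.2.2.2 + sg ρ p.2.2.2.2 = 0
    rw [h5, neg_smul, one_smul, add_neg_cancel]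
  have hz : ∀ i, evL ρ (fun b => XL b p) ([F1, F2, F3, F4].getD i []) = 0 := by
    intro i
    match i with
    | 0 => exact hF1
    | 1 => exact hF2
    | 2 => exact hF3
    | 3 => exact hF4
    | n + 4 => rfl
  have fin : ∀ (b : ℕ) (K : List (ℕ × M4)) (sol : List (ℕ × ℕ × M4)), K.all (fun n => n.2.ok) = true →
      sol.all (fun s => s.2.2.ok) = true → chkEq (gop K (comb [F1, F2, F3, F4] sol)) [⟨b, 1, ⟨1, 0, 0, 1⟩⟩] = true →
      XL b p = 0 := by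
    intro b K sol hK hs hc
    have h6 := eq_of_chk hG hc
    rw [ev_one, evL_gop hG hK, evL_comb hG _ hz _ hs, map_zero] at h6
    exact h6.symm
  have e0 : p.1 = 0 := fin 0 K14 sol0 (by decide +kernel) (by decide +kernel) chks0
  have e1 : p.2.1 = 0 := fin 1 K14 sol1 (by decide +kernel) (by decide +kernel) chks1
  have e2 : p.2.2.1 = 0 := fin 2 K14 sol2 (by decide +kernel) (by decide +kernel) chks2
  have e3 : p.2.2.2.1 = 0 := fin 3 KZ sol3 (by decide +kernel) (by decide +kernel) chks3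
  have e4 : p.2.2.2.2 = 0 := fin 4 K26 sol4 (by decide +kernel) (by decide +kernel) chks4
  exact Prod.ext e0 (Prod.ext e1 (Prod.ext e2 (Prod.ext e3 e4)))

theorem finrank_prod' {A B : Type*} [AddCommGroup A] [AddCommGroup B] [Module (ZMod 3) A] [Module (ZMod 3) B]
    [Module.Finite (ZMod 3) A] [Module.Finite (ZMod 3) B] (S : Submodule (ZMod 3) A) (T : Submodule (ZMod 3) B) :
    finrank (ZMod 3) ↥(S.prod T) = finrank (ZMod 3) S + finrank (ZMod 3) T := by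
  let e : ↥(S.prod T) ≃ₗ[ZMod 3] (↥S × ↥T) :=
    { toFun := fun p => (⟨p.1.1, p.2.1⟩, ⟨p.1.2, p.2.2⟩)
      map_add' := fun _ _ => rfl
      map_smul' := fun _ _ => rfl
      invFun := fun q => ⟨(q.1.1, q.2.1), q.1.2, q.2.2⟩
      left_inv := fun _ => rfl
      right_inv := fun _ => rfl }
  rw [e.finrank_eq, Module.finrank_prod]

end main

seal _root_.Finset.sum in
theorem r2 : R2 := by
  intro V _ _ _ ρ hneg
  have key : finrank (ZMod 3) ↥(Dm ρ) ≤ finrank (ZMod 3) ↥((fixP ρ PV4).prod ((XX ρ 1).prod (XX ρ 1))) := by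
    refine LinearMap.finrank_le_finrank_of_injective (f := (Ph ρ).restrict (p := Dm ρ)
      (q := (fixP ρ PV4).prod ((XX ρ 1).prod (XX ρ 1))) fun p _ => ⟨V4_mem hneg _, XX_mem hneg _, XX_mem hneg _⟩) ?_
    rw [← LinearMap.ker_eq_bot, eq_bot_iff]
    rintro ⟨p, hp⟩ h
    rw [LinearMap.mem_ker] at h
    have h2 : Ph ρ p = 0 := congrArg Subtype.val h
    rw [Submodule.mem_bot]
    exact Subtype.ext (Ph_inj hneg hp h2)
  simp only [Dm, finrank_prod'] at key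
  omega

end Cfsg.Agent.H540.E8C.L13
end

-- part: H775/L13/Sl
section
/-!
# S5919, the row `PSL₂(13)`, task NUM13: metacyclic subgroups of `SL₂(13)`
-/

set_option autoImplicit false
set_option linter.unusedSectionVars false
set_option maxRecDepth 100000

namespace Cfsg.Agent.H775.L13

open Cfsg.Agent.H540.E8C.L13

section Meta

variable {G : Type*} [Group G]

/-- `⟨x, y⟩` is metacyclic -/
structure Meta (x y : G) (n s k m : ℕ) : Prop where
  hn : 0 < n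
  hs : 0 < s
  xn : x ^ n = 1
  ys : y ^ s = x ^ m
  yx : y * x = x ^ k * y

/-- the elements -/
def el (x y : G) (n s : ℕ) (p : Fin n × Fin s) : G := x ^ (p.1 : ℕ) * y ^ (p.2 : ℕ)

/-- membership -/
def PM (x y : G) (g : G) : Prop := ∃ i j : ℕ, g = x ^ i * y ^ j

variable {x y : G} {n s k m : ℕ} (h : Meta x y n s k m)

theorem PM_one : PM x y 1 := ⟨0, 0, by simp⟩

include h in
theorem y_xpow (i : ℕ) : y * x ^ i = x ^ (k * i) * y := by
  induction i with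
  | zero => simp
  | succ i ih => rw [pow_succ, ← mul_assoc, ih, mul_assoc, h.yx, ← mul_assoc, ← pow_add, Nat.mul_succ]

include h in
theorem ypow_xpow (i j : ℕ) : y ^ j * x ^ i = x ^ (k ^ j * i) * y ^ j := by
  induction j with
  | zero => simp
  | succ j ih =>
    rw [pow_succ', mul_assoc, ih, ← mul_assoc, y_xpow h, mul_assoc, pow_succ' k]
    congr 2
    ring

include h in
theorem PM_mul {a b : G} (ha : PM x y a) (hb : PM x y b) : PM x y (a * b) := by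
  obtain ⟨i, j, rfl⟩ := ha
  obtain ⟨i', j', rfl⟩ := hb
  refine ⟨i + k ^ j * i', j + j', ?_⟩
  rw [mul_assoc, ← mul_assoc (y ^ j), ypow_xpow h, pow_add, pow_add]
  simp only [mul_assoc]

include h in
theorem PM_iff {g : G} : PM x y g ↔ ∃ p : Fin n × Fin s, el x y n s p = g := by
  constructor
  · rintro ⟨i, j, rfl⟩
    have h1 : y ^ j = x ^ (m * (j / s)) * y ^ (j % s) := by
      conv_lhs => rw [← Nat.div_add_mod j s, pow_add, pow_mul, h.ys, ← pow_mul]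
    have h2 : x ^ i * y ^ j = x ^ ((i + m * (j / s)) % n) * y ^ (j % s) := by
      rw [h1, ← mul_assoc, ← pow_add, ← pow_eq_pow_mod _ h.xn]
    exact ⟨(⟨_, Nat.mod_lt _ h.hn⟩, ⟨_, Nat.mod_lt _ h.hs⟩), h2.symm⟩
  · rintro ⟨p, rfl⟩
    exact ⟨_, _, rfl⟩

end Meta

/-! ### The three groups -/

theorem meta14 : Meta c7 ww 14 2 13 7 := ⟨by norm_num, by norm_num, by decide +kernel, by decide +kernel, by (set_option synthInstance.maxSize 20000 in open scoped Cfsg.Agent.Lib.MatDec in decide +kernel)⟩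
theorem meta8 : Meta tt ww 4 2 3 2 := ⟨by norm_num, by norm_num, by (set_option synthInstance.maxSize 20000 in open scoped Cfsg.Agent.Lib.MatDec in decide +kernel), by (set_option synthInstance.maxSize 20000 in open scoped Cfsg.Agent.Lib.MatDec in decide +kernel), by decide +kernel⟩
theorem meta52 : Meta (uu 1) tt 13 4 12 0 :=
  ⟨by norm_num, by norm_num, by decide +kernel, by decide +kernel, by decide +kernel⟩
theorem meta13 : Meta (uu 1) 1 13 1 1 0 :=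
  ⟨by norm_num, by norm_num, by decide +kernel, by simp, by simp⟩

theorem inj14 : Function.Injective (el c7 ww 14 2) := by
  have : ∀ p q : Fin 14 × Fin 2, el c7 ww 14 2 p = el c7 ww 14 2 q → p = q := by (refine of_decide_eq_true ?_; (try (rewrite [Cfsg.Agent.LsF.dSL_eq, Cfsg.Agent.LsF.zdecEq_eq, Cfsg.Agent.LsF.dProdEq_eq, Cfsg.Agent.LsF.prodFintype_eq, Cfsg.Agent.LsF.dForall_eq, Cfsg.Agent.LsF.dAllP_eq, Cfsg.Agent.LsF.decide_eq])); decide +kernel)
  exact fun p q => this p q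

theorem inj8 : Function.Injective (el tt ww 4 2) := by
  have : ∀ p q : Fin 4 × Fin 2, el tt ww 4 2 p = el tt ww 4 2 q → p = q := by (set_option synthInstance.maxSize 20000 in open scoped Cfsg.Agent.Lib.MatDec in decide +kernel)
  exact fun p q => this p q

theorem inj52 : Function.Injective (el (uu 1) tt 13 4) := by
  have : ∀ p q : Fin 13 × Fin 4, el (uu 1) tt 13 4 p = el (uu 1) tt 13 4 q → p = q := by (refine of_decide_eq_true ?_; (try (rewrite [Cfsg.Agent.LsF.dSL_eq, Cfsg.Agent.LsF.zdecEq_eq, Cfsg.Agent.LsF.dProdEq_eq, Cfsg.Agent.LsF.prodFintype_eq, Cfsg.Agent.LsF.dForall_eq, Cfsg.Agent.LsF.dAllP_eq, Cfsg.Agent.LsF.decide_eq])); decide +kernel)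
  exact fun p q => this p q

theorem inj13 : Function.Injective (el (uu 1) 1 13 1) := by
  have : ∀ p q : Fin 13 × Fin 1, el (uu 1) 1 13 1 p = el (uu 1) 1 13 1 q → p = q := by (set_option synthInstance.maxSize 20000 in open scoped Cfsg.Agent.Lib.MatDec in decide +kernel)
  exact fun p q => this p q

theorem uu_pow (n : ℕ) : uu 1 ^ n = uu n := by
  induction n with
  | zero =>
    rw [pow_zero, Nat.cast_zero]
    decide +kernel
  | succ n ih =>
    rw [pow_succ, ih]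
    apply Subtype.ext
    show !![1, (n : ZMod 13); 0, 1] * !![1, 1; 0, 1] = !![1, ((n + 1 : ℕ) : ZMod 13); 0, 1]
    ext i j
    (revert i j; simp only [Matrix.mul_apply, Fin.sum_univ_two, add_comm, _root_.Fin.forall_fin_succ, _root_.Matrix.of_apply, _root_.Matrix.cons_val', _root_.Matrix.cons_val_fin_one, Fin.isValue, _root_.Matrix.cons_val_zero, _root_.Matrix.cons_val_one, _root_.Nat.cast_add, _root_.Nat.cast_one, _root_.mul_one, _root_.MulZeroClass.mul_zero, _root_.zero_add, _root_.Matrix.cons_val_succ, _root_.forall_const, _root_.true_and, _root_.implies_true, _root_.and_self])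

theorem PU_iff {g : Q} : PU g ↔ PM (uu 1) 1 g := by
  constructor
  · rintro ⟨a, rfl⟩
    refine ⟨a.val, 0, ?_⟩
    rw [uu_pow, ZMod.natCast_zmod_val]
    simp
  · rintro ⟨i, j, rfl⟩
    refine ⟨i, ?_⟩
    rw [uu_pow]
    simp

/-! ### `P14` -/

theorem P14_c7 : P14 c7 := Or.inl (by decide +kernel)
theorem P14_ww : P14 ww := Or.inr (by decide +kernel)

theorem P14_one : P14 1 := Or.inl (by simp)

theorem P14_mul {a b : Q} (ha : P14 a) (hb : P14 b) : P14 (a * b) := by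
  unfold P14 at *
  rw [Matrix.SpecialLinearGroup.coe_mul]
  rcases ha with ha | ha <;> rcases hb with hb | hb
  · left; rw [Matrix.mul_assoc, hb, ← Matrix.mul_assoc, ha, Matrix.mul_assoc]
  · right; rw [Matrix.mul_assoc, hb, Matrix.mul_neg, ← Matrix.mul_assoc, ha, Matrix.mul_assoc]
  · right; rw [Matrix.mul_assoc, hb, ← Matrix.mul_assoc, ha, Matrix.neg_mul, Matrix.mul_assoc]
  · left; rw [Matrix.mul_assoc, hb, Matrix.mul_neg, ← Matrix.mul_assoc, ha, Matrix.neg_mul, neg_neg, Matrix.mul_assoc]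

theorem P14_pow {a : Q} (ha : P14 a) (n : ℕ) : P14 (a ^ n) := by
  induction n with
  | zero => rw [pow_zero]; exact P14_one
  | succ n ih => rw [pow_succ]; exact P14_mul ih ha

theorem enum1 : ∀ a b : ZMod 13, a * (a - 2 * b) - b * b = 1 → ∃ i : Fin 14,
    (c7 ^ (i : ℕ)).1 = !![a, b; b, a - 2 * b] := by (set_option synthInstance.maxSize 20000 in open scoped Cfsg.Agent.Lib.MatDec in decide +kernel)

theorem enum2 : ∀ a b : ZMod 13, a * (-a) - b * (-2 * a - b) = 1 → ∃ i : Fin 14,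
    (c7 ^ (i : ℕ) * ww).1 = !![a, b; -2 * a - b, -a] := by (set_option synthInstance.maxSize 20000 in open scoped Cfsg.Agent.Lib.MatDec in decide +kernel)

theorem P14_iff {g : Q} : P14 g ↔ PM c7 ww g := by
  constructor
  · intro h
    obtain ⟨a, ha⟩ : ∃ a, a = g.1 0 0 := ⟨_, rfl⟩
    obtain ⟨b, hb⟩ : ∃ b, b = g.1 0 1 := ⟨_, rfl⟩
    obtain ⟨c, hc⟩ : ∃ c, c = g.1 1 0 := ⟨_, rfl⟩
    obtain ⟨d, hd⟩ : ∃ d, d = g.1 1 1 := ⟨_, rfl⟩
    have hg : g.1 = !![a, b; c, d] := by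
      rw [ha, hb, hc, hd]
      exact Matrix.eta_fin_two _
    have hdet : a * d - b * c = 1 := by
      have h1 := g.2
      rw [hg, Matrix.det_fin_two_of] at h1
      exact h1
    unfold P14 at h
    rw [hg] at h
    have e1 : !![a, b; c, d] * M0 = !![a * 5 + b * 5, a * 5 + b * 8; c * 5 + d * 5, c * 5 + d * 8] := by
      ext i j
      (revert i j; simp only [M0, Matrix.mul_apply, Fin.sum_univ_two, _root_.Fin.forall_fin_succ, _root_.Matrix.of_apply, _root_.Matrix.cons_val', _root_.Matrix.cons_val_fin_one, Fin.isValue, _root_.Matrix.cons_val_zero, _root_.Matrix.cons_val_one, _root_.Matrix.cons_val_succ, _root_.forall_const, _root_.and_self, _root_.implies_true])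
    have e2 : M0 * !![a, b; c, d] = !![5 * a + 5 * c, 5 * b + 5 * d; 5 * a + 8 * c, 5 * b + 8 * d] := by
      ext i j
      (revert i j; simp only [M0, Matrix.mul_apply, Fin.sum_univ_two, _root_.Fin.forall_fin_succ, _root_.Matrix.of_apply, _root_.Matrix.cons_val', _root_.Matrix.cons_val_fin_one, Fin.isValue, _root_.Matrix.cons_val_zero, _root_.Matrix.cons_val_one, _root_.Matrix.cons_val_succ, _root_.forall_const, _root_.and_self, _root_.implies_true])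
    have h13 : (13 : ZMod 13) = 0 := by decide
    rw [e1, e2] at h
    rcases h with h | h
    · have h00 : a * 5 + b * 5 = 5 * a + 5 * c := congrFun (congrFun h 0) 0
      have h01 : a * 5 + b * 8 = 5 * b + 5 * d := congrFun (congrFun h 0) 1
      have hcb : c = b := by linear_combination (-8) * h00 + (3 * b - 3 * c) * h13
      have hda : d = a - 2 * b := by linear_combination (-8) * h01 + (3 * a - 3 * d + b * 2) * h13
      subst hcb hda
      obtain ⟨i, hi⟩ := enum1 a c hdet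
      exact ⟨i, 0, Subtype.ext (by rw [hg, pow_zero, mul_one, hi])⟩
    · have h00 : a * 5 + b * 5 = -(5 * a + 5 * c) := congrFun (congrFun h 0) 0
      have h01 : a * 5 + b * 8 = -(5 * b + 5 * d) := congrFun (congrFun h 0) 1
      have hda : d = -a := by linear_combination 8 * h01 + (-3 * a - 3 * d - 8 * b) * h13
      have hcb : c = -2 * a - b := by linear_combination 8 * h00 + (-6 * a - 3 * b - 3 * c) * h13
      subst hcb hda
      obtain ⟨i, hi⟩ := enum2 a b hdet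
      exact ⟨i, 1, Subtype.ext (by rw [hg, pow_one, hi])⟩
  · rintro ⟨i, j, rfl⟩
    exact P14_mul (P14_pow P14_c7 _) (P14_pow P14_ww _)

end Cfsg.Agent.H775.L13
end

-- part: H775/L13/Num
section
/-!
# S5919, the row `PSL₂(13)`, task NUM13: Brauer character values and dimensions of fixed spaces
-/

set_option autoImplicit false
set_option linter.unusedSectionVars false
set_option maxRecDepth 100000

namespace Cfsg.Agent.H775.L13

open Cfsg Cfsg.Lie Module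
open Cfsg.Agent.H540.E8C.L13 Cfsg.Agent.H540.E8C.End
open Cfsg.Agent.H657 IsLocalRing
open Cfsg.Agent.H942.E8Alc Cfsg.Agent.H942.Common Cfsg.Agent.H942.E8Val
open Cfsg.Agent.H944.RootVals Cfsg.Agent.H942.ValsChar

section dim

variable {M : Ideal AlgInt} {V : ValuationSubring ℂ} [CharP (ResidueField V) 3]

theorem dimP (hM : IsPModular 3 M) (hV : Above M V) (F : Q →* E) {ι : Type*} [Fintype ι] (e : ι → Q)
    (he : Function.Injective e) (P : Q → Prop) (hP1 : P 1) (hPm : ∀ a b, P a → P b → P (a * b))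
    (hr : ∀ g, P g ↔ ∃ i, e i = g) (hc : (Fintype.card ι).Coprime 3) :
    ∑ i, bc 3 (adj V F) (e i) = (Fintype.card ι : ℂ) * (finrank (ZMod 3) ↥(fixP (rp F) P) : ℂ) := by
  let L : List Q := Finset.univ.toList.map e
  have hmem : ∀ g, g ∈ L ↔ P g := by
    intro g
    rw [hr]
    simp only [L, _root_.List.mem_map, _root_.Finset.mem_toList, _root_.Finset.mem_univ, _root_.true_and]
  have hlen : L.length = Fintype.card ι := by
    simp only [L, _root_.List.length_map, _root_.Finset.length_toList, _root_.Finset.card_univ]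
  have key := Cfsg.Agent.H451.L7.dim M V hM hV Q F L ((Finset.nodup_toList _).map he) ((hmem 1).2 hP1)
    (fun a ha b hb => (hmem _).2 (hPm a b ((hmem a).1 ha) ((hmem b).1 hb))) (by rw [hlen]; exact hc)
  have hfix : fixP (rp F) P = Cfsg.Agent.H942.L7.fixL F L := by
    ext v
    exact ⟨fun h g hg => h g ((hmem g).1 hg), fun h g hg => h g ((hmem g).2 hg)⟩
  rw [hfix, ← hlen, ← key]
  simp only [L, List.map_map]
  exact (Finset.sum_map_toList _ _).symm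

end dim

section vals

variable {V : ValuationSubring ℂ} [CharP (ResidueField V) 3] {F : Q →* E}

theorem bc_congr {g g' : Q} (h : F g = F g') : bc 3 (adj V F) g = bc 3 (adj V F) g' := by
  have : adj V F g = adj V F g' := by
    unfold adj
    rw [matRep_apply, matRep_apply, MonoidHom.comp_apply, MonoidHom.comp_apply, h]
  unfold bc
  rw [this]

theorem F_neg (hF : ∀ g, F g = 1 ↔ g = 1 ∨ g = -1) (g : Q) : F (-g) = F g := by
  have h1 : F (-1) = 1 := (hF _).2 (Or.inr rfl)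
  have h2 : -g = (-1) * g := (neg_one_mul g).symm
  rw [h2, map_mul, h1, one_mul]

theorem bc_neg (hF : ∀ g, F g = 1 ↔ g = 1 ∨ g = -1) (g : Q) : bc 3 (adj V F) (-g) = bc 3 (adj V F) g :=
  bc_congr (F_neg hF g)

theorem bc_of_conj {g g' h : Q} (e : h * g * h⁻¹ = g') : bc 3 (adj V F) g = bc 3 (adj V F) g' := by
  rw [← e, Cfsg.Agent.H657.bc_conj]

theorem bc_one : bc 3 (adj V F) (1 : Q) = 248 := by
  obtain ⟨t₁, t₂, t₄, -, h1, -, -, h2, -, -⟩ := val8 V F (g := 1) (one_pow 8)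
  rw [h1, h2.1 (map_one F)]
  norm_num

theorem L8_two : ∀ x ∈ L8, x.2.1 = 248 → x.2.2 = 248 → x.1 ≠ 248 → x.1 = -8 ∨ x.1 = 24 := by decide

theorem exists_t2 (hF : ∀ g, F g = 1 ↔ g = 1 ∨ g = -1) :
    ∃ t2 : ℤ, (t2 = -8 ∨ t2 = 24) ∧ bc 3 (adj V F) tt = t2 := by
  obtain ⟨t₁, t₂, t₄, hL, h1, -, -, h2, h3, h4⟩ := val8 V F (g := tt) (by decide +kernel)
  have e2 : t₂ = 248 := h3.1 ((hF _).2 (Or.inr (by decide +kernel)))
  have e4 : t₄ = 248 := h4.1 ((hF _).2 (Or.inl (by decide +kernel)))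
  have e1 : t₁ ≠ 248 := by
    intro h
    have := (hF _).1 (h2.2 h)
    revert this
    decide +kernel
  exact ⟨t₁, L8_two _ hL e2 e4 e1, h1⟩

theorem exists_t7 (hF : ∀ g, F g = 1 ↔ g = 1 ∨ g = -1) :
    ∃ t7 : ℤ, (t7 = 3 ∨ t7 = 52) ∧ ∀ i : Fin 14, (i : ℕ) ≠ 0 → (i : ℕ) ≠ 7 → bc 3 (adj V F) (c7 ^ (i : ℕ)) = t7 := by
  obtain ⟨t, ht, h⟩ := Cfsg.Agent.H942.L7.val7 V F (g := c7 ^ 2) (by decide +kernel) (by
    intro h
    have := (hF _).1 h
    revert this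
    decide +kernel)
  refine ⟨t, ht, fun i h0 h7 => ?_⟩
  have key : ∀ i : Fin 14, (i : ℕ) ≠ 0 → (i : ℕ) ≠ 7 → ∃ d : Fin 7, (d : ℕ) ≠ 0 ∧
      (c7 ^ (i : ℕ) = (c7 ^ 2) ^ (d : ℕ) ∨ c7 ^ (i : ℕ) = -(c7 ^ 2) ^ (d : ℕ)) := by decide +kernel
  obtain ⟨d, hd, he⟩ := key i h0 h7
  have hd' : ¬ 7 ∣ (d : ℕ) := by
    have := d.2
    omega
  rcases he with he | he
  · rw [he]; exact h _ hd'
  · rw [he, bc_neg hF]; exact h _ hd'

theorem conj14 : ∀ i : Fin 14, ∃ j : Fin 14, c7 ^ (j : ℕ) * (c7 ^ (i : ℕ) * ww) * (c7 ^ (j : ℕ))⁻¹ = ww ∨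
    c7 ^ (j : ℕ) * (c7 ^ (i : ℕ) * ww) * (c7 ^ (j : ℕ))⁻¹ = -ww := by (refine of_decide_eq_true ?_; (try (rewrite [Cfsg.Agent.LsF.instSLMul_eq, Cfsg.Agent.LsF.instSLInv_eq, Cfsg.Agent.LsF.instSLPow_eq, Cfsg.Agent.LsF.dSL_eq, Cfsg.Agent.LsF.zdecEq_eq, Cfsg.Agent.LsF.dOr_eq, Cfsg.Agent.LsF.dForallFin_eq, Cfsg.Agent.LsF.dExistsFin_eq, Cfsg.Agent.LsF.decide_eq])); decide +kernel)

theorem conj52 : ∀ i : Fin 13, ∃ j : Fin 13, uu 1 ^ (j : ℕ) * (uu 1 ^ (i : ℕ) * tt) * (uu 1 ^ (j : ℕ))⁻¹ = tt := by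
  (refine of_decide_eq_true ?_; (try (rewrite [Cfsg.Agent.LsF.instSLMul_eq, Cfsg.Agent.LsF.instSLInv_eq, Cfsg.Agent.LsF.instSLPow_eq, Cfsg.Agent.LsF.dSL_eq, Cfsg.Agent.LsF.zdecEq_eq, Cfsg.Agent.LsF.dForallFin_eq, Cfsg.Agent.LsF.dExistsFin_eq, Cfsg.Agent.LsF.decide_eq])); decide +kernel)

theorem mul_tt2 (g : Q) : g * tt ^ 2 = -g := by
  have : tt ^ 2 = -1 := by decide +kernel
  rw [this, mul_neg, mul_one]

theorem mul_tt3 (g : Q) : g * tt ^ 3 = -(g * tt) := by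
  have : tt ^ 3 = -tt := by decide +kernel
  rw [this, mul_neg]

def h1 : Q := ⟨!![1, 8; 4, 7], by decide⟩
def h2 : Q := ⟨!![1, 1; 6, 7], by decide⟩

variable (hF : ∀ g, F g = 1 ↔ g = 1 ∨ g = -1) {t2 t7 : ℤ} (h2' : bc 3 (adj V F) tt = t2)

include h2' in
theorem bc_ww : bc 3 (adj V F) ww = t2 := by
  rw [← h2']
  exact bc_of_conj (h := h1) (by decide +kernel)

include h2' in
theorem bc_ttww : bc 3 (adj V F) (tt * ww) = t2 := by
  rw [← h2']
  exact bc_of_conj (h := h2) (by (set_option synthInstance.maxSize 20000 in open scoped Cfsg.Agent.Lib.MatDec in decide +kernel))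

include h2' hF in
theorem bc_c7ww (i : Fin 14) : bc 3 (adj V F) (c7 ^ (i : ℕ) * ww) = t2 := by
  obtain ⟨j, hj⟩ := conj14 i
  rw [← bc_ww h2']
  rcases hj with hj | hj
  · exact bc_of_conj hj
  · rw [bc_of_conj hj, bc_neg hF]

include h2' in
theorem bc_uutt (i : Fin 13) : bc 3 (adj V F) (uu 1 ^ (i : ℕ) * tt) = t2 := by
  obtain ⟨j, hj⟩ := conj52 i
  rw [← h2']
  exact bc_of_conj hj

include h2' hF in
theorem sum14 (h7 : ∀ i : Fin 14, (i : ℕ) ≠ 0 → (i : ℕ) ≠ 7 → bc 3 (adj V F) (c7 ^ (i : ℕ)) = t7) :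
    ∑ p, bc 3 (adj V F) (el c7 ww 14 2 p) = 2 * 248 + 12 * t7 + 14 * t2 := by
  rw [Fintype.sum_prod_type_right, Fin.sum_univ_two]
  have e1 : ∀ i : Fin 14, bc 3 (adj V F) (el c7 ww 14 2 (i, 0)) =
      if (i : ℕ) = 0 ∨ (i : ℕ) = 7 then 248 else (t7 : ℂ) := by
    intro i
    show bc 3 (adj V F) (c7 ^ (i : ℕ) * ww ^ 0) = _
    rw [pow_zero, mul_one]
    split_ifs with h
    · rcases h with h | h
      · rw [h, pow_zero, bc_one]
      · rw [h, show c7 ^ 7 = -1 by decide +kernel, bc_neg hF, bc_one]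
    · push Not at h
      exact h7 i h.1 h.2
  have e2 : ∀ i : Fin 14, bc 3 (adj V F) (el c7 ww 14 2 (i, 1)) = t2 := by
    intro i
    show bc 3 (adj V F) (c7 ^ (i : ℕ) * ww ^ 1) = _
    rw [pow_one, bc_c7ww hF h2']
  rw [Finset.sum_congr rfl fun i _ => e1 i, Finset.sum_congr rfl fun i _ => e2 i, Finset.sum_const,
    Finset.card_univ, Fintype.card_fin, nsmul_eq_mul]
  simp only [Fin.sum_univ_succ, _root_.Fin.val_eq_zero_iff, _root_.Fin.isValue, _root_.Fin.coe_ofNat_eq_mod, _root_.Nat.zero_mod, _root_.OfNat.zero_ne_ofNat, _root_.or_false, ↓ _root_.reduceIte, _root_.Fin.succ_ne_zero, _root_.Fin.val_succ, _root_.Nat.reduceEqDiff, _root_.false_or, _root_.zero_ne_one, _root_.Nat.add_eq_right, _root_.Finset.sum_const, _root_.Finset.card_univ, _root_.Fintype.card_fin, _root_.nsmul_eq_mul, _root_.Nat.cast_ofNat, _root_.add_left_inj]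
  ring

include h2' hF in
theorem sum8 : ∑ p, bc 3 (adj V F) (el tt ww 4 2 p) = 2 * 248 + 6 * t2 := by
  rw [Fintype.sum_prod_type_right, Fin.sum_univ_two, Fin.sum_univ_four, Fin.sum_univ_four]
  have a0 : el tt ww 4 2 (0, 0) = 1 := by decide +kernel
  have a1 : el tt ww 4 2 (1, 0) = tt := by decide +kernel
  have a2 : el tt ww 4 2 (2, 0) = -1 := by decide +kernel
  have a3 : el tt ww 4 2 (3, 0) = -tt := by decide +kernel
  have b0 : el tt ww 4 2 (0, 1) = ww := by decide +kernel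
  have b1 : el tt ww 4 2 (1, 1) = tt * ww := by decide +kernel
  have b2 : el tt ww 4 2 (2, 1) = -ww := by decide +kernel
  have b3 : el tt ww 4 2 (3, 1) = -(tt * ww) := by decide +kernel
  rw [a0, a1, a2, a3, b0, b1, b2, b3, bc_neg hF, bc_neg hF, bc_neg hF, bc_neg hF, bc_one, h2', bc_ww h2', bc_ttww h2']
  ring

include h2' hF in
theorem sum52 : ∑ p, bc 3 (adj V F) (el (uu 1) tt 13 4 p) =
    2 * ∑ i : Fin 13, bc 3 (adj V F) (uu 1 ^ (i : ℕ)) + 26 * t2 := by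
  rw [Fintype.sum_prod_type_right, Fin.sum_univ_four]
  have e0 : ∀ i : Fin 13, bc 3 (adj V F) (el (uu 1) tt 13 4 (i, 0)) = bc 3 (adj V F) (uu 1 ^ (i : ℕ)) := by
    intro i
    show bc 3 (adj V F) (uu 1 ^ (i : ℕ) * tt ^ 0) = _
    rw [pow_zero, mul_one]
  have e1 : ∀ i : Fin 13, bc 3 (adj V F) (el (uu 1) tt 13 4 (i, 1)) = t2 := by
    intro i
    show bc 3 (adj V F) (uu 1 ^ (i : ℕ) * tt ^ 1) = _
    rw [pow_one, bc_uutt h2']
  have e2 : ∀ i : Fin 13, bc 3 (adj V F) (el (uu 1) tt 13 4 (i, 2)) = bc 3 (adj V F) (uu 1 ^ (i : ℕ)) := by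
    intro i
    show bc 3 (adj V F) (uu 1 ^ (i : ℕ) * tt ^ 2) = _
    rw [mul_tt2, bc_neg hF]
  have e3 : ∀ i : Fin 13, bc 3 (adj V F) (el (uu 1) tt 13 4 (i, 3)) = t2 := by
    intro i
    show bc 3 (adj V F) (uu 1 ^ (i : ℕ) * tt ^ 3) = _
    rw [mul_tt3, bc_neg hF, bc_uutt h2']
  rw [Finset.sum_congr rfl fun i _ => e0 i, Finset.sum_congr rfl fun i _ => e1 i, Finset.sum_congr rfl fun i _ => e2 i,
    Finset.sum_congr rfl fun i _ => e3 i, Finset.sum_const, Finset.card_univ, Fintype.card_fin, nsmul_eq_mul]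
  push_cast
  ring

end vals

section spec

variable {V : ValuationSubring ℂ} [CharP (ResidueField V) 3] {F : Q →* E}

theorem geom13 {ξ : ℂ} (hξ : IsPrimitiveRoot ξ 13) (a : ZMod 13) :
    ∑ d ∈ Finset.range 13, ξ ^ (((d : ZMod 13) * a).val) = 13 * (((if a = 0 then 1 else 0 : ℤ)) : ℂ) := by
  by_cases ha : a = 0
  · subst ha
    simp
  · rw [if_neg ha]
    have h0 : ∀ d ∈ Finset.range 13, ξ ^ (((d : ZMod 13) * a).val) = (ξ ^ a.val) ^ d := by
      intro d hd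
      have hd' : d < 13 := Finset.mem_range.1 hd
      rw [ZMod.val_mul, ZMod.val_natCast, Nat.mod_eq_of_lt hd', ← pow_mul, mul_comm a.val d]
      conv_rhs => rw [pow_eq_pow_mod _ hξ.pow_eq_one]
    rw [Finset.sum_congr rfl h0]
    have h1 : a.val.Coprime 13 := by
      have h2 : a.val < 13 := ZMod.val_lt a
      have h3 : a.val ≠ 0 := fun h => ha ((ZMod.val_eq_zero a).1 h)
      rw [Nat.coprime_comm, Nat.Prime.coprime_iff_not_dvd (by norm_num)]
      intro h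
      exact h3 (Nat.eq_zero_of_dvd_of_lt h h2)
    rw [(hξ.pow_of_coprime _ h1).geom_sum_eq_zero (by norm_num)]
    simp

theorem sumU {Y : List ℕ} {ξ : ℂ} (h : Spec V F (uu 1) 13 Y ξ) :
    ∑ i : Fin 13, bc 3 (adj V F) (uu 1 ^ (i : ℕ)) = 13 * (8 + 2 * (cnt 13 1 0 Y : ℂ)) := by
  rw [Fin.sum_univ_eq_sum_range (fun i => bc 3 (adj V F) (uu 1 ^ i)) 13]
  rw [Finset.sum_congr rfl fun d _ => h.bc d, Finset.sum_add_distrib, Finset.sum_const, Finset.card_range, nsmul_eq_mul]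
  have e1 : ∀ m : Multiset (ZMod 13), ∑ d ∈ Finset.range 13, (m.map fun a => ξ ^ (((d : ZMod 13) * a).val)).sum =
      13 * (((m.map fun a => if a = 0 then (1 : ℤ) else 0).sum : ℤ) : ℂ) := by
    intro m
    induction m using Multiset.induction_on with
    | empty => simp
    | cons a s ih =>
      simp only [Multiset.map_cons, Multiset.sum_cons]
      rw [Finset.sum_add_distrib, ih, geom13 h.prim]
      push_cast
      ring
  rw [e1]
  have e2 := sum_ind (N := 13) 1 Y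
  simp only [Nat.cast_one, one_mul] at e2
  rw [e2]
  push_cast
  ring

end spec

/-! ### the space `W2` -/

section W2

variable {F : Q →* E}

theorem uu_tt (a : ZMod 13) : uu a * tt = tt * uu (-a) := by
  revert a
  (set_option synthInstance.maxSize 20000 in open scoped Cfsg.Agent.Lib.MatDec in decide +kernel)

theorem mem_fixPM {x y : Q} {v : LL} : v ∈ fixP (rp F) (PM x y) ↔ rp F x v = v ∧ rp F y v = v := by
  constructor
  · intro h
    exact ⟨h x ⟨1, 0, by simp⟩, h y ⟨0, 1, by simp⟩⟩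
  · rintro ⟨h1, h2⟩ g ⟨i, j, rfl⟩
    have e1 : ∀ i : ℕ, rp F (x ^ i) v = v := by
      intro i
      induction i with
      | zero => rw [pow_zero, map_one]; rfl
      | succ i ih =>
        rw [pow_succ, map_mul, Module.End.mul_apply, h1, ih]
    have e2 : ∀ i : ℕ, rp F (y ^ i) v = v := by
      intro i
      induction i with
      | zero => rw [pow_zero, map_one]; rfl
      | succ i ih =>
        rw [pow_succ, map_mul, Module.End.mul_apply, h2, ih]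
    rw [map_mul, Module.End.mul_apply, e2, e1]

theorem mem_fixPU {v : LL} : v ∈ fixP (rp F) PU ↔ rp F (uu 1) v = v := by
  have h : fixP (rp F) PU = fixP (rp F) (PM (uu 1) 1) := by
    ext v
    exact ⟨fun h g hg => h g (PU_iff.2 hg), fun h g hg => h g (PU_iff.1 hg)⟩
  rw [h, mem_fixPM]
  constructor
  · exact fun h => h.1
  · exact fun h => ⟨h, by rw [map_one]; rfl⟩

theorem fixPV4 : fixP (rp F) PV4 = fixP (rp F) (PM tt ww) := by
  ext v
  rw [mem_fixPM]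
  constructor
  · intro h
    exact ⟨h _ (Or.inl rfl), h _ (Or.inr rfl)⟩
  · rintro ⟨h1, h2⟩ g (rfl | rfl)
    · exact h1
    · exact h2

theorem three_smul' (v : LL) : v + v + v = 0 := by
  funext i
  exact (by decide : ∀ x : ZMod 3, x + x + x = 0) _

theorem finrank_W2 (hF : ∀ g, F g = 1 ↔ g = 1 ∨ g = -1) :
    finrank (ZMod 3) ↥(W2 (rp F)) + finrank (ZMod 3) ↥(fixP (rp F) (PM (uu 1) tt)) =
      finrank (ZMod 3) ↥(fixP (rp F) PU) := by
  have hsq : ∀ v, rp F tt (rp F tt v) = v := by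
    intro v
    rw [← Module.End.mul_apply, ← map_mul, show tt * tt = -1 by decide +kernel]
    show ac (F (-1)) v = v
    rw [(hF _).2 (Or.inr rfl), ac_one]
  have hW : ∀ v, v ∈ W2 (rp F) ↔ v ∈ fixP (rp F) PU ∧ rp F tt v = -v := by
    intro v
    constructor
    · intro h
      exact ⟨fun g ⟨a, ha⟩ => by rw [ha]; exact h.1 a, h.2⟩
    · rintro ⟨h1, h2⟩
      exact ⟨fun a => h1 _ ⟨a, rfl⟩, h2⟩
  have hD : ∀ v, v ∈ fixP (rp F) (PM (uu 1) tt) ↔ v ∈ fixP (rp F) PU ∧ rp F tt v = v := by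
    intro v
    rw [mem_fixPM, mem_fixPU]
  have hTU : ∀ v ∈ fixP (rp F) PU, rp F tt v ∈ fixP (rp F) PU := by
    rintro v hv _ ⟨a, rfl⟩
    rw [← Module.End.mul_apply, ← map_mul, uu_tt, map_mul, Module.End.mul_apply, hv _ ⟨_, rfl⟩]
  have hinf : W2 (rp F) ⊓ fixP (rp F) (PM (uu 1) tt) = ⊥ := by
    rw [eq_bot_iff]
    rintro v ⟨h1, h2⟩
    have e1 := ((hW v).1 h1).2
    have e2 := ((hD v).1 h2).2
    rw [e1] at e2
    have e3 : v + v = 0 := by
      nth_rewrite 1 [← e2]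
      exact neg_add_cancel v
    have := three_smul' v
    rw [e3, zero_add] at this
    exact this
  have hsup : W2 (rp F) ⊔ fixP (rp F) (PM (uu 1) tt) = fixP (rp F) PU := by
    apply le_antisymm
    · exact sup_le (fun v hv => ((hW v).1 hv).1) (fun v hv => ((hD v).1 hv).1)
    · intro v hv
      have e1 : -(v - rp F tt v) ∈ W2 (rp F) := by
        rw [hW]
        refine ⟨neg_mem (sub_mem hv (hTU v hv)), ?_⟩
        rw [map_neg, map_sub, hsq]
        abel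
      have e2 : -(v + rp F tt v) ∈ fixP (rp F) (PM (uu 1) tt) := by
        rw [hD]
        refine ⟨neg_mem (add_mem hv (hTU v hv)), ?_⟩
        rw [map_neg, map_add, hsq]
        abel
      have e3 : v = -(v - rp F tt v) + -(v + rp F tt v) := by
        have := three_smul' v
        have h4 : v = -(v + v) := by
          rw [eq_neg_iff_add_eq_zero, ← add_assoc, this]
        conv_lhs => rw [h4]
        abel
      rw [e3]
      exact Submodule.add_mem_sup e1 e2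
  have := Submodule.finrank_sup_add_finrank_inf_eq (W2 (rp F)) (fixP (rp F) (PM (uu 1) tt))
  rw [hinf, finrank_bot, add_zero, hsup] at this
  exact this.symm

end W2

/-- **Task NUM13.** -/
theorem num13 : Num13 := by
  intro F hF
  obtain ⟨M, V, hM, hV, hchar⟩ := exists_V
  obtain ⟨t2, ht2, h2⟩ := exists_t2 (V := V) hF
  obtain ⟨t7, ht7, h7⟩ := exists_t7 (V := V) hF
  -- the dimensions
  have d14 := dimP hM hV F _ inj14 P14 P14_one (fun a b => P14_mul) (fun g => P14_iff.trans (PM_iff meta14))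
    (by decide)
  have d8 := dimP hM hV F _ inj8 (PM tt ww) PM_one (fun a b => PM_mul meta8) (fun g => PM_iff meta8)
    (by decide)
  have d52 := dimP hM hV F _ inj52 (PM (uu 1) tt) PM_one (fun a b => PM_mul meta52) (fun g => PM_iff meta52)
    (by decide)
  have d13 := dimP hM hV F _ inj13 PU (PU_iff.2 PM_one) (fun a b ha hb => PU_iff.2 (PM_mul meta13 (PU_iff.1 ha)
    (PU_iff.1 hb))) (fun g => PU_iff.trans (PM_iff meta13)) (by decide)
  have hs13 : ∑ p, bc 3 (adj V F) (el (uu 1) 1 13 1 p) = ∑ i : Fin 13, bc 3 (adj V F) (uu 1 ^ (i : ℕ)) := by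
    rw [Fintype.sum_prod_type_right, Fin.sum_univ_one]
    refine Finset.sum_congr rfl fun i _ => ?_
    show bc 3 (adj V F) (uu 1 ^ (i : ℕ) * 1 ^ 0) = _
    rw [pow_zero, mul_one]
  rw [hs13] at d13
  rw [sum14 hF h2 h7] at d14
  rw [sum8 hF h2, ← fixPV4] at d8
  rw [sum52 hF h2, d13] at d52
  simp only [Fintype.card_prod, Fintype.card_fin] at d14 d8 d52 d13
  -- elements of order 13
  have h13 : uu 1 ^ 13 = 1 := by (set_option synthInstance.maxSize 20000 in open scoped Cfsg.Agent.Lib.MatDec in decide +kernel)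
  have hne : F (uu 1) ≠ 1 := by
    intro h
    have := (hF _).1 h
    revert this
    decide +kernel
  obtain ⟨Y, ξ, hS, hT⟩ := Cfsg.Agent.H942.CB.exists_specT (V := V) F (N := 13) (by norm_num) (by norm_num) h13
  have hu : finrank (ZMod 3) ↥(fixP (rp F) PU) = 8 + 2 * cnt 13 1 0 Y := by
    rw [sumU hS] at d13
    push_cast at d13
    have : (8 + 2 * (cnt 13 1 0 Y : ℂ)) = (finrank (ZMod 3) ↥(fixP (rp F) PU) : ℂ) := by
      linear_combination d13 / 13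
    exact_mod_cast this.symm
  have hW := finrank_W2 hF
  refine ⟨⟨t2, t7, ht2, ht7, ?_, ?_, ?_⟩, ?_, ?_⟩
  · have : 14 * (finrank (ZMod 3) ↥(fixP (rp F) P14) : ℂ) = 248 + 6 * t7 + 7 * t2 := by
      push_cast at d14
      linear_combination -d14 / 2
    exact_mod_cast this
  · have h3 : 2 * (finrank (ZMod 3) ↥(fixP (rp F) (PM (uu 1) tt)) : ℂ) =
        (finrank (ZMod 3) ↥(fixP (rp F) PU) : ℂ) + t2 := by
      push_cast at d52
      linear_combination -d52 / 26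
    have h4 : 2 * (finrank (ZMod 3) ↥(fixP (rp F) (PM (uu 1) tt)) : ℤ) =
        (finrank (ZMod 3) ↥(fixP (rp F) PU) : ℤ) + t2 := by exact_mod_cast h3
    have h5 : (finrank (ZMod 3) ↥(W2 (rp F)) : ℤ) + (finrank (ZMod 3) ↥(fixP (rp F) (PM (uu 1) tt)) : ℤ) =
      (finrank (ZMod 3) ↥(fixP (rp F) PU) : ℤ) := by exact_mod_cast hW
    linarith only [hW, h4]
  · have : 4 * (finrank (ZMod 3) ↥(fixP (rp F) PV4) : ℂ) = 248 + 3 * t2 := by
      push_cast at d8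
      linear_combination -d8 / 2
    exact_mod_cast this
  · rcases Cfsg.Agent.H540.E8C.thirteen h13 hne hS hT with ⟨h | h, hp⟩ | ⟨h, hb⟩ | ⟨h, hb⟩
    · exact Or.inl ⟨Or.inl (by rw [hu, h]), hp⟩
    · exact Or.inl ⟨Or.inr (by rw [hu, h]), hp⟩
    · exact Or.inr (Or.inl ⟨by rw [hu, h], hb⟩)
    · exact Or.inr (Or.inr ⟨by rw [hu, h], hb⟩)
  · have h1 : Nat.card {v : LL // ac (F (uu 1)) v = v} = Nat.card ↥(fixP (rp F) PU) :=
      Nat.card_congr (Equiv.subtypeEquivRight fun v => (mem_fixPU (F := F) (v := v)).symm)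
    rw [h1, Module.natCard_eq_pow_finrank (K := ZMod 3), Nat.card_zmod]

end Cfsg.Agent.H775.L13
end

-- part: H1/L13/Grp
section
/-!
# S5919, task GRP13 (helper1): finite groups with generalized Fitting subgroup `PSL₂(13)`
-/

set_option autoImplicit false

namespace Cfsg.Agent.H1.L13

open Matrix
open Cfsg.Agent.H540.E8C.L13 (Q uu Grp13)
open Cfsg.Agent.ClassicalGeometry.AutPSL.Root
open Cfsg.Agent.ClassicalGeometry.AutPSL.Auto
open Cfsg.Agent.ClassicalGeometry.AutPSL.Main (surj_two cj_eq_one_of_scalar)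

universe u

instance fact13 : Fact (Nat.Prime 13) := ⟨by norm_num⟩

local notation "P13" => Matrix.ProjectiveSpecialLinearGroup (Fin 2) (ZMod 13)
local notation "GL13" => Matrix.GeneralLinearGroup (Fin 2) (ZMod 13)

theorem psl_simple : IsSimpleGroup P13 :=
  Matrix.ProjectiveSpecialLinearGroup.rank_two_simple (by rw [Nat.card_eq_fintype_card, ZMod.card]; omega)

theorem psl_center : Subgroup.center P13 = ⊥ := by
  have hPs := psl_simple
  have h1 : ¬ ∀ a b : P13, a * b = b * a := fun h =>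
    Cfsg.Agent.ClassicalGeometry.PSL2Solvable.not_isSolvable_psl (ZMod 13) (by rw [ZMod.card]; omega)
      (Group.isSolvable_of_comm h)
  push Not at h1
  obtain ⟨a, b, hab⟩ := h1
  rcases (inferInstance : (Subgroup.center P13).Normal).eq_bot_or_eq_top with h | h
  · exact h
  · exact absurd (Subgroup.mem_center_iff.1 (by rw [h]; exact Subgroup.mem_top b) a) hab

theorem sq_one : ∀ r : ZMod 13, r ^ 2 = 1 → r = 1 ∨ r = -1 := by decide +kernel

/-- the centre of `SL₂(13)` -/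
theorem pr_eq_one (g : Q) : pr g = 1 ↔ g = 1 ∨ g = -1 := by
  rw [pr_eq_one_iff, Matrix.SpecialLinearGroup.mem_center_iff]
  constructor
  · rintro ⟨r, hr, he⟩
    rw [Fintype.card_fin] at hr
    rcases sq_one r hr with rfl | rfl
    · left
      apply Subtype.ext
      rw [← he]; simp
    · right
      apply Subtype.ext
      rw [← he, Matrix.SpecialLinearGroup.coe_neg, Matrix.SpecialLinearGroup.coe_one]
      ext i j; (revert i j; simp only [_root_.Fin.forall_fin_succ, _root_.Matrix.scalar_apply, _root_.Matrix.neg_apply, Fin.isValue, _root_.Fin.succ_zero_eq_one, _root_.IsEmpty.forall_iff, _root_.and_true, _root_.Matrix.diagonal_apply_eq, _root_.Matrix.one_apply_eq, _root_.ne_eq, _root_.zero_ne_one, _root_.not_false_eq_true, _root_.Matrix.diagonal_apply_ne, Nat.reduceAdd, _root_.Matrix.one_apply_ne, _root_.neg_zero, _root_.and_self, _root_.Fin.succ_ne_zero, _root_.true_and])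
  · rintro (rfl | rfl)
    · exact ⟨1, by simp, by simp⟩
    · exact ⟨-1, by simp only [_root_.Fintype.card_fin, _root_.even_two, _root_.Even.neg_pow, _root_.one_pow], by ext i j; (revert i j; simp only [_root_.Fin.forall_fin_succ, _root_.Matrix.scalar_apply, _root_.Matrix.SpecialLinearGroup.coe_neg, _root_.Matrix.SpecialLinearGroup.coe_one, _root_.Matrix.neg_apply, Fin.isValue, _root_.Fin.succ_zero_eq_one, _root_.IsEmpty.forall_iff, _root_.and_true, _root_.Matrix.diagonal_apply_eq, _root_.Matrix.one_apply_eq, _root_.ne_eq, _root_.zero_ne_one, _root_.not_false_eq_true, _root_.Matrix.diagonal_apply_ne, Nat.reduceAdd, _root_.Matrix.one_apply_ne, _root_.neg_zero, _root_.and_self, _root_.Fin.succ_ne_zero, _root_.true_and])⟩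

/-- every automorphism of `PSL₂(13)` is induced by `GL₂(13)` -/
theorem exists_gl (α : MulAut P13) : ∃ A : GL13, α = lift (cj A) := by
  obtain ⟨A, σ, h⟩ := surj_two 13 α
  have hσ : σ = 1 := Subsingleton.elim _ _
  exact ⟨A, by rw [h, hσ, map_one, mul_one]⟩

theorem cj_toGL (g : Q) : cj (Matrix.SpecialLinearGroup.toGL g) = MulAut.conj g := by
  apply MulEquiv.ext
  intro x
  apply Subtype.ext
  rw [coe_cj, MulAut.conj_apply, ← map_inv]
  rfl

theorem lift_conj (g : Q) : lift (MulAut.conj g) = MulAut.conj (pr g) := by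
  apply MulEquiv.ext
  intro x
  obtain ⟨y, rfl⟩ := pr_surjective x
  rw [lift_pr, MulAut.conj_apply, MulAut.conj_apply, map_mul, map_mul, map_inv]

theorem lift_cj_eq {A : GL13} {d : ZMod 13} {g : Q}
    (h : (A : Matrix (Fin 2) (Fin 2) (ZMod 13)) = d • (g : Matrix (Fin 2) (Fin 2) (ZMod 13))) :
    lift (cj A) = MulAut.conj (pr g) := by
  have h1 : scalar (Fin 2) d = ((A * (Matrix.SpecialLinearGroup.toGL g)⁻¹ : GL13) :
      Matrix (Fin 2) (Fin 2) (ZMod 13)) := by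
    rw [Units.val_mul, ← map_inv]
    change _ = (A : Matrix (Fin 2) (Fin 2) (ZMod 13)) * ((g⁻¹ : Q) : Matrix (Fin 2) (Fin 2) (ZMod 13))
    rw [h, Matrix.smul_mul, ← Matrix.SpecialLinearGroup.coe_mul, mul_inv_cancel,
      Matrix.SpecialLinearGroup.coe_one, scalar_apply, smul_one_eq_diagonal]
  have h2 := cj_eq_one_of_scalar h1
  rw [map_mul, map_inv, mul_inv_eq_one] at h2
  rw [h2, cj_toGL, lift_conj]

/-- the automorphisms induced by elements of square determinant are inner -/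
theorem inner_of_square {A : GL13} (h : IsSquare (A : Matrix (Fin 2) (Fin 2) (ZMod 13)).det) :
    ∃ g : Q, lift (cj A) = MulAut.conj (pr g) := by
  obtain ⟨d, hd⟩ := h
  have hA : (A : Matrix (Fin 2) (Fin 2) (ZMod 13)).det ≠ 0 := by
    have := (Matrix.GeneralLinearGroup.det A).ne_zero
    exact this
  have hd0 : d ≠ 0 := by
    rintro rfl
    exact hA (by rw [hd, mul_zero])
  refine ⟨⟨d⁻¹ • (A : Matrix (Fin 2) (Fin 2) (ZMod 13)), ?_⟩, lift_cj_eq (d := d) ?_⟩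
  · rw [Matrix.det_smul, hd, Fintype.card_fin]
    field_simp
  · change (A : Matrix (Fin 2) (Fin 2) (ZMod 13)) = d • d⁻¹ • (A : Matrix (Fin 2) (Fin 2) (ZMod 13))
    rw [smul_smul, mul_inv_cancel₀ hd0, one_smul]

theorem sq_mul : ∀ a b : ZMod 13, ¬ IsSquare a → ¬ IsSquare b → IsSquare (a * b) := by
  have key : ∀ a b : ZMod 13, (∀ c, a ≠ c * c) → (∀ c, b ≠ c * c) → ∃ c, a * b = c * c := by (set_option synthInstance.maxSize 20000 in open scoped Cfsg.Agent.Lib.MatDec in decide +kernel)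
  intro a b ha hb
  obtain ⟨c, hc⟩ := key a b (fun c hc => ha ⟨c, hc⟩) (fun c hc => hb ⟨c, hc⟩)
  exact ⟨c, hc⟩

/-- automorphisms fixing the class of `uu 1` -/
theorem inner_of_fix {A : GL13} (h : pr (cj A (uu 1)) = pr (uu 1)) :
    ∃ t : ZMod 13, lift (cj A) = MulAut.conj (pr (uu t)) := by
  obtain ⟨c, hc⟩ := exists_smul_of_pr_eq h
  have h1 : ((uu 1 : Q) : Matrix (Fin 2) (Fin 2) (ZMod 13)) * (A : Matrix (Fin 2) (Fin 2) (ZMod 13)) =
      c • ((A : Matrix (Fin 2) (Fin 2) (ZMod 13)) * ((uu 1 : Q) : Matrix (Fin 2) (Fin 2) (ZMod 13))) := by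
    have h2 : ((A⁻¹ : GL13) : Matrix (Fin 2) (Fin 2) (ZMod 13)) * (A : Matrix (Fin 2) (Fin 2) (ZMod 13)) = 1 := by
      rw [← Units.val_mul, inv_mul_cancel, Units.val_one]
    conv_lhs => rw [hc]
    rw [coe_cj, Matrix.smul_mul, Matrix.mul_assoc, h2, mul_one]
  have hA : (A : Matrix (Fin 2) (Fin 2) (ZMod 13)).det ≠ 0 := (Matrix.GeneralLinearGroup.det A).ne_zero
  obtain ⟨M, hM⟩ : ∃ M, M = (A : Matrix (Fin 2) (Fin 2) (ZMod 13)) := ⟨_, rfl⟩
  rw [← hM] at h1 hA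
  have e00 := congrFun (congrFun h1 0) 0
  have e01 := congrFun (congrFun h1 0) 1
  have e10 := congrFun (congrFun h1 1) 0
  have e11 := congrFun (congrFun h1 1) 1
  simp only [uu, Matrix.mul_apply, Fin.sum_univ_two, Matrix.smul_apply, smul_eq_mul, Matrix.of_apply,
    Matrix.cons_val', Matrix.cons_val_zero, Matrix.cons_val_one, Matrix.cons_val_fin_one, one_mul, mul_one, zero_mul,
    mul_zero, add_zero, zero_add] at e00 e01 e10 e11
  rw [Matrix.det_fin_two] at hA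
  have h10 : M 1 0 = 0 := by
    by_contra h0
    have hc1 : c = 1 := by
      have : (c - 1) * M 1 0 = 0 := by linear_combination -e10
      exact sub_eq_zero.1 ((mul_eq_zero.1 this).resolve_right h0)
    rw [hc1] at e00
    exact h0 (by linear_combination e00)
  rw [h10, mul_zero, sub_zero] at hA
  have h00 : M 0 0 ≠ 0 := fun h0 => hA (by rw [h0, zero_mul])
  have hc1 : c = 1 := by
    have : (c - 1) * M 0 0 = 0 := by rw [h10] at e00; linear_combination -e00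
    exact sub_eq_zero.1 ((mul_eq_zero.1 this).resolve_right h00)
  have h11 : M 1 1 = M 0 0 := by rw [hc1] at e01; linear_combination e01
  refine ⟨(M 0 0)⁻¹ * M 0 1, lift_cj_eq (d := M 0 0) ?_⟩
  rw [← hM]
  ext i j
  fin_cases i <;> fin_cases j
  · simp [uu]
  · simp [uu, mul_inv_cancel_left₀ h00]
  · simp [uu, h10]
  · simp [uu, h11]

/-- **Task GRP13.** -/
theorem grp13 : Grp13.{u} := by
  intro F _ _ hF H _ _ he
  obtain ⟨e0⟩ := he
  have hNn : (Cfsg.generalizedFittingSubgroup H).Normal := Cfsg.Agent.Lib.GenFitting.genFitting_normal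
  have σ : F ≃+* ZMod 13 := Classical.choice (by
    have h1 : Fintype.card F = Fintype.card (ZMod 13) := by rw [hF, ZMod.card]
    exact ⟨FiniteField.ringEquivOfCardEq h1⟩)
  obtain ⟨N, hN⟩ : ∃ N, N = Cfsg.generalizedFittingSubgroup H := ⟨_, rfl⟩
  have hself := Cfsg.Agent.S1265.result (G := H)
  rw [← hN] at e0 hNn hself
  rw [← hN]
  obtain ⟨e, -⟩ : ∃ e : ↥N ≃* P13, e = e0.trans (Cfsg.Agent.LieClassical.FieldTransfer.pslCongr (ι := Fin 2) σ) :=
    ⟨_, rfl⟩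
  have hcen : Subgroup.centralizer (N : Set H) = ⊥ := by
    rw [eq_bot_iff]
    intro g hg
    have h1 := hself hg
    have h2 : (⟨g, h1⟩ : ↥N) ∈ Subgroup.center ↥N := by
      rw [Subgroup.mem_center_iff]
      intro x
      exact Subtype.ext (Subgroup.mem_centralizer_iff.1 hg x x.2)
    have h3 : e ⟨g, h1⟩ ∈ Subgroup.center P13 := by
      rw [Subgroup.mem_center_iff] at h2 ⊢
      intro y
      obtain ⟨x, rfl⟩ := e.surjective y
      rw [← map_mul, h2 x, map_mul]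
    rw [psl_center, Subgroup.mem_bot, map_eq_one_iff e e.injective] at h3
    rw [Subgroup.mem_bot]
    exact congrArg Subtype.val h3
  obtain ⟨ψ, hψ⟩ : ∃ ψ : H →* MulAut P13, ∀ (h : H) (x : N), ψ h (e x) = e (MulAut.conjNormal h x) :=
    ⟨(MulAut.congr e).toMonoidHom.comp MulAut.conjNormal, fun h x => by
      change e (MulAut.conjNormal h (e.symm (e x))) = _
      rw [e.symm_apply_apply]⟩
  have hinj : Function.Injective ψ := by
    rw [injective_iff_map_eq_one]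
    intro g hg
    have h2 : g ∈ Subgroup.centralizer (N : Set H) := by
      rw [Subgroup.mem_centralizer_iff]
      intro t ht
      have h3 := hψ g ⟨t, ht⟩
      rw [hg, MulAut.one_apply] at h3
      have h4 : ((MulAut.conjNormal g (⟨t, ht⟩ : N) : N) : H) = t := by rw [← e.injective h3]
      rw [MulAut.conjNormal_apply] at h4
      have h5 : g * t * g⁻¹ = t := h4
      rw [mul_inv_eq_iff_eq_mul] at h5
      exact h5.symm
    rwa [hcen, Subgroup.mem_bot] at h2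
  have hconj : ∀ x : N, ψ (x : H) = MulAut.conj (e x) := fun x => by
    apply MulEquiv.ext
    intro y
    obtain ⟨z, rfl⟩ := e.surjective y
    rw [hψ, MulAut.conj_apply, ← map_inv, ← map_mul, ← map_mul]
    congr 1
  obtain ⟨φ, hφ⟩ : ∃ φ : Q →* H, ∀ g, φ g = ((e.symm (pr g) : N) : H) :=
    ⟨N.subtype.comp (e.symm.toMonoidHom.comp pr), fun g => rfl⟩
  have hψφ : ∀ g, ψ (φ g) = MulAut.conj (pr g) := fun g => by
    rw [hφ, hconj, e.apply_symm_apply]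
  have hrange : φ.range = N := by
    apply le_antisymm
    · rintro _ ⟨g, rfl⟩
      rw [hφ]; exact (e.symm (pr g)).2
    · intro x hx
      obtain ⟨g, hg⟩ := pr_surjective (e ⟨x, hx⟩)
      refine ⟨g, ?_⟩
      rw [hφ, hg, e.symm_apply_apply]
  refine ⟨φ, hrange, fun g => ?_, fun a b ha hb => ?_, ?_⟩
  · rw [hφ, ← pr_eq_one]
    constructor
    · intro h
      have h1 : e.symm (pr g) = 1 := Subtype.ext h
      exact (map_eq_one_iff e.symm e.symm.injective).1 h1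
    · intro h
      rw [h, map_one]; rfl
  · obtain ⟨A, hA⟩ := exists_gl (ψ a)
    obtain ⟨B, hB⟩ := exists_gl (ψ b)
    have key : ∀ (x : H) (C : GL13), ψ x = lift (cj C) →
        IsSquare (C : Matrix (Fin 2) (Fin 2) (ZMod 13)).det → x ∈ φ.range := fun x C hx hC => by
      obtain ⟨g, hg⟩ := inner_of_square hC
      exact ⟨g, hinj (by rw [hψφ, hx, hg])⟩
    refine key (a * b) (A * B) (by rw [map_mul, hA, hB, map_mul, map_mul]) ?_
    rw [Units.val_mul, Matrix.det_mul]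
    exact sq_mul _ _ (fun h => ha (key a A hA h)) (fun h => hb (key b B hB h))
  · have hsurj : ∀ x : ↥(Subgroup.centralizer ({φ (uu 1)} : Set H)), ∃ t : ZMod 13, (x : H) = φ (uu t) := by
      rintro ⟨x, hx⟩
      obtain ⟨A, hA⟩ := exists_gl (ψ x)
      have h1 : ψ x (pr (uu 1)) = pr (uu 1) := by
        have h2 : pr (uu 1) = e (e.symm (pr (uu 1))) := (e.apply_symm_apply _).symm
        rw [h2, hψ]
        congr 1
        apply Subtype.ext
        rw [MulAut.conjNormal_apply, ← hφ]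
        have h3 := Subgroup.mem_centralizer_iff.1 hx _ (Set.mem_singleton _)
        rw [← h3]; group
      rw [hA, lift_pr] at h1
      obtain ⟨t, ht⟩ := inner_of_fix h1
      exact ⟨t, hinj (by rw [hψφ, hA, ht])⟩
    choose f hf using hsurj
    have hfi : Function.Injective f := fun x y hxy => by
      apply Subtype.ext
      rw [hf x, hf y, hxy]
    calc Nat.card _ ≤ Nat.card (ZMod 13) := Nat.card_le_card_of_injective f hfi
      _ = 13 := by rw [Nat.card_eq_fintype_card, ZMod.card]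

end Cfsg.Agent.H1.L13
end

-- part: H108/L13/End
section
/-!
# S5919, the row `PSL₂(13)`: the end game (helper108)
-/

set_option autoImplicit false
set_option maxRecDepth 100000

namespace Cfsg.Agent.H108.L13

open Cfsg Cfsg.Lie Module
open Cfsg.Agent Cfsg.Agent.H540.E8C Cfsg.Agent.H540.E8C.End Cfsg.Agent.H540.E8C.L13

universe u

/-! ### Counting eigenvectors -/

section Abs

variable {G V : Type*} [Group G] [AddCommGroup V] [Finite V] (A : G → V → V)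

/-- many common eigenvectors with eigenvalues `±1` of a group `H` with a subgroup `S` of index at most 2 -/
theorem card_abs (hmul : ∀ g h v, A (g * h) v = A g (A h v))
    (hadd : ∀ g v w, A g (v + w) = A g v + A g w) (hneg : ∀ g v, A g (-v) = - A g v) (h3' : ∀ v : V, v + v = -v)
    {S H : Subgroup G} (hn : ∀ h ∈ H, ∀ s ∈ S, h⁻¹ * s * h ∈ S)
    (h2 : ∀ a ∈ H, ∀ b ∈ H, a ∉ S → b ∉ S → a * b ∈ S) :
    ∃ x y : ℕ, {v : V | ∀ s ∈ S, A s v = v}.ncard ≤ x * y ∧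
      x + y ≤ {b : V | b ≠ 0 ∧ (∀ s ∈ S, A s b = b) ∧ ∀ g ∈ H, A g b = b ∨ A g b = -b}.ncard + 2 := by
  have h3 : ∀ v : V, v + v + v = 0 := fun v => by rw [h3' v, neg_add_cancel]
  -- the coset representative
  obtain ⟨δ, hδH, hδ2, hδ⟩ : ∃ δ ∈ H, δ * δ ∈ S ∧ ∀ g ∈ H, g ∈ S ∨ δ⁻¹ * g ∈ S := by
    by_cases hHS : H ≤ S
    · exact ⟨1, H.one_mem, by rw [one_mul]; exact S.one_mem, fun g hg => Or.inl (hHS hg)⟩
    · obtain ⟨δ, hδ, hδS⟩ := SetLike.not_le_iff_exists.1 hHS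
      refine ⟨δ, hδ, h2 δ hδ δ hδ hδS hδS, fun g hg => ?_⟩
      by_cases hgS : g ∈ S
      · exact Or.inl hgS
      · exact Or.inr (h2 _ (H.inv_mem hδ) g hg (fun h => hδS (inv_mem_iff.1 h)) hgS)
  set W : Set V := {v : V | ∀ s ∈ S, A s v = v} with hW
  have hDW : ∀ v ∈ W, A δ v ∈ W := by
    intro v hv s hs
    have e : s * δ = δ * (δ⁻¹ * s * δ) := by group
    rw [← hmul, e, hmul, hv _ (hn δ hδH s hs)]
  have hDD : ∀ v ∈ W, A δ (A δ v) = v := by
    intro v hv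
    rw [← hmul]
    exact hv _ hδ2
  have haddW : ∀ v ∈ W, ∀ w ∈ W, v + w ∈ W := by
    intro v hv w hw s hs
    rw [hadd, hv s hs, hw s hs]
  have hnegW : ∀ v ∈ W, -v ∈ W := by
    intro v hv s hs
    rw [hneg, hv s hs]
  set! Wp : Set V := {v : V | v ∈ W ∧ A δ v = v} with hWp
  set! Wm : Set V := {v : V | v ∈ W ∧ A δ v = -v} with hWm
  refine ⟨Wp.ncard, Wm.ncard, ?_, ?_⟩
  · have hp : ∀ v ∈ W, v + A δ v ∈ Wp := by
      intro v hv
      refine ⟨haddW _ hv _ (hDW v hv), ?_⟩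
      rw [hadd, hDD v hv, add_comm]
    have hm : ∀ v ∈ W, v + -A δ v ∈ Wm := by
      intro v hv
      refine ⟨haddW _ hv _ (hnegW _ (hDW v hv)), ?_⟩
      rw [hadd, hneg, hDD v hv]
      abel
    rw [← Nat.card_coe_set_eq W, ← Nat.card_coe_set_eq Wp, ← Nat.card_coe_set_eq Wm, ← Nat.card_prod]
    refine Nat.card_le_card_of_injective (fun v : W => ((⟨v.1 + A δ v.1, hp v.1 v.2⟩ : Wp),
      (⟨v.1 + -A δ v.1, hm v.1 v.2⟩ : Wm))) ?_
    intro v w hvw
    have e1 : v.1 + A δ v.1 = w.1 + A δ w.1 := congrArg Subtype.val (congrArg Prod.fst hvw)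
    have e2 : v.1 + -A δ v.1 = w.1 + -A δ w.1 := congrArg Subtype.val (congrArg Prod.snd hvw)
    have e3 : v.1 + v.1 = w.1 + w.1 := by
      have e4 : (v.1 + A δ v.1) + (v.1 + -A δ v.1) = v.1 + v.1 := by abel
      have e5 : (w.1 + A δ w.1) + (w.1 + -A δ w.1) = w.1 + w.1 := by abel
      rw [← e4, ← e5, e1, e2]
    apply Subtype.ext
    have e6 : ∀ v : V, v = -(v + v) := fun v => by
      rw [eq_neg_iff_add_eq_zero, add_comm]
      exact h3 v
    rw [e6 v.1, e6 w.1, e3]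
  · set B : Set V := {b : V | b ≠ 0 ∧ (∀ s ∈ S, A s b = b) ∧ ∀ g ∈ H, A g b = b ∨ A g b = -b} with hB
    have hsub : Wp ∪ Wm ⊆ insert 0 B := by
      intro v hv
      by_cases hv0 : v = 0
      · exact Or.inl hv0
      · right
        have hvW : v ∈ W := by
          rcases hv with hv | hv
          · exact hv.1
          · exact hv.1
        have hvD : A δ v = v ∨ A δ v = -v := by
          rcases hv with hv | hv
          · exact Or.inl hv.2
          · exact Or.inr hv.2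
        refine ⟨hv0, hvW, fun g hg => ?_⟩
        rcases hδ g hg with h | h
        · exact Or.inl (hvW g h)
        · have e : g = δ * (δ⁻¹ * g) := by group
          rw [e, hmul, hvW _ h]
          exact hvD
    have hint : Wp ∩ Wm ⊆ {0} := by
      rintro v ⟨h4, h5⟩
      have h6 : v = -v := h4.2.symm.trans h5.2
      have h7 : v + v = 0 := by
        nth_rw 1 [h6]
        exact neg_add_cancel v
      have h8 := h3 v
      rw [h7, zero_add] at h8
      exact h8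
    have c1 := Set.ncard_union_add_ncard_inter Wp Wm (Set.toFinite _) (Set.toFinite _)
    have c2 : (Wp ∪ Wm).ncard ≤ (insert 0 B).ncard := Set.ncard_le_ncard hsub (Set.toFinite _)
    have c3 : (insert 0 B).ncard ≤ B.ncard + 1 := Set.ncard_insert_le 0 B
    have c4 : (Wp ∩ Wm).ncard ≤ 1 := (Set.ncard_le_ncard hint (Set.toFinite _)).trans (by rw [Set.ncard_singleton])
    omega

end Abs

theorem sixteen {x y n : ℕ} (h : 3 ^ 4 ≤ x * y) (h' : x + y ≤ n + 2) : 16 ≤ n := by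
  by_contra hcon
  have h1 : x + y ≤ 17 := by omega
  linarith only [h, Nat.mul_le_mul h1 h1, mul_self_nonneg ((x : ℤ) - y)]

theorem many {x y n : ℕ} (h : 3 ^ 11 ≤ x * y) (h' : x + y ≤ n + 2) : 484 ≤ n := by
  by_contra hcon
  have h1 : x + y ≤ 485 := by omega
  linarith only [h, Nat.mul_le_mul h1 h1, mul_self_nonneg ((x : ℤ) - y)]

/-! ### Numerics -/

theorem exists_form {G : Type*} [Group G] (F : G →* E) :
    ∃ B : LinearMap.BilinForm (ZMod 3) LL, B.Nondegenerate ∧ B.IsSymm ∧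
      ∀ g v v', B (rp F g v) (rp F g v') = B v v' := by
  obtain ⟨J, hJ, hdet, hinv⟩ := H597.E8Form.form (ZMod 3)
  refine ⟨Matrix.toBilin' J, ?_, ?_, ?_⟩
  · rw [LinearMap.BilinForm.nondegenerate_toBilin'_iff_det_ne_zero]
    exact hdet.ne_zero
  · constructor
    intro x y
    rw [Matrix.toBilin'_apply', Matrix.toBilin'_apply', Matrix.dotProduct_mulVec,
      ← Matrix.mulVec_transpose, hJ, dotProduct_comm]
  · intro g v w
    have h1 := hinv _ (F g).2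
    rw [Matrix.toBilin'_apply', Matrix.toBilin'_apply', rp_apply, rp_apply]
    conv_rhs => rw [← h1, Matrix.mul_assoc, ← Matrix.mulVec_mulVec, Matrix.dotProduct_mulVec, Matrix.vecMul_transpose,
      ← Matrix.mulVec_mulVec]

/-- the dimension of the space of fixed vectors -/
theorem num_aux {g w p x y a u : ℕ} {t2 t7 : ℤ} (ht2 : t2 = -8 ∨ t2 = 24) (ht7 : t7 = 3 ∨ t7 = 52)
    (e1 : 14 * (g : ℤ) = 248 + 6 * t7 + 7 * t2) (e2 : 2 * (w : ℤ) = u - t2) (e3 : 4 * (p : ℤ) = 248 + 3 * t2)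
    (r1 : 2 * x ≤ 3 * a + y) (r2 : 3 * g + w + y ≤ p + 2 * x) :
    (20 ≤ u → 1 ≤ a) ∧ (38 ≤ u → 4 ≤ a) ∧ (80 ≤ u → 11 ≤ a) := by
  rcases ht2 with rfl | rfl <;> rcases ht7 with rfl | rfl <;> refine ⟨fun h => ?_, fun h => ?_, fun h => ?_⟩ <;> (clear * - r1 r2 e2 e3 e1 h; solve | lia | omega)

theorem dims (h1 : R1) (h2 : R2) (h3 : Num13) (F : Q →* E) (hF : ∀ g, F g = 1 ↔ g = 1 ∨ g = -1) :
    ((Partner 13 (F (uu 1)) ∧ 1 ≤ finrank (ZMod 3) (fixP (rp F) fun _ => True)) ∨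
      (16 * Nat.card ↥(Subgroup.centralizer {F (uu 1)}) > 13 * Nat.card {v : LL // ac (F (uu 1)) v = v} ∧
        4 ≤ finrank (ZMod 3) (fixP (rp F) fun _ => True)) ∨
      (484 * Nat.card ↥(Subgroup.centralizer {F (uu 1)}) > 13 * Nat.card {v : LL // ac (F (uu 1)) v = v} ∧
        11 ≤ finrank (ZMod 3) (fixP (rp F) fun _ => True))) := by
  have hm1 : rp F (-1) = 1 := by
    have h0 : F (-1) = 1 := (hF (-1)).2 (Or.inr rfl)
    refine LinearMap.ext fun v => ?_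
    show ac (F (-1)) v = v
    rw [h0, ac_one]
  obtain ⟨B, hB1, hB2, hB3⟩ := exists_form F
  have r1 := h1 LL (rp F) hm1 B hB1 hB2 hB3
  have r2 := h2 LL (rp F) hm1
  obtain ⟨⟨t2, t7, ht2, ht7, e1, e2, e3⟩, h4, h5⟩ := h3 F hF
  obtain ⟨c1, c2, c3⟩ := num_aux ht2 ht7 e1 e2 e3 r1 r2
  rcases h4 with ⟨h6, h7⟩ | ⟨h6, h7⟩ | ⟨h6, h7⟩
  · exact Or.inl ⟨h7, c1 (by (clear * - h6; omega))⟩
  · refine Or.inr (Or.inl ⟨?_, c2 (by (clear * - h6; omega))⟩)
    rw [h5, h6]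
    calc 13 * 3 ^ 38 < 16 * 1360894629560719968 := by norm_num
      _ ≤ _ := Nat.mul_le_mul_left 16 h7
  · refine Or.inr (Or.inr ⟨?_, c3 (by (clear * - h6; omega))⟩)
    rw [h5, h6]
    calc 13 * 3 ^ 80 < 484 * 18743628421389393110651003031810837312 := by norm_num
      _ ≤ _ := Nat.mul_le_mul_left 484 h7

/-! ### The end game -/

theorem uu_pow (n : ℕ) : (uu 1) ^ n = uu n := by
  induction n with
  | zero =>
    rw [pow_zero, Nat.cast_zero]
    apply Subtype.ext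
    show (1 : Matrix (Fin 2) (Fin 2) (ZMod 13)) = !![1, 0; 0, 1]
    exact Matrix.one_fin_two
  | succ n ih =>
    rw [pow_succ, ih]
    apply Subtype.ext
    show !![1, (n : ZMod 13); 0, 1] * !![1, 1; 0, 1] = !![1, ((n + 1 : ℕ) : ZMod 13); 0, 1]
    rw [Matrix.mul_fin_two]
    push_cast
    ext i j
    (revert i j; simp [add_comm, _root_.Fin.forall_fin_succ])

/-- the group theory -/
structure GP {G : Type*} [Group G] (H S : Subgroup G) (y : G) : Prop where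
  le : S ≤ H
  nm : H ≤ Subgroup.normalizer (S : Set G)
  cj : ∀ h ∈ H, ∀ s ∈ S, h⁻¹ * s * h ∈ S
  two : ∀ a ∈ H, ∀ b ∈ H, a ∉ S → b ∉ S → a * b ∈ S
  mem : y ∈ S
  ne : y ≠ 1
  cent : Nat.card ↥(Subgroup.centralizer {y} ⊓ H) ≤ 13
  zp : ∀ x ∈ H, Commute y x → x ∈ Subgroup.zpowers y

theorem gp {G : Type*} [Group G] [Finite G] {H : Subgroup G} (φ : Q →* ↥H)
    (hN : φ.range.Normal) (hφ1 : ∀ g, φ g = 1 ↔ g = 1 ∨ g = -1)
    (hφ2 : ∀ a b : ↥H, a ∉ φ.range → b ∉ φ.range → a * b ∈ φ.range)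
    (hφc : Nat.card ↥(Subgroup.centralizer ({φ (uu 1)} : Set ↥H)) ≤ 13) :
    GP H (H.subtype.comp φ).range (H.subtype (φ (uu 1))) := by
  obtain ⟨y, hy⟩ : ∃ y : ↥H, y = φ (uu 1) := ⟨_, rfl⟩
  have hy' : (H.subtype (φ (uu 1)) : G) = (y : G) := by rw [hy]; rfl
  rw [hy']
  rw [← hy] at hφc
  obtain ⟨S, hS⟩ : ∃ S : Subgroup G, S = (H.subtype.comp φ).range := ⟨_, rfl⟩
  rw [← hS]
  have hmemS : ∀ g : ↥H, (g : G) ∈ S ↔ g ∈ φ.range := by
    intro g
    rw [hS]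
    constructor
    · rintro ⟨q, hq⟩
      exact ⟨q, Subtype.ext hq⟩
    · rintro ⟨q, hq⟩
      exact ⟨q, congrArg Subtype.val hq⟩
  have hSH : S ≤ H := by
    rw [hS]
    rintro _ ⟨q, rfl⟩
    exact (φ q).2
  have hconj : ∀ h ∈ H, ∀ s ∈ S, h * s * h⁻¹ ∈ S := by
    intro h hh s hs
    have h1 : (⟨s, hSH hs⟩ : ↥H) ∈ φ.range := (hmemS ⟨s, hSH hs⟩).1 hs
    exact (hmemS (⟨h, hh⟩ * ⟨s, hSH hs⟩ * ⟨h, hh⟩⁻¹)).2 (hN.conj_mem _ h1 ⟨h, hh⟩)
  have hconj' : ∀ h ∈ H, ∀ s ∈ S, h⁻¹ * s * h ∈ S := by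
    intro h hh s hs
    have := hconj h⁻¹ (H.inv_mem hh) s hs
    rwa [inv_inv] at this
  have hy1 : y ≠ 1 := by
    rw [hy]
    intro h
    rcases (hφ1 _).1 h with h1 | h1
    · have h2 := congrArg (fun g : Q => g.1 0 1) h1
      revert h2
      decide
    · have h2 := congrArg (fun g : Q => g.1 0 0) h1
      revert h2
      decide
  have hyp : y ^ 13 = 1 := by
    rw [hy, ← map_pow, uu_pow]
    have h1 : uu ((13 : ℕ) : ZMod 13) = 1 := by decide
    rw [h1, map_one]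
  have h13 : Fact (Nat.Prime 13) := ⟨by norm_num⟩
  have hyo : orderOf y = 13 := orderOf_eq_prime hyp hy1
  refine ⟨hSH, ?_, hconj', ?_, (hmemS y).2 ⟨uu 1, hy.symm⟩, fun h => hy1 (Subtype.ext h), ?_, ?_⟩
  · intro h hh
    rw [Subgroup.mem_normalizer_iff]
    intro s
    constructor
    · exact hconj h hh s
    · intro hs
      have := hconj' h hh _ hs
      have e : h⁻¹ * (h * s * h⁻¹) * h = s := by group
      rwa [e] at this
  · intro a ha b hb haS hbS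
    exact (hmemS (⟨a, ha⟩ * ⟨b, hb⟩)).2 (hφ2 ⟨a, ha⟩ ⟨b, hb⟩ (fun h => haS ((hmemS ⟨a, ha⟩).2 h))
      (fun h => hbS ((hmemS ⟨b, hb⟩).2 h)))
  · refine le_trans ?_ hφc
    refine Nat.card_le_card_of_injective (fun g => (⟨⟨g.1, g.2.2⟩, ?_⟩ : Subgroup.centralizer ({y} : Set ↥H))) ?_
    · rw [Subgroup.mem_centralizer_singleton_iff]
      exact Subtype.ext (Subgroup.mem_centralizer_singleton_iff.1 g.2.1)
    · intro g g' h
      have h1 := congrArg (fun z : Subgroup.centralizer ({y} : Set ↥H) => ((z : ↥H) : G)) h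
      exact Subtype.ext h1
  · intro x' hx' e2
    have h5 : (⟨x', hx'⟩ : ↥H) ∈ Subgroup.centralizer ({y} : Set ↥H) := by
      rw [Subgroup.mem_centralizer_singleton_iff]
      exact Subtype.ext e2.symm.eq
    have h6 : Subgroup.zpowers y ≤ Subgroup.centralizer ({y} : Set ↥H) := by
      rw [Subgroup.zpowers_le, Subgroup.mem_centralizer_singleton_iff]
    have h7 : Subgroup.zpowers y = Subgroup.centralizer ({y} : Set ↥H) := by
      apply Subgroup.eq_of_le_of_card_ge h6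
      rw [Nat.card_zpowers, hyo]
      exact hφc
    rw [← h7] at h5
    obtain ⟨k, hk⟩ := h5
    exact ⟨k, congrArg Subtype.val hk⟩

theorem lin3 (v : LL) : v + v = -v := by
  funext i
  have h4 : ∀ c : ZMod 3, c + c = -c := by decide
  exact h4 (v i)

/-- the common eigenvectors -/
def BB (H S : Subgroup E) : Set LL := {b : LL | b ≠ 0 ∧ (∀ s ∈ S, ac s b = b) ∧ ∀ g ∈ H, ac g b = b ∨ ac g b = -b}

theorem card_BB {H S : Subgroup E} {y : E} (hg : GP H S y) : ∃ x y : ℕ,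
    {v : LL | ∀ s ∈ S, ac s v = v}.ncard ≤ x * y ∧ x + y ≤ (BB H S).ncard + 2 :=
  by
  have key := card_abs (G := E) (V := LL) ac
  have key1 := key ac_mul ac_add ac_neg
  have key2 := key1 lin3 (S := S) (H := H)
  exact key2 hg.cj hg.two

theorem ne_bot {H S : Subgroup E} {y : E} (hg : GP H S y) : H ≠ ⊥ := by
  intro h
  have h4 := hg.le hg.mem
  rw [h, Subgroup.mem_bot] at h4
  exact hg.ne h4

theorem count_BB {H S : Subgroup E} (hH : IsCoatom H) {y : E} (hg : GP H S y) :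
    (BB H S).ncard * Nat.card ↥(Subgroup.centralizer {y}) ≤ 13 * Nat.card {v : LL // ac y v = v} := by
  have hfin : (BB H S).Finite := Set.toFinite _
  have h6 := End.count hH (ne_bot hg) (y := y) (B := hfin.toFinset)
    (fun b hb => by
      have hb' : b ∈ BB H S := hfin.mem_toFinset.1 hb
      exact ⟨hb'.1, hb'.2.1 _ hg.mem, hb'.2.2⟩) hg.cent
  have h7 : hfin.toFinset.card = (BB H S).ncard := (Set.ncard_eq_toFinset_card _ hfin).symm
  rwa [h7] at h6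

/-- COUNT -/
theorem hcount {H S : Subgroup E} (hH : IsCoatom H) {y : E} (hg : GP H S y) {n a : ℕ}
    (h1 : n * Nat.card ↥(Subgroup.centralizer {y}) > 13 * Nat.card {v : LL // ac y v = v})
    (h2 : 3 ^ a ≤ {v : LL | ∀ s ∈ S, ac s v = v}.ncard)
    (h3 : ∀ x y m : ℕ, 3 ^ a ≤ x * y → x + y ≤ m + 2 → n ≤ m) : False := by
  obtain ⟨x, z, hx, hz⟩ := card_BB hg
  have h5 := h3 x z _ (h2.trans hx) hz
  have h6 := count_BB hH hg
  have h7 := Nat.mul_le_mul_right (Nat.card ↥(Subgroup.centralizer {y})) h5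
  exact absurd (h7.trans h6) (not_le.2 h1)

theorem main {H S : Subgroup E} (hH : IsCoatom H) {y : E} (hg : GP H S y) {a : ℕ}
    (hfr : {v : LL | ∀ s ∈ S, ac s v = v}.ncard = 3 ^ a)
    (hd : (Partner 13 y ∧ 1 ≤ a) ∨
      (16 * Nat.card ↥(Subgroup.centralizer {y}) > 13 * Nat.card {v : LL // ac y v = v} ∧ 4 ≤ a) ∨
      (484 * Nat.card ↥(Subgroup.centralizer {y}) > 13 * Nat.card {v : LL // ac y v = v} ∧ 11 ≤ a)) : False := by
  rcases hd with ⟨⟨x', e1, e2, e3, e4⟩, ha⟩ | ⟨hc, ha⟩ | ⟨hc, ha⟩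
  · -- CENTRE
    have hS1 : S ≠ ⊥ := by
      intro h
      have h4 := hg.mem
      rw [h, Subgroup.mem_bot] at h4
      exact hg.ne h4
    have hv : fixV S ≠ ⊥ := by
      intro h
      have h5 : {v : LL | ∀ s ∈ S, ac s v = v} ⊆ {0} := by
        intro v hv
        have h6 : v ∈ fixV S := hv
        rwa [h, Submodule.mem_bot] at h6
      have h6 := Set.ncard_le_ncard h5 (Set.toFinite _)
      rw [hfr, Set.ncard_singleton] at h6
      have h7 := Nat.pow_le_pow_right (show 0 < 3 by norm_num) ha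
      omega
    exact e3 (hg.zp x' (mem_of_partner hH hS1 hg.nm hv hg.mem e4) e2)
  · exact hcount hH hg (a := 4) hc ((Nat.pow_le_pow_right (by norm_num) ha).trans (le_of_eq hfr.symm))
      fun x y m h h' => sixteen h h'
  · exact hcount hH hg (a := 11) hc ((Nat.pow_le_pow_right (by norm_num) ha).trans (le_of_eq hfr.symm))
      fun x y m h h' => many h h'

theorem ncard_fix {G : Type*} [Group G] (F : G →* E) :
    {v : LL | ∀ s ∈ F.range, ac s v = v}.ncard = 3 ^ finrank (ZMod 3) (fixV F.range) := by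
  have h5 : {v : LL | ∀ s ∈ F.range, ac s v = v} = (fixV F.range : Set LL) := rfl
  rw [h5, ← Nat.card_coe_set_eq]
  have h6 : Nat.card ↥(fixV F.range) = Nat.card (ZMod 3) ^ finrank (ZMod 3) ↥(fixV F.range) :=
    Module.natCard_eq_pow_finrank (K := ZMod 3)
  rw [Nat.card_zmod] at h6
  exact h6

theorem fix_eq (F : Q →* E) : (fixP (rp F) fun _ => True) = fixV F.range := by
  ext v
  constructor
  · rintro h _ ⟨q, rfl⟩
    exact h q trivial
  · intro h q _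
    exact h _ ⟨q, rfl⟩

/-- **END13** -/
theorem row13 (h1 : R1) (h2 : R2) (h3 : Num13) (h4 : Grp13.{u}) : Row13.{u} := by
  intro K _ _ hK H he hH
  obtain ⟨φ, hφr, hφ1, hφ2, hφc⟩ := h4 K hK ↥H he
  have hN : (generalizedFittingSubgroup ↥H).Normal := Lib.GenFitting.genFitting_normal
  rw [← hφr] at hN
  have hd := dims h1 h2 h3 (H.subtype.comp φ) fun g => by
    rw [← hφ1]
    exact ⟨fun h => Subtype.ext h, fun h => congrArg Subtype.val h⟩
  rw [fix_eq] at hd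
  exact main hH (gp φ hN hφ1 hφ2 hφc) (ncard_fix (H.subtype.comp φ)) hd

end Cfsg.Agent.H108.L13
end

-- part: S5919
section
set_option autoImplicit false
open Cfsg

namespace Cfsg.Agent.S5919

/-- Let G be the Chevalley group of type E₈ over the field with three elements (generated by its root elements in the 248-dimensional adjoint representation; it is the simple group E₈(3)), and let H be a subgroup of G whose generalized Fitting subgroup F*(H) is isomorphic to one of: the Suzuki group Sz(8), the orthogonal group Ω⁺₈(2) (commutator subgroup of the isometry group of the hyperbolic quadratic form in dimension 8 over the field with two elements), PSL₂(13), or the symplectic group Sp₆(2). Then H is not a maximal subgroup of G. Here F₈ and F₁₃ denote fields with 8 and 13 elements. -/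
theorem result
    {F₈ F₁₃ : Type*} [Field F₈] [Fintype F₈] (h8 : Fintype.card F₈ = 8) [Field F₁₃] [Fintype F₁₃] (h13 : Fintype.card F₁₃ = 13)
    (H : Subgroup ↥(Cfsg.Lie.chevE8.group (ZMod 3)))
    (hH : Nonempty (↥(Cfsg.generalizedFittingSubgroup ↥H) ≃* ↥(Cfsg.Lie.Sz F₈ 4)) ∨ Nonempty (↥(Cfsg.generalizedFittingSubgroup ↥H) ≃* Cfsg.Omega (ZMod 2) (Cfsg.quadFormPlus 4 (ZMod 2))) ∨
      Nonempty (↥(Cfsg.generalizedFittingSubgroup ↥H) ≃* Matrix.ProjectiveSpecialLinearGroup (Fin 2) F₁₃) ∨ Nonempty (↥(Cfsg.generalizedFittingSubgroup ↥H) ≃* Matrix.symplecticGroup (Fin 3) (ZMod 2))) :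
    ¬ IsCoatom H := by
  rcases hH with hH | hH | hH | hH
  · exact Cfsg.Agent.H887.Sz.row Cfsg.Agent.H887.Sz.numSz Cfsg.Agent.H934.Sz.dims Cfsg.Agent.H887.Sz.grp F₈ h8 H hH
  · exact Cfsg.Agent.H942.S62.rowO8 H hH
  · exact Cfsg.Agent.H108.L13.row13 Cfsg.Agent.H530.L13.r1 Cfsg.Agent.H540.E8C.L13.r2 Cfsg.Agent.H775.L13.num13
      Cfsg.Agent.H1.L13.grp13 F₁₃ h13 H hH
  · exact Cfsg.Agent.H942.S62.rowSp H hH

end Cfsg.Agent.S5919
end

private theorem dce_cf59a3e58435 : _root_.True := by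
  try have : _root_.True := by simp only [_root_.Cfsg.Agent.H540.E8C.L13.Tr.ins.eq_3]
  try have : _root_.True := by simp only [_root_.Cfsg.Agent.H540.E8C.L13.evM.eq_1]
  try have : _root_.True := by simp only [_root_.Cfsg.Agent.H540.E8C.L13.addT.eq_def]
  try have : _root_.True := by simp only [_root_.Cfsg.Agent.H540.E8C.L13.Tr.ins.eq_def]
  try have : _root_.True := by simp only [_root_.Cfsg.Agent.H540.E8C.L13.ev.eq_1]
  try have : _root_.True := by simp only [_root_.Cfsg.Agent.H540.E8C.L13.evT.eq_1]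
  try have : _root_.True := by simp only [_root_.Cfsg.Agent.H540.E8C.L13.KV4.eq_1]
  try have : _root_.True := by simp only [_root_.Cfsg.Agent.H540.E8C.L13.addT.eq_2]
  try have : _root_.True := by simp only [_root_.Cfsg.Agent.H540.E8C.L13.om.eq_1]
  try have : _root_.True := by simp only [_root_.Cfsg.Agent.H540.E8C.L13.Kw.eq_1]
  try have : _root_.True := by simp only [_root_.Cfsg.Agent.H540.E8C.L13.mkQ.congr_simp]
  try have : _root_.True := by simp only [_root_.Cfsg.Agent.H530.L13.ss.eq_1]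
  try have : _root_.True := by simp only [_root_.Cfsg.Agent.H540.E8C.L13.addT.eq_1]
  try have : _root_.True := by simp only [_root_.Cfsg.Agent.H540.E8C.L13.ww.eq_1]
  try have : _root_.True := by simp only [_root_.Cfsg.Agent.H540.E8C.L13.M0.eq_1]
  try have : _root_.True := by simp only [_root_.Cfsg.Agent.H540.E8C.L13.Tr.toL.eq_1]
  try have : _root_.True := by simp only [_root_.Cfsg.Agent.H540.E8C.L13.Tr.toL.eq_def]
  try have : _root_.True := by simp only [_root_.Cfsg.Agent.H540.E8C.L13.Tr.toL.eq_2]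
  try have : _root_.True := by simp only [_root_.Cfsg.Agent.H540.E8C.L13.uu.eq_1]
  try have : _root_.True := by simp only [_root_.Cfsg.Agent.H540.E8C.L13.evT.eq_def]
  try have : _root_.True := by simp only [_root_.Cfsg.Agent.H540.E8C.L13.evT.eq_2]
  try have : _root_.True := by simp only [_root_.Cfsg.Agent.H540.E8C.L13.KN.eq_1]
  try have : _root_.True := by simp only [_root_.Cfsg.Agent.H540.E8C.L13.Tr.ins.eq_4]
  try have : _root_.True := by simp only [_root_.Cfsg.Agent.H540.E8C.L13.opK.eq_1]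
  try have : _root_.True := by simp only [_root_.Cfsg.Agent.H540.E8C.L13.evL.eq_1]
  try have : _root_.True := by simp only [_root_.Cfsg.Agent.H540.E8C.L13.Tr.ins.eq_1]
  try have : _root_.True := by simp only [_root_.Cfsg.Agent.H540.E8C.L13.Tr.ins.eq_2]
  exact _root_.True.intro
end
end
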