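import Cfsg.Agent.H597.E8Form
import Cfsg.Agent.H451.L7.Dim_m3
import Mathlib
import Cfsg.Agent.H540.E8C.Centre
import Cfsg.Agent.Lib.FinFast
import Cfsg.Agent.H834.E8.NoFix
import Cfsg.Agent.H942.Core
import Cfsg.Agent.S0813
import Cfsg.Agent.S0265
import Cfsg.Agent.S1265
import Cfsg.Agent.ClassicalGeometry.PSL2Basic
import Cfsg.Agent.ClassicalGeometry.PSL2Solvable
import Cfsg.Agent.LieClassical.FieldTransfer
import Cfsg.Agent.SmallSimple.PSLTwoPart
import Cfsg.Statements.S5920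
import Cfsg.Agent.FastGrp
import Cfsg.Agent.Prune
set_option linter.all false

section
prune_inst 0x7ffceefbabe8b9dfffff7e3faedcdffdf1ac8fffe6dff9cb7fe06b9fabdf230089c5fbad8fe010fe1e96c21410b87853f97eeeffe86bd87ffffd1ff41ffbee0fb5e7350051949c341fbc0ff683f0778e6f3fffffffffffffffffffffffffffaeffbdfbfeffff

-- part: H296/L7/RepH_mg
section
prune_inst 0x10104500442200000000051020000000320001000000080000420102048ab0200000200028800804020a80002030006811100000424000000e000000000504218000c2049208a004260001000082000000000000000000000000000000051004200000000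
set_option linter.all false
open scoped Cfsg.Agent.FastGrp

/-- decoders of the packed data (elaboration time only) -/
private noncomputable def pk61d (b S i : Nat) : Nat := Nat.mod (Nat.shiftRight S (Nat.mul b i)) (Nat.shiftLeft (nat_lit 1) b)
private noncomputable def pk61c {α : Type} (t : Nat) (a : α) (f : Nat → α) : α := Nat.rec a (fun k _ => f k) t
private noncomputable def pk61f {α : Type} (t : Nat) (f : Nat → α) : α := Nat.rec (f Nat.zero) (fun k _ => f (Nat.succ k)) t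
private noncomputable def pk61l {α : Type} (f : Nat → α) (s e : Nat) (tl : List α) : List α :=
  pk61f e fun e => Nat.rec tl (fun k ih => List.cons (pk61f (Nat.sub e (Nat.succ k)) f) ih) (Nat.sub e s)
private noncomputable def pk61o {α : Type} (O : (n : Nat) → OfNat α n → α) (I : (n : Nat) → OfNat α n) (t : Nat) : α :=
  pk61c t (O (nat_lit 0) (I (nat_lit 0))) fun k => O (Nat.succ k) (I (Nat.succ k))
private noncomputable def pk61y (O : (n : Nat) → OfNat Int n → Int) (I : (n : Nat) → OfNat Int n) (G : Int → Int) (t : Nat) : Int := pk61f t fun t =>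
  pk61c (Nat.mod t (nat_lit 2)) (pk61o O I (Nat.div t (nat_lit 2))) fun _ => G (pk61o O I (Nat.succ (Nat.div t (nat_lit 2))))

private noncomputable def lq26b3e5ed9c {T : Sort _} (f :
    type_of% (@_root_.List.cons.{0} (Nat)) →
    type_of% (@_root_.List.cons.{0}) →
    type_of% (@_root_.List.nil.{0}) →
    type_of% (@_root_.List.cons.{0} (List Nat)) →
    type_of% (@_root_.Prod.mk.{0, 0}) →
    type_of% (@_root_.Cfsg.Agent.H942.CB.Cert.mk) →
    type_of% (@_root_.Int.subNatNat) →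
    type_of% (@_root_.Cfsg.Agent.H942.E8Val.t8) →
    type_of% (@_root_.Cfsg.Agent.H944.Tab.allAlc) →
    type_of% (@_root_.Cfsg.Agent.H942.E8Tab.th8) →
    type_of% (@_root_.Cfsg.Agent.H944.Tab.invB) →
    type_of% (@_root_.Cfsg.Agent.H942.E8Tab.R8) →
    type_of% (@_root_.Decidable.decide) →
    type_of% (@_root_.Bool.true) → T) : T :=
  f (@_root_.List.cons.{0} (Nat)) (@_root_.List.cons.{0}) (@_root_.List.nil.{0}) (@_root_.List.cons.{0} (List Nat)) (@_root_.Prod.mk.{0, 0}) (@_root_.Cfsg.Agent.H942.CB.Cert.mk) (@_root_.Int.subNatNat) (@_root_.Cfsg.Agent.H942.E8Val.t8) (@_root_.Cfsg.Agent.H944.Tab.allAlc) (@_root_.Cfsg.Agent.H942.E8Tab.th8) (@_root_.Cfsg.Agent.H944.Tab.invB) (@_root_.Cfsg.Agent.H942.E8Tab.R8) (@_root_.Decidable.decide) (@_root_.Bool.true)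

namespace Cfsg.Agent
section
open Cfsg.Agent.H942.CB (sL actW)

private def KF : Type := ℕ → ℕ → ℕ → ℕ → ℕ → ℕ → ℕ → ℕ → ℕ → ℕ → ℕ → ℕ → ℕ → ℕ → ℕ → ℕ → List ℤ

private def q0 (k : KF) : KF := fun a A b B c C d D e E f F g G h H => k A a b B (Nat.add c a) (Nat.add C A) d D e E f F g G h H
private def q1 (k : KF) : KF := fun a A b B c C d D e E f F g G h H => k a A B b c C (Nat.add d b) (Nat.add D B) e E f F g G h H
private def q2 (k : KF) : KF := fun a A b B c C d D e E f F g G h H =>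
  k (Nat.add a c) (Nat.add A C) b B C c (Nat.add d c) (Nat.add D C) e E f F g G h H
private def q3 (k : KF) : KF := fun a A b B c C d D e E f F g G h H =>
  k a A (Nat.add b d) (Nat.add B D) (Nat.add c d) (Nat.add C D) D d (Nat.add e d) (Nat.add E D) f F g G h H
private def q4 (k : KF) : KF := fun a A b B c C d D e E f F g G h H =>
  k a A b B c C (Nat.add d e) (Nat.add D E) E e (Nat.add f e) (Nat.add F E) g G h H
private def q5 (k : KF) : KF := fun a A b B c C d D e E f F g G h H =>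
  k a A b B c C d D (Nat.add e f) (Nat.add E F) F f (Nat.add g f) (Nat.add G F) h H
private def q6 (k : KF) : KF := fun a A b B c C d D e E f F g G h H =>
  k a A b B c C d D e E (Nat.add f g) (Nat.add F G) G g (Nat.add h g) (Nat.add H G)
private def q7 (k : KF) : KF := fun a A b B c C d D e E f F g G h H => k a A b B c C d D e E f F (Nat.add g h) (Nat.add G H) H h

private noncomputable def qS (i : ℕ) : KF → KF :=
  @Bool.rec (fun _ => KF → KF) (@Bool.rec (fun _ => KF → KF) (@Bool.rec (fun _ => KF → KF) (@Bool.rec (fun _ => KF → KF) (fun k => k) q7 (Nat.ble i 7)) q6 (Nat.ble i 6))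
      (@Bool.rec (fun _ => KF → KF) q5 q4 (Nat.ble i 4)) (Nat.ble i 5))
    (@Bool.rec (fun _ => KF → KF) (@Bool.rec (fun _ => KF → KF) q3 q2 (Nat.ble i 2)) (@Bool.rec (fun _ => KF → KF) q1 q0 (Nat.ble i 0)) (Nat.ble i 1))
    (Nat.ble i 3)

private def qE : KF := (beta% delta% lq26b3e5ed9c fun _ j l _ _ _ p _ _ _ _ _ _ _ =>
 fun a A b B c C d D e E f F g G h H =>
 (j (p a A)<|j (p b B)<|j (p c C)<|j (p d D)<|j (p e E)<|j (p f F)<|
 j (p g G)<|j (p h H)<|l))

private noncomputable def qR (ω : List ℕ) : KF := List.rec qE (fun i _ ih => qS i ih) ω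

private noncomputable def qF (ω : List ℕ) : List ℤ → List ℤ
  | [a, b, c, d, e, f, g, h] => qR ω a.toNat (-a).toNat b.toNat (-b).toNat c.toNat (-c).toNat d.toNat (-d).toNat e.toNat
      (-e).toNat f.toNat (-f).toNat g.toNat (-g).toNat h.toNat (-h).toNat
  | c => actW ω c

private theorem actW_eq : actW = qF := by
  have h1 : ∀ a A : ℕ, -Int.subNatNat a A = Int.subNatNat A a := fun a A => by
    rw [Int.subNatNat_eq_coe, Int.subNatNat_eq_coe]
    omega
  have h2 : ∀ a A b B : ℕ, Int.subNatNat a A + Int.subNatNat b B = Int.subNatNat (Nat.add a b) (Nat.add A B) := fun a A b B => by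
    rw [Int.subNatNat_eq_coe, Int.subNatNat_eq_coe, Int.subNatNat_eq_coe, Nat.add_eq, Nat.add_eq]
    omega
  have h3 : ∀ a : ℤ, Int.subNatNat a.toNat (-a).toNat = a := fun a => by
    rw [Int.subNatNat_eq_coe]
    omega
  have h4 : ∀ (ω : List ℕ) a A b B c C d D e E f F g G h H,
      actW ω (qE a A b B c C d D e E f F g G h H) = qR ω a A b B c C d D e E f F g G h H := fun ω => by
    induction ω with
    | nil => exact fun _ _ _ _ _ _ _ _ _ _ _ _ _ _ _ _ => rfl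
    | cons i ω ih =>
      intro a A b B c C d D e E f F g G h H
      show actW ω (sL i (qE a A b B c C d D e E f F g G h H)) = qS i (qR ω) a A b B c C d D e E f F g G h H
      match i with
      | 0 | 1 | 2 | 3 | 4 | 5 | 6 | 7 =>
        refine Eq.trans (congrArg (actW ω) ?_) (ih ..)
        conv_lhs => whnf
        simp only [h1, h2]
        rfl
      | n + 8 => exact ih ..
  funext ω c
  unfold qF
  split
  · rw [← h4]
    delta qE
    simp only [h3]
  · rfl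

end
section
open Cfsg.Agent.H944.Tab (dotN sumH invB hh)

private noncomputable def fS (x : ℕ) (f : ℕ → ℕ) : ℕ := Nat.rec (f 0) (fun n _ => f (Nat.succ n)) x

private noncomputable def zpS (B : ℕ) (r : List ℕ) : List ℕ → List ℕ :=
  List.rec (fun c => c.map (Nat.mul B)) (fun a _ ih c => Nat.add a (Nat.mul B (c.headD 0)) :: ih c.tail) r

private noncomputable def colS (B : ℕ) (R : List (List ℕ)) : List ℕ := List.rec [] (fun r _ ih => zpS B r ih) R

private noncomputable def pkS (B : ℕ) (y : List ℕ) (R : List (List ℕ)) : ℕ :=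
  List.rec 0 (fun r _ ih => dotN r y + B * ih) R

private noncomputable def dgS (h : ℕ → ℕ) (R : List (List ℕ)) : ℕ → ℕ :=
  List.rec (fun _ => 0) (fun _ _ ih D => Nat.add (fS (Nat.mod D 1048576) h) (ih (Nat.div D 1048576))) R

private noncomputable def sumS (h : ℕ → ℕ) (R : List (List ℕ)) (y : List ℕ) : ℕ :=
  cond (Nat.blt (dotN (colS 1 R) y) 1048576) (dgS h R (dotN (colS 1048576 R) y)) (sumH h R y)

private def gS (N q t : ℕ) : ℕ := Nat.add (hh N t) (Nat.mul 2305843009213693950 (hh N (q * t)))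

private noncomputable def invS (N q : ℕ) (R : List (List ℕ)) (y : List ℕ) : Bool :=
  cond (Nat.beq (Nat.mod (sumS (gS N q) R y) 2305843009213693951) 0)
    (Nat.beq (sumS (hh N) R y) (sumS (fun t => hh N (q * t)) R y)) false

private theorem zpS_dot (B : ℕ) (r : List ℕ) : ∀ c y : List ℕ, dotN (zpS B r c) y = dotN r y + B * dotN c y := by
  have d0 : ∀ y, dotN [] y = 0 := fun y => by cases y <;> rfl
  have d1 : ∀ y, dotN y [] = 0 := fun y => by cases y <;> rfl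
  have h0 : ∀ (B : ℕ) (c y : List ℕ), dotN (c.map (Nat.mul B)) y = B * dotN c y := fun B c => by
    induction c with
    | nil => exact fun y => (d0 y).trans (by rw [d0]; rfl)
    | cons b c ih =>
      intro y
      cases y with
      | nil => exact (d1 _).trans (by rw [d1]; rfl)
      | cons x y =>
        show B * b * x + dotN (c.map (Nat.mul B)) y = B * (b * x + dotN c y)
        rw [ih, Nat.mul_add, Nat.mul_assoc]
  induction r with
  | nil => exact fun c y => (h0 B c y).trans (by rw [d0, Nat.zero_add])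
  | cons a r ih =>
    intro c y
    cases y with
    | nil => rw [d1, d1, d1]; rfl
    | cons x y =>
      show (a + B * c.headD 0) * x + dotN (zpS B r c.tail) y = a * x + dotN r y + B * dotN c (x :: y)
      rw [ih]
      cases c with
      | nil =>
        show (a + B * 0) * x + (dotN r y + B * dotN [] y) = a * x + dotN r y + B * 0
        rw [d0, Nat.mul_zero, Nat.add_zero, Nat.add_zero, Nat.add_zero]
      | cons b c =>
        show (a + B * b) * x + (dotN r y + B * dotN c y) = a * x + dotN r y + B * (b * x + dotN c y)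
        rw [Nat.add_mul, Nat.mul_add, Nat.mul_assoc, Nat.add_add_add_comm]

private theorem sumS_eq : sumH = sumS := by
  have h2 : ∀ (B : ℕ) (y : List ℕ) (R : List (List ℕ)), dotN (colS B R) y = pkS B y R := fun B y R => by
    induction R with
    | nil => cases y <;> rfl
    | cons r R ih => exact (zpS_dot B r (colS B R) y).trans (congrArg (fun z => dotN r y + B * z) ih)
  have h3 : ∀ (h : ℕ → ℕ) (y : List ℕ) (R : List (List ℕ)), pkS 1 y R < 1048576 →
      sumH h R y = dgS h R (pkS 1048576 y R) := fun h y R => by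
    induction R with
    | nil => exact fun _ => rfl
    | cons r R ih =>
      intro hl
      have e0 : dotN r y + 1 * pkS 1 y R < 1048576 := hl
      have e1 : (dotN r y + 1048576 * pkS 1048576 y R) % 1048576 = dotN r y := by omega
      have e2 : (dotN r y + 1048576 * pkS 1048576 y R) / 1048576 = pkS 1048576 y R := by omega
      show h (dotN r y) + sumH h R y = fS ((dotN r y + 1048576 * pkS 1048576 y R) % 1048576) h +
        dgS h R ((dotN r y + 1048576 * pkS 1048576 y R) / 1048576)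
      rw [e1, e2, ih (by omega)]
      cases dotN r y <;> rfl
  funext h R y
  delta sumS
  rw [h2, h2]
  cases e : Nat.blt (pkS 1 y R) 1048576 with
  | false => rfl
  | true => exact h3 h y R (Nat.blt_eq.mp e)

private theorem invS_eq : invB = invS := by
  have h0 : ∀ (N q : ℕ) (y : List ℕ) (R : List (List ℕ)), sumH (gS N q) R y =
      sumH (hh N) R y + 2305843009213693950 * sumH (fun t => hh N (q * t)) R y := fun N q y R => by
    induction R with
    | nil => rfl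
    | cons r R ih =>
      show hh N (dotN r y) + 2305843009213693950 * hh N (q * dotN r y) + sumH (gS N q) R y =
        hh N (dotN r y) + sumH (hh N) R y + 2305843009213693950 * (hh N (q * dotN r y) + sumH (fun t => hh N (q * t)) R y)
      rw [ih, Nat.mul_add, Nat.add_add_add_comm]
  funext N q R y
  delta invS invB
  rw [← sumS_eq, h0]
  cases e : Nat.beq (sumH (hh N) R y) (sumH (fun t => hh N (q * t)) R y) with
  | false => exact (Bool.cond_self _ _).symm
  | true =>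
    rw [Nat.eq_of_beq_eq_true e]
    generalize sumH (fun t => hh N (q * t)) R y = s
    rw [show Nat.mod (s + 2305843009213693950 * s) 2305843009213693951 = 0 from
      (show (s + 2305843009213693950 * s) % 2305843009213693951 = 0 by omega)]
    rfl

end

private noncomputable def alS (n : ℕ) (p : ℕ → Bool) : Bool :=
  Nat.rec true (fun i r => @Bool.rec (fun _ => Bool) false r (p i)) n

private noncomputable def alcS (θ : List ℕ) : ℕ → (List ℕ → Bool) → Bool :=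
  List.rec (fun _ p => p []) (fun t _ ih N p => alS (Nat.succ (Nat.div N t)) fun x =>
    ih (Nat.sub N (Nat.mul t x)) fun y => p (x :: y)) θ

private theorem alS_eq (k : ℕ) (p : ℕ → Bool) : (List.range k).all p = alS k p := by
  induction k with
  | zero => rfl
  | succ k ih =>
    rw [List.range_succ, List.all_append, ih, List.all_cons, List.all_nil]
    show _ = @Bool.rec (fun _ => Bool) false (alS k p) (p k)
    cases p k <;> cases alS k p <;> rfl

private theorem alcS_eq : Cfsg.Agent.H944.Tab.allAlc = alcS := by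
  funext θ
  induction θ with
  | nil => rfl
  | cons t θ ih =>
    funext N p
    show (List.range (N / t + 1)).all (fun x => Cfsg.Agent.H944.Tab.allAlc θ (N - t * x) fun y => p (x :: y)) = _
    rw [alS_eq, ih]
    rfl
end Cfsg.Agent

-- part: H296/L7/Elts
section
/-!
# The group elements and relations for `RepH` (S5920)
-/

set_option autoImplicit false

namespace Cfsg.Agent.H296.L7

open Cfsg.Agent.H942.L7

def N0 : ↥P336 := ⟨nn, Subgroup.subset_closure (by simp)⟩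
def G0 : ↥P336 := ⟨g6, Subgroup.subset_closure (by simp)⟩
def W0 : ↥P336 := ⟨ww, Subgroup.subset_closure (by simp)⟩
def H0 : ↥P336 := G0 ^ 2
def R0 : ↥P336 := G0 ^ 3

theorem coe_N0 : (N0 : Equiv.Perm (Fin 8)) = nn := rfl
theorem coe_W0 : (W0 : Equiv.Perm (Fin 8)) = ww := rfl
theorem coe_H0 : (H0 : Equiv.Perm (Fin 8)) = g6 ^ 2 := rfl
theorem N7 : N0 ^ 7 = 1 := Subtype.ext (by decide)
theorem HHH : H0 * (H0 * H0) = 1 := Subtype.ext (by decide)
theorem WW : W0 * W0 = 1 := Subtype.ext (by decide)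
theorem RR : R0 * R0 = 1 := Subtype.ext (by decide)
theorem HN : H0 * N0 = N0 ^ 2 * H0 := Subtype.ext (by decide)
theorem WH : W0 * H0 = H0 * (H0 * W0) := Subtype.ext (by decide)
theorem RN : R0 * N0 = N0 ^ 6 * R0 := Subtype.ext (by decide)
theorem RH : R0 * H0 = H0 * R0 := Subtype.ext (by decide)
theorem RW : R0 * W0 = W0 * R0 := Subtype.ext (by decide)

theorem w1 : W0 * (N0 ^ 1 * W0) = N0 ^ 6 * (W0 * N0 ^ 6) := Subtype.ext (by decide)
theorem w2 : W0 * (N0 ^ 2 * W0) = N0 ^ 3 * (H0 * (W0 * N0 ^ 3)) := Subtype.ext (by decide)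
theorem w3 : W0 * (N0 ^ 3 * W0) = N0 ^ 2 * (H0 * (H0 * (W0 * N0 ^ 2))) := Subtype.ext (by decide)
theorem w4 : W0 * (N0 ^ 4 * W0) = N0 ^ 5 * (H0 * (H0 * (W0 * N0 ^ 5))) := Subtype.ext (by decide +kernel)
theorem w5 : W0 * (N0 ^ 5 * W0) = N0 ^ 4 * (H0 * (W0 * N0 ^ 4)) := Subtype.ext (by decide +kernel)
theorem w6 : W0 * (N0 ^ 6 * W0) = N0 ^ 1 * (W0 * N0 ^ 1) := Subtype.ext (by decide)

/-! ### the elements of the dihedral groups -/

def Z1 : ↥P336 := N0 ^ 2 * (H0 * (W0 * N0 ^ 5))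
def Z2 : ↥P336 := N0 * (H0 * (H0 * (W0 * N0 ^ 6)))
def Z3 : ↥P336 := N0 ^ 4 * (W0 * N0 ^ 3)
def T0 : ↥P336 := N0 ^ 5 * (W0 * N0 ^ 2)
def T1 : ↥P336 := N0 ^ 6 * (W0 * N0 ^ 4)
def T2 : ↥P336 := H0 * W0
def T3 : ↥P336 := N0 ^ 3 * (W0 * N0)
def A1 : ↥P336 := N0 ^ 3 * (W0 * N0 ^ 4)
def A2 : ↥P336 := N0 ^ 6 * (H0 * (H0 * (W0 * N0)))
def A3 : ↥P336 := N0 ^ 5 * (H0 * (W0 * N0 ^ 2))
def TA : ↥P336 := N0 * (H0 * (W0 * N0 ^ 6))

theorem coe_Z1 : (Z1 : Equiv.Perm (Fin 8)) = zb := by decide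
theorem coe_Z2 : (Z2 : Equiv.Perm (Fin 8)) = zb' := by decide
theorem coe_T0 : (T0 : Equiv.Perm (Fin 8)) = tb := by decide
theorem coe_A1 : (A1 : Equiv.Perm (Fin 8)) = za := by decide
theorem coe_A2 : (A2 : Equiv.Perm (Fin 8)) = za' := by decide
theorem coe_TA : (TA : Equiv.Perm (Fin 8)) = ta := by decide

theorem Z1Z1 : Z1 * Z1 = 1 := Subtype.ext (by decide +kernel)
theorem Z1Z2 : Z1 * Z2 = Z3 := Subtype.ext (by decide +kernel)
theorem Z1Z3 : Z1 * Z3 = Z2 := Subtype.ext (by decide +kernel)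
theorem Z2Z1 : Z2 * Z1 = Z3 := Subtype.ext (by decide +kernel)
theorem Z2Z2 : Z2 * Z2 = 1 := Subtype.ext (by decide +kernel)
theorem Z2Z3 : Z2 * Z3 = Z1 := Subtype.ext (by decide +kernel)
theorem Z1T0 : Z1 * T0 = T1 := Subtype.ext (by decide +kernel)
theorem Z1T1 : Z1 * T1 = T0 := Subtype.ext (by decide +kernel)
theorem Z1T2 : Z1 * T2 = T3 := Subtype.ext (by decide +kernel)
theorem Z1T3 : Z1 * T3 = T2 := Subtype.ext (by decide +kernel)
theorem Z2T0 : Z2 * T0 = T2 := Subtype.ext (by decide +kernel)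
theorem Z2T1 : Z2 * T1 = T3 := Subtype.ext (by decide +kernel)
theorem Z2T2 : Z2 * T2 = T0 := Subtype.ext (by decide +kernel)
theorem Z2T3 : Z2 * T3 = T1 := Subtype.ext (by decide +kernel)
theorem T0Z1 : T0 * Z1 = T3 := Subtype.ext (by decide +kernel)
theorem T0Z2 : T0 * Z2 = T2 := Subtype.ext (by decide +kernel)
theorem T0Z3 : T0 * Z3 = T1 := Subtype.ext (by decide +kernel)
theorem T0T0 : T0 * T0 = 1 := Subtype.ext (by decide)
theorem T0T1 : T0 * T1 = Z3 := Subtype.ext (by decide +kernel)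
theorem T0T2 : T0 * T2 = Z2 := Subtype.ext (by decide +kernel)
theorem T0T3 : T0 * T3 = Z1 := Subtype.ext (by decide +kernel)
theorem A1A1 : A1 * A1 = 1 := Subtype.ext (by decide)
theorem A1A2 : A1 * A2 = A3 := Subtype.ext (by decide +kernel)
theorem A1A3 : A1 * A3 = A2 := Subtype.ext (by decide +kernel)
theorem A2A1 : A2 * A1 = A3 := Subtype.ext (by decide +kernel)
theorem A2A2 : A2 * A2 = 1 := Subtype.ext (by decide +kernel)
theorem A2A3 : A2 * A3 = A1 := Subtype.ext (by decide +kernel)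
theorem TATA : TA * TA = 1 := Subtype.ext (by decide +kernel)
theorem TAA1 : TA * A1 = A1 * TA := Subtype.ext (by decide +kernel)
theorem TAA3 : TA * A3 = A2 * TA := Subtype.ext (by decide +kernel)
theorem HA1 : H0 * A1 = A2 * H0 := Subtype.ext (by decide +kernel)
theorem HA3 : H0 * A3 = A1 * H0 := Subtype.ext (by decide +kernel)
theorem TAH : TA * H0 = A2 * (H0 * (H0 * TA)) := Subtype.ext (by decide +kernel)
theorem Z1N : Z1 * N0 = N0 * TA := Subtype.ext (by decide +kernel)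
theorem Z1N4 : Z1 * N0 ^ 4 = N0 ^ 4 * A3 := Subtype.ext (by decide +kernel)
theorem Z2N : Z2 * N0 = N0 * (A1 * TA) := Subtype.ext (by decide +kernel)
theorem Z2N4 : Z2 * N0 ^ 4 = N0 ^ 4 * (A1 * (H0 * TA)) := Subtype.ext (by decide +kernel)
theorem T0N : T0 * N0 = N0 ^ 4 * (A2 * (H0 * (H0 * TA))) := Subtype.ext (by decide +kernel)
theorem T0N4 : T0 * N0 ^ 4 = N0 * (H0 * (H0 * TA)) := Subtype.ext (by decide +kernel)
theorem v0 : W0 * N0 ^ 0 = N0 ^ 0 * (A2 * (H0 * TA)) := Subtype.ext (by decide +kernel)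
theorem v1 : W0 * N0 ^ 1 = N0 ^ 2 * (A3 * H0) := Subtype.ext (by decide +kernel)
theorem v2 : W0 * N0 ^ 2 = N0 ^ 1 * (A2 * (H0 * H0)) := Subtype.ext (by decide +kernel)
theorem v3 : W0 * N0 ^ 3 = N0 ^ 6 * (A2 * (H0 * (H0 * TA))) := Subtype.ext (by decide +kernel)
theorem v4 : W0 * N0 ^ 4 = N0 ^ 4 * A1 := Subtype.ext (by decide)
theorem v5 : W0 * N0 ^ 5 = N0 ^ 5 * (A1 * (H0 * (H0 * TA))) := Subtype.ext (by decide +kernel)
theorem v6 : W0 * N0 ^ 6 = N0 ^ 3 * (H0 * (H0 * TA)) := Subtype.ext (by decide)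
theorem G0_eq : G0 = R0 * (H0 * H0) := Subtype.ext (by decide)
theorem cj0 : (N0 * (W0 * (N0 * (G0 * N0)))) * R0 = (W0 * R0) * (N0 * (W0 * (N0 * (G0 * N0)))) := Subtype.ext (by decide)
theorem cj2 : (G0 * (W0 * (N0 * (G0 * (W0 * N0))))) * R0 = (W0 * (N0 ^ 2 * R0)) ^ 3 * (G0 * (W0 * (N0 * (G0 * (W0 * N0))))) := Subtype.ext (by decide +kernel)
theorem cj5 : (G0 * (N0 * (W0 * (G0 * N0)))) * R0 = (W0 * (N0 ^ 5 * R0)) ^ 3 * (G0 * (N0 * (W0 * (G0 * N0)))) := Subtype.ext (by decide +kernel)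

end Cfsg.Agent.H296.L7
end

-- part: H296/L7/Ops
section
/-!
# The operators `h`, `om`, `r` on the space `W` of vectors fixed by `U₇` (S5920)
-/

set_option autoImplicit false

namespace Cfsg.Agent.H296.L7

open Cfsg.Agent.H942.L7 Module

variable {V : Type} [AddCommGroup V] [Module (ZMod 3) V] (ρ : Representation (ZMod 3) ↥P336 V)

omit [Module (ZMod 3) V] in
theorem m3 [Module (ZMod 3) V] {x y : V} (h : (1 : ZMod 3) • x = (1 : ZMod 3) • y) : x = y := by
  rwa [one_smul, one_smul] at h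

theorem rmul (g g' : ↥P336) (v : V) : ρ (g * g') v = ρ g (ρ g' v) := by
  rw [map_mul]; rfl

theorem rone (v : V) : ρ 1 v = v := by
  rw [map_one]; rfl

/-- the sum of the powers of `n` -/
def ee : V →ₗ[ZMod 3] V := ρ (N0 ^ 0) + ρ (N0 ^ 1) + ρ (N0 ^ 2) + ρ (N0 ^ 3) + ρ (N0 ^ 4) + ρ (N0 ^ 5) + ρ (N0 ^ 6)

theorem ee_apply (v : V) : ee ρ v = ρ (N0 ^ 0) v + ρ (N0 ^ 1) v + ρ (N0 ^ 2) v + ρ (N0 ^ 3) v + ρ (N0 ^ 4) v +
    ρ (N0 ^ 5) v + ρ (N0 ^ 6) v := rfl

theorem npow (i j : ℕ) (v : V) : ρ (N0 ^ i) (ρ (N0 ^ j) v) = ρ (N0 ^ (i + j)) v := by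
  rw [pow_add, rmul]

theorem npow7 (i : ℕ) (v : V) : ρ (N0 ^ (i + 7)) v = ρ (N0 ^ i) v := by
  rw [pow_add, N7, mul_one]

theorem n_ee (v : V) : ρ N0 (ee ρ v) = ee ρ v := by
  have h : ∀ i, ρ N0 (ρ (N0 ^ i) v) = ρ (N0 ^ (i + 1)) v := fun i => by rw [← rmul, ← pow_succ']
  simp only [ee_apply, map_add, h]
  rw [show N0 ^ (6 + 1) = N0 ^ 0 from by rw [N7, pow_zero]]
  abel

theorem ee_n (v : V) : ee ρ (ρ N0 v) = ee ρ v := by
  have h : ∀ i, ρ (N0 ^ i) (ρ N0 v) = ρ (N0 ^ (i + 1)) v := fun i => by rw [← rmul, ← pow_succ]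
  simp only [ee_apply, h]
  rw [show N0 ^ (6 + 1) = N0 ^ 0 from by rw [N7, pow_zero]]
  abel

theorem ee_npow (i : ℕ) (v : V) : ee ρ (ρ (N0 ^ i) v) = ee ρ v := by
  induction i with
  | zero => rw [pow_zero, rone]
  | succ i ih => rw [pow_succ', rmul, ee_n, ih]

variable {ρ} in
theorem npow_fix {v : V} (hv : ρ N0 v = v) (i : ℕ) : ρ (N0 ^ i) v = v := by
  induction i with
  | zero => rw [pow_zero, rone]
  | succ i ih => rw [pow_succ', rmul, ih, hv]

variable {ρ} in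
theorem ee_fix {v : V} (hv : ρ N0 v = v) : ee ρ v = v := by
  simp only [ee_apply, npow_fix hv]
  exact m3 (by match_scalars <;> decide)

theorem ee_ee (v : V) : ee ρ (ee ρ v) = ee ρ v := ee_fix (n_ee ρ v)

theorem h_ee (v : V) : ρ H0 (ee ρ v) = ee ρ (ρ H0 v) := by
  have h : ∀ i, ρ H0 (ρ (N0 ^ i) v) = ρ (N0 ^ (2 * i)) (ρ H0 v) := by
    intro i
    induction i with
    | zero => simp only [_root_.pow_zero, _root_.map_one, _root_.Module.End.one_apply, _root_.MulZeroClass.mul_zero]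
    | succ i ih =>
      have e : H0 * N0 ^ (i + 1) = N0 ^ 2 * (H0 * N0 ^ i) := by
        rw [pow_succ', ← mul_assoc, HN, mul_assoc]
      rw [← rmul, e, rmul, rmul, ih, npow]
      congr 2
      ring_nf
  simp only [ee_apply, map_add, h]
  norm_num only
  have h8 := npow7 ρ 1 (ρ H0 v)
  have h10 := npow7 ρ 3 (ρ H0 v)
  have h12 := npow7 ρ 5 (ρ H0 v)
  norm_num only at h8 h10 h12
  rw [h8, h10, h12]
  abel

theorem r_ee (v : V) : ρ R0 (ee ρ v) = ee ρ (ρ R0 v) := by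
  have h : ∀ i, ρ R0 (ρ (N0 ^ i) v) = ρ (N0 ^ (6 * i)) (ρ R0 v) := by
    intro i
    induction i with
    | zero => simp only [_root_.pow_zero, _root_.map_one, _root_.Module.End.one_apply, _root_.MulZeroClass.mul_zero]
    | succ i ih =>
      have e : R0 * N0 ^ (i + 1) = N0 ^ 6 * (R0 * N0 ^ i) := by
        rw [pow_succ', ← mul_assoc, RN, mul_assoc]
      rw [← rmul, e, rmul, rmul, ih, npow]
      congr 2
      ring_nf
  simp only [ee_apply, map_add, h]
  norm_num only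
  have e : ∀ i j, ρ (N0 ^ (i + 7 * j)) (ρ R0 v) = ρ (N0 ^ i) (ρ R0 v) := by
    intro i j
    rw [pow_add, pow_mul, N7, one_pow, mul_one]
  have h12 := e 5 1
  have h18 := e 4 2
  have h24 := e 3 3
  have h30 := e 2 4
  have h36 := e 1 5
  norm_num only at h12 h18 h24 h30 h36
  rw [h12, h18, h24, h30, h36]
  abel

/-- the Hecke operator -/
def om : V →ₗ[ZMod 3] V := ee ρ ∘ₗ ρ W0

theorem om_apply (v : V) : om ρ v = ee ρ (ρ W0 v) := rfl

theorem n_om (v : V) : ρ N0 (om ρ v) = om ρ v := n_ee ρ _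

theorem om_h (v : V) : om ρ (ρ H0 v) = ρ H0 (ρ H0 (om ρ v)) := by
  rw [om_apply, ← rmul, WH, rmul, rmul, ← h_ee, ← h_ee, om_apply]

theorem hhh (v : V) : ρ H0 (ρ H0 (ρ H0 v)) = v := by
  rw [← rmul, ← rmul, mul_assoc, HHH, rone]

theorem rr (v : V) : ρ R0 (ρ R0 v) = v := by
  rw [← rmul, RR, rone]

theorem r_h (v : V) : ρ R0 (ρ H0 v) = ρ H0 (ρ R0 v) := by
  rw [← rmul, RH, rmul]

theorem r_om (v : V) : ρ R0 (om ρ v) = om ρ (ρ R0 v) := by
  rw [om_apply, r_ee, ← rmul, RW, rmul, om_apply]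

variable {ρ} in
theorem n_h {v : V} (hv : ρ N0 v = v) : ρ N0 (ρ H0 v) = ρ H0 v := by
  have e : N0 * H0 = H0 * N0 ^ 4 := Subtype.ext (by decide)
  rw [← rmul, e, rmul, npow_fix hv]

variable {ρ} in
theorem n_r {v : V} (hv : ρ N0 v = v) : ρ N0 (ρ R0 v) = ρ R0 v := by
  have e : N0 * R0 = R0 * N0 ^ 6 := Subtype.ext (by decide)
  rw [← rmul, e, rmul, npow_fix hv]

variable {ρ} in
/-- `e g v` for `g = n ^ i h ^ j w n ^ k`, `v` fixed by `n` -/
theorem e_word {v : V} (hv : ρ N0 v = v) (i k : ℕ) :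
    ee ρ (ρ (N0 ^ i * (W0 * N0 ^ k)) v) = om ρ v ∧
    ee ρ (ρ (N0 ^ i * (H0 * (W0 * N0 ^ k))) v) = ρ H0 (om ρ v) ∧
    ee ρ (ρ (N0 ^ i * (H0 * (H0 * (W0 * N0 ^ k)))) v) = ρ H0 (ρ H0 (om ρ v)) := by
  refine ⟨?_, ?_, ?_⟩
  · rw [rmul, ee_npow, rmul, npow_fix hv, om_apply]
  · rw [rmul, ee_npow, rmul, rmul, npow_fix hv, ← h_ee, om_apply]
  · rw [rmul, ee_npow, rmul, rmul, rmul, npow_fix hv, ← h_ee, ← h_ee, om_apply]

variable {ρ} in
/-- `om² = 1 - N om` on `W` -/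
theorem om_om {v : V} (hv : ρ N0 v = v) :
    om ρ (om ρ v) = v - om ρ v - ρ H0 (om ρ v) - ρ H0 (ρ H0 (om ρ v)) := by
  have k0 : ee ρ (ρ W0 (ρ (N0 ^ 0) (ρ W0 v))) = v := by
    rw [pow_zero, rone, ← rmul, WW, rone, ee_fix hv]
  have key : ∀ i, ee ρ (ρ W0 (ρ (N0 ^ i) (ρ W0 v))) = ee ρ (ρ (W0 * (N0 ^ i * W0)) v) := by
    intro i
    rw [rmul, rmul]
  have k1 := (e_word hv 6 6).1
  have k2 := (e_word hv 3 3).2.1
  have k3 := (e_word hv 2 2).2.2
  have k4 := (e_word hv 5 5).2.2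
  have k5 := (e_word hv 4 4).2.1
  have k6 := (e_word hv 1 1).1
  rw [← w1, ← key] at k1
  rw [← w2, ← key] at k2
  rw [← w3, ← key] at k3
  rw [← w4, ← key] at k4
  rw [← w5, ← key] at k5
  rw [← w6, ← key] at k6
  have e1 : om ρ (om ρ v) = ee ρ (ρ W0 (ee ρ (ρ W0 v))) := rfl
  rw [e1, ee_apply ρ (ρ W0 v)]
  simp only [map_add]
  rw [k0, k1, k2, k3, k4, k5, k6]
  exact m3 (by match_scalars <;> decide)

end Cfsg.Agent.H296.L7
end

-- part: H296/L7/Spaces
section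
/-!
# The subspaces for `RepH` (S5920)
-/

set_option autoImplicit false

namespace Cfsg.Agent.H296.L7

open Cfsg.Agent.H942.L7 Module

variable {V : Type} [AddCommGroup V] [Module (ZMod 3) V] (ρ : Representation (ZMod 3) ↥P336 V)

/-! ### the fixed spaces -/

theorem mem_U7 {v : V} : v ∈ fixS ρ U7 ↔ ρ N0 v = v := by
  constructor
  · intro h
    exact h N0 ⟨1, by rw [pow_one]; rfl⟩
  · rintro h g ⟨i, hg⟩
    have e : g = N0 ^ i := Subtype.ext hg
    rw [e, npow_fix h]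

theorem mem_D14 {v : V} : v ∈ fixS ρ D14 ↔ ρ N0 v = v ∧ ρ R0 v = v := by
  constructor
  · intro h
    exact ⟨h N0 ⟨1, 0, by rw [pow_one, mul_zero, pow_zero, mul_one]; rfl⟩,
      h R0 ⟨0, 1, by rw [pow_zero, mul_one, one_mul]; rfl⟩⟩
  · rintro ⟨h1, h2⟩ g ⟨i, j, hg⟩
    have e : g = N0 ^ i * R0 ^ j := Subtype.ext (by rw [hg, pow_mul]; rfl)
    have h3 : ∀ j : ℕ, ρ (R0 ^ j) v = v := by
      intro j
      induction j with
      | zero => rw [pow_zero, rone]
      | succ j ih => rw [pow_succ', rmul, ih, h2]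
    rw [e, rmul, h3, npow_fix h1]

theorem mem_V4a {v : V} : v ∈ fixS ρ V4a ↔ ρ A1 v = v ∧ ρ A2 v = v := by
  constructor
  · intro h
    exact ⟨h A1 (by rw [coe_A1]; exact Or.inr (Or.inl rfl)), h A2 (by rw [coe_A2]; exact Or.inr (Or.inr (Or.inl rfl)))⟩
  · rintro ⟨h1, h2⟩ g hg
    rcases hg with hg | hg | hg | hg
    · rw [show g = 1 from Subtype.ext hg, rone]
    · rw [show g = A1 from Subtype.ext (hg.trans coe_A1.symm), h1]
    · rw [show g = A2 from Subtype.ext (hg.trans coe_A2.symm), h2]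
    · rw [show g = A1 * A2 from Subtype.ext (hg.trans (by rw [← coe_A1, ← coe_A2]; rfl)), rmul, h2, h1]

theorem mem_V4b {v : V} : v ∈ fixS ρ V4b ↔ ρ Z1 v = v ∧ ρ Z2 v = v := by
  constructor
  · intro h
    exact ⟨h Z1 (by rw [coe_Z1]; exact Or.inr (Or.inl rfl)), h Z2 (by rw [coe_Z2]; exact Or.inr (Or.inr (Or.inl rfl)))⟩
  · rintro ⟨h1, h2⟩ g hg
    rcases hg with hg | hg | hg | hg
    · rw [show g = 1 from Subtype.ext hg, rone]
    · rw [show g = Z1 from Subtype.ext (hg.trans coe_Z1.symm), h1]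
    · rw [show g = Z2 from Subtype.ext (hg.trans coe_Z2.symm), h2]
    · rw [show g = Z1 * Z2 from Subtype.ext (hg.trans (by rw [← coe_Z1, ← coe_Z2]; rfl)), rmul, h2, h1]

theorem mem_D8a {v : V} : v ∈ fixS ρ D8a ↔ v ∈ fixS ρ V4a ∧ ρ TA v = v := by
  constructor
  · intro h
    refine ⟨fun g hg => h g (Or.inl hg), h TA (Or.inr ⟨1, Or.inl rfl, ?_⟩)⟩
    rw [coe_TA, one_mul]
  · rintro ⟨h1, h2⟩ g (hg | ⟨z, hz, hg⟩)
    · exact h1 g hg
    · have e : g = (g * TA⁻¹) * TA := by group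
      rw [e, rmul, h2]
      refine h1 _ ?_
      have e2 : ((g * TA⁻¹ : ↥P336) : Equiv.Perm (Fin 8)) = z := by
        rw [Subgroup.coe_mul, Subgroup.coe_inv, hg, coe_TA, mul_inv_cancel_right]
      rw [e2]
      exact hz

theorem mem_D8b {v : V} : v ∈ fixS ρ D8b ↔ v ∈ fixS ρ V4b ∧ ρ T0 v = v := by
  constructor
  · intro h
    refine ⟨fun g hg => h g (Or.inl hg), h T0 (Or.inr ⟨1, Or.inl rfl, ?_⟩)⟩
    rw [coe_T0, one_mul]
  · rintro ⟨h1, h2⟩ g (hg | ⟨z, hz, hg⟩)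
    · exact h1 g hg
    · have e : g = (g * T0⁻¹) * T0 := by group
      rw [e, rmul, h2]
      refine h1 _ ?_
      have e2 : ((g * T0⁻¹ : ↥P336) : Equiv.Perm (Fin 8)) = z := by
        rw [Subgroup.coe_mul, Subgroup.coe_inv, hg, coe_T0, mul_inv_cancel_right]
      rw [e2]
      exact hz

/-! ### the invariants of `P168`, `P336` -/

theorem le_168 : P168 ≤ P336 := by
  rw [P168, Subgroup.closure_le]
  rintro g (rfl | rfl | rfl)
  · exact N0.2
  · exact H0.2
  · exact W0.2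

theorem mem_168 {v : V} : v ∈ fixS ρ P168 ↔ ρ N0 v = v ∧ ρ H0 v = v ∧ ρ W0 v = v := by
  constructor
  · intro h
    exact ⟨h N0 (Subgroup.subset_closure (by simp [coe_N0])), h H0 (Subgroup.subset_closure (by simp [coe_H0])),
      h W0 (Subgroup.subset_closure (by simp [coe_W0]))⟩
  · rintro ⟨h1, h2, h3⟩ g hg
    have key : ∀ g (hg : g ∈ P168), ρ ⟨g, le_168 hg⟩ v = v := by
      intro g hg
      induction hg using Subgroup.closure_induction with
      | mem x hx =>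
        rcases hx with rfl | rfl | rfl
        · exact h1
        · exact h2
        · exact h3
      | one => exact rone ρ v
      | mul x y hx hy ihx ihy =>
        have e : (⟨x * y, le_168 (mul_mem hx hy)⟩ : ↥P336) = ⟨x, le_168 hx⟩ * ⟨y, le_168 hy⟩ := rfl
        exact (congrArg (fun t => ρ t v) e).trans (by rw [rmul]; rw [ihy, ihx])
      | inv x hx ih =>
        have e : (⟨x⁻¹, le_168 (inv_mem hx)⟩ : ↥P336) = (⟨x, le_168 hx⟩ : ↥P336)⁻¹ := rfl
        refine (congrArg (fun t => ρ t v) e).trans ?_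
        show ρ (⟨x, le_168 hx⟩ : ↥P336)⁻¹ v = v
        nth_rewrite 1 [← ih]
        rw [← rmul, inv_mul_cancel, rone]
    exact key g hg

theorem mem_336 {v : V} (h1 : ρ N0 v = v) (h2 : ρ H0 v = v) (h3 : ρ W0 v = v) (h4 : ρ R0 v = v) :
    v ∈ fixS ρ P336 := by
  have h5 : ρ G0 v = v := by rw [G0_eq, rmul, rmul, h2, h2, h4]
  intro g _
  have key : ∀ g (hg : g ∈ P336), ρ ⟨g, hg⟩ v = v := by
    intro g hg
    induction hg using Subgroup.closure_induction with
    | mem x hx =>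
      rcases hx with rfl | rfl | rfl
      · exact h1
      · exact h5
      · exact h3
    | one => exact rone ρ v
    | mul x y hx hy ihx ihy =>
      have e : (⟨x * y, mul_mem hx hy⟩ : ↥P336) = ⟨x, hx⟩ * ⟨y, hy⟩ := rfl
      exact (congrArg (fun t => ρ t v) e).trans (by rw [rmul]; rw [ihy, ihx])
    | inv x hx ih =>
      have e : (⟨x⁻¹, inv_mem hx⟩ : ↥P336) = (⟨x, hx⟩ : ↥P336)⁻¹ := rfl
      refine (congrArg (fun t => ρ t v) e).trans ?_
      show ρ (⟨x, hx⟩ : ↥P336)⁻¹ v = v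
      nth_rewrite 1 [← ih]
      rw [← rmul, inv_mul_cancel, rone]
  exact key g g.2

theorem conj_168 {g : Equiv.Perm (Fin 8)} (hg : g ∈ P168) : g6 ^ 3 * g * g6 ^ 3 ∈ P168 := by
  have e : (g6 ^ 3)⁻¹ = g6 ^ 3 := by decide
  have h : g ∈ (P168).comap (MulAut.conj (g6 ^ 3)).toMonoidHom := by
    rw [P168] at hg
    refine (Subgroup.closure_le _).2 ?_ hg
    rintro x (rfl | rfl | rfl)
    · show g6 ^ 3 * nn * (g6 ^ 3)⁻¹ ∈ P168
      rw [show g6 ^ 3 * nn * (g6 ^ 3)⁻¹ = nn⁻¹ from by decide]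
      exact inv_mem (Subgroup.subset_closure (by simp))
    · show g6 ^ 3 * g6 ^ 2 * (g6 ^ 3)⁻¹ ∈ P168
      rw [show g6 ^ 3 * g6 ^ 2 * (g6 ^ 3)⁻¹ = g6 ^ 2 from by decide]
      exact Subgroup.subset_closure (by simp)
    · show g6 ^ 3 * ww * (g6 ^ 3)⁻¹ ∈ P168
      rw [show g6 ^ 3 * ww * (g6 ^ 3)⁻¹ = ww from by decide]
      exact Subgroup.subset_closure (by simp)
  have h2 : g6 ^ 3 * g * (g6 ^ 3)⁻¹ ∈ P168 := h
  rwa [e] at h2

/-- `P168` has index two -/
theorem or_168 {g : Equiv.Perm (Fin 8)} (hg : g ∈ P336) : g ∈ P168 ∨ g6 ^ 3 * g ∈ P168 := by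
  have rr6 : g6 ^ 3 * g6 ^ 3 = 1 := by decide
  induction hg using Subgroup.closure_induction with
  | mem x hx =>
    rcases hx with rfl | rfl | rfl
    · exact Or.inl (Subgroup.subset_closure (by simp))
    · refine Or.inr ?_
      rw [show g6 ^ 3 * g6 = g6 ^ 2 * g6 ^ 2 from by decide]
      exact mul_mem (Subgroup.subset_closure (by simp)) (Subgroup.subset_closure (by simp))
    · exact Or.inl (Subgroup.subset_closure (by simp))
  | one => exact Or.inl (one_mem _)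
  | mul x y _ _ ihx ihy =>
    rcases ihx with ihx | ihx <;> rcases ihy with ihy | ihy
    · exact Or.inl (mul_mem ihx ihy)
    · refine Or.inr ?_
      have e : g6 ^ 3 * (x * y) = (g6 ^ 3 * x * g6 ^ 3) * (g6 ^ 3 * y) := by
        rw [mul_assoc (g6 ^ 3 * x), ← mul_assoc (g6 ^ 3) (g6 ^ 3) y, rr6, one_mul, mul_assoc]
      rw [e]
      exact mul_mem (conj_168 ihx) ihy
    · refine Or.inr ?_
      rw [← mul_assoc]
      exact mul_mem ihx ihy
    · refine Or.inl ?_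
      have e : x * y = (g6 ^ 3 * (g6 ^ 3 * x) * g6 ^ 3) * (g6 ^ 3 * y) := by
        rw [← mul_assoc (g6 ^ 3) (g6 ^ 3) x, rr6, one_mul, mul_assoc, ← mul_assoc (g6 ^ 3) (g6 ^ 3) y, rr6, one_mul]
      rw [e]
      exact mul_mem (conj_168 ihx) ihy
  | inv x _ ih =>
    rcases ih with ih | ih
    · exact Or.inl (inv_mem ih)
    · refine Or.inr ?_
      have h1 := conj_168 (inv_mem ih)
      have e : g6 ^ 3 * (g6 ^ 3 * x)⁻¹ * g6 ^ 3 = g6 ^ 3 * x⁻¹ := by
        rw [mul_inv_rev, mul_assoc, mul_assoc, inv_mul_cancel, mul_one]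
      rwa [e] at h1

theorem mem_ant {v : V} (h1 : ρ N0 v = v) (h2 : ρ H0 v = v) (h3 : ρ W0 v = v) (h4 : ρ R0 v = -v) :
    v ∈ antS ρ := by
  have h5 := (mem_168 ρ).2 ⟨h1, h2, h3⟩
  intro g
  refine ⟨fun hg => h5 g hg, fun hg => ?_⟩
  have h6 := (or_168 g.2).resolve_left hg
  have h7 := h5 (R0 * g) h6
  rw [rmul] at h7
  have h8 := congrArg (ρ R0) h7
  rw [rr, h4] at h8
  exact h8

end Cfsg.Agent.H296.L7
end

-- part: H296/L7/Core
section
/-!
# The involution `sg` and the skew operator `dd` (S5920)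
-/

set_option autoImplicit false

namespace Cfsg.Agent.H296.L7

open Cfsg.Agent.H942.L7 Module

variable {V : Type} [AddCommGroup V] [Module (ZMod 3) V] (ρ : Representation (ZMod 3) ↥P336 V)

/-- `om - N`, an involution on `W` -/
def sg : V →ₗ[ZMod 3] V := om ρ - (LinearMap.id + ρ H0 + ρ H0 ∘ₗ ρ H0)

/-- `h - h⁻¹` -/
def dd : V →ₗ[ZMod 3] V := ρ H0 - ρ H0 ∘ₗ ρ H0

theorem sg_apply (v : V) : sg ρ v = om ρ v - (v + ρ H0 v + ρ H0 (ρ H0 v)) := rfl

theorem dd_apply (v : V) : dd ρ v = ρ H0 v - ρ H0 (ρ H0 v) := rfl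

variable {ρ} in
theorem n_sg {v : V} (hv : ρ N0 v = v) : ρ N0 (sg ρ v) = sg ρ v := by
  rw [sg_apply, map_sub, map_add, map_add, n_om, n_h (n_h hv), n_h hv, hv]

variable {ρ} in
theorem n_dd {v : V} (hv : ρ N0 v = v) : ρ N0 (dd ρ v) = dd ρ v := by
  rw [dd_apply, map_sub, n_h (n_h hv), n_h hv]

theorem r_sg (v : V) : ρ R0 (sg ρ v) = sg ρ (ρ R0 v) := by
  simp only [sg_apply, map_sub, map_add, r_om, r_h]

theorem r_dd (v : V) : ρ R0 (dd ρ v) = dd ρ (ρ R0 v) := by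
  simp only [dd_apply, map_sub, r_h]

theorem dd_sg (v : V) : dd ρ (sg ρ v) = - sg ρ (dd ρ v) := by
  simp only [sg_apply, dd_apply, map_sub, map_add, om_h, hhh]
  exact m3 (by match_scalars <;> decide)

theorem ddd (v : V) : dd ρ (dd ρ (dd ρ v)) = 0 := by
  simp only [dd_apply, map_sub, hhh]
  exact m3 (by match_scalars <;> decide)

variable {ρ} in
theorem sg_sg {v : V} (hv : ρ N0 v = v) : sg ρ (sg ρ v) = v := by
  simp only [sg_apply, map_sub, map_add, om_h, hhh, om_om hv]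
  exact m3 (by match_scalars <;> decide)

/-! ### the form -/

section Form

variable (B : LinearMap.BilinForm (ZMod 3) V) (hB : B.Nondegenerate) (hs : B.IsSymm)
  (hi : ∀ g v v', B (ρ g v) (ρ g v') = B v v')

include hi in
variable {ρ B} in
theorem B_h (u v : V) : B u (ρ H0 v) = B (ρ H0 (ρ H0 u)) v := by
  have h := hi H0 (ρ H0 (ρ H0 u)) v
  rw [hhh] at h
  exact h

include hi in
variable {ρ B} in
theorem B_r (u v : V) : B u (ρ R0 v) = B (ρ R0 u) v := by
  have h := hi R0 (ρ R0 u) v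
  rw [rr] at h
  exact h

include hi in
variable {ρ B} in
theorem B_w (u v : V) : B u (ρ W0 v) = B (ρ W0 u) v := by
  have h := hi W0 (ρ W0 u) v
  rw [← rmul, WW, rone] at h
  exact h

include hi in
variable {ρ B} in
theorem B_ee {u : V} (hu : ρ N0 u = u) (v : V) : B u (ee ρ v) = B u v := by
  have h : ∀ i, B u (ρ (N0 ^ i) v) = B u v := by
    intro i
    have h1 := hi (N0 ^ i) u v
    rwa [npow_fix hu] at h1
  rw [ee_apply]
  simp only [map_add, h]
  exact m3 (by match_scalars; decide)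

include hi in
variable {ρ B} in
theorem B_dd (u v : V) : B u (dd ρ v) = - B (dd ρ u) v := by
  simp only [dd_apply, map_sub, LinearMap.sub_apply, B_h hi, hhh]
  ring

include hi hs in
variable {ρ B} in
theorem B_sg {u z : V} (hu : ρ N0 u = u) (hz : ρ N0 z = z) : B u (sg ρ z) = B (sg ρ u) z := by
  have h1 : B u (om ρ z) = B (om ρ u) z := by
    rw [om_apply, B_ee hi hu, B_w hi, om_apply, hs.eq (ee ρ (ρ W0 u)) z, B_ee hi hz, hs.eq]
  simp only [sg_apply, map_sub, map_add, LinearMap.sub_apply, LinearMap.add_apply, h1, B_h hi, hhh]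
  ring

/-- nondegeneracy on `M` from a self-adjoint projection onto `M` -/
theorem nondeg {B : LinearMap.BilinForm (ZMod 3) V} (hB : B.Nondegenerate) (M : Submodule (ZMod 3) V) (T : V → V)
    (hT : ∀ x, T x ∈ M) (hTB : ∀ u ∈ M, ∀ x, B u (T x) = B u x) :
    ∀ u ∈ M, (∀ v ∈ M, B u v = 0) → u = 0 := by
  intro u hu h
  refine hB.1 u fun x => ?_
  rw [← hTB u hu]
  exact h _ (hT x)

end Form

/-! ### the four eigenspaces -/

/-- the vectors of `W` with `r = ε` and `sg = δ` -/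
def XX (ε δ : ZMod 3) : Submodule (ZMod 3) V := eig (eig (fixS ρ U7) (ρ R0) ε) (sg ρ) δ

theorem mem_XX {ε δ : ZMod 3} {v : V} : v ∈ XX ρ ε δ ↔ ρ N0 v = v ∧ ρ R0 v = ε • v ∧ sg ρ v = δ • v := by
  rw [XX, mem_eig, mem_eig, mem_U7, and_assoc]

/-- the projection onto `XX ε δ` -/
def PP (ε δ : ZMod 3) : V →ₗ[ZMod 3] V :=
  (LinearMap.id + ε • ρ R0) ∘ₗ (ee ρ + δ • (sg ρ ∘ₗ ee ρ))

theorem PP_apply (ε δ : ZMod 3) (x : V) : PP ρ ε δ x = (ee ρ x + δ • sg ρ (ee ρ x)) +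
    ε • ρ R0 (ee ρ x + δ • sg ρ (ee ρ x)) := rfl

variable {ρ} in
theorem PP_mem {ε δ : ZMod 3} (hε : ε * ε = 1) (hδ : δ * δ = 1) (x : V) : PP ρ ε δ x ∈ XX ρ ε δ := by
  have hn := n_ee ρ x
  rw [mem_XX, PP_apply]
  obtain ⟨y, hy⟩ : ∃ y, y = ee ρ x := ⟨_, rfl⟩
  rw [← hy] at hn ⊢
  have h1 : ρ N0 (y + δ • sg ρ y) = y + δ • sg ρ y := by rw [map_add, map_smul, n_sg hn, hn]
  have h2 : sg ρ (y + δ • sg ρ y) = δ • (y + δ • sg ρ y) := by
    rw [map_add, map_smul, sg_sg hn, smul_add, smul_smul, hδ, one_smul, add_comm]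
  generalize y + δ • sg ρ y = z at h1 h2
  refine ⟨?_, ?_, ?_⟩
  · rw [map_add, map_smul, n_r h1, h1]
  · rw [map_add, map_smul, rr, smul_add, smul_smul, hε, one_smul, add_comm]
  · rw [map_add, map_smul, ← r_sg, h2, map_smul, smul_add, smul_comm]

variable {ρ} in
theorem PP_fix {ε δ : ZMod 3} (hε : ε * ε = 1) (hδ : δ * δ = 1) {x : V} (hx : x ∈ XX ρ ε δ) : PP ρ ε δ x = x := by
  obtain ⟨h1, h2, h3⟩ := (mem_XX ρ).1 hx
  rw [PP_apply, ee_fix h1, h3, smul_smul, hδ, one_smul, map_add, h2, ← smul_add, smul_smul, hε, one_smul]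
  exact m3 (by match_scalars; decide)

theorem PP_B {B : LinearMap.BilinForm (ZMod 3) V} (hs : B.IsSymm) (hi : ∀ g v v', B (ρ g v) (ρ g v') = B v v')
    {ε δ : ZMod 3} (hε : ε * ε = 1) (hδ : δ * δ = 1) (u : V) (hu : u ∈ XX ρ ε δ) (x : V) :
    B u (PP ρ ε δ x) = B u x := by
  obtain ⟨h1, h2, h3⟩ := (mem_XX ρ).1 hu
  have e1 : ∀ z, B u (ρ R0 z) = ε * B u z := by
    intro z
    rw [B_r hi, h2, map_smul, LinearMap.smul_apply, smul_eq_mul]
  have e2 : B u (sg ρ (ee ρ x)) = δ * B u x := by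
    rw [B_sg hs hi h1 (n_ee ρ x), h3, map_smul, LinearMap.smul_apply, smul_eq_mul, B_ee hi h1]
  rw [PP_apply, map_add, map_add, map_smul, map_smul, e1, map_add, map_smul, e2, B_ee hi h1]
  simp only [smul_eq_mul]
  have e3 : B u x + δ * (δ * B u x) + ε * (ε * (B u x + δ * (δ * B u x))) =
      (1 + δ * δ) * (1 + ε * ε) * B u x := by ring
  rw [e3, hε, hδ]
  have e4 : ((1 : ZMod 3) + 1) * (1 + 1) = 1 := by decide
  rw [e4, one_mul]

/-- **the inequality on `W^ε`** -/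
theorem ineq_W [Module.Finite (ZMod 3) V] {B : LinearMap.BilinForm (ZMod 3) V} (hB : B.Nondegenerate) (hs : B.IsSymm)
    (hi : ∀ g v v', B (ρ g v) (ρ g v') = B v v') {ε : ZMod 3} (hε : ε * ε = 1) :
    2 * finrank (ZMod 3) (XX ρ ε 1) ≤ finrank (ZMod 3) (XX ρ ε (-1)) +
      3 * finrank (ZMod 3) ↥(XX ρ ε 1 ⊓ LinearMap.ker (dd ρ)) := by
  have hm : ((-1 : ZMod 3)) * (-1) = 1 := by decide
  refine ineq B hB hs (XX ρ ε 1) (XX ρ ε (-1)) (dd ρ) ?_ ?_ (fun v _ => ddd ρ v) (fun u _ v _ => B_dd hi u v)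
    (nondeg hB _ (PP ρ ε (-1)) (PP_mem hε hm) (fun u hu x => PP_B ρ hs hi hε hm u hu x))
  · intro v hv
    obtain ⟨h1, h2, h3⟩ := (mem_XX ρ).1 hv
    refine (mem_XX ρ).2 ⟨n_dd h1, by rw [r_dd, h2, map_smul], ?_⟩
    have h4 := dd_sg ρ v
    rw [h3, one_smul] at h4
    rw [neg_smul, one_smul]
    exact neg_eq_iff_eq_neg.1 h4.symm
  · intro v hv
    obtain ⟨h1, h2, h3⟩ := (mem_XX ρ).1 hv
    refine (mem_XX ρ).2 ⟨n_dd h1, by rw [r_dd, h2, map_smul], ?_⟩
    have h4 := dd_sg ρ v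
    rw [h3, neg_smul, one_smul, map_neg, neg_inj] at h4
    rw [one_smul, ← h4]

variable {ρ} in
/-- vectors of `W₊` killed by `d` are invariants of `P168` -/
theorem inv_of_ker {v : V} (h1 : ρ N0 v = v) (h2 : sg ρ v = v) (h3 : dd ρ v = 0) :
    ρ H0 v = v ∧ ρ W0 v = v := by
  have h4 : ρ H0 v = v := by
    rw [dd_apply, sub_eq_zero] at h3
    have h5 := congrArg (fun x => ρ H0 (ρ H0 x)) h3
    simp only [hhh] at h5
    exact h5.symm
  refine ⟨h4, ?_⟩
  have h5 : om ρ v = v := by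
    rw [sg_apply, h4, h4] at h2
    have e : v + v + v = 0 := m3 (by match_scalars; decide)
    rwa [e, sub_zero] at h2
  -- `w v`
  have hW : ∀ i, ρ (N0 ^ i) (ρ W0 v) = ρ (N0 ^ i * W0) v := fun i => (rmul ρ _ _ v).symm
  have hww : ρ W0 (ρ W0 v) = v := by rw [← rmul, WW, rone]
  have hhw : ρ H0 (ρ W0 v) = ρ W0 v := by
    have e : H0 * W0 = W0 * (H0 * H0) := Subtype.ext (by decide)
    rw [← rmul, e, rmul, rmul, h4, h4]
  have k : ∀ i a : ℕ, W0 * (N0 ^ i * W0) = N0 ^ a * (W0 * N0 ^ a) ∨ W0 * (N0 ^ i * W0) = N0 ^ a * (H0 * (W0 * N0 ^ a)) ∨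
      W0 * (N0 ^ i * W0) = N0 ^ a * (H0 * (H0 * (W0 * N0 ^ a))) →
      ρ W0 (ρ (N0 ^ i) (ρ W0 v)) = ρ (N0 ^ a) (ρ W0 v) := by
    intro i a h
    rw [hW, ← rmul]
    rcases h with h | h | h
    · rw [h, rmul, rmul, npow_fix h1]
    · rw [h, rmul, rmul, rmul, npow_fix h1, hhw]
    · rw [h, rmul, rmul, rmul, rmul, npow_fix h1, hhw, hhw]
  have k1 := k 1 6 (Or.inl w1)
  have k2 := k 2 3 (Or.inr (Or.inl w2))
  have k3 := k 3 2 (Or.inr (Or.inr w3))
  have k4 := k 4 5 (Or.inr (Or.inr w4))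
  have k5 := k 5 4 (Or.inr (Or.inl w5))
  have k6 := k 6 1 (Or.inl w6)
  rw [om_apply, ee_apply] at h5
  have h6 := congrArg (ρ W0) h5
  simp only [map_add] at h6
  rw [k1, k2, k3, k4, k5, k6] at h6
  simp only [pow_zero, rone] at h5 h6
  rw [hww] at h6
  -- `h6 : v + (sum over a ≠ 0) = w v`, `h5 : w v + (sum over a ≠ 0) = v`
  generalize ρ W0 v = y at *
  generalize ρ (N0 ^ 1) y = y1 at *
  generalize ρ (N0 ^ 2) y = y2 at *
  generalize ρ (N0 ^ 3) y = y3 at *
  generalize ρ (N0 ^ 4) y = y4 at *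
  generalize ρ (N0 ^ 5) y = y5 at *
  generalize ρ (N0 ^ 6) y = y6 at *
  have h7 : y - v = v - y := by
    have e1 : y1 + y2 + y3 + y4 + y5 + y6 = v - y := by rw [← h5]; abel
    have e2 : y1 + y2 + y3 + y4 + y5 + y6 = y - v := by rw [← h6]; abel
    rw [← e2, e1]
  have h8 : (2 : ZMod 3) • (y - v) = 0 := by
    rw [two_smul]
    nth_rewrite 1 [h7]
    abel
  exact sub_eq_zero.1 ((smul_eq_zero.1 h8).resolve_left (by decide))

end Cfsg.Agent.H296.L7
end

-- part: H296/L7/Traces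
section
/-!
# The traces for `RepH` (S5920)
-/

set_option autoImplicit false

namespace Cfsg.Agent.H296.L7

open Cfsg.Agent.H942.L7 Module

variable {V : Type} [AddCommGroup V] [Module (ZMod 3) V] (ρ : Representation (ZMod 3) ↥P336 V)

/-- the trace of the representation -/
noncomputable def tr (g : ↥P336) : ZMod 3 := LinearMap.trace (ZMod 3) V (ρ g)

theorem tr_comm (a b : ↥P336) : tr ρ (a * b) = tr ρ (b * a) := by
  unfold tr
  rw [map_mul ρ, map_mul ρ, LinearMap.trace_mul_comm]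

theorem tr_conj {a b g : ↥P336} (h : g * a = b * g) : tr ρ b = tr ρ a := by
  have e : b = g * (a * g⁻¹) := by rw [← mul_assoc, h, mul_inv_cancel_right]
  rw [e, tr_comm, inv_mul_cancel_right]

/-- the unipotent part does not change the trace -/
theorem tr_unip (s c : ↥P336) (hsc : s * c = c * s) (hc : c * (c * c) = 1) : tr ρ (s * c) = tr ρ s := by
  have hcc : ∀ v, ρ c (ρ c (ρ c v)) = v := by
    intro v
    rw [← rmul, ← rmul, mul_assoc, hc, rone]
  have h1 : (ρ c - 1 : Module.End (ZMod 3) V) ^ 3 = 0 := by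
    ext v
    simp only [pow_succ, pow_zero, one_mul, Module.End.mul_apply, LinearMap.sub_apply, Module.End.one_apply, map_sub,
      hcc, LinearMap.zero_apply]
    exact m3 (by match_scalars <;> decide)
  have h2 : Commute (ρ s) (ρ c - 1 : Module.End (ZMod 3) V) := by
    refine Commute.sub_right ?_ (Commute.one_right _)
    show ρ s * ρ c = ρ c * ρ s
    rw [← map_mul, hsc, map_mul]
  have h3 : (ρ s * (ρ c - 1) : Module.End (ZMod 3) V) ^ 3 = 0 := by
    rw [h2.mul_pow, h1, mul_zero]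
  have h4 := tr_nil _ _ h3
  rw [mul_sub, mul_one, map_sub, ← map_mul, sub_eq_zero] at h4
  exact h4

theorem tr_one [Module.Finite (ZMod 3) V] : tr ρ 1 = (finrank (ZMod 3) V : ZMod 3) := by
  unfold tr
  rw [map_one, LinearMap.trace_one]

/-- `1 + h + h²` -/
def NN : V →ₗ[ZMod 3] V := LinearMap.id + ρ H0 + ρ H0 ∘ₗ ρ H0

theorem NN_apply (v : V) : NN ρ v = v + ρ H0 v + ρ H0 (ρ H0 v) := rfl

theorem sg_eq (v : V) : sg ρ v = om ρ v - NN ρ v := rfl

theorem NN_NN (v : V) : NN ρ (NN ρ v) = 0 := by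
  simp only [NN_apply, map_add, hhh]
  exact m3 (by match_scalars <;> decide)

variable {ρ} in
theorem n_NN {v : V} (hv : ρ N0 v = v) : ρ N0 (NN ρ v) = NN ρ v := by
  rw [NN_apply, map_add, map_add, n_h (n_h hv), n_h hv, hv]

theorem r_NN (v : V) : ρ R0 (NN ρ v) = NN ρ (ρ R0 v) := by
  simp only [NN_apply, map_add, r_h]

/-- the trace of `g om e` -/
theorem tr_om (g : ↥P336) (hg : ∀ v, ρ g (ee ρ v) = ee ρ (ρ g v)) :
    LinearMap.trace (ZMod 3) V (ρ g ∘ₗ om ρ ∘ₗ ee ρ) = tr ρ (W0 * (N0 ^ 0 * g)) + tr ρ (W0 * (N0 ^ 1 * g)) +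
      tr ρ (W0 * (N0 ^ 2 * g)) + tr ρ (W0 * (N0 ^ 3 * g)) + tr ρ (W0 * (N0 ^ 4 * g)) + tr ρ (W0 * (N0 ^ 5 * g)) +
      tr ρ (W0 * (N0 ^ 6 * g)) := by
  have e1 : ρ g ∘ₗ om ρ ∘ₗ ee ρ = (ee ρ * (ρ g * (ρ W0 * ee ρ)) : Module.End (ZMod 3) V) := by
    ext v
    exact hg _
  have e2 : (ρ g * (ρ W0 * ee ρ) * ee ρ : Module.End (ZMod 3) V) = ρ g * (ρ W0 * ee ρ) := by
    ext v
    show ρ g (ρ W0 (ee ρ (ee ρ v))) = ρ g (ρ W0 (ee ρ v))
    rw [ee_ee]
  have e3 : (ρ g * (ρ W0 * ee ρ) : Module.End (ZMod 3) V) = ρ (g * (W0 * N0 ^ 0)) + ρ (g * (W0 * N0 ^ 1)) +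
      ρ (g * (W0 * N0 ^ 2)) + ρ (g * (W0 * N0 ^ 3)) + ρ (g * (W0 * N0 ^ 4)) + ρ (g * (W0 * N0 ^ 5)) +
      ρ (g * (W0 * N0 ^ 6)) := by
    ext v
    show ρ g (ρ W0 (ee ρ v)) = ρ (g * (W0 * N0 ^ 0)) v + ρ (g * (W0 * N0 ^ 1)) v +
      ρ (g * (W0 * N0 ^ 2)) v + ρ (g * (W0 * N0 ^ 3)) v + ρ (g * (W0 * N0 ^ 4)) v + ρ (g * (W0 * N0 ^ 5)) v +
      ρ (g * (W0 * N0 ^ 6)) v
    rw [ee_apply]
    simp only [map_add, rmul]
  have e4 : ∀ i, tr ρ (g * (W0 * N0 ^ i)) = tr ρ (W0 * (N0 ^ i * g)) := by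
    intro i
    rw [tr_comm, mul_assoc]
  rw [e1, LinearMap.trace_mul_comm, e2, e3]
  simp only [map_add]
  show tr ρ (g * (W0 * N0 ^ 0)) + tr ρ (g * (W0 * N0 ^ 1)) + tr ρ (g * (W0 * N0 ^ 2)) + tr ρ (g * (W0 * N0 ^ 3)) +
    tr ρ (g * (W0 * N0 ^ 4)) + tr ρ (g * (W0 * N0 ^ 5)) + tr ρ (g * (W0 * N0 ^ 6)) = _
  simp only [e4]

/-- the trace of `g N e` -/
theorem tr_NN (g : ↥P336) (hg : ∀ v, ρ N0 v = v → ρ N0 (ρ g v) = ρ g v) (hg2 : ∀ v, ρ g (NN ρ v) = NN ρ (ρ g v)) :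
    LinearMap.trace (ZMod 3) V (ρ g ∘ₗ NN ρ ∘ₗ ee ρ) = 0 := by
  refine tr_nil _ 2 ?_
  rw [pow_two]
  ext v
  show ρ g (NN ρ (ee ρ (ρ g (NN ρ (ee ρ v))))) = 0
  rw [ee_fix (hg _ (n_NN (n_ee ρ v))), ← hg2, NN_NN, map_zero, map_zero]

/-- **the dimensions modulo 3** -/
theorem dim_mod [Module.Finite (ZMod 3) V] {ε : ZMod 3} (hε : ε * ε = 1) :
    (finrank (ZMod 3) (XX ρ ε 1) : ZMod 3) - (finrank (ZMod 3) (XX ρ ε (-1)) : ZMod 3) =
      2 * (LinearMap.trace (ZMod 3) V (om ρ ∘ₗ ee ρ) + ε * LinearMap.trace (ZMod 3) V (ρ R0 ∘ₗ om ρ ∘ₗ ee ρ)) := by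
  have h1 : ((1 : ZMod 3)) * 1 = 1 := by decide
  have hm : ((-1 : ZMod 3)) * (-1) = 1 := by decide
  rw [← tr_proj (PP ρ ε 1) (XX ρ ε 1) (PP_mem hε h1) (fun x hx => PP_fix hε h1 hx),
    ← tr_proj (PP ρ ε (-1)) (XX ρ ε (-1)) (PP_mem hε hm) (fun x hx => PP_fix hε hm hx), ← map_sub]
  have e : PP ρ ε 1 - PP ρ ε (-1) = (2 : ZMod 3) • ((om ρ ∘ₗ ee ρ - ρ 1 ∘ₗ NN ρ ∘ₗ ee ρ) +
      ε • (ρ R0 ∘ₗ om ρ ∘ₗ ee ρ - ρ R0 ∘ₗ NN ρ ∘ₗ ee ρ)) := by
    ext x
    show PP ρ ε 1 x - PP ρ ε (-1) x = (2 : ZMod 3) • ((om ρ (ee ρ x) - ρ 1 (NN ρ (ee ρ x))) +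
      ε • (ρ R0 (om ρ (ee ρ x)) - ρ R0 (NN ρ (ee ρ x))))
    rw [PP_apply, PP_apply, rone, ← map_sub, ← sg_eq]
    simp only [map_add, map_smul]
    module
  rw [e, map_smul, map_add, map_smul, map_sub, map_sub,
    tr_NN ρ 1 (fun v hv => by rw [rone, hv]) (fun v => by rw [rone, rone]),
    tr_NN ρ R0 (fun v hv => n_r hv) (r_NN ρ), sub_zero, sub_zero]
  rfl

end Cfsg.Agent.H296.L7
end

-- part: H296/L7/Small
section
/-!
# The small subgroups for `RepH` (S5920): steps (1), (6) of the plan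
-/

set_option autoImplicit false

namespace Cfsg.Agent.H296.L7

open Cfsg.Agent.H942.L7 Module

variable {V : Type} [AddCommGroup V] [Module (ZMod 3) V] (ρ : Representation (ZMod 3) ↥P336 V)

/-! ### the space `V^{V4a}` -/

variable {ρ} in
theorem fix_A3 {v : V} (h : v ∈ fixS ρ V4a) : ρ A3 v = v := by
  obtain ⟨h1, h2⟩ := (mem_V4a ρ).1 h
  rw [← A1A2, rmul, h2, h1]

variable {ρ} in
theorem V4a_h {v : V} (h : v ∈ fixS ρ V4a) : ρ H0 v ∈ fixS ρ V4a := by
  obtain ⟨h1, h2⟩ := (mem_V4a ρ).1 h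
  have h3 := fix_A3 h
  have e1 : A1 * H0 = H0 * A3 := HA3.symm
  have e2 : A2 * H0 = H0 * A1 := HA1.symm
  exact (mem_V4a ρ).2 ⟨by rw [← rmul, e1, rmul, h3], by rw [← rmul, e2, rmul, h1]⟩

variable {ρ} in
theorem V4a_t {v : V} (h : v ∈ fixS ρ V4a) : ρ TA v ∈ fixS ρ V4a := by
  obtain ⟨h1, h2⟩ := (mem_V4a ρ).1 h
  have h3 := fix_A3 h
  have e1 : A1 * TA = TA * A1 := TAA1.symm
  have e2 : A2 * TA = TA * A3 := TAA3.symm
  exact (mem_V4a ρ).2 ⟨by rw [← rmul, e1, rmul, h1], by rw [← rmul, e2, rmul, h3]⟩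

theorem t_t (v : V) : ρ TA (ρ TA v) = v := by rw [← rmul, TATA, rone]

variable {ρ} in
theorem t_h {v : V} (h : v ∈ fixS ρ V4a) : ρ TA (ρ H0 v) = ρ H0 (ρ H0 (ρ TA v)) := by
  rw [← rmul, TAH, rmul, rmul, rmul]
  exact ((mem_V4a ρ).1 (V4a_h (V4a_h (V4a_t h)))).2

variable {ρ} in
theorem t_dd {v : V} (h : v ∈ fixS ρ V4a) : ρ TA (dd ρ v) = - dd ρ (ρ TA v) := by
  rw [dd_apply, map_sub, t_h h, t_h (V4a_h h), t_h h, hhh, dd_apply, neg_sub]

variable {ρ} in
theorem V4a_dd {v : V} (h : v ∈ fixS ρ V4a) : dd ρ v ∈ fixS ρ V4a :=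
  Submodule.sub_mem _ (V4a_h h) (V4a_h (V4a_h h))

theorem D8a_eq : fixS ρ D8a = eig (fixS ρ V4a) (ρ TA) 1 := by
  ext v
  rw [mem_D8a, mem_eig, one_smul]

theorem D8b_eq : fixS ρ D8b = eig (fixS ρ V4b) (ρ T0) 1 := by
  ext v
  rw [mem_D8b, mem_eig, one_smul]

/-- the vectors fixed by `S4a` -/
def S4 : Submodule (ZMod 3) V := fixS ρ D8a ⊓ LinearMap.ker (dd ρ)

variable {ρ} in
theorem fix_h {v : V} (h : dd ρ v = 0) : ρ H0 v = v := by
  rw [dd_apply, sub_eq_zero] at h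
  have h5 := congrArg (fun x => ρ H0 (ρ H0 x)) h
  simp only [hhh] at h5
  exact h5.symm

variable {ρ} in
theorem mem_S4 {v : V} (h : v ∈ S4 ρ) : ρ A1 v = v ∧ ρ A2 v = v ∧ ρ A3 v = v ∧ ρ TA v = v ∧ ρ H0 v = v := by
  obtain ⟨h1, h2⟩ := h
  obtain ⟨h3, h4⟩ := (mem_D8a ρ).1 h1
  obtain ⟨h5, h6⟩ := (mem_V4a ρ).1 h3
  exact ⟨h5, h6, fix_A3 h3, h4, fix_h (LinearMap.mem_ker.1 h2)⟩

/-- **step (1)** -/
theorem ineq_S4 [Module.Finite (ZMod 3) V] {B : LinearMap.BilinForm (ZMod 3) V} (hB : B.Nondegenerate) (hs : B.IsSymm)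
    (hi : ∀ g v v', B (ρ g v) (ρ g v') = B v v') :
    3 * finrank (ZMod 3) (fixS ρ D8a) ≤ finrank (ZMod 3) (fixS ρ V4a) + 3 * finrank (ZMod 3) (S4 ρ) := by
  have h2 : (2 : ZMod 3) ≠ 0 := by decide
  have hsp := split h2 (fixS ρ V4a) (ρ TA) (fun v hv => V4a_t hv) (fun v _ => t_t ρ v)
  rw [← D8a_eq] at hsp
  -- the projection
  let q : V → V := fun x => x + ρ A1 x + ρ A2 x + ρ A3 x
  have hq : ∀ x, q x ∈ fixS ρ V4a := by
    intro x
    have e : ∀ a b c : ↥P336, a * b = c → ρ a (ρ b x) = ρ c x := fun a b c h => by rw [← rmul, h]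
    refine (mem_V4a ρ).2 ⟨?_, ?_⟩
    · show ρ A1 (x + ρ A1 x + ρ A2 x + ρ A3 x) = x + ρ A1 x + ρ A2 x + ρ A3 x
      simp only [map_add]
      rw [e _ _ _ A1A1, e _ _ _ A1A2, e _ _ _ A1A3, rone]
      abel
    · show ρ A2 (x + ρ A1 x + ρ A2 x + ρ A3 x) = x + ρ A1 x + ρ A2 x + ρ A3 x
      simp only [map_add]
      rw [e _ _ _ A2A1, e _ _ _ A2A2, e _ _ _ A2A3, rone]
      abel
  have hB1 : ∀ u ∈ fixS ρ V4a, ∀ x, B u (q x) = B u x := by
    intro u hu x
    obtain ⟨h3, h4⟩ := (mem_V4a ρ).1 hu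
    have h5 := fix_A3 hu
    have k1 : B u (ρ A1 x) = B u x := by have h := hi A1 u x; rwa [h3] at h
    have k2 : B u (ρ A2 x) = B u x := by have h := hi A2 u x; rwa [h4] at h
    have k3 : B u (ρ A3 x) = B u x := by have h := hi A3 u x; rwa [h5] at h
    show B u (x + ρ A1 x + ρ A2 x + ρ A3 x) = B u x
    simp only [map_add, k1, k2, k3]
    exact m3 (by match_scalars; decide)
  have hin := ineq B hB hs (fixS ρ D8a) (eig (fixS ρ V4a) (ρ TA) (-1)) (dd ρ) ?_ ?_ (fun v _ => ddd ρ v)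
    (fun u _ v _ => B_dd hi u v)
    (nondeg hB _ (fun x => ρ TA (q x) - q x) (fun x => mem_eig.2 ⟨Submodule.sub_mem _ (V4a_t (hq x)) (hq x), ?_⟩) ?_)
  · have e : finrank (ZMod 3) ↥(fixS ρ D8a ⊓ LinearMap.ker (dd ρ)) = finrank (ZMod 3) (S4 ρ) := rfl
    rw [e] at hin
    omega
  · intro v hv
    obtain ⟨h3, h4⟩ := (mem_D8a ρ).1 hv
    refine mem_eig.2 ⟨V4a_dd h3, ?_⟩
    rw [t_dd h3, h4, neg_smul, one_smul]
  · intro v hv
    obtain ⟨h3, h4⟩ := mem_eig.1 hv
    refine (mem_D8a ρ).2 ⟨V4a_dd h3, ?_⟩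
    rw [t_dd h3, h4, neg_smul, one_smul, map_neg, neg_neg]
  · rw [map_sub, t_t, neg_smul, one_smul, neg_sub]
  · intro u hu x
    obtain ⟨h3, h4⟩ := mem_eig.1 hu
    have k1 : B u (ρ TA (q x)) = - B u (q x) := by
      have h := hi TA (ρ TA u) (q x)
      rw [t_t, h4, neg_smul, one_smul, map_neg, LinearMap.neg_apply] at h
      exact h
    rw [map_sub, k1, hB1 u h3]
    exact m3 (by match_scalars; decide)

/-! ### `e` maps `V^{S4a}` to the invariants -/

variable {ρ} in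
theorem ee_S4 {v : V} (h : v ∈ S4 ρ) : ee ρ v ∈ fixS ρ P168 := by
  obtain ⟨a1, a2, a3, t, hh⟩ := mem_S4 h
  refine (mem_168 ρ).2 ⟨n_ee ρ v, by rw [h_ee, hh], ?_⟩
  have key : ∀ i, ρ W0 (ρ (N0 ^ i) v) = ρ (W0 * N0 ^ i) v := fun i => (rmul ρ _ _ v).symm
  have k0 : ρ W0 (ρ (N0 ^ 0) v) = ρ (N0 ^ 0) v := by rw [key, v0, rmul, rmul, rmul, t, hh, a2]
  have k1 : ρ W0 (ρ (N0 ^ 1) v) = ρ (N0 ^ 2) v := by rw [key, v1, rmul, rmul, hh, a3]
  have k2 : ρ W0 (ρ (N0 ^ 2) v) = ρ (N0 ^ 1) v := by rw [key, v2, rmul, rmul, rmul, hh, hh, a2]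
  have k3 : ρ W0 (ρ (N0 ^ 3) v) = ρ (N0 ^ 6) v := by rw [key, v3, rmul, rmul, rmul, rmul, t, hh, hh, a2]
  have k4 : ρ W0 (ρ (N0 ^ 4) v) = ρ (N0 ^ 4) v := by rw [key, v4, rmul, a1]
  have k5 : ρ W0 (ρ (N0 ^ 5) v) = ρ (N0 ^ 5) v := by rw [key, v5, rmul, rmul, rmul, rmul, t, hh, hh, a1]
  have k6 : ρ W0 (ρ (N0 ^ 6) v) = ρ (N0 ^ 3) v := by rw [key, v6, rmul, rmul, rmul, t, hh, hh]
  rw [ee_apply]
  simp only [map_add, k0, k1, k2, k3, k4, k5, k6]
  abel

/-- `K`, the kernel of `e` on `V^{S4a}` -/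
def KK : Submodule (ZMod 3) V := S4 ρ ⊓ LinearMap.ker (ee ρ)

theorem dim_KK [Module.Finite (ZMod 3) V] :
    finrank (ZMod 3) (S4 ρ) ≤ finrank (ZMod 3) (fixS ρ P168) + finrank (ZMod 3) (KK ρ) := by
  rw [← rk (ee ρ) (S4 ρ)]
  refine Nat.add_le_add_right (Submodule.finrank_mono ?_) _
  rintro _ ⟨v, hv, rfl⟩
  exact ee_S4 hv

/-! ### step (6) -/

/-- the operator `e_λ` (up to sign) -/
def EL : V →ₗ[ZMod 3] V := LinearMap.id + ρ Z1 + ρ Z2 + ρ Z3 - (ρ T0 + ρ T1 + ρ T2 + ρ T3)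

theorem EL_apply (v : V) : EL ρ v = v + ρ Z1 v + ρ Z2 v + ρ Z3 v - (ρ T0 v + ρ T1 v + ρ T2 v + ρ T3 v) := rfl

theorem EL_mem (v : V) : EL ρ v ∈ eig (fixS ρ V4b) (ρ T0) (-1) := by
  have e : ∀ a b c : ↥P336, a * b = c → ρ a (ρ b v) = ρ c v := fun a b c h => by rw [← rmul, h]
  refine mem_eig.2 ⟨(mem_V4b ρ).2 ⟨?_, ?_⟩, ?_⟩
  · rw [EL_apply]
    simp only [map_add, map_sub]
    rw [e _ _ _ Z1Z1, e _ _ _ Z1Z2, e _ _ _ Z1Z3, e _ _ _ Z1T0, e _ _ _ Z1T1, e _ _ _ Z1T2, e _ _ _ Z1T3, rone]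
    abel
  · rw [EL_apply]
    simp only [map_add, map_sub]
    rw [e _ _ _ Z2Z1, e _ _ _ Z2Z2, e _ _ _ Z2Z3, e _ _ _ Z2T0, e _ _ _ Z2T1, e _ _ _ Z2T2, e _ _ _ Z2T3, rone]
    abel
  · rw [EL_apply]
    simp only [map_add, map_sub]
    rw [e _ _ _ T0Z1, e _ _ _ T0Z2, e _ _ _ T0Z3, e _ _ _ T0T0, e _ _ _ T0T1, e _ _ _ T0T2, e _ _ _ T0T3, rone,
      neg_smul, one_smul]
    abel

variable {ρ} in
theorem ee_EL {v : V} (hv : ρ N0 v = v) :
    ee ρ (EL ρ v) = v + om ρ v + ρ H0 (ρ H0 (om ρ v)) := by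
  have z1 : ee ρ (ρ Z1 v) = ρ H0 (om ρ v) := (e_word hv 2 5).2.1
  have z2 : ee ρ (ρ Z2 v) = ρ H0 (ρ H0 (om ρ v)) := by
    have h := (e_word hv 1 6).2.2
    rwa [pow_one] at h
  have z3 : ee ρ (ρ Z3 v) = om ρ v := (e_word hv 4 3).1
  have t0 : ee ρ (ρ T0 v) = om ρ v := (e_word hv 5 2).1
  have t1 : ee ρ (ρ T1 v) = om ρ v := (e_word hv 6 4).1
  have t2 : ee ρ (ρ T2 v) = ρ H0 (om ρ v) := by
    have h := (e_word hv 0 0).2.1
    rwa [pow_zero, one_mul, mul_one] at h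
  have t3 : ee ρ (ρ T3 v) = om ρ v := by
    have h := (e_word hv 3 1).1
    rwa [pow_one] at h
  rw [EL_apply]
  simp only [map_add, map_sub]
  rw [z1, z2, z3, t0, t1, t2, t3, ee_fix hv]
  exact m3 (by match_scalars <;> decide)

/-- the vectors of `W` with `sg = -1` -/
def Wm : Submodule (ZMod 3) V := eig (fixS ρ U7) (sg ρ) (-1)

variable {ρ} in
theorem mem_Wm {v : V} : v ∈ Wm ρ ↔ ρ N0 v = v ∧ sg ρ v = - v := by
  rw [Wm, mem_eig, mem_U7, neg_smul, one_smul]

variable {ρ} in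
/-- the kernel of `e e_λ` on `W₋` -/
theorem eq_zero {v : V} (h : v ∈ Wm ρ) (h0 : ee ρ (EL ρ v) = 0) : v = 0 := by
  obtain ⟨h1, h2⟩ := mem_Wm.1 h
  have hom : om ρ v = ρ H0 v + ρ H0 (ρ H0 v) := by
    have h3 : om ρ v = sg ρ v + (v + ρ H0 v + ρ H0 (ρ H0 v)) := by rw [sg_apply]; abel
    rw [h3, h2]
    abel
  have key : v = ee ρ (EL ρ v) + ρ H0 (ρ H0 (ee ρ (EL ρ v))) := by
    rw [ee_EL h1, hom]
    simp only [map_add, hhh]
    exact m3 (by match_scalars <;> decide)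
  rw [h0, map_zero, map_zero, add_zero] at key
  exact key

/-- **step (6)** -/
theorem dim_six [Module.Finite (ZMod 3) V] :
    finrank (ZMod 3) (Wm ρ) + finrank (ZMod 3) (KK ρ) ≤ finrank (ZMod 3) (eig (fixS ρ V4b) (ρ T0) (-1)) := by
  refine inj_le (Wm ρ) (KK ρ) _ (EL ρ) (ρ N0 - ρ (N0 ^ 4)) ?_ ?_
  · intro v _ a ha
    refine Submodule.add_mem _ (EL_mem ρ v) ?_
    obtain ⟨a1, a2, a3, t, hh⟩ := mem_S4 ha.1
    have e1 : ρ Z1 (ρ N0 a) = ρ N0 a := by rw [← rmul, Z1N, rmul, t]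
    have e2 : ρ Z1 (ρ (N0 ^ 4) a) = ρ (N0 ^ 4) a := by rw [← rmul, Z1N4, rmul, a3]
    have e3 : ρ Z2 (ρ N0 a) = ρ N0 a := by rw [← rmul, Z2N, rmul, rmul, t, a1]
    have e4 : ρ Z2 (ρ (N0 ^ 4) a) = ρ (N0 ^ 4) a := by rw [← rmul, Z2N4, rmul, rmul, rmul, t, hh, a1]
    have e5 : ρ T0 (ρ N0 a) = ρ (N0 ^ 4) a := by rw [← rmul, T0N, rmul, rmul, rmul, rmul, t, hh, hh, a2]
    have e6 : ρ T0 (ρ (N0 ^ 4) a) = ρ N0 a := by rw [← rmul, T0N4, rmul, rmul, rmul, t, hh, hh]
    refine mem_eig.2 ⟨(mem_V4b ρ).2 ⟨?_, ?_⟩, ?_⟩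
    · show ρ Z1 (ρ N0 a - ρ (N0 ^ 4) a) = ρ N0 a - ρ (N0 ^ 4) a
      rw [map_sub, e1, e2]
    · show ρ Z2 (ρ N0 a - ρ (N0 ^ 4) a) = ρ N0 a - ρ (N0 ^ 4) a
      rw [map_sub, e3, e4]
    · show ρ T0 (ρ N0 a - ρ (N0 ^ 4) a) = (-1 : ZMod 3) • (ρ N0 a - ρ (N0 ^ 4) a)
      rw [map_sub, e5, e6, neg_smul, one_smul, neg_sub]
  · intro v hv a ha h
    have hea : ee ρ a = 0 := LinearMap.mem_ker.1 ha.2
    have h0 : ee ρ (EL ρ v) = 0 := by
      have h1 := congrArg (ee ρ) h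
      have h2 : ee ρ ((ρ N0 - ρ (N0 ^ 4)) a) = 0 := by
        show ee ρ (ρ N0 a - ρ (N0 ^ 4) a) = 0
        rw [map_sub, ee_n, ee_npow, sub_self]
      rwa [map_add, h2, map_zero, add_zero] at h1
    have hv0 := eq_zero hv h0
    refine ⟨hv0, ?_⟩
    rw [hv0, map_zero, zero_add] at h
    have h3 : ρ N0 a = ρ (N0 ^ 4) a := sub_eq_zero.1 h
    -- `a` is fixed by `n`
    have h4 : ρ (N0 ^ 3) a = a := by
      have h5 := congrArg (ρ (N0 ^ 6)) h3
      rw [← rmul, ← rmul, ← pow_succ, ← pow_add, N7, rone] at h5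
      have e : N0 ^ (6 + 4) = N0 ^ 3 := by rw [show 6 + 4 = 7 + 3 from rfl, pow_add, N7, one_mul]
      rw [e] at h5
      exact h5.symm
    have h5 : ρ N0 a = a := by
      have h6 : ρ (N0 ^ 15) a = a := by
        have e : N0 ^ 15 = N0 ^ 3 * (N0 ^ 3 * (N0 ^ 3 * (N0 ^ 3 * N0 ^ 3))) := by
          rw [← pow_add, ← pow_add, ← pow_add, ← pow_add]
        rw [e, rmul, rmul, rmul, rmul, h4, h4, h4, h4, h4]
      have e : N0 ^ 15 = N0 := by
        rw [show 15 = 7 + (7 + 1) from rfl, pow_add, pow_add, N7, one_mul, one_mul, pow_one]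
      rwa [e] at h6
    rw [← ee_fix h5, hea]

/-! ### the invariants of `P168` -/

theorem dim_168 [Module.Finite (ZMod 3) V] :
    finrank (ZMod 3) (fixS ρ P168) ≤ finrank (ZMod 3) (fixS ρ P336) + finrank (ZMod 3) (antS ρ) := by
  have h2 : (2 : ZMod 3) ≠ 0 := by decide
  rw [← split h2 (fixS ρ P168) (ρ R0) ?_ (fun v _ => rr ρ v)]
  · refine Nat.add_le_add (Submodule.finrank_mono ?_) (Submodule.finrank_mono ?_)
    · intro v hv
      obtain ⟨h3, h4⟩ := mem_eig.1 hv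
      obtain ⟨h5, h6, h7⟩ := (mem_168 ρ).1 h3
      exact mem_336 ρ h5 h6 h7 (by rw [h4, one_smul])
    · intro v hv
      obtain ⟨h3, h4⟩ := mem_eig.1 hv
      obtain ⟨h5, h6, h7⟩ := (mem_168 ρ).1 h3
      exact mem_ant ρ h5 h6 h7 (by rw [h4, neg_smul, one_smul])
  · intro v hv
    obtain ⟨h5, h6, h7⟩ := (mem_168 ρ).1 hv
    refine (mem_168 ρ).2 ⟨n_r h5, by rw [← r_h, h6], ?_⟩
    have e : W0 * R0 = R0 * W0 := RW.symm
    rw [← rmul, e, rmul, h7]

end Cfsg.Agent.H296.L7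
end

-- part: H296/L7/RepH
section
/-!
# `RepH` (S5920): no module of `PGL₂(7)` over `F₃` with the given data
-/

set_option autoImplicit false

namespace Cfsg.Agent.H296.L7

open Cfsg.Agent.H942.L7 Module

section Orders

theorem ne_sub {x y : ↥P336} (h : (x : Equiv.Perm (Fin 8)) ≠ y) : x ≠ y := fun e => h (congrArg Subtype.val e)

theorem ord_W0 : orderOf W0 = 2 := by
  have : Fact (Nat.Prime 2) := ⟨Nat.prime_two⟩
  exact orderOf_eq_prime (by rw [pow_two, WW]) (ne_sub (by decide))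

theorem ord_seven {x : ↥P336} (h : x ^ 7 = 1) (h1 : x ≠ 1) : orderOf x = 7 := by
  have : Fact (Nat.Prime 7) := ⟨by norm_num⟩
  exact orderOf_eq_prime h h1

theorem ord_four {x : ↥P336} (h : x ^ 4 = 1) (h1 : x ^ 2 ≠ 1) : orderOf x = 4 := by
  have : Fact (Nat.Prime 2) := ⟨Nat.prime_two⟩
  exact orderOf_eq_prime_pow (p := 2) (n := 1) h1 h

theorem ord_eight {x : ↥P336} (h : x ^ 8 = 1) (h1 : x ^ 4 ≠ 1) : orderOf x = 8 := by
  have : Fact (Nat.Prime 2) := ⟨Nat.prime_two⟩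
  exact orderOf_eq_prime_pow (p := 2) (n := 2) h1 h

end Orders

variable {V : Type} [AddCommGroup V] [Module (ZMod 3) V] (ρ : Representation (ZMod 3) ↥P336 V)

/-- the trace of `om` on `W` -/
theorem tr_T [Module.Finite (ZMod 3) V] (hV : finrank (ZMod 3) V = 248)
    (t2 : ∀ g : ↥P336, orderOf g = 2 → (g : Equiv.Perm (Fin 8)) ∈ P168 → LinearMap.trace (ZMod 3) V (ρ g) = 1)
    (t4 : ∀ g : ↥P336, orderOf g = 4 → LinearMap.trace (ZMod 3) V (ρ g) = 0)
    (t7 : ∀ g : ↥P336, orderOf g = 7 → LinearMap.trace (ZMod 3) V (ρ g) = 0) :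
    LinearMap.trace (ZMod 3) V (om ρ ∘ₗ ee ρ) = 2 := by
  have h := tr_om ρ 1 (fun v => by rw [rone, rone])
  have e : ρ 1 ∘ₗ om ρ ∘ₗ ee ρ = om ρ ∘ₗ ee ρ := by rw [map_one]; rfl
  have h3 : ∀ c : ↥P336, c * (c * c) = 1 → tr ρ c = 2 := by
    intro c hc
    have h4 := tr_unip ρ 1 c (by rw [one_mul, mul_one]) hc
    rw [one_mul, tr_one, hV] at h4
    rw [h4]
    decide
  have k0 : tr ρ (W0 * (N0 ^ 0 * 1)) = 1 := by
    rw [pow_zero, one_mul, mul_one]
    exact t2 W0 ord_W0 (Subgroup.subset_closure (by simp [coe_W0]))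
  have k1 : tr ρ (W0 * (N0 ^ 1 * 1)) = 2 := h3 _ (Subtype.ext (by decide +kernel))
  have k2 : tr ρ (W0 * (N0 ^ 2 * 1)) = 0 := t7 _ (ord_seven (Subtype.ext (by decide +kernel)) (ne_sub (by decide +kernel)))
  have k3 : tr ρ (W0 * (N0 ^ 3 * 1)) = 0 := t4 _ (ord_four (Subtype.ext (by decide +kernel)) (ne_sub (by decide +kernel)))
  have k4 : tr ρ (W0 * (N0 ^ 4 * 1)) = 0 := t4 _ (ord_four (Subtype.ext (by decide +kernel)) (ne_sub (by decide +kernel)))
  have k5 : tr ρ (W0 * (N0 ^ 5 * 1)) = 0 := t7 _ (ord_seven (Subtype.ext (by decide +kernel)) (ne_sub (by decide +kernel)))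
  have k6 : tr ρ (W0 * (N0 ^ 6 * 1)) = 2 := h3 _ (Subtype.ext (by decide +kernel))
  rw [e, k0, k1, k2, k3, k4, k5, k6] at h
  rw [h]
  decide

/-- the trace of `om r` on `W` -/
theorem tr_Tr {b8 : ZMod 3}
    (t8 : ∀ g : ↥P336, orderOf g = 8 → LinearMap.trace (ZMod 3) V (ρ g) = b8) :
    LinearMap.trace (ZMod 3) V (ρ R0 ∘ₗ om ρ ∘ₗ ee ρ) = b8 := by
  have h := tr_om ρ R0 (r_ee ρ)
  have k0 : tr ρ (W0 * (N0 ^ 0 * R0)) = tr ρ R0 := by
    rw [pow_zero, one_mul]
    exact tr_conj ρ cj0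
  have h6 : ∀ x : ↥P336, x ^ 3 * x ^ 4 = x → x ^ 4 * (x ^ 4 * x ^ 4) = 1 → tr ρ x = tr ρ (x ^ 3) := by
    intro x h7 h12
    have h4 := tr_unip ρ (x ^ 3) (x ^ 4) (by rw [← pow_add, ← pow_add]) h12
    rwa [h7] at h4
  have k1 : tr ρ (W0 * (N0 ^ 1 * R0)) = b8 := t8 _ (ord_eight (Subtype.ext (by decide +kernel)) (ne_sub (by decide +kernel)))
  have k2 : tr ρ (W0 * (N0 ^ 2 * R0)) = tr ρ R0 := by
    rw [h6 _ (Subtype.ext (by decide +kernel)) (Subtype.ext (by decide +kernel))]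
    exact tr_conj ρ cj2
  have k3 : tr ρ (W0 * (N0 ^ 3 * R0)) = b8 := t8 _ (ord_eight (Subtype.ext (by decide +kernel)) (ne_sub (by decide +kernel)))
  have k4 : tr ρ (W0 * (N0 ^ 4 * R0)) = b8 := t8 _ (ord_eight (Subtype.ext (by decide +kernel)) (ne_sub (by decide +kernel)))
  have k5 : tr ρ (W0 * (N0 ^ 5 * R0)) = tr ρ R0 := by
    rw [h6 _ (Subtype.ext (by decide +kernel)) (Subtype.ext (by decide +kernel))]
    exact tr_conj ρ cj5
  have k6 : tr ρ (W0 * (N0 ^ 6 * R0)) = b8 := t8 _ (ord_eight (Subtype.ext (by decide +kernel)) (ne_sub (by decide +kernel)))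
  rw [k0, k1, k2, k3, k4, k5, k6] at h
  rw [h]
  have key : ∀ c b : ZMod 3, c + b + c + b + b + c + b = b := by decide
  exact key _ _

/-- **`RepH`** -/
theorem repH : RepH := by
  intro V _ _ _ ρ B hB hs hi hV hV4a hV4b hD8a hD8b hU7 hD14 b8 hb8 t2 t4 t7 t8 ha hb hb'
  have h2 : (2 : ZMod 3) ≠ 0 := by decide
  have h1 : ((1 : ZMod 3)) * 1 = 1 := by decide
  have hm : ((-1 : ZMod 3)) * (-1) = 1 := by decide
  -- the dimensions
  have d1 := ineq_S4 ρ hB hs hi
  have d2 := dim_KK ρ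
  have d3 := dim_168 ρ
  have d4 := dim_six ρ
  have d5 := split h2 (fixS ρ V4b) (ρ T0) (fun v hv => by
      obtain ⟨h3, h4⟩ := (mem_V4b ρ).1 hv
      have h5 : ρ Z3 v = v := by rw [← Z1Z2, rmul, h4, h3]
      have e1 : Z1 * T0 = T0 * Z3 := Subtype.ext (by decide +kernel)
      have e2 : Z2 * T0 = T0 * Z2 := Subtype.ext (by decide +kernel)
      exact (mem_V4b ρ).2 ⟨by rw [← rmul, e1, rmul, h5], by rw [← rmul, e2, rmul, h4]⟩)
    (fun v _ => by rw [← rmul, T0T0, rone])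
  rw [← D8b_eq] at d5
  have d6 := split h2 (fixS ρ U7) (ρ R0) (fun v hv => (mem_U7 ρ).2 (n_r ((mem_U7 ρ).1 hv))) (fun v _ => rr ρ v)
  have e14 : fixS ρ D14 = eig (fixS ρ U7) (ρ R0) 1 := by
    ext v
    rw [mem_D14, mem_eig, mem_U7, one_smul]
  rw [← e14] at d6
  have d7 : ∀ ε : ZMod 3, finrank (ZMod 3) (XX ρ ε 1) + finrank (ZMod 3) (XX ρ ε (-1)) =
      finrank (ZMod 3) (eig (fixS ρ U7) (ρ R0) ε) := by
    intro ε
    refine split h2 (eig (fixS ρ U7) (ρ R0) ε) (sg ρ) ?_ ?_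
    · intro v hv
      obtain ⟨h3, h4⟩ := mem_eig.1 hv
      exact mem_eig.2 ⟨(mem_U7 ρ).2 (n_sg ((mem_U7 ρ).1 h3)), by rw [r_sg, h4, map_smul]⟩
    · intro v hv
      exact sg_sg ((mem_U7 ρ).1 (mem_eig.1 hv).1)
  have d8 := d7 1
  have d9 := d7 (-1)
  rw [← e14] at d8
  have d10 := split h2 (Wm ρ) (ρ R0) (fun v hv => by
      obtain ⟨h3, h4⟩ := mem_Wm.1 hv
      exact mem_Wm.2 ⟨n_r h3, by rw [← r_sg, h4, map_neg]⟩) (fun v _ => rr ρ v)
  have e10 : ∀ ε : ZMod 3, eig (Wm ρ) (ρ R0) ε = XX ρ ε (-1) := by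
    intro ε
    ext v
    rw [mem_eig, mem_Wm, mem_XX, neg_smul, one_smul]
    itauto
  rw [e10, e10] at d10
  -- the skew operator
  have i1 := ineq_W ρ hB hs hi h1
  have i2 := ineq_W ρ hB hs hi hm
  have j1 : finrank (ZMod 3) ↥(XX ρ 1 1 ⊓ LinearMap.ker (dd ρ)) ≤ finrank (ZMod 3) (fixS ρ P336) := by
    apply Submodule.finrank_mono
    rintro v ⟨hv, hd⟩
    obtain ⟨h3, h4, h5⟩ := (mem_XX ρ).1 hv
    rw [one_smul] at h4 h5
    obtain ⟨h6, h7⟩ := inv_of_ker h3 h5 (LinearMap.mem_ker.1 hd)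
    exact mem_336 ρ h3 h6 h7 h4
  have j2 : finrank (ZMod 3) ↥(XX ρ (-1) 1 ⊓ LinearMap.ker (dd ρ)) ≤ finrank (ZMod 3) (antS ρ) := by
    apply Submodule.finrank_mono
    rintro v ⟨hv, hd⟩
    obtain ⟨h3, h4, h5⟩ := (mem_XX ρ).1 hv
    rw [one_smul] at h5
    rw [neg_smul, one_smul] at h4
    obtain ⟨h6, h7⟩ := inv_of_ker h3 h5 (LinearMap.mem_ker.1 hd)
    exact mem_ant ρ h3 h6 h7 h4
  -- the traces
  have m1 := dim_mod ρ h1
  have m2 := dim_mod ρ hm
  rw [tr_T ρ hV t2 t4 t7, tr_Tr ρ t8] at m1 m2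
  rw [hV4a, hD8a] at d1
  rw [hV4b, hD8b] at d5
  rw [hU7] at d6
  generalize finrank (ZMod 3) (XX ρ 1 1) = xp at *
  generalize finrank (ZMod 3) (XX ρ 1 (-1)) = tp at *
  generalize finrank (ZMod 3) (XX ρ (-1) 1) = xm at *
  generalize finrank (ZMod 3) (XX ρ (-1) (-1)) = tm at *
  generalize finrank (ZMod 3) (fixS ρ D14) = dd14 at *
  generalize finrank (ZMod 3) (fixS ρ P336) = a at *
  generalize finrank (ZMod 3) (antS ρ) = b at *
  generalize finrank (ZMod 3) (fixS ρ P168) = p at *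
  generalize finrank (ZMod 3) (S4 ρ) = f at *
  generalize finrank (ZMod 3) (KK ρ) = k at *
  generalize finrank (ZMod 3) (Wm ρ) = wm at *
  generalize finrank (ZMod 3) (eig (fixS ρ V4b) (ρ T0) (-1)) = l at *
  generalize finrank (ZMod 3) (eig (fixS ρ U7) (ρ R0) (-1)) = y at *
  generalize finrank (ZMod 3) ↥(XX ρ 1 1 ⊓ LinearMap.ker (dd ρ)) = z1 at *
  generalize finrank (ZMod 3) ↥(XX ρ (-1) 1 ⊓ LinearMap.ker (dd ρ)) = z2 at *
  rcases hb8 with rfl | rfl
  · have n1 : ((xp : ℕ) : ZMod 3) = ((tp + 1 : ℕ) : ZMod 3) := by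
      rw [Nat.cast_add, Nat.cast_one, ← sub_eq_iff_eq_add', m1]; decide
    have n2 : ((xm : ℕ) : ZMod 3) = ((tm + 1 : ℕ) : ZMod 3) := by
      rw [Nat.cast_add, Nat.cast_one, ← sub_eq_iff_eq_add', m2]; decide
    rw [ZMod.natCast_eq_natCast_iff'] at n1 n2
    (clear * - hD14 d8 ha hb d3 d1 d2 d10 d5 d4 d9 d6 i1 j1 i2 j2 n1 n2; omega)
  · have hb0 := hb' rfl
    have n1 : ((xp : ℕ) : ZMod 3) = ((tp + 0 : ℕ) : ZMod 3) := by
      rw [Nat.cast_add, Nat.cast_zero, ← sub_eq_iff_eq_add', m1]; decide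
    have n2 : ((xm : ℕ) : ZMod 3) = ((tm + 2 : ℕ) : ZMod 3) := by
      rw [Nat.cast_add, ← sub_eq_iff_eq_add', m2]; decide
    rw [ZMod.natCast_eq_natCast_iff'] at n1 n2
    (clear * - hD14 d8 ha d3 d1 d2 d10 d5 d4 d9 d6 i1 j1 i2 j2 hb0 n2; omega)

end Cfsg.Agent.H296.L7
end

-- part: H942/CB/E8Data
section
/-!
# Certificates for elements of order 4 and 8 of `E₈(3)`
-/

set_option autoImplicit false
set_option linter.style.longLine false
set_option maxRecDepth 100000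

namespace Cfsg.Agent.H942.CB

/-- certificate, `N = 4`, type A3D5 -/
noncomputable def CA3D5 : Cert :=
  (by
  refine (?fq9001 : (fun (On : (n : Nat) → OfNat Nat n → Nat) (In : (n : Nat) → OfNat Nat n) (Oz : (n : Nat) → OfNat Int n → Int) (Iz : (n : Nat) → OfNat Int n) (Gz : Int → Int) => ((_root_.Cfsg.Agent.H942.CB.Cert.mk (pk61l (fun i1 => (pk61o On In (pk61d (nat_lit 3) 
    (nat_lit 0x2c6506a33634358ca0d466c686b194e5) i1))) (nat_lit 0) (nat_lit 42) List.nil) (pk61l (fun i1 => (pk61o On In (pk61d (nat_lit 4) 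
    (nat_lit 0x88222211) i1))) (nat_lit 0) (nat_lit 8) List.nil) (pk61l (fun i1 => (pk61l (fun i2 => (pk61y Oz Iz Gz (pk61d (nat_lit 5) 
    (nat_lit 0x19c400000014001000a0008000000100002000cf0000010005000000080300000000430000000002) i2))) (Nat.mul (nat_lit 8) i1) (Nat.mul (nat_lit 8) (Nat.succ i1)) List.nil)) (nat_lit 0) (nat_lit 8) List.nil) (pk61l (fun i1 => (pk61l (fun i2 => (pk61y Oz Iz Gz (pk61d (nat_lit 5) 
    (nat_lit 0x4000000100800000078ae00000010082000000000010000000000080000005000400090431082) i2))) (Nat.mul (nat_lit 8) i1) (Nat.mul (nat_lit 8) (Nat.succ i1)) List.nil)) (nat_lit 0) (nat_lit 8) List.nil) (pk61l (fun i1 => ((fun g1 : Nat → Nat => pk61l (fun i2 => (pk61o On In (pk61d (nat_lit 3) 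
    (nat_lit 0x141941c6506a33f58ca0d466c686b194e5df58ca0d466c686b194e5dc14ca0d46506a33f58ca0d466c686b194e5df58ca0d466c686b194e5dca0ca0d46506a33f58ca0d466c686b194e5df58ca0d466c686b194e5dc14ca0e3283519df58ca0d466c686b194e5df58ca0d466c686b194e5dca0ca0e3283519df58ca0d466c686b194e5df58ca0d466c686b194e5dc1419423283519df58ca0d466c686b194e5df58ca0d466c686b194e5dca6506a3283519df58ca0d466c686b194e5df58ca0d466c686b194e5dc16506a3283519df58ca0d466c686b194e5df58ca0d466c686b194e5dc141941a8ca0d467eb1941a8cd8d0d6329cbbeb1941a8cd8d0d6329cbb82832838ca0d4677d63283519b1a1ac653977d63283519b1a1ac65397705328351941a8cefac6506a33634358ca72efac6506a33634358ca72ee506506a3283519df58ca0d466c686b194e5df58ca0d466c686b194e5dc141941a8ca0d4677d63283519b1a1ac653977d63283519b1a1ac653977) i2))) (g1 i1) (g1 (Nat.succ i1)) List.nil) fun j => (pk61d (nat_lit 10) 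
    (nat_lit 0xf8b96d2afeaca66869ce609353a09b13800) j))) (nat_lit 0) (nat_lit 13) List.nil)) : Cert))
    = ?xq9001 → (Cert)) ?hq9001; (case hq9001 => (set_option maxRecDepth 1000000 in conv => lhs; reduce)); intro _; exact ?xq9001 (@OfNat.ofNat Nat) instOfNatNat (@OfNat.ofNat Int) (@instOfNat) (@Neg.neg Int Int.instNegInt) : Cert)

private noncomputable def _root_.Cfsg.Agent.LsF.f893a3b_0 : {f // @Cfsg.Agent.H942.CB.okw = f} := ⟨_, by first | (delta Cfsg.Agent.H942.CB.okw; rewrite [Cfsg.Agent.LsF.decLt_eq, Cfsg.Agent.LsF.all_eq, Cfsg.Agent.LsF.decide_eq]; exact rfl) | exact rfl⟩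
private noncomputable def _root_.Cfsg.Agent.LsF.f893a3b_1 : {f // @Int.subNatNat = f} := ⟨_, by first | (delta Int.subNatNat; rewrite [Cfsg.Agent.LsF.nsub_pat]; (try delta Int.negOfNat.match_1); (try delta Nat.casesOn); exact rfl) | exact rfl⟩
private noncomputable def _root_.Cfsg.Agent.LsF.f893a3b_2 : {f // @Cfsg.Agent.qE = f} := ⟨_, by first | (delta Cfsg.Agent.qE; rewrite [Cfsg.Agent.LsF.f893a3b_1.2]; exact rfl) | exact rfl⟩
private noncomputable def _root_.Cfsg.Agent.LsF.f893a3b_3 : {f // @Cfsg.Agent.qR = f} := ⟨_, by first | (delta Cfsg.Agent.qR; rewrite [Cfsg.Agent.LsF.f893a3b_2.2]; exact rfl) | exact rfl⟩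
private noncomputable def _root_.Cfsg.Agent.LsF.f893a3b_4 : {f // @Cfsg.Agent.H942.CB.sL = f} := ⟨_, by first | (delta Cfsg.Agent.H942.CB.sL; rewrite [Cfsg.Agent.LsF.iadd_pat, Cfsg.Agent.LsF.ineg_pat]; (try delta Cfsg.Agent.H942.CB.sL.match_1); (try delta Cfsg.Agent.H942.CB.sL._sparseCasesOn_1); (try delta Cfsg.Agent.H942.CB.sL._sparseCasesOn_2); (try rewrite [Cfsg.Agent.LsF.instDecEq_eq, Cfsg.Agent.LsF.dite_eq]); exact rfl) | exact rfl⟩
private noncomputable def _root_.Cfsg.Agent.LsF.f893a3b_5 : {f // @Cfsg.Agent.H942.CB.actW = f} := ⟨_, by first | (delta Cfsg.Agent.H942.CB.actW List.brecOn List.brecOn.go Cfsg.Agent.H942.CB.actW._f; rewrite [Cfsg.Agent.LsF.f893a3b_4.2]; (try delta Cfsg.Agent.H942.CB.actW.match_1); (try delta List.casesOn); first | dsimp -zeta only | exact rfl) | exact rfl⟩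
private noncomputable def _root_.Cfsg.Agent.LsF.f893a3b_6 : {f // @Cfsg.Agent.qF = f} := ⟨_, by first | (delta Cfsg.Agent.qF; rewrite [Cfsg.Agent.LsF.f893a3b_3.2, Cfsg.Agent.LsF.f893a3b_5.2, Cfsg.Agent.LsF.ineg_pat, Cfsg.Agent.LsF.toNat_eq]; (try delta Cfsg.Agent.qF.match_1); (try delta Cfsg.Agent.qF._sparseCasesOn_1); (try delta Cfsg.Agent.qF._sparseCasesOn_2); exact rfl) | exact rfl⟩
private noncomputable def _root_.Cfsg.Agent.LsF.f893a3b_7 : {f // @Cfsg.Agent.H942.CB.YZ = f} := ⟨_, by first | (delta Cfsg.Agent.H942.CB.YZ; rewrite [Cfsg.Agent.LsF.icast_pat, Cfsg.Agent.LsF.map_eq]; exact rfl) | exact rfl⟩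
private noncomputable def _root_.Cfsg.Agent.LsF.f893a3b_8 : {f // @Cfsg.Agent.H944.Tab.dotN = f} := ⟨_, by first | (delta Cfsg.Agent.H944.Tab.dotN List.brecOn List.brecOn.go Cfsg.Agent.H944.Tab.dotN._f; rewrite [Cfsg.Agent.LsF.nadd_pat, Cfsg.Agent.LsF.nmul_pat]; (try delta Cfsg.Agent.H944.Tab.dotN.match_1); (try delta Cfsg.Agent.H944.Tab.dotN._sparseCasesOn_1); first | dsimp -zeta only | exact rfl) | exact rfl⟩
private noncomputable def _root_.Cfsg.Agent.LsF.f893a3b_9 : {f // @Cfsg.Agent.H942.CB.SL = f} := ⟨_, by first | (delta Cfsg.Agent.H942.CB.SL; rewrite [Cfsg.Agent.LsF.f893a3b_8.2, Cfsg.Agent.LsF.nmod_pat, Cfsg.Agent.LsF.filter_eq]; exact rfl) | exact rfl⟩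
private noncomputable def _root_.Cfsg.Agent.LsF.f893a3b_10 : {f // @Cfsg.Agent.H942.CB.dotZ = f} := ⟨_, by first | (delta Cfsg.Agent.H942.CB.dotZ List.brecOn List.brecOn.go Cfsg.Agent.H942.CB.dotZ._f; rewrite [Cfsg.Agent.LsF.iadd_pat, Cfsg.Agent.LsF.imul_pat, Cfsg.Agent.LsF.icast_pat]; (try delta Cfsg.Agent.H942.CB.dotZ.match_1); (try delta Cfsg.Agent.H942.CB.sL._sparseCasesOn_1); first | dsimp -zeta only | exact rfl) | exact rfl⟩
theorem chkA3D5 : chk 4 [0, 0, 0, 0, 0, 1, 0, 0] CA3D5 = true := by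
  delta chk
  rw [actW_eq]
  ((try (rewrite [Cfsg.Agent.LsF.sumF_pat, Cfsg.Agent.LsF.f893a3b_0.2, Cfsg.Agent.LsF.f893a3b_6.2, Cfsg.Agent.LsF.f893a3b_7.2, Cfsg.Agent.LsF.f893a3b_9.2, Cfsg.Agent.LsF.f893a3b_10.2, Cfsg.Agent.LsF.nmod_pat, Cfsg.Agent.LsF.iadd_pat, Cfsg.Agent.LsF.imul_pat, Cfsg.Agent.LsF.isub_pat, Cfsg.Agent.LsF.imod_pat, Cfsg.Agent.LsF.icast_pat, Cfsg.Agent.LsF.lappend_pat, Cfsg.Agent.LsF.iACM_eq, Cfsg.Agent.LsF.and_eq, Cfsg.Agent.LsF.instDecEq_eq, Cfsg.Agent.LsF.all_eq, Cfsg.Agent.LsF.map_eq, Cfsg.Agent.LsF.range_eq, Cfsg.Agent.LsF.getD_eq, Cfsg.Agent.LsF.instIDecEq_eq, Cfsg.Agent.LsF.idecLt_eq, Cfsg.Agent.LsF.dNot_eq, Cfsg.Agent.LsF.dNodup_eq, Cfsg.Agent.LsF.dListEq_eq, Cfsg.Agent.LsF.length_eq, Cfsg.Agent.LsF.ite_eq, Cfsg.Agent.LsF.decide_eq])); decide +kernel)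

theorem bndA3D5 : bnd 4 [0, 0, 0, 0, 0, 1, 0, 0] CA3D5 = 21318698642497254476121314304 := by
  delta bnd
  rw [actW_eq]
  (refine of_decide_eq_true ?_; (try (rewrite [Cfsg.Agent.LsF.prodF_pat, Cfsg.Agent.LsF.f893a3b_9.2, Cfsg.Agent.LsF.f893a3b_10.2, Cfsg.Agent.LsF.f893a3b_6.2, Cfsg.Agent.LsF.nmul_pat, Cfsg.Agent.LsF.npow_pat, Cfsg.Agent.LsF.instDecEq_eq, Cfsg.Agent.LsF.map_eq, Cfsg.Agent.LsF.filter_eq, Cfsg.Agent.LsF.sum_eq, Cfsg.Agent.LsF.getD_eq, Cfsg.Agent.LsF.idecLt_eq, Cfsg.Agent.LsF.length_eq, Cfsg.Agent.LsF.decide_eq])); decide +kernel)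

/-- certificate, `N = 4`, type A7A1 -/
noncomputable def CA7A1 : Cert :=
  (by
  refine (?fq9002 : (fun (On : (n : Nat) → OfNat Nat n → Nat) (In : (n : Nat) → OfNat Nat n) (Oz : (n : Nat) → OfNat Int n → Int) (Iz : (n : Nat) → OfNat Int n) (Gz : Int → Int) => ((_root_.Cfsg.Agent.H942.CB.Cert.mk (pk61l (fun i1 => (pk61o On In (pk61d (nat_lit 3) 
    (nat_lit 0x8329c6506ac6506a3b358ca0d466c686b1a) i1))) (nat_lit 0) (nat_lit 47) List.nil) (pk61l (fun i1 => (pk61o On In (pk61d (nat_lit 4) 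
    (nat_lit 0x88822111) i1))) (nat_lit 0) (nat_lit 8) List.nil) (pk61l (fun i1 => (pk61l (fun i2 => (pk61y Oz Iz Gz (pk61d (nat_lit 4) 
    (nat_lit 0x31000250232060b0020000670020600f00020003000020030000002100000002) i2))) (Nat.mul (nat_lit 8) i1) (Nat.mul (nat_lit 8) (Nat.succ i1)) List.nil)) (nat_lit 0) (nat_lit 8) List.nil) (pk61l (fun i1 => (pk61l (fun i2 => (pk61y Oz Iz Gz (pk61d (nat_lit 4) 
    (nat_lit 0x2002000040042000a001020030000020000005020000500002002444822) i2))) (Nat.mul (nat_lit 8) i1) (Nat.mul (nat_lit 8) (Nat.succ i1)) List.nil)) (nat_lit 0) (nat_lit 8) List.nil) (pk61l (fun i1 => (pk61l (fun i2 => (pk61o On In (pk61d (nat_lit 3) 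
    (nat_lit 0x2cc66c6758cfd63283519b1a1ac653977d63283519b1a1ac653977) i2))) (nat_lit 0) (nat_lit 73) List.nil)) (nat_lit 0) (nat_lit 1) List.nil)) : Cert))
    = ?xq9002 → (Cert)) ?hq9002; (case hq9002 => (set_option maxRecDepth 1000000 in conv => lhs; reduce)); intro _; exact ?xq9002 (@OfNat.ofNat Nat) instOfNatNat (@OfNat.ofNat Int) (@instOfNat) (@Neg.neg Int Int.instNegInt) : Cert)

theorem chkA7A1 : chk 4 [0, 0, 1, 0, 0, 0, 0, 0] CA7A1 = true := by
  delta chk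
  rw [actW_eq]
  ((try (rewrite [Cfsg.Agent.LsF.sumF_pat, Cfsg.Agent.LsF.f893a3b_0.2, Cfsg.Agent.LsF.f893a3b_6.2, Cfsg.Agent.LsF.f893a3b_7.2, Cfsg.Agent.LsF.f893a3b_9.2, Cfsg.Agent.LsF.f893a3b_10.2, Cfsg.Agent.LsF.nmod_pat, Cfsg.Agent.LsF.iadd_pat, Cfsg.Agent.LsF.imul_pat, Cfsg.Agent.LsF.isub_pat, Cfsg.Agent.LsF.imod_pat, Cfsg.Agent.LsF.icast_pat, Cfsg.Agent.LsF.lappend_pat, Cfsg.Agent.LsF.iACM_eq, Cfsg.Agent.LsF.and_eq, Cfsg.Agent.LsF.instDecEq_eq, Cfsg.Agent.LsF.all_eq, Cfsg.Agent.LsF.map_eq, Cfsg.Agent.LsF.range_eq, Cfsg.Agent.LsF.getD_eq, Cfsg.Agent.LsF.instIDecEq_eq, Cfsg.Agent.LsF.idecLt_eq, Cfsg.Agent.LsF.dNot_eq, Cfsg.Agent.LsF.dNodup_eq, Cfsg.Agent.LsF.dListEq_eq, Cfsg.Agent.LsF.length_eq, Cfsg.Agent.LsF.ite_eq, Cfsg.Agent.LsF.decide_eq])); decide +kernel)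

theorem bndA7A1 : bnd 4 [0, 0, 1, 0, 0, 0, 0, 0] CA7A1 = 9646343571960309421919444355072 := by
  delta bnd
  rw [actW_eq]
  decide +kernel

/-- certificate, `N = 4`, type A7 -/
noncomputable def CA7 : Cert :=
  (by
  refine (?fq9003 : (fun (On : (n : Nat) → OfNat Nat n → Nat) (In : (n : Nat) → OfNat Nat n) (Oz : (n : Nat) → OfNat Int n → Int) (Iz : (n : Nat) → OfNat Int n) (Gz : Int → Int) => ((_root_.Cfsg.Agent.H942.CB.Cert.mk (pk61l (fun i1 => (pk61o On In (pk61d (nat_lit 3) 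
    (nat_lit 0x2d08ca72c6506a33ac6506a33635ac67eb1941a8cd8d0d6329cbbeb1941a8cd8d6b19) i1))) (nat_lit 0) (nat_lit 92) List.nil) (pk61l (fun i1 => (pk61o On In (pk61d (nat_lit 4) 
    (nat_lit 0x88881111) i1))) (nat_lit 0) (nat_lit 8) List.nil) (pk61l (fun i1 => (pk61l (fun i2 => (pk61y Oz Iz Gz (pk61d (nat_lit 8) 
    (nat_lit 0x5000000000002010200000800000019000200300006009f00000248060000ef0000000200000005000000000200000500000000000200030000000000000002) i2))) (Nat.mul (nat_lit 8) i1) (Nat.mul (nat_lit 8) (Nat.succ i1)) List.nil)) (nat_lit 0) (nat_lit 8) List.nil) (pk61l (fun i1 => (pk61l (fun i2 => (pk61y Oz Iz Gz (pk61d (nat_lit 7) 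
    (nat_lit 0x1000400000000030000080000000000000010000000000ebe3820000b80000028004000000014000000800004103060c10402) i2))) (Nat.mul (nat_lit 8) i1) (Nat.mul (nat_lit 8) (Nat.succ i1)) List.nil)) (nat_lit 0) (nat_lit 8) List.nil) (pk61l (fun i1 => (pk61l (fun i2 => (pk61o On In (pk61d (nat_lit 3) 
    (nat_lit 0x8342342c686b1a1f58d0) i2))) (nat_lit 0) (nat_lit 28) List.nil)) (nat_lit 0) (nat_lit 1) List.nil)) : Cert))
    = ?xq9003 → (Cert)) ?hq9003; (case hq9003 => (set_option maxRecDepth 1000000 in conv => lhs; reduce)); intro _; exact ?xq9003 (@OfNat.ofNat Nat) instOfNatNat (@OfNat.ofNat Int) (@instOfNat) (@Neg.neg Int Int.instNegInt) : Cert)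

theorem chkA7 : chk 4 [0, 1, 0, 0, 0, 0, 0, 0] CA7 = true := by
  delta chk
  rw [actW_eq]
  ((try (rewrite [Cfsg.Agent.LsF.sumF_pat, Cfsg.Agent.LsF.f893a3b_0.2, Cfsg.Agent.LsF.f893a3b_6.2, Cfsg.Agent.LsF.f893a3b_7.2, Cfsg.Agent.LsF.f893a3b_9.2, Cfsg.Agent.LsF.f893a3b_10.2, Cfsg.Agent.LsF.nmod_pat, Cfsg.Agent.LsF.iadd_pat, Cfsg.Agent.LsF.imul_pat, Cfsg.Agent.LsF.isub_pat, Cfsg.Agent.LsF.imod_pat, Cfsg.Agent.LsF.icast_pat, Cfsg.Agent.LsF.lappend_pat, Cfsg.Agent.LsF.iACM_eq, Cfsg.Agent.LsF.and_eq, Cfsg.Agent.LsF.instDecEq_eq, Cfsg.Agent.LsF.all_eq, Cfsg.Agent.LsF.map_eq, Cfsg.Agent.LsF.range_eq, Cfsg.Agent.LsF.getD_eq, Cfsg.Agent.LsF.instIDecEq_eq, Cfsg.Agent.LsF.idecLt_eq, Cfsg.Agent.LsF.dNot_eq, Cfsg.Agent.LsF.dNodup_eq, Cfsg.Agent.LsF.dListEq_eq, Cfsg.Agent.LsF.length_eq, Cfsg.Agent.LsF.ite_eq, Cfsg.Agent.LsF.decide_eq])); decide +kernel)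

theorem bndA7 : bnd 4 [0, 1, 0, 0, 0, 0, 0, 0] CA7 = 2143631904880068760426543190016 := by
  delta bnd
  rw [actW_eq]
  decide +kernel

/-- certificate, `N = 4`, type D6A1 -/
noncomputable def CD6A1 : Cert :=
  (by
  refine (?fq9004 : (fun (On : (n : Nat) → OfNat Nat n → Nat) (In : (n : Nat) → OfNat Nat n) (Oz : (n : Nat) → OfNat Int n → Int) (Iz : (n : Nat) → OfNat Int n) (Gz : Int → Int) => ((_root_.Cfsg.Agent.H942.CB.Cert.mk (pk61l (fun i1 => (pk61o On In (pk61d (nat_lit 3) 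
    (nat_lit 0x4cc6858ca72eb1941a8cd8d0) i1))) (nat_lit 0) (nat_lit 33) List.nil) (pk61l (fun i1 => (pk61o On In (pk61d (nat_lit 4) 
    (nat_lit 0x82222221) i1))) (nat_lit 0) (nat_lit 8) List.nil) (pk61l (fun i1 => (pk61l (fun i2 => (pk61y Oz Iz Gz (pk61d (nat_lit 4) 
    (nat_lit 0x2800000107000002032000000502000007002000050002000300002002000000) i2))) (Nat.mul (nat_lit 8) i1) (Nat.mul (nat_lit 8) (Nat.succ i1)) List.nil)) (nat_lit 0) (nat_lit 8) List.nil) (pk61l (fun i1 => (pk61l (fun i2 => (pk61y Oz Iz Gz (pk61d (nat_lit 4) 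
    (nat_lit 0x2000000020000002002000000002000000002000000002000000002002468648) i2))) (Nat.mul (nat_lit 8) i1) (Nat.mul (nat_lit 8) (Nat.succ i1)) List.nil)) (nat_lit 0) (nat_lit 8) List.nil) (pk61l (fun i1 => (pk61l (fun i2 => (pk61o On In (pk61d (nat_lit 3) 
    (nat_lit 0x5329c65396329cbac653977d63283519b1a1ac653977d63283519b1a1ac653977) i2))) (nat_lit 0) (nat_lit 87) List.nil)) (nat_lit 0) (nat_lit 1) List.nil)) : Cert))
    = ?xq9004 → (Cert)) ?hq9004; (case hq9004 => (set_option maxRecDepth 1000000 in conv => lhs; reduce)); intro _; exact ?xq9004 (@OfNat.ofNat Nat) instOfNatNat (@OfNat.ofNat Int) (@instOfNat) (@Neg.neg Int Int.instNegInt) : Cert)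

theorem chkD6A1 : chk 4 [1, 0, 0, 0, 0, 0, 0, 1] CD6A1 = true := by
  delta chk
  rw [actW_eq]
  ((try (rewrite [Cfsg.Agent.LsF.sumF_pat, Cfsg.Agent.LsF.f893a3b_0.2, Cfsg.Agent.LsF.f893a3b_6.2, Cfsg.Agent.LsF.f893a3b_7.2, Cfsg.Agent.LsF.f893a3b_9.2, Cfsg.Agent.LsF.f893a3b_10.2, Cfsg.Agent.LsF.nmod_pat, Cfsg.Agent.LsF.iadd_pat, Cfsg.Agent.LsF.imul_pat, Cfsg.Agent.LsF.isub_pat, Cfsg.Agent.LsF.imod_pat, Cfsg.Agent.LsF.icast_pat, Cfsg.Agent.LsF.lappend_pat, Cfsg.Agent.LsF.iACM_eq, Cfsg.Agent.LsF.and_eq, Cfsg.Agent.LsF.instDecEq_eq, Cfsg.Agent.LsF.all_eq, Cfsg.Agent.LsF.map_eq, Cfsg.Agent.LsF.range_eq, Cfsg.Agent.LsF.getD_eq, Cfsg.Agent.LsF.instIDecEq_eq, Cfsg.Agent.LsF.idecLt_eq, Cfsg.Agent.LsF.dNot_eq, Cfsg.Agent.LsF.dNodup_eq, Cfsg.Agent.LsF.dListEq_eq, Cfsg.Agent.LsF.length_eq, Cfsg.Agent.LsF.ite_eq, Cfsg.Agent.LsF.decide_eq])); decide +kernel)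

theorem bndD6A1 : bnd 4 [1, 0, 0, 0, 0, 0, 0, 1] CD6A1 = 195338457332196265793868748190208 := by
  delta bnd
  rw [actW_eq]
  decide +kernel

/-- certificate, `N = 4`, type A1E6 -/
noncomputable def CA1E6 : Cert :=
  (by
  refine (?fq9005 : (fun (On : (n : Nat) → OfNat Nat n → Nat) (In : (n : Nat) → OfNat Nat n) (Oz : (n : Nat) → OfNat Int n → Int) (Iz : (n : Nat) → OfNat Int n) (Gz : Int → Int) => ((_root_.Cfsg.Agent.H942.CB.Cert.mk (pk61l (fun i1 => (pk61o On In (pk61d (nat_lit 3) 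
    (nat_lit 0x1ac6506a33634358ca72efac6506a33634358ca72efac6506a33634358ca72e) i1))) (nat_lit 0) (nat_lit 83) List.nil) (pk61l (fun i1 => (pk61o On In (pk61d (nat_lit 4) 
    (nat_lit 0x88822111) i1))) (nat_lit 0) (nat_lit 8) List.nil) (pk61l (fun i1 => (pk61l (fun i2 => (pk61y Oz Iz Gz (pk61d (nat_lit 4) 
    (nat_lit 0x502060072000000f02000063000002070002000200000000000020000000002) i2))) (Nat.mul (nat_lit 8) i1) (Nat.mul (nat_lit 8) (Nat.succ i1)) List.nil)) (nat_lit 0) (nat_lit 8) List.nil) (pk61l (fun i1 => (pk61l (fun i2 => (pk61y Oz Iz Gz (pk61d (nat_lit 5) 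
    (nat_lit 0x200000008060000000040000000000000040000001000012218400800000500800000a000002) i2))) (Nat.mul (nat_lit 8) i1) (Nat.mul (nat_lit 8) (Nat.succ i1)) List.nil)) (nat_lit 0) (nat_lit 8) List.nil) (pk61l (fun i1 => (pk61l (fun i2 => (pk61o On In (pk61d (nat_lit 3) 
    (nat_lit 0x28328351941a8cd8ca0d466c687) i2))) (nat_lit 0) (nat_lit 37) List.nil)) (nat_lit 0) (nat_lit 1) List.nil)) : Cert))
    = ?xq9005 → (Cert)) ?hq9005; (case hq9005 => (set_option maxRecDepth 1000000 in conv => lhs; reduce)); intro _; exact ?xq9005 (@OfNat.ofNat Nat) instOfNatNat (@OfNat.ofNat Int) (@instOfNat) (@Neg.neg Int Int.instNegInt) : Cert)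

theorem chkA1E6 : chk 4 [0, 0, 0, 0, 0, 0, 1, 0] CA1E6 = true := by
  delta chk
  rw [actW_eq]
  ((try (rewrite [Cfsg.Agent.LsF.sumF_pat, Cfsg.Agent.LsF.f893a3b_0.2, Cfsg.Agent.LsF.f893a3b_6.2, Cfsg.Agent.LsF.f893a3b_7.2, Cfsg.Agent.LsF.f893a3b_9.2, Cfsg.Agent.LsF.f893a3b_10.2, Cfsg.Agent.LsF.nmod_pat, Cfsg.Agent.LsF.iadd_pat, Cfsg.Agent.LsF.imul_pat, Cfsg.Agent.LsF.isub_pat, Cfsg.Agent.LsF.imod_pat, Cfsg.Agent.LsF.icast_pat, Cfsg.Agent.LsF.lappend_pat, Cfsg.Agent.LsF.iACM_eq, Cfsg.Agent.LsF.and_eq, Cfsg.Agent.LsF.instDecEq_eq, Cfsg.Agent.LsF.all_eq, Cfsg.Agent.LsF.map_eq, Cfsg.Agent.LsF.range_eq, Cfsg.Agent.LsF.getD_eq, Cfsg.Agent.LsF.instIDecEq_eq, Cfsg.Agent.LsF.idecLt_eq, Cfsg.Agent.LsF.dNot_eq, Cfsg.Agent.LsF.dNodup_eq, Cfsg.Agent.LsF.dListEq_eq, Cfsg.Agent.LsF.length_eq, Cfsg.Agent.LsF.ite_eq, Cfsg.Agent.LsF.decide_eq])); decide +kernel)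

theorem bndA1E6 : bnd 4 [0, 0, 0, 0, 0, 0, 1, 0] CA1E6 = 415243460412318862759037605627809318912 := by
  delta bnd
  rw [actW_eq]
  decide +kernel

/-- certificate, `N = 4`, type D7 -/
noncomputable def CD7 : Cert :=
  (by
  refine (?fq9006 : (fun (On : (n : Nat) → OfNat Nat n → Nat) (In : (n : Nat) → OfNat Nat n) (Oz : (n : Nat) → OfNat Int n → Int) (Iz : (n : Nat) → OfNat Int n) (Gz : Int → Int) => ((_root_.Cfsg.Agent.H942.CB.Cert.mk (pk61l (fun i1 => (pk61o On In (pk61d (nat_lit 3) 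
    (nat_lit 0x266342c6539758ca0d466c687d63283519b1a1ac65397eb1941a8cd8d0) i1))) (nat_lit 0) (nat_lit 78) List.nil) (pk61l (fun i1 => (pk61o On In (pk61d (nat_lit 4) 
    (nat_lit 0x88222211) i1))) (nat_lit 0) (nat_lit 8) List.nil) (pk61l (fun i1 => (pk61l (fun i2 => (pk61y Oz Iz Gz (pk61d (nat_lit 5) 
    (nat_lit 0x3800000002b8000008c0188000000028040000003800200000480001000010000000000000000040) i2))) (Nat.mul (nat_lit 8) i1) (Nat.mul (nat_lit 8) (Nat.succ i1)) List.nil)) (nat_lit 0) (nat_lit 8) List.nil) (pk61l (fun i1 => (pk61l (fun i2 => (pk61y Oz Iz Gz (pk61d (nat_lit 5) 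
    (nat_lit 0x200000008000080000000000400000000002000000000010000110c8560080000001440) i2))) (Nat.mul (nat_lit 8) i1) (Nat.mul (nat_lit 8) (Nat.succ i1)) List.nil)) (nat_lit 0) (nat_lit 8) List.nil) (pk61l (fun i1 => (pk61l (fun i2 => (pk61o On In (pk61d (nat_lit 3) 
    (nat_lit 0xa6538ca72c6539758ca72efac653977) i2))) (nat_lit 0) (nat_lit 42) List.nil)) (nat_lit 0) (nat_lit 1) List.nil)) : Cert))
    = ?xq9006 → (Cert)) ?hq9006; (case hq9006 => (set_option maxRecDepth 1000000 in conv => lhs; reduce)); intro _; exact ?xq9006 (@OfNat.ofNat Nat) instOfNatNat (@OfNat.ofNat Int) (@instOfNat) (@Neg.neg Int Int.instNegInt) : Cert)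

theorem chkD7 : chk 4 [1, 0, 0, 0, 0, 0, 0, 0] CD7 = true := by
  delta chk
  rw [actW_eq]
  ((try (rewrite [Cfsg.Agent.LsF.sumF_pat, Cfsg.Agent.LsF.f893a3b_0.2, Cfsg.Agent.LsF.f893a3b_6.2, Cfsg.Agent.LsF.f893a3b_7.2, Cfsg.Agent.LsF.f893a3b_9.2, Cfsg.Agent.LsF.f893a3b_10.2, Cfsg.Agent.LsF.nmod_pat, Cfsg.Agent.LsF.iadd_pat, Cfsg.Agent.LsF.imul_pat, Cfsg.Agent.LsF.isub_pat, Cfsg.Agent.LsF.imod_pat, Cfsg.Agent.LsF.icast_pat, Cfsg.Agent.LsF.lappend_pat, Cfsg.Agent.LsF.iACM_eq, Cfsg.Agent.LsF.and_eq, Cfsg.Agent.LsF.instDecEq_eq, Cfsg.Agent.LsF.all_eq, Cfsg.Agent.LsF.map_eq, Cfsg.Agent.LsF.range_eq, Cfsg.Agent.LsF.getD_eq, Cfsg.Agent.LsF.instIDecEq_eq, Cfsg.Agent.LsF.idecLt_eq, Cfsg.Agent.LsF.dNot_eq, Cfsg.Agent.LsF.dNodup_eq, Cfsg.Agent.LsF.dListEq_eq, Cfsg.Agent.LsF.length_eq, Cfsg.Agent.LsF.ite_eq, Cfsg.Agent.LsF.decide_eq])); decide +kernel)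

theorem bndD7 : bnd 4 [1, 0, 0, 0, 0, 0, 0, 0] CD7 = 12259855546943508263529205787358256236217344 := by
  delta bnd
  rw [actW_eq]
  decide +kernel

/-- certificate, `N = 4`, type E7 -/
noncomputable def CE7 : Cert :=
  (by
  refine (?fq9007 : (fun (On : (n : Nat) → OfNat Nat n → Nat) (In : (n : Nat) → OfNat Nat n) (Oz : (n : Nat) → OfNat Int n → Int) (Iz : (n : Nat) → OfNat Int n) (Gz : Int → Int) => ((_root_.Cfsg.Agent.H942.CB.Cert.mk (pk61l (fun i1 => (pk61o On In (pk61d (nat_lit 3) 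
    (nat_lit 0x7d63283519b1a1ac653977d63283519b1a1ac653977) i1))) (nat_lit 0) (nat_lit 57) List.nil) (pk61l (fun i1 => (pk61o On In (pk61d (nat_lit 4) 
    (nat_lit 0x82222221) i1))) (nat_lit 0) (nat_lit 8) List.nil) (pk61l (fun i1 => (pk61l (fun i2 => (pk61y Oz Iz Gz (pk61d (nat_lit 4) 
    (nat_lit 0x270000070300000507200007090200090b00200b070002070500002502000002) i2))) (Nat.mul (nat_lit 8) i1) (Nat.mul (nat_lit 8) (Nat.succ i1)) List.nil)) (nat_lit 0) (nat_lit 8) List.nil) (pk61l (fun i1 => (pk61l (fun i2 => (pk61y Oz Iz Gz (pk61d (nat_lit 4) 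
    (nat_lit 0x20000000020000010020000000020000000020000000020000000020868ac863) i2))) (Nat.mul (nat_lit 8) i1) (Nat.mul (nat_lit 8) (Nat.succ i1)) List.nil)) (nat_lit 0) (nat_lit 8) List.nil) (pk61l (fun i1 => (pk61l (fun i2 => (pk61o On In (pk61d (nat_lit 3) 
    (nat_lit 0xa0ca0d46506a3363283519b1a1ac6506a33634358ca72e) i2))) (nat_lit 0) (nat_lit 63) List.nil)) (nat_lit 0) (nat_lit 1) List.nil)) : Cert))
    = ?xq9007 → (Cert)) ?hq9007; (case hq9007 => (set_option maxRecDepth 1000000 in conv => lhs; reduce)); intro _; exact ?xq9007 (@OfNat.ofNat Nat) instOfNatNat (@OfNat.ofNat Int) (@instOfNat) (@Neg.neg Int Int.instNegInt) : Cert)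

theorem chkE7 : chk 4 [0, 0, 0, 0, 0, 0, 0, 1] CE7 = true := by
  delta chk
  rw [actW_eq]
  ((try (rewrite [Cfsg.Agent.LsF.sumF_pat, Cfsg.Agent.LsF.f893a3b_0.2, Cfsg.Agent.LsF.f893a3b_6.2, Cfsg.Agent.LsF.f893a3b_7.2, Cfsg.Agent.LsF.f893a3b_9.2, Cfsg.Agent.LsF.f893a3b_10.2, Cfsg.Agent.LsF.nmod_pat, Cfsg.Agent.LsF.iadd_pat, Cfsg.Agent.LsF.imul_pat, Cfsg.Agent.LsF.isub_pat, Cfsg.Agent.LsF.imod_pat, Cfsg.Agent.LsF.icast_pat, Cfsg.Agent.LsF.lappend_pat, Cfsg.Agent.LsF.iACM_eq, Cfsg.Agent.LsF.and_eq, Cfsg.Agent.LsF.instDecEq_eq, Cfsg.Agent.LsF.all_eq, Cfsg.Agent.LsF.map_eq, Cfsg.Agent.LsF.range_eq, Cfsg.Agent.LsF.getD_eq, Cfsg.Agent.LsF.instIDecEq_eq, Cfsg.Agent.LsF.idecLt_eq, Cfsg.Agent.LsF.dNot_eq, Cfsg.Agent.LsF.dNodup_eq, Cfsg.Agent.LsF.dListEq_eq, Cfsg.Agent.LsF.length_eq, Cfsg.Agent.LsF.ite_eq, Cfsg.Agent.LsF.decide_eq])); decide +kernel)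

theorem bndE7 : bnd 4 [0, 0, 0, 0, 0, 0, 0, 1] CE7 = 670730500422461620424298545004801061869693815027247849761960448 := by
  delta bnd
  rw [actW_eq]
  decide +kernel

/-- certificate, `N = 8`, type Y1 -/
noncomputable def CY1 : Cert :=
  (by
  refine (?fq9008 : (fun (On : (n : Nat) → OfNat Nat n → Nat) (In : (n : Nat) → OfNat Nat n) (Oz : (n : Nat) → OfNat Int n → Int) (Iz : (n : Nat) → OfNat Int n) (Gz : Int → Int) => ((_root_.Cfsg.Agent.H942.CB.Cert.mk (pk61l (fun i1 => (pk61o On In (pk61d (nat_lit 3) 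
    (nat_lit 0x342329cb1941a8f58ca0d466c7acfac6506a33634358d7d63) i1))) (nat_lit 0) (nat_lit 65) List.nil) (pk61l (fun i1 => (pk61o On In (pk61d (nat_lit 4) 
    (nat_lit 0x88822111) i1))) (nat_lit 0) (nat_lit 8) List.nil) (pk61l (fun i1 => (pk61l (fun i2 => (pk61y Oz Iz Gz (pk61d (nat_lit 6) 
    (nat_lit 0x88bc0380180007c00442046007e004c0080008a403800000059823400000022c0100000000080000000000000000002) i2))) (Nat.mul (nat_lit 8) i1) (Nat.mul (nat_lit 8) (Nat.succ i1)) List.nil)) (nat_lit 0) (nat_lit 8) List.nil) (pk61l (fun i1 => (pk61l (fun i2 => (pk61y Oz Iz Gz (pk61d (nat_lit 7) 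
    (nat_lit 0x4000000000000000000000080000a00000000810014100010214180000000200000008e3400e10a0c000a001040c2820000000000014002) i2))) (Nat.mul (nat_lit 8) i1) (Nat.mul (nat_lit 8) (Nat.succ i1)) List.nil)) (nat_lit 0) (nat_lit 8) List.nil) (pk61l (fun i1 => ((fun g1 : Nat → Nat => pk61l (fun i2 => (pk61o On In (pk61d (nat_lit 3) (Nat.add 
    (nat_lit 0x358ca72efac6506a33634358ca72ee10810a10d66b25d64b353acfac6506a33634358ca72efac6506a33634358ca72ee659f58ca0d466c686b194e5df58ca0d466c686b194e5dccd7eb1941a8cd8d0d6329cbbeb1941a8cd8d0d6329cbb9b37d63283519b1a1ac653977d63283519b1a1ac65397732efac6506a33634358ca72efac6506a33634358ca72ee6ebf58ca0d466c686b194e5df58ca0d466c686b194e5dc2160425086a10982170287d63283519b1a1ac653977d63283519b1a1ac653977966b0cd67d63283519b1a1ac653977d63283519b1a1ac653977366bf58ca0d466c686b194e5df58ca0d466c686b194e5dcdd67d63283519b1a1ac653977d63283519b1a1ac65397732cdf58ca0d466c686b194e5df58ca0d466c686b1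94e5dccbafd63283519b1a1ac653977d63283519b1a1ac653977086b0212c084d42166084b821750509f58ca0d466c686b194e5df58ca0d466c686b194e5dc142fd63283519b1a1ac653977d63283519b1a1ac653977050df58ca0d466c686b194e5df58ca0d466c686b194e5dcd9acfac6506a33634358ca72efac6506a33634358ca72ee65d67d63283519b1a1ac653977d63283519b1a1ac65397732cd7eb1941a8cd8d0d6329cbbeb1941a8cd8d0d6329cbb8426b02166a10bac084b30425d4142cfac6506a33634358ca72efac6506a33634358ca72ee0a12fd63283519b1a1ac653977d63283519b1a1ac653977050d7eb1941a8cd8d0d6329cbbeb1941a8cd8d0d6329cbb8284df58ca0d466c686b194e5df58ca0d466c686b194e5dc142efac6506a33634358ca72efac6506a33634358ca72ee659acfac6506a33634358ca72efac6506a33634358ca72ee10b35810975810966a0a1acfac6506a33634358ca72efac6506a33634358ca72ee0a12cfac6506a33634358ca72efac6506a33634358ca72ee0a135fac6506a33634358ca72efac6506a33634358ca72ee0a166fac6506a33634358ca72efac6506a33634358ca72ee0a12efac6506a33634358ca72efac6506a33634358ca72ee0a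175fac6506a33634358ca72efac6506a33634358ca72ee10966b01426b3eb1941a8cd8d0d6329cbbeb1941a8cd8d0d6329cbb82859afd63283519b1a1ac653977d63283519b1a1ac653977050bacfac6506a33634358ca72efac6506a33634358ca72ee0a12cdf58ca0d466c686b194e5df58ca0d466c686b194e5dc1425d7eb1941a8cd8d0d6329cbbeb1941a8cd8d0d6329cbb82859acfac6506a33634358ca72efac6506a33634358ca72ee0a12eb3eb1941a8cd8d0d6329cbbeb1941a8cd8d0d6329cbb8284b35fac6506a33634358ca72efac6506a33634358ca72ee0a12cd67d63283519b1a1ac653977d63283519b1a1ac653977) (Nat.shiftLeft 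
    (nat_lit 0x97592eb35c7eb1941a8cd8d0d6329cbbeb1941a8cd8d0d6329cbbeb25935b34baea67d63283519b1a1ac653977d63283519b1a1ac65397737eb1941a8cd8d0d6329cbbeb1941a8cd8d0d6329cbb9df58ca0d466c686b194e5df58ca0d466c686b194e5dc2135966b7592cd2ea6cfac6506a33634358ca72efac6506a33634358ca72ee65fac6506a33634358ca72efac6506a33634358ca72ee75fac6506a33634358ca72efac6506a33634358ca72ee66fac6506a33634358ca72efac6506a33634358ca72ee6efac6506a33634) (nat_lit 8000))) i2))) (g1 i1) (g1 (Nat.succ i1)) List.nil) fun j => (pk61d (nat_lit 12) 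
    (nat_lit 0xc90c90c8fc8ec8dc8bc89c87c85c83c49c46c43c40c3dc3ac37bfcbc1b86b83b7fb7bb77b73b6fb33af7abba7fa43a3fa3ba37a32a2da289eb9ae9719348f78ba8b58b08ab8a68a186485e8207e27a476672872271c71671070a7046c668864a60b5cc58d58657f57857156a52b4ec4ad46e42f3ef3e73df3d73973573172d729725724e20d1cc18b14a1090c7085043000) j))) (nat_lit 0) (nat_lit 96) List.nil)) : Cert))
    = ?xq9008 → (Cert)) ?hq9008; (case hq9008 => (set_option maxRecDepth 1000000 in conv => lhs; reduce)); intro _; exact ?xq9008 (@OfNat.ofNat Nat) instOfNatNat (@OfNat.ofNat Int) (@instOfNat) (@Neg.neg Int Int.instNegInt) : Cert)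

theorem chkY1 : chk 8 [0, 0, 0, 1, 0, 0, 0, 1] CY1 = true := by
  delta chk
  rw [actW_eq]
  ((try (rewrite [Cfsg.Agent.LsF.sumF_pat, Cfsg.Agent.LsF.f893a3b_0.2, Cfsg.Agent.LsF.f893a3b_6.2, Cfsg.Agent.LsF.f893a3b_7.2, Cfsg.Agent.LsF.f893a3b_9.2, Cfsg.Agent.LsF.f893a3b_10.2, Cfsg.Agent.LsF.nmod_pat, Cfsg.Agent.LsF.iadd_pat, Cfsg.Agent.LsF.imul_pat, Cfsg.Agent.LsF.isub_pat, Cfsg.Agent.LsF.imod_pat, Cfsg.Agent.LsF.icast_pat, Cfsg.Agent.LsF.lappend_pat, Cfsg.Agent.LsF.iACM_eq, Cfsg.Agent.LsF.and_eq, Cfsg.Agent.LsF.instDecEq_eq, Cfsg.Agent.LsF.all_eq, Cfsg.Agent.LsF.map_eq, Cfsg.Agent.LsF.range_eq, Cfsg.Agent.LsF.getD_eq, Cfsg.Agent.LsF.instIDecEq_eq, Cfsg.Agent.LsF.idecLt_eq, Cfsg.Agent.LsF.dNot_eq, Cfsg.Agent.LsF.dNodup_eq, Cfsg.Agent.LsF.dListEq_eq, Cfsg.Agent.LsF.length_eq, Cfsg.Agent.LsF.ite_eq, Cfsg.Agent.LsF.decide_eq])); decide +kernel)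

theorem bndY1 : bnd 8 [0, 0, 0, 1, 0, 0, 0, 1] CY1 = 211293005414400 := by
  delta bnd
  rw [actW_eq]
  (refine of_decide_eq_true ?_; (try (rewrite [Cfsg.Agent.LsF.prodF_pat, Cfsg.Agent.LsF.f893a3b_9.2, Cfsg.Agent.LsF.f893a3b_10.2, Cfsg.Agent.LsF.f893a3b_6.2, Cfsg.Agent.LsF.nmul_pat, Cfsg.Agent.LsF.npow_pat, Cfsg.Agent.LsF.instDecEq_eq, Cfsg.Agent.LsF.map_eq, Cfsg.Agent.LsF.filter_eq, Cfsg.Agent.LsF.sum_eq, Cfsg.Agent.LsF.getD_eq, Cfsg.Agent.LsF.idecLt_eq, Cfsg.Agent.LsF.length_eq, Cfsg.Agent.LsF.decide_eq])); decide +kernel)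

/-- certificate, `N = 8`, type Y2 -/
noncomputable def CY2 : Cert :=
  (by
  refine (?fq9009 : (fun (On : (n : Nat) → OfNat Nat n → Nat) (In : (n : Nat) → OfNat Nat n) (Oz : (n : Nat) → OfNat Int n → Int) (Iz : (n : Nat) → OfNat Int n) (Gz : Int → Int) => ((_root_.Cfsg.Agent.H942.CB.Cert.mk (pk61l (fun i1 => (pk61o On In (pk61d (nat_lit 3) 
    (nat_lit 0x358ca0d4766bf58ca0d466c686b194e5df58ca72e) i1))) (nat_lit 0) (nat_lit 54) List.nil) (pk61l (fun i1 => (pk61o On In (pk61d (nat_lit 4) 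
    (nat_lit 0x88881111) i1))) (nat_lit 0) (nat_lit 8) List.nil) (pk61l (fun i1 => (pk61l (fun i2 => (pk61y Oz Iz Gz (pk61d (nat_lit 4) 
    (nat_lit 0x23000206020002000020086000026e0000002400000002020000002100000002) i2))) (Nat.mul (nat_lit 8) i1) (Nat.mul (nat_lit 8) (Nat.succ i1)) List.nil)) (nat_lit 0) (nat_lit 8) List.nil) (pk61l (fun i1 => (pk61l (fun i2 => (pk61y Oz Iz Gz (pk61d (nat_lit 3) 
    (nat_lit 0x400000880000010000002000005400a79680028010092852) i2))) (Nat.mul (nat_lit 8) i1) (Nat.mul (nat_lit 8) (Nat.succ i1)) List.nil)) (nat_lit 0) (nat_lit 8) List.nil) (pk61l (fun i1 => (pk61l (fun i2 => (pk61o On In (pk61d (nat_lit 3) 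
    (nat_lit 0x598cd8cf) i2))) (nat_lit 0) (nat_lit 12) List.nil)) (nat_lit 0) (nat_lit 1) List.nil)) : Cert))
    = ?xq9009 → (Cert)) ?hq9009; (case hq9009 => (set_option maxRecDepth 1000000 in conv => lhs; reduce)); intro _; exact ?xq9009 (@OfNat.ofNat Nat) instOfNatNat (@OfNat.ofNat Int) (@instOfNat) (@Neg.neg Int Int.instNegInt) : Cert)

theorem chkY2 : chk 8 [0, 0, 1, 0, 0, 0, 1, 0] CY2 = true := by
  delta chk
  rw [actW_eq]
  ((try (rewrite [Cfsg.Agent.LsF.sumF_pat, Cfsg.Agent.LsF.f893a3b_0.2, Cfsg.Agent.LsF.f893a3b_6.2, Cfsg.Agent.LsF.f893a3b_7.2, Cfsg.Agent.LsF.f893a3b_9.2, Cfsg.Agent.LsF.f893a3b_10.2, Cfsg.Agent.LsF.nmod_pat, Cfsg.Agent.LsF.iadd_pat, Cfsg.Agent.LsF.imul_pat, Cfsg.Agent.LsF.isub_pat, Cfsg.Agent.LsF.imod_pat, Cfsg.Agent.LsF.icast_pat, Cfsg.Agent.LsF.lappend_pat, Cfsg.Agent.LsF.iACM_eq, Cfsg.Agent.LsF.and_eq, Cfsg.Agent.LsF.instDecEq_eq, Cfsg.Agent.LsF.all_eq, Cfsg.Agent.LsF.map_eq, Cfsg.Agent.LsF.range_eq,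 Cfsg.Agent.LsF.getD_eq, Cfsg.Agent.LsF.instIDecEq_eq, Cfsg.Agent.LsF.idecLt_eq, Cfsg.Agent.LsF.dNot_eq, Cfsg.Agent.LsF.dNodup_eq, Cfsg.Agent.LsF.dListEq_eq, Cfsg.Agent.LsF.length_eq, Cfsg.Agent.LsF.ite_eq, Cfsg.Agent.LsF.decide_eq])); decide +kernel)

theorem bndY2 : bnd 8 [0, 0, 1, 0, 0, 0, 1, 0] CY2 = 1156831381426176 := by
  delta bnd
  rw [actW_eq]
  decide +kernel

/-- certificate, `N = 8`, type Y3 -/
noncomputable def CY3 : Cert :=
  (by
  refine (?fq9010 : (fun (On : (n : Nat) → OfNat Nat n → Nat) (In : (n : Nat) → OfNat Nat n) (Oz : (n : Nat) → OfNat Int n → Int) (Iz : (n : Nat) → OfNat Int n) (Gz : Int → Int) => ((_root_.Cfsg.Agent.H942.CB.Cert.mk (pk61l (fun i1 => (pk61o On In (pk61d (nat_lit 3) 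
    (nat_lit 0x1331a16329cbac65397eb1941a8cd8d0) i1))) (nat_lit 0) (nat_lit 43) List.nil) (pk61l (fun i1 => (pk61o On In (pk61d (nat_lit 4) 
    (nat_lit 0x88822111) i1))) (nat_lit 0) (nat_lit 8) List.nil) (pk61l (fun i1 => (pk61l (fun i2 => (pk61y Oz Iz Gz (pk61d (nat_lit 3) 
    (nat_lit 0x590003012187010002000011000403080001000081000002) i2))) (Nat.mul (nat_lit 8) i1) (Nat.mul (nat_lit 8) (Nat.succ i1)) List.nil)) (nat_lit 0) (nat_lit 8) List.nil) (pk61l (fun i1 => (pk61l (fun i2 => (pk61y Oz Iz Gz (pk61d (nat_lit 3) 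
    (nat_lit 0x400000002000211000000010000400a8000000508008c892) i2))) (Nat.mul (nat_lit 8) i1) (Nat.mul (nat_lit 8) (Nat.succ i1)) List.nil)) (nat_lit 0) (nat_lit 8) List.nil) (pk61l (fun i1 => (pk61l (fun i2 => (pk61o On In (pk61d (nat_lit 3) 
    (nat_lit 0x5329c6539be) i2))) (nat_lit 0) (nat_lit 15) List.nil)) (nat_lit 0) (nat_lit 1) List.nil)) : Cert))
    = ?xq9010 → (Cert)) ?hq9010; (case hq9010 => (set_option maxRecDepth 1000000 in conv => lhs; reduce)); intro _; exact ?xq9010 (@OfNat.ofNat Nat) instOfNatNat (@OfNat.ofNat Int) (@instOfNat) (@Neg.neg Int Int.instNegInt) : Cert)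

theorem chkY3 : chk 8 [1, 0, 0, 0, 0, 1, 0, 0] CY3 = true := by
  delta chk
  rw [actW_eq]
  ((try (rewrite [Cfsg.Agent.LsF.sumF_pat, Cfsg.Agent.LsF.f893a3b_0.2, Cfsg.Agent.LsF.f893a3b_6.2, Cfsg.Agent.LsF.f893a3b_7.2, Cfsg.Agent.LsF.f893a3b_9.2, Cfsg.Agent.LsF.f893a3b_10.2, Cfsg.Agent.LsF.nmod_pat, Cfsg.Agent.LsF.iadd_pat, Cfsg.Agent.LsF.imul_pat, Cfsg.Agent.LsF.isub_pat, Cfsg.Agent.LsF.imod_pat, Cfsg.Agent.LsF.icast_pat, Cfsg.Agent.LsF.lappend_pat, Cfsg.Agent.LsF.iACM_eq, Cfsg.Agent.LsF.and_eq, Cfsg.Agent.LsF.instDecEq_eq, Cfsg.Agent.LsF.all_eq, Cfsg.Agent.LsF.map_eq, Cfsg.Agent.LsF.range_eq, Cfsg.Agent.LsF.getD_eq, Cfsg.Agent.LsF.instIDecEq_eq, Cfsg.Agent.LsF.idecLt_eq, Cfsg.Agent.LsF.dNot_eq, Cfsg.Agent.LsF.dNodup_eq, Cfsg.Agent.LsF.dListEq_eq, Cfsg.Agent.LsF.length_eq, Cfsg.Agent.LsF.ite_eq, Cfsg.Agent.LsF.decide_eq])); decide +kernel)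

theorem bndY3 : bnd 8 [1, 0, 0, 0, 0, 1, 0, 0] CY3 = 421665038529841152 := by
  delta bnd
  rw [actW_eq]
  decide +kernel

end Cfsg.Agent.H942.CB
end

-- part: H942/CB/Val48
section
/-!
# Elements of order 4 and 8 of `E₈(3)`: Brauer character values and lower bounds for the centralisers
-/

set_option autoImplicit false
set_option linter.unusedSectionVars false
set_option maxRecDepth 100000

namespace Cfsg.Agent.H942.CB

open Cfsg Cfsg.Lie Cfsg.Lie.ChevalleyDatum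
open Cfsg.Agent.ChevalleyStructure Cfsg.Agent.ChevalleyStructure.CoxeterGeomTypes
open Cfsg.Agent.H942.E8Tab Cfsg.Agent.H942.E8Alc Cfsg.Agent.H942.ValsChar Cfsg.Agent.H942.E8Val
open Cfsg.Agent.H944.RootVals Cfsg.Agent.H944.Tab Cfsg.Agent.H944.Kac
open Cfsg.Agent.H657 IsLocalRing Module

/-- the average of the powers of a primitive 4-th root of unity over the units -/
def chi4 (a : ZMod 4) : ℤ := if a = 0 then 1 else if a = 2 then -1 else 0

theorem chi4_neg : ∀ a : ZMod 4, chi4 (-a) = chi4 a := by decide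

theorem sum4 {m : Multiset (ZMod 4)} (hn : m = m.map (fun a => -a)) {ξ : ℂ} (hξ : IsPrimitiveRoot ξ 4) :
    (m.map fun a => ξ ^ a.val).sum = ((m.map chi4).sum : ℤ) := by
  have h2 : ξ ^ 2 = -1 := by
    have h0 : ξ ^ 4 = 1 := hξ.pow_eq_one
    have h1 : (ξ ^ 2 - 1) * (ξ ^ 2 + 1) = 0 := by linear_combination h0
    rcases mul_eq_zero.1 h1 with h | h
    · exfalso
      have := hξ.dvd_of_pow_eq_one 2 (sub_eq_zero.1 h)
      omega
    · linear_combination h
  have hn' : m = m.map (fun a => (3 : ZMod 4) * a) := by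
    conv_lhs => rw [hn]
    refine Multiset.map_congr rfl fun a _ => ?_
    exact (by decide : ∀ a : ZMod 4, -a = 3 * a) a
  have key := sum_avg [1, 3] (m := m) (by
    intro u hu
    simp only [List.mem_cons, List.not_mem_nil, or_false] at hu
    rcases hu with rfl | rfl
    · simp
    · exact hn') (fun a => ξ ^ a.val)
  have hpt : ∀ a : ZMod 4, ([1, 3].map fun u : ZMod 4 => ξ ^ (u * a).val).sum = 2 * ((chi4 a : ℤ) : ℂ) := by
    intro a
    have h3 : ξ ^ 3 = -ξ := by rw [show 3 = 2 + 1 from rfl, pow_add, h2]; ring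
    fin_cases a
    · show ([1, 3].map fun u : ZMod 4 => ξ ^ (u * 0).val).sum = 2 * ((1 : ℤ) : ℂ)
      simp
      norm_num
    · show ξ ^ 1 + (ξ ^ 3 + 0) = 2 * ((0 : ℤ) : ℂ)
      rw [h3]; push_cast; ring
    · show ξ ^ 2 + (ξ ^ 2 + 0) = 2 * ((-1 : ℤ) : ℂ)
      rw [h2]; push_cast; ring
    · show ξ ^ 3 + (ξ ^ 1 + 0) = 2 * ((0 : ℤ) : ℂ)
      rw [h3]; push_cast; ring
  simp only [hpt] at key
  have h9 : (m.map fun a => 2 * ((chi4 a : ℤ) : ℂ)).sum = 2 * (((m.map chi4).sum : ℤ) : ℂ) := by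
    rw [Multiset.sum_map_mul_left]
    congr 1
    have h11 := map_multiset_sum (Int.castRingHom ℂ) (m.map chi4)
    rw [Multiset.map_map] at h11
    exact h11.symm
  rw [h9] at key
  have h10 : (([1, 3] : List (ZMod 4)).length : ℂ) = 2 := by simp
  rw [h10] at key
  exact mul_left_cancel₀ (by norm_num) key

/-- the value of the Brauer character, for elements of order dividing 4 -/
def t4 (d : ℕ) (Y : List ℕ) : ℤ := 8 + 2 * ((cnt 4 d 0 Y : ℤ) - (cnt 4 d 2 Y : ℤ))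

theorem chi4_nat : ∀ n : ℕ, chi4 (n : ZMod 4) =
    ((bif Nat.beq (n % 4) 0 then 1 else 0 : ℕ) : ℤ) - ((bif Nat.beq (n % 4) 2 then 1 else 0 : ℕ) : ℤ) := by
  intro n
  have h1 : (n : ZMod 4) = ((n % 4 : ℕ) : ZMod 4) := by rw [ZMod.natCast_mod]
  rw [h1]
  have h2 : n % 4 < 4 := Nat.mod_lt _ (by norm_num)
  generalize n % 4 = k at h2
  interval_cases k <;> decide

theorem sum_chi4 (d : ℕ) (Y : List ℕ) :
    8 + ((ms chevE8 8 (vecL 4 Y)).map fun a => chi4 ((d : ZMod 4) * a)).sum = t4 d Y := by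
  rw [sum_tab, t4, cnt, cnt, sumH_eq, sumH_eq, list_sum_sub]
  congr 1
  rw [← List.sum_map_mul_left]
  congr 1
  refine List.map_congr_left fun r _ => ?_
  rw [mul_neg, chi4_neg, ← Nat.cast_mul, chi4_nat]
  ring

theorem bc4 {V : ValuationSubring ℂ} [CharP (ResidueField V) 3] {G : Type*} [Group G]
    {F : G →* ↥(chevE8.group (ZMod 3))} {g : G} {Y : List ℕ} {ξ : ℂ} (h : Spec V F g 4 Y ξ) (d : ℕ) :
    bc 3 (adj V F) (g ^ d) = (t4 d Y : ℂ) := by
  rw [h.bc, ← sum_chi4 d Y]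
  have h1 : (ms chevE8 8 (vecL 4 Y)).map (fun a => ξ ^ (((d : ZMod 4) * a).val)) =
      ((ms chevE8 8 (vecL 4 Y)).map fun a => (d : ZMod 4) * a).map fun a => ξ ^ a.val := by
    rw [Multiset.map_map]; rfl
  have hn : (ms chevE8 8 (vecL 4 Y)) = (ms chevE8 8 (vecL 4 Y)).map (fun a => (-1 : ZMod 4) * a) := by
    conv_lhs => rw [ms_neg]
    refine Multiset.map_congr rfl fun a _ => ?_
    rw [neg_one_mul]
  have h3 := map_mul_comm hn (d : ZMod 4)
  have h3' : ((ms chevE8 8 (vecL 4 Y)).map fun a => (d : ZMod 4) * a) =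
      ((ms chevE8 8 (vecL 4 Y)).map fun a => (d : ZMod 4) * a).map (fun a => -a) := by
    conv_lhs => rw [h3]
    refine Multiset.map_congr rfl fun a _ => ?_
    rw [neg_one_mul]
  rw [h1, sum4 h3' h.prim, Multiset.map_map]
  push_cast
  rfl

/-- the alcove points of elements of order 4 with the values of the Brauer character at `g`, `g ^ 2` -/
noncomputable def L4 : List (List ℕ × ℤ × ℤ) :=
  (by
  refine (?fq9011 : (fun (On : (n : Nat) → OfNat Nat n → Nat) (In : (n : Nat) → OfNat Nat n) (Oz : (n : Nat) → OfNat Int n → Int) (Iz : (n : Nat) → OfNat Int n) (Gz : Int → Int) => ((pk61l (fun i1 => (_root_.Prod.mk (pk61l (fun i2 => (pk61o On In (pk61d (nat_lit 1) 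
    (nat_lit 0x80014081020420) i2))) (Nat.mul (nat_lit 8) i1) (Nat.mul (nat_lit 8) (Nat.succ i1)) List.nil) (_root_.Prod.mk (pk61y Oz Iz Gz (pk61d (nat_lit 9) 
    (nat_lit 0x4210038040400e00) i1)) (pk61y Oz Iz Gz (pk61d (nat_lit 6) 
    (nat_lit 0x303f0c0fc0f) i1))))) (nat_lit 0) (nat_lit 7) List.nil) : List (List ℕ × ℤ × ℤ)))
    = ?xq9011 → (List (List ℕ × ℤ × ℤ))) ?hq9011; (case hq9011 => (set_option maxRecDepth 1000000 in conv => lhs; reduce)); intro _; exact ?xq9011 (@OfNat.ofNat Nat) instOfNatNat (@OfNat.ofNat Int) (@instOfNat) (@Neg.neg Int Int.instNegInt) : List (List ℕ × ℤ × ℤ))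

private noncomputable def _root_.Cfsg.Agent.LsF.f893a3b_11 : {f // @Cfsg.Agent.zpS = f} := ⟨_, by first | (delta Cfsg.Agent.zpS; rewrite [Cfsg.Agent.LsF.map_eq, Cfsg.Agent.LsF.headD_eq, Cfsg.Agent.LsF.tail_eq]; exact rfl) | exact rfl⟩
private noncomputable def _root_.Cfsg.Agent.LsF.f893a3b_12 : {f // @Cfsg.Agent.colS = f} := ⟨_, by first | (delta Cfsg.Agent.colS; rewrite [Cfsg.Agent.LsF.f893a3b_11.2]; exact rfl) | exact rfl⟩
private noncomputable def _root_.Cfsg.Agent.LsF.f893a3b_13 : {f // @Cfsg.Agent.H944.Tab.sumH = f} := ⟨_, by first | (delta Cfsg.Agent.H944.Tab.sumH Cfsg.Agent.H944.Tab.sumH._f List.brecOn List.brecOn.go; rewrite [Cfsg.Agent.LsF.f893a3b_8.2, Cfsg.Agent.LsF.nadd_pat]; (try delta Cfsg.Agent.H944.Tab.sumH.match_1); (try delta List.casesOn); first | dsimp -zeta only | exact rfl) | exact rfl⟩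
private noncomputable def _root_.Cfsg.Agent.LsF.f893a3b_14 : {f // @Cfsg.Agent.sumS = f} := ⟨_, by first | (delta Cfsg.Agent.sumS; rewrite [Cfsg.Agent.LsF.f893a3b_8.2, Cfsg.Agent.LsF.f893a3b_12.2, Cfsg.Agent.LsF.f893a3b_13.2, Cfsg.Agent.LsF.cond_eq]; exact rfl) | exact rfl⟩
private noncomputable def _root_.Cfsg.Agent.LsF.f893a3b_15 : {f // @Cfsg.Agent.H944.Tab.hh = f} := ⟨_, by first | (delta Cfsg.Agent.H944.Tab.hh; rewrite [Cfsg.Agent.LsF.nadd_pat, Cfsg.Agent.LsF.nsub_pat, Cfsg.Agent.LsF.nmod_pat, Cfsg.Agent.LsF.npow_pat]; exact rfl) | exact rfl⟩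
private noncomputable def _root_.Cfsg.Agent.LsF.f893a3b_16 : {f // @Cfsg.Agent.gS = f} := ⟨_, by first | (delta Cfsg.Agent.gS; rewrite [Cfsg.Agent.LsF.f893a3b_15.2, Cfsg.Agent.LsF.nmul_pat]; exact rfl) | exact rfl⟩
private noncomputable def _root_.Cfsg.Agent.LsF.f893a3b_17 : {f // @Cfsg.Agent.invS = f} := ⟨_, by first | (delta Cfsg.Agent.invS; rewrite [Cfsg.Agent.LsF.f893a3b_14.2, Cfsg.Agent.LsF.f893a3b_16.2, Cfsg.Agent.LsF.f893a3b_15.2, Cfsg.Agent.LsF.nmul_pat, Cfsg.Agent.LsF.cond_eq]; exact rfl) | exact rfl⟩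
private noncomputable def _root_.Cfsg.Agent.LsF.f893a3b_18 : {f // @Cfsg.Agent.H942.E8Val.cnt = f} := ⟨_, by first | (delta Cfsg.Agent.H942.E8Val.cnt; rewrite [Cfsg.Agent.LsF.f893a3b_13.2, Cfsg.Agent.LsF.nmul_pat, Cfsg.Agent.LsF.nmod_pat, Cfsg.Agent.LsF.cond_eq]; exact rfl) | exact rfl⟩
private noncomputable def _root_.Cfsg.Agent.LsF.f893a3b_19 : {f // @Cfsg.Agent.H942.CB.t4 = f} := ⟨_, by first | (delta Cfsg.Agent.H942.CB.t4; rewrite [Cfsg.Agent.LsF.f893a3b_18.2, Cfsg.Agent.LsF.iadd_pat, Cfsg.Agent.LsF.imul_pat, Cfsg.Agent.LsF.isub_pat, Cfsg.Agent.LsF.icast_pat]; exact rfl) | exact rfl⟩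
theorem check4 : allAlc th8 4 (fun Y => bif invB 4 3 R8 Y then decide ((Y, t4 1 Y, t4 2 Y) ∈ L4 ∨ t4 2 Y = 248)
    else true) = true := by
  rw [invS_eq, alcS_eq]
  ((try (rewrite [Cfsg.Agent.LsF.f893a3b_17.2, Cfsg.Agent.LsF.f893a3b_19.2, Cfsg.Agent.LsF.cond_eq, Cfsg.Agent.LsF.dOr_eq, Cfsg.Agent.LsF.dMem_eq, Cfsg.Agent.LsF.decide_eq])); decide +kernel)

private noncomputable def _root_.Cfsg.Agent.LsF.f893a3b_20 : {f // @Cfsg.Agent.H942.E8Val.t8 = f} := ⟨_, by first | (delta Cfsg.Agent.H942.E8Val.t8; rewrite [Cfsg.Agent.LsF.f893a3b_18.2, Cfsg.Agent.LsF.iadd_pat, Cfsg.Agent.LsF.imul_pat, Cfsg.Agent.LsF.isub_pat, Cfsg.Agent.LsF.icast_pat]; exact rfl) | exact rfl⟩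
theorem check8' : (beta% delta% lq26b3e5ed9c fun _ j l _ n _ _ q r s t u v w =>
 r s 8 (fun Y => bif t 8 3 u Y then
 v ((n (q 2 Y) (q 4 Y)) ≠ (n 0 (-8)) ∨ Y = (j 0<|j 0<|j 0<|j 1<|j 0<|j 0<|j 0<|j 1<|l) ∨ Y = (j 0<|j 0<|j 1<|j 0<|j 0<|j 0<|j 1<|j 0<|l) ∨
 Y = (j 1<|j 0<|j 0<|j 0<|j 0<|j 1<|j 0<|j 0<|l)) else w) :
 Bool) = true := by
  rw [invS_eq, alcS_eq]
  ((try (rewrite [Cfsg.Agent.LsF.f893a3b_17.2, Cfsg.Agent.LsF.f893a3b_20.2, Cfsg.Agent.LsF.ineg_pat, Cfsg.Agent.LsF.dProdEq_eq, Cfsg.Agent.LsF.cond_eq, Cfsg.Agent.LsF.instDecEq_eq, Cfsg.Agent.LsF.instIDecEq_eq, Cfsg.Agent.LsF.dOr_eq, Cfsg.Agent.LsF.dNot_eq, Cfsg.Agent.LsF.dListEq_eq, Cfsg.Agent.LsF.decide_eq])); decide +kernel)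

theorem sum_eq_card_iff4 (m : Multiset (ZMod 4)) (d : ZMod 4) :
    (m.map fun a => chi4 (d * a)).sum = (m.card : ℤ) ↔ ∀ a ∈ m, d * a = 0 := by
  have hle : ∀ a : ZMod 4, chi4 a ≤ 1 := by decide
  have heq : ∀ a : ZMod 4, chi4 a = 1 → a = 0 := by decide
  have hsum : ∀ m : Multiset (ZMod 4), (m.map fun a => chi4 (d * a)).sum ≤ (m.card : ℤ) := by
    intro m
    induction m using Multiset.induction_on with
    | empty => simp
    | cons a s ih =>
      rw [Multiset.map_cons, Multiset.sum_cons, Multiset.card_cons]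
      push_cast
      have := hle (d * a)
      omega
  induction m using Multiset.induction_on with
  | empty => simp only [_root_.Multiset.map_zero, _root_.Multiset.sum_zero, _root_.Multiset.card_zero, _root_.CharP.cast_eq_zero, _root_.Multiset.notMem_zero, _root_.IsEmpty.forall_iff, _root_.implies_true]
  | cons a s ih =>
    rw [Multiset.map_cons, Multiset.sum_cons, Multiset.card_cons]
    have h1 := hle (d * a)
    have h2 := hsum s
    constructor
    · intro h b hb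
      push_cast at h
      rcases Multiset.mem_cons.1 hb with rfl | hb
      · exact heq _ (by omega)
      · exact ih.1 (by omega) b hb
    · intro h
      have h3 := ih.2 fun b hb => h b (Multiset.mem_cons_of_mem hb)
      rw [h3, h a (Multiset.mem_cons_self a s)]
      push_cast
      have : chi4 0 = 1 := by decide
      omega

theorem ord4 {V : ValuationSubring ℂ} [CharP (ResidueField V) 3] {G : Type*} [Group G]
    {F : G →* ↥(chevE8.group (ZMod 3))} {g : G} {Y : List ℕ} {ξ : ℂ} (h : Spec V F g 4 Y ξ) (d : ℕ) :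
    F (g ^ d) = 1 ↔ t4 d Y = 248 := by
  rw [h.ord, ← sum_eq_card_iff4, card_ms, ← sum_chi4 d Y]
  constructor
  · intro h
    rw [h]
    rfl
  · intro h
    omega

/-- values of the Brauer character at `g`, `g ^ 2` for `g` of order 4, and a lower bound for the centraliser -/
def B4 : List (ℤ × ℤ × ℕ) :=
  (beta% delta% lq26b3e5ed9c fun _ j l _ n _ _ _ _ _ _ _ _ _ =>
 (j (n 0<|n (-8) 21318698642497254476121314304)<|j (n (-4)<|n 24 9646343571960309421919444355072)<|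
 j (n 8<|n (-8) 2143631904880068760426543190016)<|j (n 4<|n 24 195338457332196265793868748190208)<|
 j (n 28<|n 24 415243460412318862759037605627809318912)<|j (n 64<|n (-8) 12259855546943508263529205787358256236217344)<|
 j (n 132<|n 24 670730500422461620424298545004801061869693815027247849761960448)<|l))

theorem t8Y1 : t8 1 [0, 0, 0, 1, 0, 0, 0, 1] = 0 := by decide +kernel
theorem t8Y2 : t8 1 [0, 0, 1, 0, 0, 0, 1, 0] = 4 := by decide +kernel
theorem t8Y3 : t8 1 [1, 0, 0, 0, 0, 1, 0, 0] = 16 := by decide +kernel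

/-- **Elements of order 4.** -/
theorem val4T (V : ValuationSubring ℂ) [CharP (ResidueField V) 3] {G : Type*} [Group G]
    (F : G →* ↥(chevE8.group (ZMod 3))) {g : G} (hg : g ^ 4 = 1) (hne : F (g ^ 2) ≠ 1) :
    ∃ (t₁ t₂ : ℤ) (b : ℕ), (t₁, t₂, b) ∈ B4 ∧ bc 3 (adj V F) g = t₁ ∧ bc 3 (adj V F) (g ^ 2) = t₂ ∧
      b ≤ Nat.card ↥(Subgroup.centralizer {F g}) := by
  obtain ⟨Y, ξ, h, hT⟩ := exists_specT (V := V) F (N := 4) (by norm_num) (by norm_num) hg
  have h1 := allAlc_spec th8 4 _ (by decide) check4 Y h.len h.alc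
  have h2 : invB 4 3 R8 Y = true := invB_of (by norm_num) tab8 len8 h.frob
  rw [h2, cond_true, decide_eq_true_iff] at h1
  have h3 : ¬ t4 2 Y = 248 := fun h4 => hne ((ord4 h 2).2 h4)
  have h1 := h1.resolve_right h3
  have e1 : bc 3 (adj V F) g = (t4 1 Y : ℂ) := by
    have := bc4 h 1
    rwa [pow_one] at this
  have e2 := bc4 h 2
  have hx : (F g) ^ 4 = 1 := by rw [← map_pow, hg, map_one]
  unfold L4 at h1
  simp only [List.mem_cons, List.not_mem_nil, or_false, Prod.mk.injEq] at h1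
  rcases h1 with ⟨h4, h5, h6⟩ | ⟨h4, h5, h6⟩ | ⟨h4, h5, h6⟩ | ⟨h4, h5, h6⟩ | ⟨h4, h5, h6⟩ | ⟨h4, h5, h6⟩ | ⟨h4, h5, h6⟩
  · subst h4
    have hb := cent_le (by norm_num) (by norm_num) chkA3D5 hx hT
    rw [bndA3D5] at hb
    exact ⟨_, _, _, by rw [h5, h6]; simp [B4], e1, e2, hb⟩
  · subst h4
    have hb := cent_le (by norm_num) (by norm_num) chkA7A1 hx hT
    rw [bndA7A1] at hb
    exact ⟨_, _, _, by rw [h5, h6]; simp [B4], e1, e2, hb⟩
  · subst h4
    have hb := cent_le (by norm_num) (by norm_num) chkA7 hx hT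
    rw [bndA7] at hb
    exact ⟨_, _, _, by rw [h5, h6]; simp [B4], e1, e2, hb⟩
  · subst h4
    have hb := cent_le (by norm_num) (by norm_num) chkD6A1 hx hT
    rw [bndD6A1] at hb
    exact ⟨_, _, _, by rw [h5, h6]; simp [B4], e1, e2, hb⟩
  · subst h4
    have hb := cent_le (by norm_num) (by norm_num) chkA1E6 hx hT
    rw [bndA1E6] at hb
    exact ⟨_, _, _, by rw [h5, h6]; simp [B4], e1, e2, hb⟩
  · subst h4
    have hb := cent_le (by norm_num) (by norm_num) chkD7 hx hT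
    rw [bndD7] at hb
    exact ⟨_, _, _, by rw [h5, h6]; simp [B4], e1, e2, hb⟩
  · subst h4
    have hb := cent_le (by norm_num) (by norm_num) chkE7 hx hT
    rw [bndE7] at hb
    exact ⟨_, _, _, by rw [h5, h6]; simp [B4], e1, e2, hb⟩

/-- values of the Brauer character at `g` of order 8 with the values `0`, `-8` at `g ^ 2`, `g ^ 4`, and a lower bound
for the centraliser -/
def B8 : List (ℤ × ℕ) := [(0, 211293005414400), (4, 1156831381426176), (16, 421665038529841152)]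

theorem mod_odd {d : ℕ} (hd : ¬ 2 ∣ d) (t : ℕ) :
    ((d * t) % 8 = 0 ↔ (1 * t) % 8 = 0) ∧ ((d * t) % 8 = 4 ↔ (1 * t) % 8 = 4) := by
  rw [Nat.mul_mod, Nat.mul_mod 1]
  have h1 : d % 8 < 8 := Nat.mod_lt _ (by norm_num)
  have h2 : t % 8 < 8 := Nat.mod_lt _ (by norm_num)
  have h3 : d % 8 % 2 = 1 := by omega
  generalize d % 8 = a at *
  generalize t % 8 = b at *
  interval_cases a <;> interval_cases b <;> simp_all

theorem beq_iff (a b c : ℕ) (h : a = c ↔ b = c) : Nat.beq a c = Nat.beq b c := by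
  rw [Bool.eq_iff_iff]
  exact ⟨fun e => by rw [h.1 (Nat.eq_of_beq_eq_true e)]; exact Nat.beq_refl c,
    fun e => by rw [h.2 (Nat.eq_of_beq_eq_true e)]; exact Nat.beq_refl c⟩

theorem t8_odd {d : ℕ} (hd : ¬ 2 ∣ d) (Y : List ℕ) : t8 d Y = t8 1 Y := by
  have h0 : ∀ t : ℕ, Nat.beq ((d * t) % 8) 0 = Nat.beq ((1 * t) % 8) 0 := fun t => beq_iff _ _ _ (mod_odd hd t).1
  have h4 : ∀ t : ℕ, Nat.beq ((d * t) % 8) 4 = Nat.beq ((1 * t) % 8) 4 := fun t => beq_iff _ _ _ (mod_odd hd t).2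
  unfold t8 cnt
  simp only [h0, h4]

/-- **Elements of order 8.** -/
theorem val8T (V : ValuationSubring ℂ) [CharP (ResidueField V) 3] {G : Type*} [Group G]
    (F : G →* ↥(chevE8.group (ZMod 3))) {g : G} (hg : g ^ 8 = 1) (h2 : bc 3 (adj V F) (g ^ 2) = 0)
    (h4 : bc 3 (adj V F) (g ^ 4) = -8) :
    ∃ (t : ℤ) (b : ℕ), (t, b) ∈ B8 ∧ bc 3 (adj V F) g = t ∧ b ≤ Nat.card ↥(Subgroup.centralizer {F g}) ∧
      ∀ d : ℕ, ¬ 2 ∣ d → bc 3 (adj V F) (g ^ d) = t := by
  obtain ⟨Y, ξ, h, hT⟩ := exists_specT (V := V) F (N := 8) (by norm_num) (by norm_num) hg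
  have h1 := allAlc_spec th8 8 _ (by decide) check8' Y h.len h.alc
  have h2' : invB 8 3 R8 Y = true := invB_of (by norm_num) tab8 len8 h.frob
  rw [h2', cond_true, decide_eq_true_iff] at h1
  have e1 : bc 3 (adj V F) g = (t8 1 Y : ℂ) := by
    have := bc8 h 1
    rwa [pow_one] at this
  have e2 := bc8 h 2
  have e4 := bc8 h 4
  have eo : ∀ d : ℕ, ¬ 2 ∣ d → bc 3 (adj V F) (g ^ d) = (t8 1 Y : ℂ) := fun d hd => by
    rw [bc8 h d, t8_odd hd]
  rw [h2] at e2
  rw [h4] at e4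
  have e2' : t8 2 Y = 0 := by exact_mod_cast e2.symm
  have e4' : t8 4 Y = -8 := by exact_mod_cast e4.symm
  rw [e2', e4'] at h1
  have h1 := h1.resolve_left (fun h => h rfl)
  have hx : (F g) ^ 8 = 1 := by rw [← map_pow, hg, map_one]
  rcases h1 with h4 | h4 | h4
  · subst h4
    have hb := cent_le (by norm_num) (by norm_num) chkY1 hx hT
    rw [bndY1] at hb
    exact ⟨_, _, by rw [t8Y1]; simp [B8], e1, hb, eo⟩
  · subst h4
    have hb := cent_le (by norm_num) (by norm_num) chkY2 hx hT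
    rw [bndY2] at hb
    exact ⟨_, _, by rw [t8Y2]; simp [B8], e1, hb, eo⟩
  · subst h4
    have hb := cent_le (by norm_num) (by norm_num) chkY3 hx hT
    rw [bndY3] at hb
    exact ⟨_, _, by rw [t8Y3]; simp [B8], e1, hb, eo⟩

end Cfsg.Agent.H942.CB
end

private theorem dce_57dff2a17cc3 : _root_.True := by
  try have : _root_.True := by simp only [_root_.Cfsg.Agent.H296.L7.Wm.eq_1]
  try have : _root_.True := by simp only [_root_.Cfsg.Agent.H942.L7.P168.eq_1]
  try have : _root_.True := by simp only [_root_.Cfsg.Agent.H942.CB.t4.eq_1]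
  try have : _root_.True := by simp only [_root_.Cfsg.Agent.H942.CB.B8.eq_1]
  try have : _root_.True := by simp only [_root_.Cfsg.Agent.H296.L7.XX.eq_1]
  try have : _root_.True := by simp only [_root_.Cfsg.Agent.H942.CB.B4.eq_1]
  exact _root_.True.intro
end

-- part: H942/L7/ExVals
section
prune_inst 0x40010022000000000002000000200000000000030800000400000000240200000600008000020000000000000000000000300000000000000000000004010800000480080000000090000000010000000000000000000000000000010000204010000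
set_option linter.all false
open scoped Cfsg.Agent.FastGrp

-- part: H811/L7/Lin
section
/-!
# Forms and skew maps (S5920, helper811)

* `ND B X` : the form `B` has no radical on `X`;
* `eig X τ c` : the eigenvectors of `τ` in `X`;
* `ND.eig`, `finrank_eig` : for an isometric involution;
* `skew_bound` : `2 dim X ≤ dim Y + 3 dim (X ∩ ker d)` for a skew `d : X → Y → X` with `d ^ 3 = 0` on `X`.
-/

set_option autoImplicit false

namespace Cfsg.Agent.H811.L7

open Module LinearMap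

variable {K V : Type*} [Field K] [AddCommGroup V] [Module K V]

/-- `B` has no radical on `X` -/
def ND (B : LinearMap.BilinForm K V) (X : Submodule K V) : Prop := ∀ x ∈ X, (∀ y ∈ X, B x y = 0) → x = 0

/-- the eigenvectors of `τ` in `X` -/
def eig (X : Submodule K V) (τ : V →ₗ[K] V) (c : K) : Submodule K V := X ⊓ LinearMap.ker (τ - c • LinearMap.id)

theorem mem_eig {X : Submodule K V} {τ : V →ₗ[K] V} {c : K} {v : V} : v ∈ eig X τ c ↔ v ∈ X ∧ τ v = c • v := by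
  rw [eig, Submodule.mem_inf, LinearMap.mem_ker, LinearMap.sub_apply, sub_eq_zero, LinearMap.smul_apply,
    LinearMap.id_apply]

theorem nd_top {B : LinearMap.BilinForm K V} (hB : B.Nondegenerate) : ND B ⊤ := fun x _ h =>
  hB.1 x fun y => h y trivial

theorem ND.eig {B : LinearMap.BilinForm K V} {X : Submodule K V} {τ : V →ₗ[K] V} {c : K} (h2 : (2 : K) ≠ 0)
    (h : ND B X) (hτ : ∀ x ∈ X, τ x ∈ X) (hτ2 : ∀ x ∈ X, τ (τ x) = x) (hB : ∀ x ∈ X, ∀ y ∈ X, B (τ x) (τ y) = B x y)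
    (hc : c * c = 1) : ND B (eig X τ c) := by
  intro x hx h1
  obtain ⟨hxX, hxc⟩ := mem_eig.1 hx
  refine h x hxX fun y hy => ?_
  have h3 : y + c • τ y ∈ L7.eig X τ c := by
    refine mem_eig.2 ⟨X.add_mem hy (X.smul_mem c (hτ y hy)), ?_⟩
    rw [map_add, map_smul, hτ2 y hy, smul_add, smul_smul, hc, one_smul, add_comm]
  have h4 := h1 _ h3
  have h5 : B x (τ y) = c * B x y := by
    have h6 := hB x hxX (τ y) (hτ y hy)
    rw [hτ2 y hy, hxc, map_smul, LinearMap.smul_apply, smul_eq_mul] at h6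
    exact h6.symm
  rw [map_add, map_smul, h5, smul_eq_mul, ← mul_assoc, hc, one_mul] at h4
  have h6 : 2 * B x y = 0 := by rw [← h4]; ring
  exact (mul_eq_zero.1 h6).resolve_left h2

theorem finrank_eig [FiniteDimensional K V] {X : Submodule K V} {τ : V →ₗ[K] V} (h2 : (2 : K) ≠ 0)
    (hτ : ∀ x ∈ X, τ x ∈ X) (hτ2 : ∀ x ∈ X, τ (τ x) = x) :
    finrank K (eig X τ 1) + finrank K (eig X τ (-1)) = finrank K X := by
  have h1 : eig X τ 1 ⊓ eig X τ (-1) = ⊥ := by
    rw [eq_bot_iff]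
    intro v hv
    obtain ⟨h3, h4⟩ := Submodule.mem_inf.1 hv
    rw [mem_eig] at h3 h4
    have h5 : v + v = 0 := by
      have h6 := h3.2.symm.trans h4.2
      rw [one_smul, neg_smul, one_smul, eq_neg_iff_add_eq_zero] at h6
      exact h6
    rw [← two_smul K v] at h5
    exact (smul_eq_zero.1 h5).resolve_left h2
  have h3 : eig X τ 1 ⊔ eig X τ (-1) = X := by
    apply le_antisymm (sup_le inf_le_left inf_le_left)
    intro v hv
    have h5 : v = (2 : K)⁻¹ • (v + τ v) + (2 : K)⁻¹ • (v - τ v) := by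
      rw [← smul_add, add_add_sub_cancel, ← two_smul K v, smul_smul, inv_mul_cancel₀ h2, one_smul]
    rw [h5]
    refine Submodule.add_mem_sup (Submodule.smul_mem _ _ (mem_eig.2 ⟨X.add_mem hv (hτ v hv), ?_⟩))
      (Submodule.smul_mem _ _ (mem_eig.2 ⟨X.sub_mem hv (hτ v hv), ?_⟩))
    · rw [map_add, hτ2 v hv, one_smul, add_comm]
    · rw [map_sub, hτ2 v hv, neg_smul, one_smul, neg_sub]
  have h4 := Submodule.finrank_sup_add_finrank_inf_eq (eig X τ 1) (eig X τ (-1))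
  rw [h1, h3, finrank_bot, add_zero] at h4
  exact h4.symm

/-- rank of a skew map -/
theorem skew_rank [FiniteDimensional K V] {B : LinearMap.BilinForm K V} {X Y : Submodule K V} (hY : ND B Y)
    (d₁ : X →ₗ[K] Y) (d₂ : Y →ₗ[K] X) (hskew : ∀ (x : X) (y : Y), B (d₁ x : V) y = - B x (d₂ y : V)) :
    finrank K (range d₁) ≤ finrank K (range d₂) := by
  let BY : Y →ₗ[K] Dual K Y := B.domRestrict₁₂ Y Y
  let BX : X →ₗ[K] Dual K X := B.domRestrict₁₂ X X
  have hYi : Function.Injective BY := by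
    rw [← LinearMap.ker_eq_bot, LinearMap.ker_eq_bot']
    intro y hy
    apply Subtype.ext
    refine hY y y.2 fun z hz => ?_
    exact LinearMap.congr_fun hy ⟨z, hz⟩
  have hcomp : BY ∘ₗ d₁ = - (d₂.dualMap ∘ₗ BX) := by
    ext x y
    exact hskew x y
  have h1 : finrank K (range (BY ∘ₗ d₁)) = finrank K (range d₁) := by
    rw [LinearMap.range_comp]
    exact (LinearEquiv.finrank_eq (Submodule.equivMapOfInjective BY hYi (range d₁))).symm
  rw [← h1, hcomp]
  have h2 : range (-(d₂.dualMap ∘ₗ BX)) ≤ range d₂.dualMap := by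
    rintro _ ⟨x, rfl⟩
    exact ⟨-(BX x), by rw [map_neg]; rfl⟩
  exact (Submodule.finrank_mono h2).trans_eq (LinearMap.finrank_range_dualMap_eq_finrank_range d₂)

theorem skew_bound [FiniteDimensional K V] {B : LinearMap.BilinForm K V} {X Y : Submodule K V} (hY : ND B Y)
    (d : V →ₗ[K] V) (hdX : ∀ x ∈ X, d x ∈ Y) (hdY : ∀ y ∈ Y, d y ∈ X)
    (hskew : ∀ x ∈ X, ∀ y ∈ Y, B (d x) y = - B x (d y)) (hd3 : ∀ x ∈ X, d (d (d x)) = 0) :
    2 * finrank K X ≤ finrank K Y + 3 * finrank K (X ⊓ ker d : Submodule K V) := by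
  let d₁ : X →ₗ[K] Y := d.restrict hdX
  let d₂ : Y →ₗ[K] X := d.restrict hdY
  have h1 := skew_rank hY d₁ d₂ (fun x y => hskew x x.2 y y.2)
  have h2 := LinearMap.finrank_range_add_finrank_ker d₁
  have h3 := LinearMap.finrank_range_add_finrank_ker d₂
  -- the kernel of `d₁`
  have h4 : finrank K (ker d₁) = finrank K (X ⊓ ker d : Submodule K V) := by
    have h5 : (ker d₁).map X.subtype = X ⊓ ker d := by
      ext v
      constructor
      · rintro ⟨x, hx, rfl⟩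
        refine ⟨x.2, ?_⟩
        exact congrArg Subtype.val (LinearMap.mem_ker.1 hx)
      · rintro ⟨hv, hd⟩
        exact ⟨⟨v, hv⟩, LinearMap.mem_ker.2 (Subtype.ext (LinearMap.mem_ker.1 hd)), rfl⟩
    rw [← h5]
    exact (LinearEquiv.finrank_eq (Submodule.equivMapOfInjective X.subtype X.injective_subtype (ker d₁)))
  -- `d₂` on the range of `d₁`
  have h5 := LinearMap.finrank_range_add_finrank_ker (d₂.domRestrict (range d₁))
  have h6 : finrank K (range (d₂.domRestrict (range d₁))) ≤ finrank K (ker d₁) := by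
    apply Submodule.finrank_mono
    rintro _ ⟨⟨_, x, rfl⟩, rfl⟩
    exact LinearMap.mem_ker.2 (Subtype.ext (hd3 x x.2))
  have h7 : finrank K (ker (d₂.domRestrict (range d₁))) ≤ finrank K (ker d₂) := by
    have h8 : (ker (d₂.domRestrict (range d₁))).map (range d₁).subtype ≤ ker d₂ := by
      rintro _ ⟨x, hx, rfl⟩
      exact hx
    have h9 := Submodule.finrank_mono h8
    rwa [← LinearEquiv.finrank_eq (Submodule.equivMapOfInjective (range d₁).subtype (range d₁).injective_subtype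
      (ker (d₂.domRestrict (range d₁))))] at h9
  omega

end Cfsg.Agent.H811.L7
end

-- part: H811/L7/Base
section
/-!
# `PSL₂(7)` in characteristic 3: elements and relations (S5920, helper811)

* `inS4 g` : `g` lies in the symmetric group `S4a = ⟨za, za', ta, h⟩` (decidable), `S4a` the set of its elements;
* `en, eh, ew, eza, eza', eta, ezb, ezb', etb` : the elements of `P ≥ P168`;
* `mem_V4a, mem_V4b, mem_D8a, mem_D8b, mem_U7, mem_P168, mem_S4a` : fixed vectors;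
* `E7` : the sum of the elements of `U7` (the projection onto the fixed space);
* `coset_act` : the action on the seven cosets of `S4a`.
-/

set_option autoImplicit false

namespace Cfsg.Agent.H811.L7

open Equiv Module LinearMap
open Cfsg.Agent.H942.L7

theorem nn_mem : nn ∈ P168 := Subgroup.subset_closure (by simp)
theorem hh_mem : g6 ^ 2 ∈ P168 := Subgroup.subset_closure (by simp)
theorem ww_mem : ww ∈ P168 := Subgroup.subset_closure (by simp)

theorem word_mem (i j k : ℕ) : nn ^ i * (g6 ^ 2) ^ j * ww * nn ^ k ∈ P168 :=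
  mul_mem (mul_mem (mul_mem (pow_mem nn_mem i) (pow_mem hh_mem j)) ww_mem) (pow_mem nn_mem k)

theorem za_mem : za ∈ P168 := by
  rw [show za = nn ^ 3 * (g6 ^ 2) ^ 0 * ww * nn ^ 4 by decide +kernel]; exact word_mem _ _ _
theorem za'_mem : za' ∈ P168 := by
  rw [show za' = nn ^ 6 * (g6 ^ 2) ^ 2 * ww * nn ^ 1 by decide +kernel]; exact word_mem _ _ _
theorem ta_mem : ta ∈ P168 := by
  rw [show ta = nn ^ 1 * (g6 ^ 2) ^ 1 * ww * nn ^ 6 by decide +kernel]; exact word_mem _ _ _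
theorem zb_mem : zb ∈ P168 := by
  rw [show zb = nn ^ 2 * (g6 ^ 2) ^ 1 * ww * nn ^ 5 by decide +kernel]; exact word_mem _ _ _
theorem zb'_mem : zb' ∈ P168 := by
  rw [show zb' = nn ^ 1 * (g6 ^ 2) ^ 2 * ww * nn ^ 6 by decide +kernel]; exact word_mem _ _ _
theorem tb_mem : tb ∈ P168 := by
  rw [show tb = nn ^ 5 * (g6 ^ 2) ^ 0 * ww * nn ^ 2 by decide +kernel]; exact word_mem _ _ _

/-- elements of the normalizer of `V4a` -/
def inS4 (g : Perm (Fin 8)) : Prop :=
  ∃ i j k : Fin 2, ∃ l : Fin 3, g = za ^ (i : ℕ) * za' ^ (j : ℕ) * ta ^ (k : ℕ) * (g6 ^ 2) ^ (l : ℕ)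

instance : DecidablePred inS4 := fun g => by unfold inS4; infer_instance

/-- the symmetric group normalising `V4a` -/
def S4a : Set (Perm (Fin 8)) := {g | inS4 g}

section elements

variable {P : Subgroup (Perm (Fin 8))} (hP : P168 ≤ P)

/-- `nn` -/
def en : ↥P := ⟨nn, hP nn_mem⟩
/-- `g6 ^ 2` -/
def eh : ↥P := ⟨g6 ^ 2, hP hh_mem⟩
/-- `ww` -/
def ew : ↥P := ⟨ww, hP ww_mem⟩
/-- `za` -/
def eza : ↥P := ⟨za, hP za_mem⟩
/-- `za'` -/
def eza' : ↥P := ⟨za', hP za'_mem⟩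
/-- `ta` -/
def eta : ↥P := ⟨ta, hP ta_mem⟩
/-- `zb` -/
def ezb : ↥P := ⟨zb, hP zb_mem⟩
/-- `zb'` -/
def ezb' : ↥P := ⟨zb', hP zb'_mem⟩
theorem n_pow : en hP ^ 7 = 1 := Subtype.ext (show nn ^ 7 = 1 by decide +kernel)
theorem h_pow : eh hP ^ 3 = 1 := Subtype.ext (show (g6 ^ 2) ^ 3 = 1 by decide +kernel)
theorem h_n : eh hP * en hP = en hP ^ 2 * eh hP :=
  Subtype.ext (show g6 ^ 2 * nn = nn ^ 2 * g6 ^ 2 by decide +kernel)
theorem w_h : ew hP * eh hP = eh hP ^ 2 * ew hP :=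
  Subtype.ext (show ww * g6 ^ 2 = (g6 ^ 2) ^ 2 * ww by decide +kernel)

end elements

section action

variable {V : Type*} [AddCommGroup V] [Module (ZMod 3) V]
variable {P : Subgroup (Perm (Fin 8))} (hP : P168 ≤ P) (ρ : Representation (ZMod 3) ↥P V)

theorem three_smul' (v : V) : v + v + v = 0 := by
  have h1 : ((3 : ℕ) : ZMod 3) • v = 0 := by
    rw [show ((3 : ℕ) : ZMod 3) = 0 by decide, zero_smul]
  rw [Nat.cast_smul_eq_nsmul] at h1
  rw [← h1]
  abel

theorem mulv (a b : ↥P) (v : V) : ρ (a * b) v = ρ a (ρ b v) := by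
  rw [map_mul]; rfl

theorem onev (v : V) : ρ 1 v = v := by rw [map_one]; rfl

variable {ρ}

theorem fix_mul {a b : ↥P} {v : V} (ha : ρ a v = v) (hb : ρ b v = v) : ρ (a * b) v = v := by
  rw [mulv, hb, ha]

theorem fix_inv {a : ↥P} {v : V} (ha : ρ a v = v) : ρ a⁻¹ v = v := by
  nth_rewrite 1 [← ha]
  rw [← mulv, inv_mul_cancel, onev]

theorem fix_pow {a : ↥P} {v : V} (ha : ρ a v = v) (k : ℕ) : ρ (a ^ k) v = v := by
  induction k with
  | zero => rw [pow_zero, onev]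
  | succ k ih => rw [pow_succ, mulv, ha, ih]

variable {Y : Set (Perm (Fin 8))} {v : V}

theorem mem_fixS : v ∈ fixS ρ Y ↔ ∀ g : ↥P, (g : Perm (Fin 8)) ∈ Y → ρ g v = v := Iff.rfl

include hP in
theorem mem_V4a : v ∈ fixS ρ V4a ↔ ρ (eza hP) v = v ∧ ρ (eza' hP) v = v := by
  rw [mem_fixS]
  constructor
  · intro h
    exact ⟨h _ (by simp [V4a, eza]), h _ (by simp [V4a, eza'])⟩
  · rintro ⟨h1, h2⟩ g (hg | hg | hg | hg)
    · rw [show g = 1 from Subtype.ext hg, onev]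
    · rw [show g = eza hP from Subtype.ext hg, h1]
    · rw [show g = eza' hP from Subtype.ext hg, h2]
    · rw [show g = eza hP * eza' hP from Subtype.ext hg, fix_mul h1 h2]

include hP in
theorem mem_V4b : v ∈ fixS ρ V4b ↔ ρ (ezb hP) v = v ∧ ρ (ezb' hP) v = v := by
  rw [mem_fixS]
  constructor
  · intro h
    exact ⟨h _ (by simp [V4b, ezb]), h _ (by simp [V4b, ezb'])⟩
  · rintro ⟨h1, h2⟩ g (hg | hg | hg | hg)
    · rw [show g = 1 from Subtype.ext hg, onev]
    · rw [show g = ezb hP from Subtype.ext hg, h1]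
    · rw [show g = ezb' hP from Subtype.ext hg, h2]
    · rw [show g = ezb hP * ezb' hP from Subtype.ext hg, fix_mul h1 h2]

include hP in
theorem mem_D8a : v ∈ fixS ρ D8a ↔ v ∈ fixS ρ V4a ∧ ρ (eta hP) v = v := by
  constructor
  · intro h
    refine ⟨fun g hg => h g (Or.inl hg), h _ (Or.inr ⟨1, Or.inl rfl, ?_⟩)⟩
    rw [one_mul]; rfl
  · rintro ⟨h1, h2⟩ g (hg | ⟨z, hz, hg⟩)
    · exact h1 g hg
    · have hzP : z ∈ P := by
        apply hP
        rcases hz with rfl | rfl | rfl | rfl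
        · exact one_mem _
        · exact za_mem
        · exact za'_mem
        · exact mul_mem za_mem za'_mem
      rw [show g = ⟨z, hzP⟩ * eta hP from Subtype.ext hg]
      exact fix_mul (h1 _ hz) h2

include hP in
theorem mem_U7 : v ∈ fixS ρ U7 ↔ ρ (en hP) v = v := by
  constructor
  · intro h
    exact h _ ⟨1, (pow_one nn).symm⟩
  · rintro h g ⟨i, hg⟩
    rw [show g = en hP ^ i from Subtype.ext hg]
    exact fix_pow h i

include hP in
theorem mem_P168 : v ∈ fixS ρ P168 ↔ ρ (en hP) v = v ∧ ρ (eh hP) v = v ∧ ρ (ew hP) v = v := by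
  constructor
  · intro h
    exact ⟨h _ nn_mem, h _ hh_mem, h _ ww_mem⟩
  · rintro ⟨h1, h2, h3⟩ ⟨g, hgP⟩ (hg : g ∈ Subgroup.closure {nn, g6 ^ 2, ww})
    have key : ∀ g (hg : g ∈ Subgroup.closure {nn, g6 ^ 2, ww}), ∀ hgP : g ∈ P, ρ ⟨g, hgP⟩ v = v := by
      intro g hg
      induction hg using Subgroup.closure_induction with
      | mem x hx =>
        intro hgP
        rcases hx with rfl | rfl | rfl
        · exact h1
        · exact h2
        · exact h3
      | one =>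
        intro hgP
        exact onev ρ v
      | mul x y hx hy ihx ihy =>
        intro hgP
        exact fix_mul (a := ⟨x, hP hx⟩) (b := ⟨y, hP hy⟩) (ihx _) (ihy _)
      | inv x hx ih =>
        intro hgP
        exact fix_inv (a := ⟨x, hP hx⟩) (ih _)
    exact key g hg hgP

include hP in
theorem mem_S4a : v ∈ fixS ρ S4a ↔ ρ (eza hP) v = v ∧ ρ (eza' hP) v = v ∧ ρ (eta hP) v = v ∧ ρ (eh hP) v = v := by
  constructor
  · intro h
    exact ⟨h _ (show inS4 za by decide +kernel), h _ (show inS4 za' by decide +kernel),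
      h _ (show inS4 ta by decide +kernel), h _ (show inS4 (g6 ^ 2) by decide +kernel)⟩
  · rintro ⟨h1, h2, h3, h4⟩ g ⟨i, j, k, l, hg⟩
    rw [show g = eza hP ^ (i : ℕ) * eza' hP ^ (j : ℕ) * eta hP ^ (k : ℕ) * eh hP ^ (l : ℕ) from Subtype.ext hg]
    exact fix_mul (fix_mul (fix_mul (fix_pow h1 _) (fix_pow h2 _)) (fix_pow h3 _)) (fix_pow h4 _)

/-- the cosets of `S4a` -/
theorem coset_act (g : ↥P) (i j : ℕ) (hv : v ∈ fixS ρ S4a)
    (h : inS4 ((nn ^ j)⁻¹ * (g : Perm (Fin 8)) * nn ^ i)) :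
    ρ g (ρ (en hP ^ i) v) = ρ (en hP ^ j) v := by
  have h1 : g * en hP ^ i = en hP ^ j * ((en hP ^ j)⁻¹ * g * en hP ^ i) := by group
  rw [← mulv, h1, mulv]
  congr 1
  exact hv _ h

/-! ### the sum over `U7` -/

/-- the sum of the elements of `U7` -/
def E7 (ρ : Representation (ZMod 3) ↥P V) : V →ₗ[ZMod 3] V := ∑ i ∈ Finset.range 7, ρ (en hP ^ i)

theorem E7_apply (v : V) : E7 hP ρ v = ∑ i ∈ Finset.range 7, ρ (en hP ^ i) v := by
  rw [E7, LinearMap.sum_apply]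

theorem E7_seven (v : V) : E7 hP ρ v = v + ρ (en hP) v + ρ (en hP ^ 2) v + ρ (en hP ^ 3) v + ρ (en hP ^ 4) v +
    ρ (en hP ^ 5) v + ρ (en hP ^ 6) v := by
  rw [E7_apply, Finset.sum_range_succ, Finset.sum_range_succ, Finset.sum_range_succ, Finset.sum_range_succ,
    Finset.sum_range_succ, Finset.sum_range_succ, Finset.sum_range_one, pow_zero, pow_one, onev]

theorem n_E7 (v : V) : ρ (en hP) (E7 hP ρ v) = E7 hP ρ v := by
  rw [E7_seven, map_add, map_add, map_add, map_add, map_add, map_add, ← mulv, ← mulv, ← mulv, ← mulv, ← mulv, ← mulv,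
    ← pow_succ', ← pow_succ', ← pow_succ', ← pow_succ', ← pow_succ', n_pow, onev, ← pow_two]
  abel

theorem E7_n (v : V) : E7 hP ρ (ρ (en hP) v) = E7 hP ρ v := by
  rw [E7_seven, E7_seven, ← mulv, ← mulv, ← mulv, ← mulv, ← mulv, ← mulv,
    ← pow_succ, ← pow_succ, ← pow_succ, ← pow_succ, ← pow_succ, n_pow, onev, ← pow_two]
  abel

theorem E7_npow (k : ℕ) (v : V) : E7 hP ρ (ρ (en hP ^ k) v) = E7 hP ρ v := by
  induction k with
  | zero => rw [pow_zero, onev]
  | succ k ih => rw [pow_succ', mulv, E7_n, ih]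

theorem E7_fix (hv : v ∈ fixS ρ U7) : E7 hP ρ v = v := by
  rw [mem_U7 hP] at hv
  rw [E7_seven, hv, fix_pow hv, fix_pow hv, fix_pow hv, fix_pow hv, fix_pow hv, add_assoc, add_assoc, add_assoc,
    add_assoc, add_assoc]
  have h1 := three_smul' v
  calc v + (v + (v + (v + (v + (v + v))))) = (v + v + v) + (v + v + v) + v := by abel
    _ = v := by rw [h1, zero_add, zero_add]

theorem h_n_pow (k : ℕ) : eh hP * en hP ^ k = en hP ^ (2 * k) * eh hP := by
  induction k with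
  | zero => rw [mul_zero, pow_zero, mul_one, one_mul]
  | succ k ih => rw [pow_succ, ← mul_assoc, ih, mul_assoc, h_n, ← mul_assoc, ← pow_add, mul_add, mul_one]

theorem n_mod (k : ℕ) : en hP ^ (7 + k) = en hP ^ k := by rw [pow_add, n_pow, one_mul]

/-- `h` commutes with the sum over `U7` -/
theorem h_E7 (v : V) : ρ (eh hP) (E7 hP ρ v) = E7 hP ρ (ρ (eh hP) v) := by
  have e1 := h_n_pow hP 1
  have e2 := h_n_pow hP 2
  have e3 := h_n_pow hP 3
  have e4 := h_n_pow hP 4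
  have e5 := h_n_pow hP 5
  have e6 := h_n_pow hP 6
  rw [pow_one] at e1
  rw [show 2 * 4 = 7 + 1 by norm_num, n_mod, pow_one] at e4
  rw [show 2 * 5 = 7 + 3 by norm_num, n_mod] at e5
  rw [show 2 * 6 = 7 + 5 by norm_num, n_mod] at e6
  simp only [E7_seven, E7_seven, map_add, map_add, map_add (ρ (eh hP)) (v + (ρ (en hP)) v + (ρ (en hP ^ 2)) v + (ρ (en hP ^ 3)) v) ((ρ (en hP ^ 4)) v), map_add (ρ (eh hP)) (v + (ρ (en hP)) v + (ρ (en hP ^ 2)) v) ((ρ (en hP ^ 3)) v), map_add (ρ (eh hP)) (v + (ρ (en hP)) v) ((ρ (en hP ^ 2)) v), map_add (ρ (eh hP)) v ((ρ (en hP)) v), ← mulv ρ (eh hP) (en hP) v, ← mulv ρ (eh hP) (en hP ^ 2) v, ← mulv ρ (eh hP) (en hP ^ 3) v, ← mulv ρ (eh hP) (en hP ^ 4) v,     ← mulv ρ (eh hP) (en hP ^ 5) v, ← mulv ρ (eh hP) (en hP ^ 6) v, e1, e2, e3, e4, e5, e6, mulv ρ (en hP ^ (2 * 1)) (eh hP) v, mulv ρ (en hP ^ (2 * 2)) (eh hP) v, mulv ρ (en hP ^ (2 * 3)) (eh hP) v, mulv ρ (en hP) (eh hP) v, mulv ρ (en hP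 ^ 3) (eh hP) v, mulv ρ (en hP ^ 5) (eh hP) v]
  abel

theorem h_E7_pow (k : ℕ) (v : V) : ρ (eh hP ^ k) (E7 hP ρ v) = E7 hP ρ (ρ (eh hP ^ k) v) := by
  induction k with
  | zero => rw [pow_zero, onev, onev]
  | succ k ih => rw [pow_succ', mulv, ih, h_E7, mulv]

/-- the values on words -/
theorem E7_word (hv : v ∈ fixS ρ U7) (g : ↥P) (i j k : ℕ) (hg : g = en hP ^ i * eh hP ^ j * ew hP * en hP ^ k) :
    E7 hP ρ (ρ g v) = ρ (eh hP ^ j) (E7 hP ρ (ρ (ew hP) v)) := by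
  rw [hg, mulv, fix_pow ((mem_U7 hP).1 hv), mulv, mulv, E7_npow, ← h_E7_pow]

end action

end Cfsg.Agent.H811.L7
end

-- part: H811/L7/Steps
section
/-!
# `PSL₂(7)` in characteristic 3: the three steps (S5920, helper811)

* `step_one` : `3 dim V^{D8a} ≤ dim V^{V4a} + 3 dim V^{S4a}`;
* `om`, `NN`, `EV` : `om v = E7 (w v)`, `NN = 1 + h + h²`, `EV` the sum over `V4b`;
  `E7_EV : E7 (EV v) = v + NN (om v)` for `v ∈ V^{U7}`, `h_om`, `om_om`;
* `KK` : the vectors `a` of `V^{S4a}` with `E7 a = 0`; `finrank_KK : dim KK + dim V^{P168} = dim V^{S4a}`;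
* `indep` : `n a + n² b + n⁴ c = 0` with `a, b, c ∈ KK` only for `a = b = c = 0`;
* `step_three` : `3 dim KK + dim V^{U7} ≤ dim V^{V4b}`.
-/

set_option autoImplicit false

namespace Cfsg.Agent.H811.L7

open Equiv Module LinearMap
open Cfsg.Agent.H942.L7

variable {V : Type*} [AddCommGroup V] [Module (ZMod 3) V]
variable {P : Subgroup (Perm (Fin 8))} (hP : P168 ≤ P) {ρ : Representation (ZMod 3) ↥P V} {v : V}

/-! ### step (1) -/

/-- relations in the symmetric group normalising `V4a` -/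
theorem za_sq : eza hP * eza hP = 1 := Subtype.ext (show za * za = 1 by decide +kernel)
theorem za'_sq : eza' hP * eza' hP = 1 := Subtype.ext (show za' * za' = 1 by decide +kernel)
theorem ta_sq : eta hP * eta hP = 1 := Subtype.ext (show ta * ta = 1 by decide +kernel)
theorem za'_za : eza' hP * eza hP = eza hP * eza' hP := Subtype.ext (show za' * za = za * za' by decide +kernel)
theorem za_h : eza hP * eh hP = eh hP * (eza hP * eza' hP) :=
  Subtype.ext (show za * g6 ^ 2 = g6 ^ 2 * (za * za') by decide +kernel)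
theorem za'_h : eza' hP * eh hP = eh hP * eza hP := Subtype.ext (show za' * g6 ^ 2 = g6 ^ 2 * za by decide +kernel)
theorem za_ta : eza hP * eta hP = eta hP * eza hP := Subtype.ext (show za * ta = ta * za by decide +kernel)
theorem za'_ta : eza' hP * eta hP = eta hP * (eza hP * eza' hP) :=
  Subtype.ext (show za' * ta = ta * (za * za') by decide +kernel)
theorem ta_h : eta hP * eh hP = eza' hP * eh hP ^ 2 * eta hP :=
  Subtype.ext (show ta * g6 ^ 2 = za' * (g6 ^ 2) ^ 2 * ta by decide +kernel)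

include hP in
theorem h_V4a (hv : v ∈ fixS ρ V4a) : ρ (eh hP) v ∈ fixS ρ V4a := by
  rw [mem_V4a hP] at hv ⊢
  refine ⟨?_, ?_⟩
  · rw [← mulv, za_h, mulv, fix_mul hv.1 hv.2]
  · rw [← mulv, za'_h, mulv, hv.1]

include hP in
theorem ta_V4a (hv : v ∈ fixS ρ V4a) : ρ (eta hP) v ∈ fixS ρ V4a := by
  rw [mem_V4a hP] at hv ⊢
  refine ⟨?_, ?_⟩
  · rw [← mulv, za_ta, mulv, hv.1]
  · rw [← mulv, za'_ta, mulv, fix_mul hv.1 hv.2]

/-- the skew operator `h - h⁻¹` -/
def dd (ρ : Representation (ZMod 3) ↥P V) : V →ₗ[ZMod 3] V := ρ (eh hP) - ρ (eh hP ^ 2)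

theorem dd_apply (v : V) : dd hP ρ v = ρ (eh hP) v - ρ (eh hP ^ 2) v := rfl

theorem h_h (v : V) : ρ (eh hP) (ρ (eh hP) v) = ρ (eh hP ^ 2) v := by rw [← mulv, pow_two]
theorem h_h2 (v : V) : ρ (eh hP) (ρ (eh hP ^ 2) v) = v := by rw [← mulv, ← pow_succ', h_pow, onev]
theorem h2_h (v : V) : ρ (eh hP ^ 2) (ρ (eh hP) v) = v := by rw [← mulv, ← pow_succ, h_pow, onev]
theorem h2_h2 (v : V) : ρ (eh hP ^ 2) (ρ (eh hP ^ 2) v) = ρ (eh hP) v := by
  rw [← mulv, ← pow_add, show 2 + 2 = 3 + 1 by norm_num, pow_add, h_pow, one_mul, pow_one]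

/-- `1 + h + h²` -/
def NN (ρ : Representation (ZMod 3) ↥P V) : V →ₗ[ZMod 3] V := LinearMap.id + ρ (eh hP) + ρ (eh hP ^ 2)

theorem NN_apply (v : V) : NN hP ρ v = v + ρ (eh hP) v + ρ (eh hP ^ 2) v := rfl

theorem dd_dd (v : V) : dd hP ρ (dd hP ρ v) = NN hP ρ v := by
  rw [dd_apply, dd_apply, map_sub, map_sub, h_h, h_h2, h2_h, h2_h2, NN_apply]
  have h1 := three_smul' v
  have h2 : v = -v - v := by
    rw [eq_sub_iff_add_eq, eq_neg_iff_add_eq_zero]
    exact h1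
  nth_rewrite 3 [h2]
  abel

theorem h_NN (v : V) : ρ (eh hP) (NN hP ρ v) = NN hP ρ v := by
  rw [NN_apply, map_add, map_add, h_h, h_h2]
  abel

theorem NN_h (v : V) : NN hP ρ (ρ (eh hP) v) = NN hP ρ v := by
  rw [NN_apply, NN_apply, h_h, h2_h]
  abel

theorem NN_NN (v : V) : NN hP ρ (NN hP ρ v) = 0 := by
  rw [NN_apply hP (NN hP ρ v), pow_two, mulv, h_NN, h_NN]
  exact three_smul' _

theorem NN_dd (v : V) : NN hP ρ (dd hP ρ v) = 0 := by
  rw [dd_apply, map_sub, pow_two, mulv, NN_h, NN_h, NN_h, sub_self]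

/-- kernel of `d` -/
theorem dd_eq_zero : dd hP ρ v = 0 ↔ ρ (eh hP) v = v := by
  constructor
  · intro h
    rw [dd_apply, sub_eq_zero] at h
    have h1 := congrArg (ρ (eh hP ^ 2)) h
    rw [h2_h, h2_h2] at h1
    exact h1.symm
  · intro h
    rw [dd_apply, fix_pow h, h, sub_self]

variable {B : LinearMap.BilinForm (ZMod 3) V}

theorem adj (hinv : ∀ g v v', B (ρ g v) (ρ g v') = B v v') {g g' : ↥P} (hg : g' * g = 1) (x y : V) :
    B (ρ g x) y = B x (ρ g' y) := by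
  rw [← hinv g' (ρ g x) y, ← mulv, hg, onev]

theorem dd_skew (hinv : ∀ g v v', B (ρ g v) (ρ g v') = B v v') (x y : V) :
    B (dd hP ρ x) y = - B x (dd hP ρ y) := by
  rw [dd_apply, dd_apply, map_sub, LinearMap.sub_apply, map_sub,
    adj hinv (g := eh hP) (g' := eh hP ^ 2) (by rw [← pow_succ, h_pow]),
    adj hinv (g := eh hP ^ 2) (g' := eh hP) (by rw [← pow_succ', h_pow])]
  ring

include hP in
theorem dd_V4a (hv : v ∈ fixS ρ V4a) : dd hP ρ v ∈ fixS ρ V4a := by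
  rw [dd_apply, pow_two, mulv]
  exact Submodule.sub_mem _ (h_V4a hP hv) (h_V4a hP (h_V4a hP hv))

include hP in
theorem ta_h_V4a (hv : v ∈ fixS ρ V4a) : ρ (eta hP) (ρ (eh hP) v) = ρ (eh hP ^ 2) (ρ (eta hP) v) := by
  rw [← mulv, ta_h, mulv, mulv]
  have h1 : ρ (eh hP ^ 2) (ρ (eta hP) v) ∈ fixS ρ V4a := by
    rw [pow_two, mulv]
    exact h_V4a hP (h_V4a hP (ta_V4a hP hv))
  exact ((mem_V4a hP).1 h1).2

theorem ta_dd (hv : v ∈ fixS ρ V4a) : ρ (eta hP) (dd hP ρ v) = - dd hP ρ (ρ (eta hP) v) := by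
  have h1 : ρ (eta hP) (ρ (eh hP ^ 2) v) = ρ (eh hP) (ρ (eta hP) v) := by
    rw [← h_h, ta_h_V4a hP (h_V4a hP hv), ta_h_V4a hP hv, h2_h2]
  rw [dd_apply, dd_apply, map_sub, ta_h_V4a hP hv, neg_sub, h1]

theorem two_ne : (2 : ZMod 3) ≠ 0 := by decide

include hP in
theorem eta_eta (v : V) : ρ (eta hP) (ρ (eta hP) v) = v := by rw [← mulv, ta_sq, onev]

include hP in
theorem D8a_eq : fixS ρ D8a = eig (fixS ρ V4a) (ρ (eta hP)) 1 := by
  ext v
  rw [mem_D8a hP, mem_eig, one_smul]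

include hP in
theorem finrank_V4a [Module.Finite (ZMod 3) V] : finrank (ZMod 3) (fixS ρ D8a) +
    finrank (ZMod 3) (eig (fixS ρ V4a) (ρ (eta hP)) (-1)) = finrank (ZMod 3) (fixS ρ V4a) := by
  rw [D8a_eq hP]
  exact finrank_eig two_ne (fun x hx => ta_V4a hP hx) fun x _ => eta_eta hP x

include hP in
theorem V4a_eq : fixS ρ V4a = eig (eig ⊤ (ρ (eza hP)) 1) (ρ (eza' hP)) 1 := by
  ext v
  rw [mem_V4a hP, mem_eig, mem_eig, one_smul]
  exact ⟨fun h => ⟨⟨trivial, h.1⟩, h.2⟩, fun h => ⟨h.1.2, h.2⟩⟩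

include hP in
theorem nd_V4a (hB : B.Nondegenerate) (hinv : ∀ g v v', B (ρ g v) (ρ g v') = B v v') : ND B (fixS ρ V4a) := by
  have h1 : ND B (eig ⊤ (ρ (eza hP)) 1) := (nd_top hB).eig two_ne (fun x _ => trivial)
    (fun x _ => by rw [← mulv, za_sq, onev]) (fun x _ y _ => hinv _ x y) (by norm_num)
  rw [V4a_eq hP]
  refine h1.eig two_ne (fun x hx => ?_) (fun x _ => by rw [← mulv, za'_sq, onev]) (fun x _ y _ => hinv _ x y)
    (by norm_num)
  rw [mem_eig, one_smul] at hx ⊢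
  exact ⟨trivial, by rw [← mulv, ← za'_za, mulv, hx.2]⟩

include hP in
theorem nd_eig (hB : B.Nondegenerate) (hinv : ∀ g v v', B (ρ g v) (ρ g v') = B v v') {c : ZMod 3} (hc : c * c = 1) :
    ND B (eig (fixS ρ V4a) (ρ (eta hP)) c) :=
  (nd_V4a hP hB hinv).eig two_ne (fun _ hx => ta_V4a hP hx) (fun x _ => eta_eta hP x)
    (fun x _ y _ => hinv _ x y) hc

theorem dd_eig {c : ZMod 3} (hv : v ∈ eig (fixS ρ V4a) (ρ (eta hP)) c) :
    dd hP ρ v ∈ eig (fixS ρ V4a) (ρ (eta hP)) (-c) := by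
  obtain ⟨h1, h2⟩ := mem_eig.1 hv
  exact mem_eig.2 ⟨dd_V4a hP h1, by rw [ta_dd hP h1, h2, map_smul, neg_smul]⟩

include hP in
theorem S4a_eq : fixS ρ S4a = fixS ρ D8a ⊓ LinearMap.ker (dd hP ρ) := by
  ext v
  rw [Submodule.mem_inf, LinearMap.mem_ker, dd_eq_zero, mem_D8a hP, mem_V4a hP, mem_S4a hP]
  tauto

/-- step (1) -/
theorem step_one [Module.Finite (ZMod 3) V] (hP : P168 ≤ P) (hB : B.Nondegenerate)
    (hinv : ∀ g v v', B (ρ g v) (ρ g v') = B v v') :
    3 * finrank (ZMod 3) (fixS ρ D8a) ≤ finrank (ZMod 3) (fixS ρ V4a) + 3 * finrank (ZMod 3) (fixS ρ S4a) := by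
  have h1 := skew_bound (X := eig (fixS ρ V4a) (ρ (eta hP)) 1) (nd_eig hP hB hinv (c := -1) (by norm_num)) (dd hP ρ)
    (fun x hx => dd_eig hP hx) (fun y hy => by have := dd_eig hP hy; rwa [neg_neg] at this)
    (fun x _ y _ => dd_skew hP hinv x y) (fun x _ => by rw [dd_dd, NN_dd])
  rw [← D8a_eq hP, ← S4a_eq hP] at h1
  have h2 := finrank_V4a hP (ρ := ρ)
  omega

/-! ### step (2) -/

/-- `om v = E7 (w v)` -/
def om (ρ : Representation (ZMod 3) ↥P V) : V →ₗ[ZMod 3] V := E7 hP ρ ∘ₗ ρ (ew hP)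

theorem om_apply (v : V) : om hP ρ v = E7 hP ρ (ρ (ew hP) v) := rfl

theorem h_om (v : V) : ρ (eh hP) (om hP ρ v) = om hP ρ (ρ (eh hP ^ 2) v) := by
  rw [om_apply, om_apply, h_E7, ← mulv, ← mulv]
  (with_reducible congr 3)
  have h1 := w_h hP
  calc eh hP * ew hP = eh hP * (ew hP * eh hP) * eh hP ^ 2 := by
        rw [mul_assoc, mul_assoc, ← pow_succ', h_pow, mul_one]
    _ = ew hP * eh hP ^ 2 := by rw [h1, ← mul_assoc, ← pow_succ', h_pow, one_mul]

theorem h2_om (v : V) : ρ (eh hP ^ 2) (om hP ρ v) = om hP ρ (ρ (eh hP) v) := by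
  rw [pow_two, mulv, h_om, h_om, h2_h2]

theorem NN_om (v : V) : NN hP ρ (om hP ρ v) = om hP ρ (NN hP ρ v) := by
  rw [NN_apply, NN_apply, h_om, h2_om, map_add, map_add]
  abel

/-- the sum over `V4b` -/
def EV (ρ : Representation (ZMod 3) ↥P V) : V →ₗ[ZMod 3] V :=
  LinearMap.id + ρ (ezb hP) + ρ (ezb' hP) + ρ (ezb hP * ezb' hP)

theorem EV_apply (v : V) : EV hP ρ v = v + ρ (ezb hP) v + ρ (ezb' hP) v + ρ (ezb hP * ezb' hP) v := rfl

theorem zb_sq : ezb hP * ezb hP = 1 := Subtype.ext (show zb * zb = 1 by decide +kernel)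
theorem zb'_sq : ezb' hP * ezb' hP = 1 := Subtype.ext (show zb' * zb' = 1 by decide +kernel)
theorem zb'_zb : ezb' hP * ezb hP = ezb hP * ezb' hP := Subtype.ext (show zb' * zb = zb * zb' by decide +kernel)

theorem EV_mem (v : V) : EV hP ρ v ∈ fixS ρ V4b := by
  rw [mem_V4b hP, EV_apply]
  constructor
  · rw [map_add, map_add, map_add, ← mulv, ← mulv, ← mulv, zb_sq, onev, ← mul_assoc, zb_sq, one_mul]
    abel
  · rw [map_add, map_add, map_add, ← mulv, ← mulv, ← mulv, zb'_sq, onev, ← mul_assoc, zb'_zb, mul_assoc, zb'_sq, mul_one]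
    abel

theorem E7_EV (hv : v ∈ fixS ρ U7) : E7 hP ρ (EV hP ρ v) = v + NN hP ρ (om hP ρ v) := by
  have h1 := E7_word hP hv (ezb hP) 2 1 5
    (Subtype.ext (show zb = nn ^ 2 * (g6 ^ 2) ^ 1 * ww * nn ^ 5 by decide +kernel))
  have h2 := E7_word hP hv (ezb' hP) 1 2 6
    (Subtype.ext (show zb' = nn ^ 1 * (g6 ^ 2) ^ 2 * ww * nn ^ 6 by decide +kernel))
  have h3 := E7_word hP hv (ezb hP * ezb' hP) 4 0 3
    (Subtype.ext (show zb * zb' = nn ^ 4 * (g6 ^ 2) ^ 0 * ww * nn ^ 3 by decide +kernel))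
  rw [pow_one] at h1
  rw [pow_zero, onev] at h3
  rw [EV_apply, map_add, map_add, map_add, h1, h2, h3, E7_fix hP hv, NN_apply, om_apply]
  abel

/-- `E7 ∘ EV` is injective on `V^{U7}` -/
theorem eq_zero_of_E7_EV (hv : v ∈ fixS ρ U7) (h : E7 hP ρ (EV hP ρ v) = 0) : v = 0 := by
  rw [E7_EV hP hv] at h
  have h1 : NN hP ρ v = 0 := by
    have h2 := congrArg (NN hP ρ) h
    rwa [map_add, NN_NN, add_zero, map_zero] at h2
  rw [NN_om, h1, map_zero, add_zero] at h
  exact h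

/-! ### step (3) -/

/-- the vectors `a` of `V^{S4a}` with `E7 a = 0` -/
def KK (ρ : Representation (ZMod 3) ↥P V) : Submodule (ZMod 3) V := fixS ρ S4a ⊓ LinearMap.ker (E7 hP ρ)

theorem mem_KK : v ∈ KK hP ρ ↔ v ∈ fixS ρ S4a ∧ E7 hP ρ v = 0 := by
  rw [KK, Submodule.mem_inf, LinearMap.mem_ker]

/-- the sum over the cosets of `S4a` is invariant -/
theorem E7_inv (hv : v ∈ fixS ρ S4a) : E7 hP ρ v ∈ fixS ρ P168 := by
  rw [mem_P168 hP]
  refine ⟨n_E7 hP v, ?_, ?_⟩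
  · rw [h_E7, ((mem_S4a hP).1 hv).2.2.2]
  · have key : ∀ i j : ℕ, inS4 ((nn ^ j)⁻¹ * ww * nn ^ i) → ρ (ew hP) (ρ (en hP ^ i) v) = ρ (en hP ^ j) v :=
      fun i j h => coset_act hP (ew hP) i j hv h
    have h0 := key 0 0 (by decide +kernel)
    have h1 := key 1 2 (by decide +kernel)
    have h2 := key 2 1 (by decide +kernel)
    have h3 := key 3 6 (by decide +kernel)
    have h4 := key 4 4 (by decide +kernel)
    have h5 := key 5 5 (by decide +kernel)
    have h6 := key 6 3 (by decide +kernel)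
    rw [pow_zero, onev] at h0
    rw [pow_one] at h1 h2
    simp only [E7_seven, map_add, map_add, map_add, map_add, map_add, map_add, h0, h1, h2, h3, h4, h5, h6]
    abel

theorem P168_le (hv : v ∈ fixS ρ P168) : v ∈ fixS ρ S4a := by
  rw [mem_fixS] at hv ⊢
  rintro g ⟨i, j, k, l, hg⟩
  apply hv
  rw [hg]
  exact mul_mem (mul_mem (mul_mem (pow_mem za_mem _) (pow_mem za'_mem _)) (pow_mem ta_mem _)) (pow_mem hh_mem _)

theorem P168_le_U7 (hv : v ∈ fixS ρ P168) : v ∈ fixS ρ U7 := by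
  rw [mem_fixS] at hv ⊢
  rintro g ⟨i, hg⟩
  apply hv
  rw [hg]
  exact pow_mem nn_mem i

theorem finrank_KK [Module.Finite (ZMod 3) V] :
    finrank (ZMod 3) (KK hP ρ) + finrank (ZMod 3) (fixS ρ P168) = finrank (ZMod 3) (fixS ρ S4a) := by
  let f : fixS ρ S4a →ₗ[ZMod 3] V := (E7 hP ρ).domRestrict (fixS ρ S4a)
  have h1 : range f = fixS ρ P168 := by
    ext v
    constructor
    · rintro ⟨x, rfl⟩
      exact E7_inv hP x.2
    · intro hv
      exact ⟨⟨v, P168_le hv⟩, E7_fix hP (P168_le_U7 hv)⟩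
  have h2 : (ker f).map (fixS ρ S4a).subtype = KK hP ρ := by
    ext v
    constructor
    · rintro ⟨x, hx, rfl⟩
      exact (mem_KK hP).2 ⟨x.2, hx⟩
    · intro hv
      obtain ⟨h3, h4⟩ := (mem_KK hP).1 hv
      exact ⟨⟨v, h3⟩, h4, rfl⟩
  have h3 := LinearMap.finrank_range_add_finrank_ker f
  rw [h1] at h3
  rw [← h2, ← LinearEquiv.finrank_eq (Submodule.equivMapOfInjective (fixS ρ S4a).subtype
    (fixS ρ S4a).injective_subtype (ker f)), ← h3, add_comm]

/-- the vectors at the cosets 1, 2, 4 are fixed by `V4b` -/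
theorem coset_V4b (hv : v ∈ fixS ρ S4a) {i : ℕ} (hi : i = 1 ∨ i = 2 ∨ i = 4) :
    ρ (en hP ^ i) v ∈ fixS ρ V4b := by
  rw [mem_V4b hP]
  constructor
  · refine coset_act hP (ezb hP) i i hv ?_
    show inS4 ((nn ^ i)⁻¹ * zb * nn ^ i)
    rcases hi with rfl | rfl | rfl <;> decide +kernel
  · refine coset_act hP (ezb' hP) i i hv ?_
    show inS4 ((nn ^ i)⁻¹ * zb' * nn ^ i)
    rcases hi with rfl | rfl | rfl <;> decide +kernel

/-- the sum over `V4a` -/
def EA (ρ : Representation (ZMod 3) ↥P V) : V →ₗ[ZMod 3] V :=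
  LinearMap.id + ρ (eza hP) + ρ (eza' hP) + ρ (eza hP * eza' hP)

theorem EA_apply (v : V) : EA hP ρ v = v + ρ (eza hP) v + ρ (eza' hP) v + ρ (eza hP * eza' hP) v := rfl

theorem EA_zero (hv : v ∈ fixS ρ S4a) : EA hP ρ v = v := by
  obtain ⟨h1, h2, -, -⟩ := (mem_S4a hP).1 hv
  rw [EA_apply, fix_mul h1 h2, h1, h2, three_smul', zero_add]

theorem EA_one (hv : v ∈ fixS ρ S4a) : EA hP ρ (ρ (en hP ^ 1) v) = - (ρ (en hP ^ 1) v + ρ (en hP ^ 3) v) := by
  have h1 := coset_act hP (eza hP) 1 1 hv (show inS4 ((nn ^ 1)⁻¹ * za * nn ^ 1) by decide +kernel)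
  have h2 := coset_act hP (eza' hP) 1 3 hv (show inS4 ((nn ^ 3)⁻¹ * za' * nn ^ 1) by decide +kernel)
  have h3 := coset_act hP (eza hP * eza' hP) 1 3 hv (show inS4 ((nn ^ 3)⁻¹ * (za * za') * nn ^ 1) by decide +kernel)
  rw [EA_apply, h1, h2, h3]
  have h4 := three_smul' (ρ (en hP ^ 1) v)
  have h5 := three_smul' (ρ (en hP ^ 3) v)
  generalize ρ (en hP ^ 1) v = x at *
  generalize ρ (en hP ^ 3) v = y at *
  rw [eq_neg_iff_add_eq_zero]
  calc x + x + y + y + (x + y) = (x + x + x) + (y + y + y) := by abel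
    _ = 0 := by rw [h4, h5, add_zero]

theorem EA_three (hv : v ∈ fixS ρ S4a) : EA hP ρ (ρ (en hP ^ 3) v) = - (ρ (en hP ^ 1) v + ρ (en hP ^ 3) v) := by
  have h1 := coset_act hP (eza hP) 3 3 hv (show inS4 ((nn ^ 3)⁻¹ * za * nn ^ 3) by decide +kernel)
  have h2 := coset_act hP (eza' hP) 3 1 hv (show inS4 ((nn ^ 1)⁻¹ * za' * nn ^ 3) by decide +kernel)
  have h3 := coset_act hP (eza hP * eza' hP) 3 1 hv (show inS4 ((nn ^ 1)⁻¹ * (za * za') * nn ^ 3) by decide +kernel)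
  rw [EA_apply, h1, h2, h3]
  have h4 := three_smul' (ρ (en hP ^ 1) v)
  have h5 := three_smul' (ρ (en hP ^ 3) v)
  generalize ρ (en hP ^ 1) v = x at *
  generalize ρ (en hP ^ 3) v = y at *
  rw [eq_neg_iff_add_eq_zero]
  calc y + y + x + x + (x + y) = (x + x + x) + (y + y + y) := by abel
    _ = 0 := by rw [h4, h5, add_zero]

/-- an element of `KK` with `n v = n³ v` is zero -/
theorem KK_eq_zero (hv : v ∈ KK hP ρ) (h : ρ (en hP ^ 1) v = ρ (en hP ^ 3) v) : v = 0 := by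
  have h1 : ρ (en hP ^ 2) v = v := by
    have h2 := congrArg (ρ (en hP ^ 6)) h
    rw [← mulv, ← mulv, ← pow_add, ← pow_add, show 6 + 1 = 7 by norm_num, show 6 + 3 = 7 + 2 by norm_num, n_mod,
      n_pow, onev] at h2
    exact h2.symm
  have h2 : ρ (en hP) v = v := by
    have h3 : en hP = (en hP ^ 2) ^ 4 := by
      rw [← pow_mul, show 2 * 4 = 7 + 1 by norm_num, n_mod, pow_one]
    rw [h3]
    exact fix_pow h1 4
  rw [← E7_fix hP ((mem_U7 hP).2 h2)]
  exact ((mem_KK hP).1 hv).2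

theorem indep_aux {a b c : V} (ha : a ∈ KK hP ρ) (hb : b ∈ KK hP ρ) (hc : c ∈ KK hP ρ)
    (h : ρ (en hP ^ 1) a + ρ (en hP ^ 2) b + ρ (en hP ^ 4) c = 0) : b = c := by
  have ha' := ((mem_KK hP).1 ha).1
  have hb' := ((mem_KK hP).1 hb).1
  have hc' := ((mem_KK hP).1 hc).1
  have h1 : a + ρ (en hP ^ 1) b + ρ (en hP ^ 3) c = 0 := by
    have h2 := congrArg (ρ (en hP ^ 6)) h
    rw [map_add, map_add, map_zero, ← mulv, ← mulv, ← mulv, ← pow_add, ← pow_add, ← pow_add, show 6 + 1 = 7 by norm_num,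
      show 6 + 2 = 7 + 1 by norm_num, show 6 + 4 = 7 + 3 by norm_num, n_mod, n_mod, n_pow, onev] at h2
    exact h2
  have h2 := congrArg (EA hP ρ) h1
  rw [map_add, map_add, map_zero, EA_zero hP ha', EA_one hP hb', EA_three hP hc'] at h2
  have h3 : ρ (en hP ^ 1) (b - c) = ρ (en hP ^ 3) (b - c) := by
    rw [map_sub, map_sub]
    have h4 := three_smul' (ρ (en hP ^ 1) b)
    have h5 := three_smul' (ρ (en hP ^ 3) c)
    generalize ρ (en hP ^ 1) b = b1 at *
    generalize ρ (en hP ^ 3) b = b3 at *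
    generalize ρ (en hP ^ 1) c = c1 at *
    generalize ρ (en hP ^ 3) c = c3 at *
    have h6 : a = - b1 - c3 := by
      rw [eq_sub_iff_add_eq, eq_neg_iff_add_eq_zero, ← h1]
      abel
    rw [h6] at h2
    have h7 : b1 - c1 - (b3 - c3) = (b1 + b1 + b1) + (c3 + c3 + c3) +
        (- b1 - c3 + - (b1 + b3) + - (c1 + c3)) := by abel
    rw [h4, h5, h2, add_zero, add_zero] at h7
    exact sub_eq_zero.1 h7
  exact sub_eq_zero.1 (KK_eq_zero hP (Submodule.sub_mem _ hb hc) h3)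

/-- independence -/
theorem indep {a b c : V} (ha : a ∈ KK hP ρ) (hb : b ∈ KK hP ρ) (hc : c ∈ KK hP ρ)
    (h : ρ (en hP ^ 1) a + ρ (en hP ^ 2) b + ρ (en hP ^ 4) c = 0) : a = 0 ∧ b = 0 ∧ c = 0 := by
  have ha' := ((mem_KK hP).1 ha).1
  have hb' := ((mem_KK hP).1 hb).1
  have hc' := ((mem_KK hP).1 hc).1
  have hh : ∀ x ∈ fixS ρ S4a, ∀ i : ℕ, ρ (eh hP) (ρ (en hP ^ i) x) = ρ (en hP ^ (2 * i)) x := by
    intro x hx i
    rw [← mulv, h_n_pow, mulv, ((mem_S4a hP).1 hx).2.2.2]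
  have h1 := indep_aux hP ha hb hc h
  have h2 : ρ (en hP ^ 1) c + ρ (en hP ^ 2) a + ρ (en hP ^ 4) b = 0 := by
    have h3 := congrArg (ρ (eh hP)) h
    rw [map_add, map_add, map_zero, hh a ha', hh b hb', hh c hc', show 2 * 4 = 7 + 1 by norm_num, n_mod] at h3
    rw [← h3]
    abel
  have h3 := indep_aux hP hc ha hb h2
  subst h3
  subst h1
  have e7 := ((mem_KK hP).1 ha).2
  rw [E7_seven] at e7
  have key : ∀ i : ℕ, ρ (en hP ^ (i + 1)) a + ρ (en hP ^ (i + 2)) a + ρ (en hP ^ (i + 4)) a = 0 := by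
    intro i
    have h3 := congrArg (ρ (en hP ^ i)) h
    rwa [map_add, map_add, map_zero, ← mulv, ← mulv, ← mulv, ← pow_add, ← pow_add, ← pow_add] at h3
  have k6 := key 6
  have k5 := key 5
  have k3 := key 3
  rw [show 6 + 1 = 7 by norm_num, show 6 + 2 = 7 + 1 by norm_num, show 6 + 4 = 7 + 3 by norm_num, n_mod, n_mod, n_pow,
    onev, pow_one] at k6
  rw [show 5 + 1 = 6 by norm_num, show 5 + 2 = 7 by norm_num, show 5 + 4 = 7 + 2 by norm_num, n_mod, n_pow, onev] at k5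
  rw [show 3 + 1 = 4 by norm_num, show 3 + 2 = 5 by norm_num, show 3 + 4 = 7 by norm_num, n_pow, onev] at k3
  have h5 := three_smul' a
  have ha0 : a = 0 := by
    generalize ρ (en hP) a = a1 at *
    generalize ρ (en hP ^ 2) a = a2 at *
    generalize ρ (en hP ^ 3) a = a3 at *
    generalize ρ (en hP ^ 4) a = a4 at *
    generalize ρ (en hP ^ 5) a = a5 at *
    generalize ρ (en hP ^ 6) a = a6 at *
    have h6 : a = (a + a1 + a2 + a3 + a4 + a5 + a6) + (a + a + a) - ((a + a1 + a3) + (a6 + a + a2) + (a4 + a5 + a)) := by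
      abel
    rw [e7, h5, k6, k5, k3] at h6
    rw [h6]
    abel
  exact ⟨ha0, ha0, ha0⟩

/-- step (3) -/
theorem step_three [Module.Finite (ZMod 3) V] :
    3 * finrank (ZMod 3) (KK hP ρ) + finrank (ZMod 3) (fixS ρ U7) ≤ finrank (ZMod 3) (fixS ρ V4b) := by
  let Φ : (KK hP ρ) × (KK hP ρ) × (KK hP ρ) × (fixS ρ U7) →ₗ[ZMod 3] V :=
    (ρ (en hP ^ 1) ∘ₗ (KK hP ρ).subtype).coprod ((ρ (en hP ^ 2) ∘ₗ (KK hP ρ).subtype).coprod
      ((ρ (en hP ^ 4) ∘ₗ (KK hP ρ).subtype).coprod (EV hP ρ ∘ₗ (fixS ρ U7).subtype)))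
  have hΦ : ∀ (a b c : KK hP ρ) (v : fixS ρ U7), Φ (a, b, c, v) =
      ρ (en hP ^ 1) a + (ρ (en hP ^ 2) b + (ρ (en hP ^ 4) c + EV hP ρ v)) := fun _ _ _ _ => rfl
  have h1 : ∀ x, Φ x ∈ fixS ρ V4b := by
    rintro ⟨a, b, c, v⟩
    rw [hΦ]
    exact Submodule.add_mem _ (coset_V4b hP ((mem_KK hP).1 a.2).1 (Or.inl rfl))
      (Submodule.add_mem _ (coset_V4b hP ((mem_KK hP).1 b.2).1 (Or.inr (Or.inl rfl)))
        (Submodule.add_mem _ (coset_V4b hP ((mem_KK hP).1 c.2).1 (Or.inr (Or.inr rfl))) (EV_mem hP (v : V))))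
  have h2 : Function.Injective Φ := by
    rw [injective_iff_map_eq_zero]
    rintro ⟨a, b, c, v⟩ h
    rw [hΦ] at h
    have h3 := congrArg (E7 hP ρ) h
    rw [map_add, map_add, map_add, map_zero, E7_npow, E7_npow, E7_npow, ((mem_KK hP).1 a.2).2, ((mem_KK hP).1 b.2).2,
      ((mem_KK hP).1 c.2).2, zero_add, zero_add, zero_add] at h3
    have h4 : (v : V) = 0 := eq_zero_of_E7_EV hP v.2 h3
    rw [h4, map_zero, add_zero, ← add_assoc] at h
    obtain ⟨h5, h6, h7⟩ := indep hP a.2 b.2 c.2 h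
    have e1 : a = 0 := Subtype.ext h5
    have e2 : b = 0 := Subtype.ext h6
    have e3 : c = 0 := Subtype.ext h7
    have e4 : v = 0 := Subtype.ext h4
    rw [e1, e2, e3, e4]
    rfl
  have h3 := LinearMap.finrank_le_finrank_of_injective (f := Φ.codRestrict (fixS ρ V4b) h1)
    (fun x y h => h2 (congrArg Subtype.val h))
  rw [Module.finrank_prod, Module.finrank_prod, Module.finrank_prod] at h3
  omega

end Cfsg.Agent.H811.L7
end

-- part: H811/L7/RepS
section
/-!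
# `RepS` (S5920, helper811)
-/

set_option autoImplicit false

namespace Cfsg.Agent.H811.L7

open Cfsg.Agent.H942.L7

/-- the fixed space of `PSL₂(7)` in a self-dual module in characteristic 3 -/
theorem repS : RepS := by
  intro V _ _ _ P hP ρ B hB _ hinv
  have h1 := step_one hP hB hinv
  have h2 := finrank_KK hP (ρ := ρ)
  have h3 := step_three hP (ρ := ρ)
  omega

end Cfsg.Agent.H811.L7
end

-- part: H358/L7/Conj
section
/-!
# S5920, task CONJ: conjugacy of the elements of `PSL₂(7)` and `PGL₂(7)` (helper358)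

Permutations of `Fin 8` are coded by natural numbers below `8 ^ 8`.
-/

set_option autoImplicit false

namespace Cfsg.Agent.H358.L7

open Equiv Cfsg.Agent.H942.L7

/-- the code of a permutation of `Fin 8` -/
def enc (g : Perm (Fin 8)) : ℕ := (g 0 : ℕ) + 8 * ((g 1 : ℕ) + 8 * ((g 2 : ℕ) + 8 * ((g 3 : ℕ) + 8 * ((g 4 : ℕ) +
  8 * ((g 5 : ℕ) + 8 * ((g 6 : ℕ) + 8 * (g 7 : ℕ)))))))

/-- the digit -/
def dg (a i : ℕ) : ℕ := a / 8 ^ i % 8

/-- the product on codes -/
def mulC (a b : ℕ) : ℕ := dg a (dg b 0) + 8 * (dg a (dg b 1) + 8 * (dg a (dg b 2) + 8 * (dg a (dg b 3) +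
  8 * (dg a (dg b 4) + 8 * (dg a (dg b 5) + 8 * (dg a (dg b 6) + 8 * dg a (dg b 7)))))))

/-- an entry of a table -/
def tb (T w i : ℕ) : ℕ := T / 2 ^ (w * i) % 2 ^ w

theorem dg_enc (g : Perm (Fin 8)) (i : Fin 8) : dg (enc g) i = g i := by
  have h0 := (g 0).2
  have h1 := (g 1).2
  have h2 := (g 2).2
  have h3 := (g 3).2
  have h4 := (g 4).2
  have h5 := (g 5).2
  have h6 := (g 6).2
  have h7 := (g 7).2
  unfold dg enc
  fin_cases i
  · change _ / 8 ^ 0 % 8 = (g 0 : ℕ); (clear * -; solve | lia | omega)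
  · change _ / 8 ^ 1 % 8 = (g 1 : ℕ); omega
  · change _ / 8 ^ 2 % 8 = (g 2 : ℕ); omega
  · change _ / 8 ^ 3 % 8 = (g 3 : ℕ); omega
  · change _ / 8 ^ 4 % 8 = (g 4 : ℕ); omega
  · change _ / 8 ^ 5 % 8 = (g 5 : ℕ); omega
  · change _ / 8 ^ 6 % 8 = (g 6 : ℕ); omega
  · change _ / 8 ^ 7 % 8 = (g 7 : ℕ); omega

theorem enc_inj {g h : Perm (Fin 8)} (H : enc g = enc h) : g = h := by
  ext i
  rw [← dg_enc, ← dg_enc, H]

theorem dg_dg (g h : Perm (Fin 8)) (i : Fin 8) : dg (enc g) (dg (enc h) i) = g (h i) := by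
  rw [dg_enc, dg_enc]

theorem enc_mul (g h : Perm (Fin 8)) : enc (g * h) = mulC (enc g) (enc h) := by
  have H := dg_dg g h
  have h0 : dg (enc g) (dg (enc h) 0) = g (h 0) := H 0
  have h1 : dg (enc g) (dg (enc h) 1) = g (h 1) := H 1
  have h2 : dg (enc g) (dg (enc h) 2) = g (h 2) := H 2
  have h3 : dg (enc g) (dg (enc h) 3) = g (h 3) := H 3
  have h4 : dg (enc g) (dg (enc h) 4) = g (h 4) := H 4
  have h5 : dg (enc g) (dg (enc h) 5) = g (h 5) := H 5
  have h6 : dg (enc g) (dg (enc h) 6) = g (h 6) := H 6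
  have h7 : dg (enc g) (dg (enc h) 7) = g (h 7) := H 7
  unfold mulC
  rw [h0, h1, h2, h3, h4, h5, h6, h7]
  rfl

/-- codes of the elements; the first 168 are the elements of `P168` -/
def TC : ℕ := 0xa8e1dc313f8529fc2ca172f4b8771188dec69ba645a435bcaf40b9a1ade14e70758f1e1537cc832fe162560cf92b88f5d5a07c283be63aae238c8bbac631ea5ab9c186f632537a19a70ee23e641d2f55c497b19139077c87855e4199bd95e3c25067cdc0f95a21df32ab97a0a3b88ec297d4cc7a8c9d322ec8c63db02e5ebbc21a9d8c8d686979ba05cbad6f085383ab98f0ab845dd37151f16275a93f0b137a913a466f434f9b063c47aa22c4fed18f5172f2867489d6cd03e535711ec5f5055c1d5cd052fa55ce0e5bd0ccbcbd023320ef82ee999c2af11a32bd4ccde8433e6cc7cad02ef9903627f00729dd10fcd5bdc4700d587ed4bea0c3d463899177e6acc4be10d68c646fb11c3b644eb5779434057ba30ac3f3634bcaab7843747c6283237b6a8f8c73ad4838589f5cd833223d57de5681662a3ec81f2bcfa82940eae75e8666a5e817f56621475738161f9a0bdd199774c881578f991bd81195ee59f3600a774e31eab8194ee907e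6acae2387dea318f8ba14b086b7f7029c7ca1a514e53b7a5e5063e3157d6a44ee853146c19ff31742e9cb81d2b40fdd414b543337eb310d1ee8ca8abc780caf7413ba721f3561e14c5dd518c7e5d0a6f814e5650d2f7f18a86b5227f4298bee5c0aca0a5ff9886a1746571dd39419ab0fea62e8e0a72e78c547f2e053ec43560e9ca7e53970e21ab3f0d5988ea1ceb99e84acf42681fa5688739dcece42cbb3449416be8560fd80b5f5677154c55e1cb3e4c1a7a13373047daf8c5450b17eac19f2aa3e31c688bb5711e36a1dc5d6721379780d950e73bf260ca547c6d3909da9833ed7870a60dcbcd0abc37823ec42fd0ba0cf938fd2b0839cea4253de4478eedd9a224ee23c983f4a8bea0bdc84ec2c2d3d8b07e985afa87b8aa1caf0e1d445d939c1d52376a5bd09992a51bb772f0167d982bc62a3a2667a588f1d3a7ac2328dda458bf4b1f18a54f7847c550e584a7b70ee2a6bc06e9e9583b93067c22ecddc38550b1afc66e5e0611f6657e858a67c98b333d0153dcc1af45c9ce75005cd7a529ef043c771ccd117f634469f505ac4276799d439346ed433d61615f8b10e6bd12169eb8d7d41307573c13b392e0eae3bb528a84ccf7ecc11a3151f5f42c537383a4c5fa147bc2562a8777e037294ac1ff1a2357543b8135e8b0fc58dd17668c1c2afc9d9c818d7e268fb300f732ab8a8f809ee6517a2e6873a875e3b88ea981e9a82d7f10ace3eb0b412a7b92b4f5823ab9c3da946e6079576608ff95303ece8855a162f5de129701b97ed11ac1e2c6bce157806bf161b99531d1735e1e54c51dc47f4c0f2e856743585a73d5ce02d4a37f03ca9e7442b4f094fe88d6311635f1cca9e08b9afef2a60e2b3a22ae707fa2159e46b1a0654f7f59d10e358d1fac688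
/-- right multiplication by `nn` -/
def TM0 : ℕ := 0x7bc0a9d269bb71bcd271d221b3081d35951163cce6afb93b869519a7d0db1398547d8ac2a0b9e7d4ca5c3a2b495ec89e3345d51e8d45a24f1d0f6a12e20cdaa03b276ce8d4fe7afd902d67538964da3d3259cc65f2e96c599ee095ac65529942a24b246ac4e28c17f48e42ee7c476391b8c45e08ae894421f0c85be9caf37a42610ef83c15aeea80c01fefc64be55af555bc9e0ed5e3ad60aa74b99c8e26fb75b6d96b2dda8d368b419acc65b218cc461b017ebe5dae56cb4592bd58a9279694c7e478d06c2a1da80ca882da9444690fa2d1a533f8e5447153a6c6091311dc3a1a4c8fd2ca451998daa10a9e8928c0927d3c9d4e250804e4d040bc324c11126263925d2a553c035249042238ec8a05a250e86429b84e3841825048140000fa7c169acd8192b1ecf246281d4e873381bcb806351a0ce64319487a4b26184c0472f9745e422c960ae54109440a4d0192890450a10c1002208f8783a1b8d466311703c582b148a04a24118803c1c0d8602e16098441c0c0501c0801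
/-- right multiplication by `nn⁻¹` -/
def TM1 : ℕ := 0x9bd36852c95ce6514691486411f9b46e5f17894b6231e8ac36690ca5c2a7b249f4220d4482c12070b7fbf5f8fb9dd31f2f879499e30f99425dced7644e70eb7540a52f57b39e80e672caa8ae471ccdbcdd6dc65b4e9a1d39aed66abce20d49e389a4efa7c71a0df7033a4acd6e3c19916653618f1d97319c2c5a3b12750061d25854a60c6181356cafdeebd5e52176ba80c5172b85bd05a6b69fad662b459cc1e8b258ac24ecb57c8d5d1a5f2b61cac83aadfcc9553a1a2a967b2150fa47a95348441a45009e3d1e4f077471cd0e6f35214d276369951864519892a7c4b180bc9c2e970b6632b954a85349a90a250251f89267451848c45221ad204321169024d270fd303e1ea093a3c1da2c6c35199c464414da985e2e1692cd02c4a0e85447539d050371c098fa251a120486e110c03e7543078721d4f87124580da8434a20c9c0308d1885c9e150a28026122c9b0221007a64560e4b835120c05a20980a04820fe23039ec0c720b014cc042f80cac21011005201138800052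
/-- right multiplication by `g6 ^ 2` -/
def TM2 : ℕ := 0xa45026b4fa34ca494ca5d1e5f498dc5e713694c5a873987506613a92d3a6708a6ca28b3c98cee84ff7ccfe554a884ae17448e3de58eb8f3be471d9ebc240e496c45cd137449e7d1282cba310f9bbb269098038618d4813620f0190b6608c67c3464cdd78b3598f367c6a44f28fbd572ea8cc2a2b147e3a5950d6ab21b4c05fb71f6c27f419b7036fac9a4fd7d38da6f67a3b5a0ee7131568cb5eb9dcabb70379acc36bb116aac5f2e19cae54b258eb658b0556a85e2e96eaf59ac15aaa502611aa74f228f8a451a7d0ea1399bd208e409b936913326510923ea99166052a013a9444a4d345728a5d04a23420cc69c3a13d08433b11cf6754a920f03c429a47c6b201fd2c6a2ea18e0674791118612c0e4c82c2d0c0be593c8c4b81e280a4fc3524894484b139c8f44a3b934224238988da6c2a10444651688064180b8d0a61a2b178665b1b8285455290ec564e2611450461d07418230a8fc7a131c0d85c1b178701a040b0404c06008843e0e0486406000a0481e07058200a02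
/-- right multiplication by `(g6 ^ 2)⁻¹` -/
def TM3 : ℕ := 0xa64da6748a3ca2894fa352e63249ecb6754e954463730974e2794185d029b099ad2a5f39a2c3a2f21934a67f32893e66f498ebc5ff1977c7e3923a1bc9d70da14f9d2e88a4422d27864edc90592baa113480b6a1efd6c40e01079636da8e76eb4e56fb91341dccf7a3c1ef1a8f3319d0a903b1cd13634558b186932e0cc36bb09f0de6cb85fd025fb05c70468b55f4cd79ae5ecf5643956ce25abf194be6037164e06faed8eaf622b9daba56ad17ac955b5966aa562e152bc58aa16eb05223916a04fa0138a74f28d127c4aa1524a6411a4e68843241289931a614a6146a890e914e998de793f2052e8a351451ea13a924ae71239dce87b4d92886654d2588240361a0dc7f3224c785d3e908c08c2c8c8ce551816cb05f420cc583f1a8ad06533d0a08c27261209e723b0904c623c1107c6b0f1b43a701508cbc1b17868a036188e4ac5a0b864765c148b4a425258449c4d100f41c3a0695044160c0d014381b84c3e070e0188a12028302a21018b81602020400214048001e08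
/-- right multiplication by `ww` -/
def TM4 : ℕ := 0xa251a6949a04aa99249b53a4b4f8e4e22f4b944563b0f86cb6194297d1e134d844a617059bc6275008852a653f7cc4a8b488dbda02f07abba7b4391bade52ea0ba67cfc73c99cd2b9e392773998b8a6b337fb8260d96fb5e432c83b51b71469b764ed16848a3eed674659b2066479e8cb8d3222cc689c45930e62429870681b59f4c17eb0208bf813797cfe7daedf0f75cbcde2ef762d9caea5e3a168e370ac9b8da6c3555ec7692dd9ead5d32958c55830954b35eaa570b5542c55cab4e27918a14c209487c47298faa73a240dea3401b4ea6732a14c89a43a7cc2a530204c65d479c12458342891497289a93aa039938b248269192a9b3d90c94864c9052c541f9f87c834a0f12691448e91a8b2b8e110311b8bcf2842f8b0666c158d4fe29141e8ee45131c44a78121d8982339080dc1e359a442660e188365e2d8b8a4192a860b8172d0d82c562984ca04f0892c9247220387a420a100183b1c8286832180b40e1f1503c4e0509088081d04068040b0a804200d000240c03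
/-- right multiplication by `g6` -/
def TM5 : ℕ := 0x531ec508e39a8146984da54829f241b0a87450918e483510fca21e371d49c4912a907c7e36a00805b52a70f8a74622cd29e3c214608631a3ce243251c0cc81359348e672e9844860352292e684b0189e7a1b954fe36088985e172d0b834911684d1a2a4d2653a1b1c194de3c3ea24641249840ec644a1dc3e8231014b8562615c76790c8b014451396088340e1082c920c0e5208700854080f29a201a2019a10be31258e8a052118f4bc22060506a07059641200158744229018201c02a5521f3289243a5332a4d11993fa5bc59b4c8c4de8efc8cbd98cd077d3e4d1095cb9eae7773adeede9cc35c93b864f23f2aa0425851c74c569d36a350e46f091496631796c16170f89c8235148f3564f126b339d0da7fc8582b26e301c3385eab260b59a4ce22bf6bcf6111b7345a06d28eb8e5f42a0d1570f27db11dacf803518efd702e5872c83b65f1065e3755f356fb629b3e5f2b96ebb654e974fa79c11fcf480b4d8ac968baa050a65ab5caa958b6d56b05b3b190b459aa9c4a8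
/-- right multiplication by `g6⁻¹` -/
def TM6 : ℕ := 0x471d44a984da9d3ea64a9cc7c9e391007e7b4e090947e4007906544b1d0504f27280da5120a28d630459f142a430a34dca3389bcb4663e98c867824195269736118ec64339809a8c34289047f34840f449178b0d41a228442e372d86468941d8714a2d42a4912180d8f1347047a1c720643048ee5d4411c1a8121004aa3313a105457051705c262597cc4360b11026901c179329d0787c28051aa442a3a189e4b2562608ca62b10074643d1081ca004019601608148881c520480818009453e5732a4cee7f4aa2491eb2aa3bdded4886c2e8ce775b41f8cd8f531f32793439dcc66648244c29e392312e82cc1df29a7421b923733a66d40a5cf63b1a78cde5f428bc3e4b0c8a465e4e88fb8e251060ae626e1963fd64d66f3820d4163af272bd84cd62cdf5fc6e69438acf9b0d58e34a8b2d9d4c574f06eaf99cf383c116ad461bb5812180bf9f6da57be1594d6bc0a67115dae15ac472ce15cd37a3f5b6cf8034594b67d3b206ea642a58ab759b6562aa5a429c4c955aa196b0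
/-- parents -/
def TP : ℕ := 0x8f2398b61083201801f27a1e4781dc749cc6f9bc6a1a56919e65994649906358861985609805e1765d1705b162571545414c51945511404a125491224751a461144410e4350c42106415013f8fc3e8f83d0f23c4f03b0ea360d4330c9320c6304be2f0b82d0b22c4b02b8ad2a0a6288a12809d2689825894248912408e220821f07a1e4781d4741c8701b86d1b0691a066190621805e1745c168541404e1304811845110400f03a0e4380d4340c8300b02a0a428090200781d070190601605414048100340c0280902006014040080100000
/-- conjugators -/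
def TK1 : ℕ := 0x102000000000000000000000000402900000800000000000001600000000000000000000000000000000000000000000000005200000200000000000f00700000000000000000000000002100000000000000000000000e00000000000001300000000000000c00000002300000000000000000000000000000000000000000000000000000000002b00000000000000000000000003a00000000000000000000000000000000000000000000000000000000000000000000000000000000000000000000000000000000000000000000000000000000000000000000000000000000000000500001400000000000000001c000000000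
/-- conjugators -/
def TK2 : ℕ := 0x2100000000001600000300001500a00000005200000800600100000000f00400001400000000001300000002000000000000002200000b00000000000000000000000000000000000000001700000001200000000000000000000000000000000000000000000000002c00000000000000000000000000000000002400001f00000005300000004400900000202d00000000000003d00000001000500000700e00000000000000000000000000001100002900c00000000000000000000000001e01c00000000000000003c03500002300000000000000003a00000002b000000000000000000000000000000000000000000000000000000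
/-- conjugators -/
def TK3 : ℕ := 0x6d00000006e0000d50001550000000000000001830000320000000ee01d00018515600000000000000000006a0eb0d20d31840000350e90330000001521820d103400000000000001b00001c0310000001540000000000060000ea0d40000ec06c00000000000000006900000000000015100000000018100000000500000000000000000000001a00000000000006b0000000000000000000000000000000000000000000000000040000191860d60ed00000000000000001e153000000036003000000000000000000000002000000001000
/-- conjugators -/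
def TK4 : ℕ := 0xe10730671d500002f00011d0000a309b0e500000114f11b02b02300006115d0000001191050a71490390001d302511f00014d0b100000000000014b00015f0000000750000000e700009d06502902d0000630a500000010b00001700f07d0470090a100000029300d0000410000000110000000001090b30001010000772970000710b500700010329100000003f0e307b00000000015b1070000b71d129503d00007900000004501500000000003b0000000000000000130000000000001d700b00015910d00000000000000000010f00000000002707f09f000099000000021000043000000003000000005000000000000000000000000000000000000000000000000000000000000000000000000000000000000000000000000000000000000000000000000000000000000000000000000000000000000000000000000000000000000000000000000000000000000000000000000000000000000000000000000000000000000000000000000000000000000000000000000000000000000000000000000000000000000000000000000000000000000000000000000000000000000000000000000000000000000000000000000000000000000000000000000000000000000000000000000000000000000000000000000000000000000000000000000000000000000000000000000000000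
/-- conjugators -/
def TK5 : ℕ := 0x6006f00000000000000005d00000000004300000001801e00000000000000007c00000000000000008000000000000000000000000008e00000000000000000000000000000000000000000000005700000000000000000000000000000000000000000000005100000000000000000000007300000000000003c00000000000000000000000000000001100000000000000002c00000000001700000000400000000a00000000000000001300002500000000000000000000000000000002900000000000000100000006300002400000c00002000003e000000000000000000000000000000000000000000000000000000000000000000000000000000000000000000000000000000000000000000000000000000000000000000000000000000000000000000000000000000000000000000000000000000000000000000000000000000000000000000000000000000000000000000000000000000000000000000000000000000000000000000000000000000000000000000000000000000000000000000000000000000000000000000000000000000000000000000000000000000000000000000000000000000000000000000000000000000000000000000000000000000000000000000000000000000000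

/-- the code of the `i`-th element -/
def C (i : ℕ) : ℕ := tb TC 24 i

/-- bounded quantifier -/
def allB (f : ℕ → Bool) : ℕ → Bool
  | 0 => true
  | n + 1 => allB f n && f n

theorem allB_spec {f : ℕ → Bool} {n : ℕ} (h : allB f n = true) {i : ℕ} (hi : i < n) : f i = true := by
  induction n with
  | zero => omega
  | succ n ih =>
    rw [allB, Bool.and_eq_true] at h
    rcases Nat.lt_succ_iff_lt_or_eq.1 hi with h1 | rfl
    · exact ih h.1 h1
    · exact h.2

theorem enc_one : enc 1 = C 0 := by decide +kernel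
theorem enc_nn : enc nn = 14899409 := by decide +kernel
theorem enc_nni : enc nn⁻¹ = 16135238 := by decide +kernel
theorem enc_g62 : enc (g6 ^ 2) = 16096528 := by decide +kernel
theorem enc_g62i : enc (g6 ^ 2)⁻¹ = 15673952 := by decide +kernel
theorem enc_ww : enc ww = 414967 := by decide +kernel
theorem enc_g6 : enc g6 = 15783320 := by decide +kernel
theorem enc_g6i : enc g6⁻¹ = 15360744 := by decide +kernel
theorem enc_za : enc za = 7810817 := by decide +kernel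
theorem enc_y8 : enc y8 = 3137890 := by decide +kernel
theorem enc_y82 : enc (y8 ^ 2) = 8435189 := by decide +kernel
theorem enc_g63 : enc (g6 ^ 3) = 15022448 := by decide +kernel
theorem ww_inv : ww⁻¹ = ww := by decide +kernel

/-- check of the multiplication tables -/
def ckA (i : ℕ) : Bool :=
  decide (tb TM0 9 i < 168) && (mulC (C i) 14899409 == C (tb TM0 9 i)) && (decide (tb TM1 9 i < 168) &&
  (mulC (C i) 16135238 == C (tb TM1 9 i))) && (decide (tb TM2 9 i < 168) && (mulC (C i) 16096528 == C (tb TM2 9 i))) &&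
  (decide (tb TM3 9 i < 168) && (mulC (C i) 15673952 == C (tb TM3 9 i))) &&
  (decide (tb TM4 9 i < 168) && (mulC (C i) 414967 == C (tb TM4 9 i)))

/-- check of the multiplication tables -/
def ckB (i : ℕ) : Bool :=
  decide (tb TM0 9 i < 336) && (mulC (C i) 14899409 == C (tb TM0 9 i)) && (decide (tb TM1 9 i < 336) &&
  (mulC (C i) 16135238 == C (tb TM1 9 i))) && (decide (tb TM5 9 i < 336) && (mulC (C i) 15783320 == C (tb TM5 9 i))) &&
  (decide (tb TM6 9 i < 336) && (mulC (C i) 15360744 == C (tb TM6 9 i))) &&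
  (decide (tb TM4 9 i < 336) && (mulC (C i) 414967 == C (tb TM4 9 i)))

theorem ckA_all : allB ckA 168 = true := by decide +kernel
theorem ckB_all : allB ckB 336 = true := by decide +kernel

/-- the codes of the generators -/
def gc (j : ℕ) : ℕ := if j = 0 then 14899409 else if j = 1 then 16096528 else 414967

/-- check of the parents -/
def ckP (i : ℕ) : Bool := i == 0 || (decide (tb TP 10 i / 4 < i) && (mulC (C (tb TP 10 i / 4)) (gc (tb TP 10 i % 4)) == C i))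

theorem ckP_all : allB ckP 168 = true := by decide +kernel

/-- check of the second coset -/
def ckQ (i : ℕ) : Bool := mulC 15783320 (C i) == C (168 + i)

theorem ckQ_all : allB ckQ 168 = true := by decide +kernel

theorem mem168 {g : Perm (Fin 8)} (hg : g ∈ P168) : ∃ i < 168, enc g = C i := by
  unfold P168 at hg
  induction hg using Subgroup.closure_induction_right with
  | one => exact ⟨0, by norm_num, enc_one⟩
  | mul_right x _ y hy ih =>
    obtain ⟨i, hi, h⟩ := ih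
    have hc := allB_spec ckA_all hi
    simp only [ckA, Bool.and_eq_true, decide_eq_true_eq, beq_iff_eq] at hc
    obtain ⟨⟨⟨⟨⟨a0, b0⟩, a1, b1⟩, a2, b2⟩, a3, b3⟩, a4, b4⟩ := hc
    rcases hy with rfl | rfl | rfl
    · exact ⟨_, a0, by rw [enc_mul, h, enc_nn, b0]⟩
    · exact ⟨_, a2, by rw [enc_mul, h, enc_g62, b2]⟩
    · exact ⟨_, a4, by rw [enc_mul, h, enc_ww, b4]⟩
  | mul_inv_cancel x _ y hy ih =>
    obtain ⟨i, hi, h⟩ := ih
    have hc := allB_spec ckA_all hi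
    simp only [ckA, Bool.and_eq_true, decide_eq_true_eq, beq_iff_eq] at hc
    obtain ⟨⟨⟨⟨⟨a0, b0⟩, a1, b1⟩, a2, b2⟩, a3, b3⟩, a4, b4⟩ := hc
    rcases hy with rfl | rfl | rfl
    · exact ⟨_, a1, by rw [enc_mul, h, enc_nni, b1]⟩
    · exact ⟨_, a3, by rw [enc_mul, h, enc_g62i, b3]⟩
    · exact ⟨_, a4, by rw [ww_inv, enc_mul, h, enc_ww, b4]⟩

theorem mem336 {g : Perm (Fin 8)} (hg : g ∈ P336) : ∃ i < 336, enc g = C i := by
  unfold P336 at hg
  induction hg using Subgroup.closure_induction_right with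
  | one => exact ⟨0, by norm_num, enc_one⟩
  | mul_right x _ y hy ih =>
    obtain ⟨i, hi, h⟩ := ih
    have hc := allB_spec ckB_all hi
    simp only [ckB, Bool.and_eq_true, decide_eq_true_eq, beq_iff_eq] at hc
    obtain ⟨⟨⟨⟨⟨a0, b0⟩, a1, b1⟩, a2, b2⟩, a3, b3⟩, a4, b4⟩ := hc
    rcases hy with rfl | rfl | rfl
    · exact ⟨_, a0, by rw [enc_mul, h, enc_nn, b0]⟩
    · exact ⟨_, a2, by rw [enc_mul, h, enc_g6, b2]⟩
    · exact ⟨_, a4, by rw [enc_mul, h, enc_ww, b4]⟩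
  | mul_inv_cancel x _ y hy ih =>
    obtain ⟨i, hi, h⟩ := ih
    have hc := allB_spec ckB_all hi
    simp only [ckB, Bool.and_eq_true, decide_eq_true_eq, beq_iff_eq] at hc
    obtain ⟨⟨⟨⟨⟨a0, b0⟩, a1, b1⟩, a2, b2⟩, a3, b3⟩, a4, b4⟩ := hc
    rcases hy with rfl | rfl | rfl
    · exact ⟨_, a1, by rw [enc_mul, h, enc_nni, b1]⟩
    · exact ⟨_, a3, by rw [enc_mul, h, enc_g6i, b3]⟩
    · exact ⟨_, a4, by rw [ww_inv, enc_mul, h, enc_ww, b4]⟩

theorem of168 : ∀ i < 168, ∃ g ∈ P168, enc g = C i := by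
  intro i
  induction i using Nat.strong_induction_on with
  | _ i ih =>
    intro hi
    have hc := allB_spec ckP_all hi
    simp only [ckP, Bool.or_eq_true, Bool.and_eq_true, decide_eq_true_eq, beq_iff_eq] at hc
    rcases hc with rfl | ⟨h1, h2⟩
    · exact ⟨1, one_mem _, enc_one⟩
    · obtain ⟨g, hg, hg'⟩ := ih _ h1 (h1.trans hi)
      have hgc : ∀ j, ∃ s ∈ P168, enc s = gc j := by
        intro j
        unfold gc
        split_ifs
        · exact ⟨nn, Subgroup.subset_closure (by simp), enc_nn⟩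
        · exact ⟨g6 ^ 2, Subgroup.subset_closure (by simp), enc_g62⟩
        · exact ⟨ww, Subgroup.subset_closure (by simp), enc_ww⟩
      obtain ⟨s, hs, hs'⟩ := hgc (tb TP 10 i % 4)
      exact ⟨g * s, mul_mem hg hs, by rw [enc_mul, hg', hs', h2]⟩

theorem P168_le : P168 ≤ P336 := by
  unfold P168
  rw [Subgroup.closure_le]
  have h1 : g6 ∈ P336 := Subgroup.subset_closure (by simp)
  rintro _ (rfl | rfl | rfl)
  · exact Subgroup.subset_closure (by simp)
  · exact pow_mem h1 2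
  · exact Subgroup.subset_closure (by simp)

theorem of336 : ∀ i < 336, ∃ g ∈ P336, enc g = C i := by
  intro i hi
  rcases lt_or_ge i 168 with h | h
  · obtain ⟨g, hg, h1⟩ := of168 i h
    exact ⟨g, P168_le hg, h1⟩
  · obtain ⟨g, hg, h1⟩ := of168 (i - 168) (by omega)
    have hc := allB_spec ckQ_all (show i - 168 < 168 by omega)
    simp only [ckQ, beq_iff_eq] at hc
    have h2 : g6 ∈ P336 := Subgroup.subset_closure (by simp)
    refine ⟨g6 * g, mul_mem h2 (P168_le hg), ?_⟩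
    rw [enc_mul, h1, enc_g6, hc, Nat.add_sub_cancel' h]

theorem mem_of_lt {g : Perm (Fin 8)} {i : ℕ} (hi : i < 168) (h : enc g = C i) : g ∈ P168 := by
  obtain ⟨g', h1, h2⟩ := of168 i hi
  rw [enc_inj (h.trans h2.symm)]
  exact h1

/-- the power on codes -/
def powC (a : ℕ) : ℕ → ℕ
  | 0 => C 0
  | n + 1 => mulC (powC a n) a

theorem enc_pow (g : Perm (Fin 8)) (n : ℕ) : enc (g ^ n) = powC (enc g) n := by
  induction n with
  | zero => rw [pow_zero, enc_one]; rfl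
  | succ n ih => rw [pow_succ, enc_mul, ih]; rfl

theorem conj_of {g h t : Perm (Fin 8)} (H : mulC (enc g) (enc h) = mulC (enc h) (enc t)) : h⁻¹ * g * h = t := by
  rw [← enc_mul, ← enc_mul] at H
  rw [mul_assoc, enc_inj H, inv_mul_cancel_left]

/-- checks -/
def ck1 (i : ℕ) : Bool := !(powC (C i) 2 == C 0) || (C i == C 0) ||
  (decide (tb TK1 12 i < 168) && (mulC (C i) (C (tb TK1 12 i)) == mulC (C (tb TK1 12 i)) 7810817))
/-- checks -/
def ck2 (i : ℕ) : Bool := !(powC (C i) 4 == C 0) || (powC (C i) 2 == C 0) ||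
  (decide (tb TK2 12 i < 168) && (mulC (C i) (C (tb TK2 12 i)) == mulC (C (tb TK2 12 i)) 8435189))
/-- checks -/
def ck3 (i : ℕ) : Bool := !(powC (C i) 7 == C 0) || (C i == C 0) ||
  (decide (tb TK3 12 i / 8 < 168) && (decide (tb TK3 12 i % 8 % 7 ≠ 0) &&
    (mulC (C i) (C (tb TK3 12 i / 8)) == mulC (C (tb TK3 12 i / 8)) (powC 14899409 (tb TK3 12 i % 8)))))
/-- checks -/
def ck4 (i : ℕ) : Bool := !(powC (C i) 8 == C 0) || (powC (C i) 4 == C 0) ||
  (decide (tb TK4 12 i / 8 < 336) && (decide (tb TK4 12 i % 8 % 2 ≠ 0) &&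
    (mulC (C i) (C (tb TK4 12 i / 8)) == mulC (C (tb TK4 12 i / 8)) (powC 3137890 (tb TK4 12 i % 8)))))
/-- checks -/
def ck5 (i : ℕ) : Bool := decide (i < 168) || !(powC (C i) 2 == C 0) ||
  (decide (tb TK5 12 i < 336) && (mulC (C i) (C (tb TK5 12 i)) == mulC (C (tb TK5 12 i)) 15022448))

theorem ck1_all : allB ck1 168 = true := by decide +kernel
theorem ck2_all : allB ck2 336 = true := by decide +kernel
theorem ck3_all : allB ck3 336 = true := by decide +kernel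
theorem ck4_all : allB ck4 336 = true := by decide +kernel
theorem ck5_all : allB ck5 336 = true := by decide +kernel

theorem conj : Cfsg.Agent.H942.L7.Conj := by
  refine ⟨?_, ?_, ?_, ?_, ?_⟩
  · intro g hg h2 h1
    obtain ⟨i, hi, h⟩ := mem168 hg
    have hc := allB_spec ck1_all hi
    simp only [ck1, Bool.or_eq_true, Bool.and_eq_true, decide_eq_true_eq, beq_iff_eq, Bool.not_eq_true',
      beq_eq_false_iff_ne] at hc
    rw [← h, ← enc_pow, ← enc_one] at hc
    rcases hc with (hc | hc) | ⟨a, b⟩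
    · exact absurd (congrArg enc h2) hc
    · exact absurd (enc_inj hc) h1
    · obtain ⟨k, hk, hk'⟩ := of168 _ a
      refine ⟨k, hk, conj_of ?_⟩
      rw [hk', enc_za, b]
  · intro g hg h4 h2
    obtain ⟨i, hi, h⟩ := mem336 hg
    have hc := allB_spec ck2_all hi
    simp only [ck2, Bool.or_eq_true, Bool.and_eq_true, decide_eq_true_eq, beq_iff_eq, Bool.not_eq_true',
      beq_eq_false_iff_ne] at hc
    rw [← h, ← enc_pow, ← enc_pow, ← enc_one] at hc
    rcases hc with (hc | hc) | ⟨a, b⟩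
    · exact absurd (congrArg enc h4) hc
    · exact absurd (enc_inj hc) h2
    · obtain ⟨k, hk, hk'⟩ := of168 _ a
      refine ⟨k, hk, conj_of ?_⟩
      rw [hk', enc_y82, b]
  · intro g hg h7 h1
    obtain ⟨i, hi, h⟩ := mem336 hg
    have hc := allB_spec ck3_all hi
    simp only [ck3, Bool.or_eq_true, Bool.and_eq_true, decide_eq_true_eq, beq_iff_eq, Bool.not_eq_true',
      beq_eq_false_iff_ne] at hc
    rw [← h, ← enc_pow, ← enc_one] at hc
    rcases hc with (hc | hc) | ⟨a, c, b⟩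
    · exact absurd (congrArg enc h7) hc
    · exact absurd (enc_inj hc) h1
    · obtain ⟨k, hk, hk'⟩ := of168 _ a
      refine ⟨k, hk, _, fun h0 => c (Nat.mod_eq_zero_of_dvd h0), conj_of ?_⟩
      rw [hk', enc_pow, enc_nn, b]
  · intro g hg h8 h4
    obtain ⟨i, hi, h⟩ := mem336 hg
    have hc := allB_spec ck4_all hi
    simp only [ck4, Bool.or_eq_true, Bool.and_eq_true, decide_eq_true_eq, beq_iff_eq, Bool.not_eq_true',
      beq_eq_false_iff_ne] at hc
    rw [← h, ← enc_pow, ← enc_pow, ← enc_one] at hc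
    rcases hc with (hc | hc) | ⟨a, c, b⟩
    · exact absurd (congrArg enc h8) hc
    · exact absurd (enc_inj hc) h4
    · obtain ⟨k, hk, hk'⟩ := of336 _ a
      refine ⟨k, hk, _, fun h0 => c (Nat.mod_eq_zero_of_dvd h0), conj_of ?_⟩
      rw [hk', enc_pow, enc_y8, b]
  · intro g hg hn h2
    obtain ⟨i, hi, h⟩ := mem336 hg
    have hc := allB_spec ck5_all hi
    simp only [ck5, Bool.or_eq_true, Bool.and_eq_true, decide_eq_true_eq, beq_iff_eq, Bool.not_eq_true',
      beq_eq_false_iff_ne] at hc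
    rw [← h, ← enc_pow, ← enc_one] at hc
    rcases hc with (hc | hc) | ⟨a, b⟩
    · exact absurd (mem_of_lt hc h) hn
    · exact absurd (congrArg enc h2) hc
    · obtain ⟨k, hk, hk'⟩ := of336 _ a
      refine ⟨k, hk, conj_of ?_⟩
      rw [hk', enc_g63, b]

end Cfsg.Agent.H358.L7
end

-- part: H942/L7/Dims
section
/-!
# S5920: dimensions of fixed spaces of subgroups of `PGL₂(7)` on the adjoint module of `E₈(3)`
-/

set_option autoImplicit false
set_option linter.unusedSectionVars false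
set_option maxRecDepth 100000

namespace Cfsg.Agent.H942.L7

open Equiv Cfsg Cfsg.Lie Cfsg.Agent.H657 IsLocalRing Module
open Cfsg.Agent.H942.E8Alc Cfsg.Agent.H942.Common Cfsg.Agent.H942.Core
open Cfsg.Agent.H358.L7 (enc mulC enc_inj enc_mul dg dg_enc)

/-- the representation on the adjoint module -/
noncomputable def rep {Q : Type*} [Group Q] (F : Q →* ↥(chevE8.group (ZMod 3))) :
    Representation (ZMod 3) Q (chevE8.Idx → ZMod 3) :=
  ((Matrix.toLinAlgEquiv' : Matrix chevE8.Idx chevE8.Idx (ZMod 3) ≃ₐ[ZMod 3]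
    ((chevE8.Idx → ZMod 3) →ₗ[ZMod 3] (chevE8.Idx → ZMod 3))) :
      Matrix chevE8.Idx chevE8.Idx (ZMod 3) →* ((chevE8.Idx → ZMod 3) →ₗ[ZMod 3] (chevE8.Idx → ZMod 3))).comp (mat F)

theorem rep_apply {Q : Type*} [Group Q] (F : Q →* ↥(chevE8.group (ZMod 3))) (g : Q) (v : chevE8.Idx → ZMod 3) :
    rep F g v = (((F g : ↥(chevE8.group (ZMod 3))) : GL chevE8.Idx (ZMod 3)) :
      Matrix chevE8.Idx chevE8.Idx (ZMod 3)).mulVec v := rfl

theorem rep_trace {Q : Type*} [Group Q] (F : Q →* ↥(chevE8.group (ZMod 3))) (g : Q) :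
    LinearMap.trace (ZMod 3) _ (rep F g) = theta F g := by
  show LinearMap.trace (ZMod 3) _ (Matrix.toLin' (mat F g)) = _
  rw [Matrix.trace_toLin'_eq]
  rfl

section dims

variable {P : Subgroup (Perm (Fin 8))} (F : ↥P →* ↥(chevE8.group (ZMod 3)))

/-- the dimension of the fixed space of a subgroup given by a list of permutations (with codes `KC`) -/
theorem dimK (hDim : Dim) {M : Ideal AlgInt} {V : ValuationSubring ℂ} (hM : IsPModular 3 M) (hV : Above M V)
    [CharP (ResidueField V) 3] (K : List (Perm (Fin 8))) (hK : ∀ x ∈ K, x ∈ P) (KC : List ℕ) (hKC : K.map enc = KC)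
    (hnd : KC.Nodup) (h1 : enc 1 ∈ KC)
    (hcl : ∀ a ∈ KC, ∀ b ∈ KC, mulC a b ∈ KC) (hco : KC.length.Coprime 3) (Y : Set (Perm (Fin 8)))
    (hY : ∀ g, g ∈ Y ↔ g ∈ K) (κ : ℕ → ℕ) (b : ℕ → ℤ)
    (hb : ∀ g : ↥P, (g : Perm (Fin 8)) ∈ K → bc 3 (adj V F) g = b (κ (enc g))) :
    ((KC.map κ).map b).sum = KC.length * (finrank (ZMod 3) ↥(fixS (rep F) Y) : ℤ) := by
  let L : List ↥P := K.attachWith (· ∈ P) hK
  have hmap : L.map Subtype.val = K := List.attachWith_map_subtype_val hK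
  have hlenK : K.length = KC.length := by rw [← hKC, List.length_map]
  have hlen : L.length = KC.length := by rw [← hlenK]; exact List.length_attachWith
  have hmem : ∀ a : ↥P, a ∈ L ↔ (a : Perm (Fin 8)) ∈ K := by
    intro a
    constructor
    · intro h
      rw [← hmap]
      exact List.mem_map_of_mem h
    · intro h
      rw [← hmap] at h
      obtain ⟨a', ha', h2⟩ := List.mem_map.1 h
      rwa [← Subtype.ext h2]
  have hcode : ∀ g : Perm (Fin 8), g ∈ K ↔ enc g ∈ KC := by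
    intro g
    rw [← hKC]
    constructor
    · intro h
      exact List.mem_map_of_mem h
    · intro h
      obtain ⟨a', ha', h2⟩ := List.mem_map.1 h
      rwa [← enc_inj h2]
  have hfix : fixS (rep F) Y = fixL F L := by
    ext v
    constructor
    · intro h g hg
      exact h g ((hY _).2 ((hmem g).1 hg))
    · intro h g hg
      exact h g ((hmem g).2 ((hY _).1 hg))
  have key := hDim M V hM hV ↥P F L
    (List.Nodup.of_map Subtype.val (by rw [hmap]; exact List.Nodup.of_map enc (by rw [hKC]; exact hnd)))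
    ((hmem 1).2 ((hcode 1).2 h1))
    (fun a ha a' ha' => (hmem _).2 ((hcode _).2 (by
      have e : enc ((a * a' : ↥P) : Perm (Fin 8)) = mulC (enc a) (enc a') := enc_mul _ _
      rw [e]
      exact hcl _ ((hcode _).1 ((hmem a).1 ha)) _ ((hcode _).1 ((hmem a').1 ha'))))) (by rw [hlen]; exact hco)
  have h3 : (L.map fun g : ↥P => bc 3 (adj V F) g) = L.map fun g : ↥P => ((b (κ (enc g)) : ℤ) : ℂ) :=
    List.map_congr_left fun g hg => hb g ((hmem g).1 hg)
  have h4 : (L.map fun g : ↥P => ((b (κ (enc g)) : ℤ) : ℂ)) = (((KC.map κ).map b).map fun z : ℤ => (z : ℂ)) := by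
    rw [← hKC, ← hmap, List.map_map, List.map_map, List.map_map, List.map_map]
    rfl
  rw [h3, h4, hlen, ← hfix] at key
  have h5 : ((((KC.map κ).map b).map fun z : ℤ => (z : ℂ))).sum = ((((KC.map κ).map b).sum : ℤ) : ℂ) := by
    generalize (KC.map κ).map b = l
    induction l with
    | nil => simp
    | cons a l ih => rw [List.map_cons, List.sum_cons, List.sum_cons, ih]; push_cast; rfl
  rw [h5] at key
  exact_mod_cast key

end dims

/-! ### lists of the elements of the subgroups -/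

def K4a : List (Perm (Fin 8)) := [1, za, za', za * za']
def K4b : List (Perm (Fin 8)) := [1, zb, zb', zb * zb']
def K8a : List (Perm (Fin 8)) := K4a ++ K4a.map fun z => z * ta
def K8b : List (Perm (Fin 8)) := K4b ++ K4b.map fun z => z * tb
def KU : List (Perm (Fin 8)) := (List.range 7).map fun i => nn ^ i
def K14 : List (Perm (Fin 8)) := KU ++ KU.map fun z => z * g6 ^ 3
def Kc : List (Perm (Fin 8)) := (List.range 4).map fun i => (y8 ^ 2) ^ i
def Ky : List (Perm (Fin 8)) := (List.range 8).map fun i => y8 ^ i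
def Yc : Set (Perm (Fin 8)) := {g | ∃ i : ℕ, g = (y8 ^ 2) ^ i}
def Yy : Set (Perm (Fin 8)) := {g | ∃ i : ℕ, g = y8 ^ i}

/-- the kind of a permutation in terms of the code -/
def kd (a : ℕ) : ℕ :=
  bif Nat.beq a 16434824 then 0 else
    bif Nat.beq (mulC a a) 16434824 then (bif Nat.beq (dg a 7) 7 || Nat.beq (dg a 0) 0 || Nat.beq (dg a 1) 1 ||
      Nat.beq (dg a 2) 2 || Nat.beq (dg a 3) 3 || Nat.beq (dg a 4) 4 || Nat.beq (dg a 5) 5 || Nat.beq (dg a 6) 6
      then 3 else 2) else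
    bif Nat.beq (mulC (mulC a a) (mulC a a)) 16434824 then 4 else
    bif Nat.beq (mulC a (mulC (mulC a a) (mulC (mulC a a) (mulC a a)))) 16434824 then 7 else
    bif Nat.beq (mulC (mulC (mulC a a) (mulC a a)) (mulC (mulC a a) (mulC a a))) 16434824 then 8 else 1

theorem enc1 : enc 1 = 16434824 := by decide +kernel

theorem mem_U7_iff (g : Perm (Fin 8)) : g ∈ U7 ↔ g ∈ KU := by
  unfold KU
  rw [List.mem_map]
  constructor
  · rintro ⟨i, rfl⟩
    refine ⟨i % 7, List.mem_range.2 (Nat.mod_lt _ (by norm_num)), ?_⟩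
    exact (pow_eq_pow_mod i (show nn ^ 7 = 1 by decide +kernel)).symm
  · rintro ⟨i, -, rfl⟩
    exact ⟨i, rfl⟩

theorem mem_Yc_iff (g : Perm (Fin 8)) : g ∈ Yc ↔ g ∈ Kc := by
  unfold Kc
  rw [List.mem_map]
  constructor
  · rintro ⟨i, rfl⟩
    refine ⟨i % 4, List.mem_range.2 (Nat.mod_lt _ (by norm_num)), ?_⟩
    exact (pow_eq_pow_mod i (show (y8 ^ 2) ^ 4 = 1 by decide +kernel)).symm
  · rintro ⟨i, -, rfl⟩
    exact ⟨i, rfl⟩

theorem mem_Yy_iff (g : Perm (Fin 8)) : g ∈ Yy ↔ g ∈ Ky := by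
  unfold Ky
  rw [List.mem_map]
  constructor
  · rintro ⟨i, rfl⟩
    refine ⟨i % 8, List.mem_range.2 (Nat.mod_lt _ (by norm_num)), ?_⟩
    exact (pow_eq_pow_mod i (show y8 ^ 8 = 1 by decide +kernel)).symm
  · rintro ⟨i, -, rfl⟩
    exact ⟨i, rfl⟩

theorem mem_V4a_iff (g : Perm (Fin 8)) : g ∈ V4a ↔ g ∈ K4a := by
  unfold V4a K4a
  simp

theorem mem_V4b_iff (g : Perm (Fin 8)) : g ∈ V4b ↔ g ∈ K4b := by
  unfold V4b K4b
  simp

theorem mem_D8a_iff (g : Perm (Fin 8)) : g ∈ D8a ↔ g ∈ K8a := by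
  unfold D8a K8a
  rw [Set.mem_union, List.mem_append, mem_V4a_iff, List.mem_map]
  refine or_congr Iff.rfl ?_
  constructor
  · rintro ⟨z, hz, rfl⟩
    exact ⟨z, (mem_V4a_iff z).1 hz, rfl⟩
  · rintro ⟨z, hz, rfl⟩
    exact ⟨z, (mem_V4a_iff z).2 hz, rfl⟩

theorem mem_D8b_iff (g : Perm (Fin 8)) : g ∈ D8b ↔ g ∈ K8b := by
  unfold D8b K8b
  rw [Set.mem_union, List.mem_append, mem_V4b_iff, List.mem_map]
  refine or_congr Iff.rfl ?_
  constructor
  · rintro ⟨z, hz, rfl⟩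
    exact ⟨z, (mem_V4b_iff z).1 hz, rfl⟩
  · rintro ⟨z, hz, rfl⟩
    exact ⟨z, (mem_V4b_iff z).2 hz, rfl⟩

theorem mem_D14_iff (g : Perm (Fin 8)) : g ∈ D14 ↔ g ∈ K14 := by
  unfold D14 K14
  rw [List.mem_append, List.mem_map]
  constructor
  · rintro ⟨i, j, rfl⟩
    rw [pow_mul, pow_eq_pow_mod j (show (g6 ^ 3) ^ 2 = 1 by decide +kernel)]
    have h2 : j % 2 = 0 ∨ j % 2 = 1 := by omega
    rcases h2 with h | h
    · left
      rw [h, pow_zero, mul_one, ← mem_U7_iff]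
      exact ⟨i, rfl⟩
    · right
      rw [h, pow_one]
      exact ⟨nn ^ i, (mem_U7_iff _).1 ⟨i, rfl⟩, rfl⟩
  · rintro (h | ⟨z, hz, rfl⟩)
    · obtain ⟨i, rfl⟩ := (mem_U7_iff g).2 h
      exact ⟨i, 0, by simp⟩
    · obtain ⟨i, rfl⟩ := (mem_U7_iff z).2 hz
      exact ⟨i, 1, by simp⟩

end Cfsg.Agent.H942.L7
end

-- part: H89/L7/Grp
section
/-!
# S5920, task GRP: finite groups with generalized Fitting subgroup `PSL₂(7)`
-/

set_option autoImplicit false

namespace Cfsg.Agent.H89.L7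

open Equiv Cfsg.Agent.H942.L7

universe u

instance fact_seven : Fact (Nat.Prime 7) := ⟨by norm_num⟩

/-! ### orders -/

section orders

variable {F : Type*} [Field F] [Fintype F]

theorem card_psl (hF : Fintype.card F = 7) :
    Nat.card (Matrix.ProjectiveSpecialLinearGroup (Fin 2) F) = 168 := by
  have h := Cfsg.Agent.SmallSimple.PSLTwoPart.card_psl_two_odd (F := F) (by rw [hF]; decide)
  rw [hF] at h
  omega

theorem card_aut (hF : Fintype.card F = 7) :
    Nat.card (MulAut (Matrix.ProjectiveSpecialLinearGroup (Fin 2) F)) = 336 := by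
  rw [Cfsg.Agent.S0813.result 7 1 le_rfl (by rw [hF, pow_one]) 2 le_rfl (fun _ => by norm_num),
    Cfsg.Agent.S0265.result, Cfsg.Agent.ClassicalGeometry.PSL2Basic.card_SL2, hF]
  norm_num

theorem psl_simple (hF : Fintype.card F = 7) :
    IsSimpleGroup (Matrix.ProjectiveSpecialLinearGroup (Fin 2) F) :=
  Matrix.ProjectiveSpecialLinearGroup.rank_two_simple (by rw [Nat.card_eq_fintype_card]; omega)

theorem psl_center (hF : Fintype.card F = 7) :
    Subgroup.center (Matrix.ProjectiveSpecialLinearGroup (Fin 2) F) = ⊥ := by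
  have hPs := psl_simple hF
  have h1 : ¬ ∀ a b : Matrix.ProjectiveSpecialLinearGroup (Fin 2) F, a * b = b * a := fun h =>
    Cfsg.Agent.ClassicalGeometry.PSL2Solvable.not_isSolvable_psl F (by omega)
      (Group.isSolvable_of_comm h)
  push Not at h1
  obtain ⟨a, b, hab⟩ := h1
  rcases (inferInstance : (Subgroup.center (Matrix.ProjectiveSpecialLinearGroup (Fin 2) F)).Normal).eq_bot_or_eq_top with h | h
  · exact h
  · exact absurd (Subgroup.mem_center_iff.1 (by rw [h]; exact Subgroup.mem_top b) a) hab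

end orders

/-- A finite group with a normal subgroup `N ≅ PSL₂(7)` with trivial centralizer. -/
theorem two_cases {F : Type*} [Field F] [Fintype F] (hF : Fintype.card F = 7) {K : Type*} [Group K]
    [Finite K] (N : Subgroup K) (hN : N.Normal)
    (e : ↥N ≃* Matrix.ProjectiveSpecialLinearGroup (Fin 2) F)
    (hc : Subgroup.centralizer (N : Set K) = ⊥) :
    (N = ⊤ ∧ Nonempty (K ≃* Matrix.ProjectiveSpecialLinearGroup (Fin 2) F)) ∨
      Nonempty (K ≃* MulAut (Matrix.ProjectiveSpecialLinearGroup (Fin 2) F)) := by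
  have hinj : Function.Injective (MulAut.conjNormal : K →* MulAut N) := by
    rw [injective_iff_map_eq_one]
    intro g hg
    have h2 : g ∈ Subgroup.centralizer (N : Set K) := by
      rw [Subgroup.mem_centralizer_iff]
      intro t ht
      have h3 : ((MulAut.conjNormal g (⟨t, ht⟩ : N) : N) : K) = t := by rw [hg]; rfl
      rw [MulAut.conjNormal_apply] at h3
      have h4 : g * t * g⁻¹ = t := h3
      rw [mul_inv_eq_iff_eq_mul] at h4
      exact h4.symm
    rwa [hc, Subgroup.mem_bot] at h2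
  have hA : Nat.card (MulAut N) = 336 := by
    rw [Nat.card_congr (MulAut.congr e).toEquiv, card_aut hF]
  have hNc : Nat.card N = 168 := by rw [Nat.card_congr e.toEquiv, card_psl hF]
  have h1 : Nat.card K ∣ 336 := by
    rw [← hA, ← Nat.card_congr (MonoidHom.ofInjective hinj).symm.toEquiv]
    exact Subgroup.card_subgroup_dvd_card _
  have h2 : 168 ∣ Nat.card K := by
    rw [← hNc]
    exact Subgroup.card_subgroup_dvd_card N
  have hfin : Finite (MulAut N) := inferInstance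
  have h3 : Nat.card K = 168 ∨ Nat.card K = 336 := by
    obtain ⟨k, hk⟩ := h2
    rw [hk] at h1 ⊢
    have h4 : k ≤ 2 := by
      have := Nat.le_of_dvd (by norm_num) h1
      omega
    have h5 : k ≠ 0 := by
      rintro rfl
      simp at h1
    omega
  rcases h3 with h3 | h3
  · have hN1 : N = ⊤ := Subgroup.eq_top_of_card_eq N (by rw [hNc, h3])
    exact Or.inl ⟨hN1, ⟨(Subgroup.topEquiv.symm.trans (MulEquiv.subgroupCongr hN1.symm)).trans e⟩⟩
  · right
    have hbij : Function.Bijective (MulAut.conjNormal : K →* MulAut N) := by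
      rw [Nat.bijective_iff_injective_and_card]
      exact ⟨hinj, by rw [h3, hA]⟩
    exact ⟨(MulEquiv.ofBijective _ hbij).trans (MulAut.congr e)⟩

/-! ### `P168` and `P336` -/

theorem nn_mem : nn ∈ P168 := Subgroup.subset_closure (by simp)
theorem hh_mem : g6 ^ 2 ∈ P168 := Subgroup.subset_closure (by simp)
theorem ww_mem : ww ∈ P168 := Subgroup.subset_closure (by simp)

theorem P168_le : P168 ≤ P336 := by
  unfold P168
  rw [Subgroup.closure_le]
  have h1 : nn ∈ P336 := Subgroup.subset_closure (by simp)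
  have h2 : g6 ∈ P336 := Subgroup.subset_closure (by simp)
  have h3 : ww ∈ P336 := Subgroup.subset_closure (by simp)
  rintro x (rfl | rfl | rfl)
  · exact h1
  · exact pow_mem h2 2
  · exact h3

theorem sign_of_mem {x : Perm (Fin 8)} (hx : x ∈ P168) : Equiv.Perm.sign x = 1 := by
  have h : P168 ≤ (Equiv.Perm.sign : Perm (Fin 8) →* ℤˣ).ker := by
    unfold P168
    rw [Subgroup.closure_le]
    rintro x (rfl | rfl | rfl)
    · show Equiv.Perm.sign nn = 1
      decide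
    · show Equiv.Perm.sign (g6 ^ 2) = 1
      rw [map_pow, Int.units_sq]
    · show Equiv.Perm.sign ww = 1
      decide
  exact h hx

theorem g6_not_mem : g6 ∉ P168 := by
  intro h
  have h1 := sign_of_mem h
  revert h1
  decide

theorem centralizer_triv {σ : Perm (Fin 8)} (h1 : σ * nn = nn * σ) (h2 : σ * ww = ww * σ) : σ = 1 := by
  have e1 : ∀ x, σ (nn x) = nn (σ x) := fun x => by
    have := congrArg (fun τ : Perm (Fin 8) => τ x) h1
    exact this
  have e2 : ∀ x, σ (ww x) = ww (σ x) := fun x => by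
    have := congrArg (fun τ : Perm (Fin 8) => τ x) h2
    exact this
  have h7 : σ 7 = 7 := by
    have h3 : nn (σ 7) = σ 7 := by
      rw [← e1]
      rfl
    have h4 : ∀ x : Fin 8, nn x = x → x = 7 := by decide
    exact h4 _ h3
  have h0 : σ 0 = 0 := by
    have h3 : σ (ww 7) = ww (σ 7) := e2 7
    rw [h7] at h3
    exact h3
  have hs : ∀ x y : Fin 8, nn x = y → σ x = x → σ y = y := by
    rintro x _ rfl hx
    rw [e1, hx]
  have h1' := hs 0 1 rfl h0
  have h2' := hs 1 2 rfl h1'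
  have h3' := hs 2 3 rfl h2'
  have h4' := hs 3 4 rfl h3'
  have h5' := hs 4 5 rfl h4'
  have h6' := hs 5 6 rfl h5'
  ext x
  fin_cases x
  · exact congrArg Fin.val h0
  · exact congrArg Fin.val h1'
  · exact congrArg Fin.val h2'
  · exact congrArg Fin.val h3'
  · exact congrArg Fin.val h4'
  · exact congrArg Fin.val h5'
  · exact congrArg Fin.val h6'
  · exact congrArg Fin.val h7

theorem g6_conj : ∀ x ∈ P168, g6 * x * g6⁻¹ ∈ P168 := by
  have h : P168 ≤ P168.comap (MulAut.conj g6).toMonoidHom := by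
    conv_lhs => unfold P168
    rw [Subgroup.closure_le]
    rintro x (rfl | rfl | rfl)
    · show g6 * nn * g6⁻¹ ∈ P168
      have h1 : g6 * nn * g6⁻¹ = nn ^ 3 := by decide
      rw [h1]
      exact pow_mem nn_mem 3
    · show g6 * g6 ^ 2 * g6⁻¹ ∈ P168
      have h1 : g6 * g6 ^ 2 * g6⁻¹ = g6 ^ 2 := by group
      rw [h1]
      exact hh_mem
    · show g6 * ww * g6⁻¹ ∈ P168
      have h1 : g6 * ww * g6⁻¹ = g6 ^ 2 * ww := by decide
      rw [h1]
      exact mul_mem hh_mem ww_mem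
  exact fun x hx => h hx

theorem normal_P168 : (P168.subgroupOf P336).Normal := by
  have hle : P336 ≤ Subgroup.normalizer (P168 : Set (Perm (Fin 8))) := by
    unfold P336
    rw [Subgroup.closure_le]
    rintro x (rfl | rfl | rfl)
    · exact Subgroup.le_normalizer nn_mem
    · show g6 ∈ Subgroup.normalizer (P168 : Set (Perm (Fin 8)))
      rw [Subgroup.mem_normalizer_iff]
      intro x
      refine ⟨g6_conj x, fun hx => ?_⟩
      have h1 := g6_conj _ (g6_conj _ (g6_conj _ (g6_conj _ (g6_conj _ hx))))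
      have h6 : g6 ^ 6 = 1 := by decide
      have h2 : g6 * (g6 * (g6 * (g6 * (g6 * (g6 * x * g6⁻¹) * g6⁻¹) * g6⁻¹) * g6⁻¹) * g6⁻¹) * g6⁻¹ =
          g6 ^ 6 * x * (g6 ^ 6)⁻¹ := by
        simp only [pow_succ, pow_zero, one_mul, mul_inv_rev, mul_assoc]
      rw [h2, h6, one_mul, inv_one, mul_one] at h1
      exact h1
    · exact Subgroup.le_normalizer ww_mem
  exact Subgroup.normal_subgroupOf_of_le_normalizer hle

/-- `168` divides the order of `P168`. -/
theorem dvd_card : 168 ∣ Nat.card P168 := by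
  have h7 : 7 ∣ Nat.card P168 := by
    have h1 : orderOf (⟨nn, nn_mem⟩ : P168) = 7 := by
      rw [← Subgroup.orderOf_coe]
      exact orderOf_eq_prime (by decide) (by decide)
    rw [← h1]
    exact orderOf_dvd_natCard _
  have h3 : 3 ∣ Nat.card P168 := by
    have h1 : orderOf (⟨g6 ^ 2, hh_mem⟩ : P168) = 3 := by
      rw [← Subgroup.orderOf_coe]
      exact orderOf_eq_prime (by decide) (by decide)
    rw [← h1]
    exact orderOf_dvd_natCard _
  have h8 : 8 ∣ Nat.card P168 := by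
    have h1 := Nat.card_congr (MulAction.orbitProdStabilizerEquivGroup P168 (7 : Fin 8))
    have h2 : MulAction.orbit P168 (7 : Fin 8) = Set.univ := by
      rw [Set.eq_univ_iff_forall]
      have h4 : ∀ y : Fin 8, y = 7 ∨ ∃ i : Fin 7, (nn ^ (i : ℕ) * ww) 7 = y := by decide
      intro y
      rcases h4 y with rfl | ⟨i, hi⟩
      · exact MulAction.mem_orbit_self _
      · exact ⟨⟨nn ^ (i : ℕ) * ww, mul_mem (pow_mem nn_mem _) ww_mem⟩, hi⟩
    rw [Nat.card_prod, h2, Nat.card_congr (Equiv.Set.univ _), Nat.card_eq_fintype_card,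
      Fintype.card_fin] at h1
    rw [← h1]
    exact Dvd.intro _ rfl
  have h56 : 7 * 8 ∣ Nat.card P168 := Nat.Coprime.mul_dvd_of_dvd_of_dvd (by norm_num) h7 h8
  exact Nat.Coprime.mul_dvd_of_dvd_of_dvd (by norm_num : Nat.Coprime 3 (7 * 8)) h3 h56

/-! ### the action of `SL₂(7)` on the projective line -/

/-- The projective line as `Fin 8`. -/
def pt : OnePoint (ZMod 7) ≃ Fin 8 := (finSuccEquivLast (n := 7)).symm

/-- the finite points -/
def pf (k : ZMod 7) : Fin 8 := Fin.castSucc (show Fin 7 from k)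

theorem pt_some (k : ZMod 7) : pt (k : OnePoint (ZMod 7)) = pf k := by
  show (finSuccEquivLast (n := 7)).symm (some (show Fin 7 from k)) = _
  rw [finSuccEquivLast_symm_some]
  rfl

theorem pt_infty : pt OnePoint.infty = 7 := by
  show (finSuccEquivLast (n := 7)).symm none = _
  rw [finSuccEquivLast_symm_none]
  rfl

/-- The action of `GL₂(7)`. -/
noncomputable def act : Matrix.GeneralLinearGroup (Fin 2) (ZMod 7) →* Perm (Fin 8) :=
  (Equiv.permCongrHom pt).toMonoidHom.comp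
    (MulAction.toPermHom (Matrix.GeneralLinearGroup (Fin 2) (ZMod 7)) (OnePoint (ZMod 7)))

theorem act_pt (g : Matrix.GeneralLinearGroup (Fin 2) (ZMod 7)) (x : OnePoint (ZMod 7)) :
    act g (pt x) = pt (g • x) := by
  show pt (g • (pt.symm (pt x))) = _
  rw [Equiv.symm_apply_apply]

/-- The action of `SL₂(7)`. -/
noncomputable def sact : Matrix.SpecialLinearGroup (Fin 2) (ZMod 7) →* Perm (Fin 8) :=
  act.comp Matrix.SpecialLinearGroup.toGL

theorem sact_eq (s : Matrix.SpecialLinearGroup (Fin 2) (ZMod 7)) (σ : Perm (Fin 8))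
    (h1 : (s.1 1 0 = 0 → σ 7 = 7) ∧ (s.1 1 0 ≠ 0 → ∀ m : ZMod 7, m * s.1 1 0 = s.1 0 0 → pf m = σ 7))
    (h2 : ∀ k : ZMod 7, (s.1 1 0 * k + s.1 1 1 = 0 → σ (pf k) = 7) ∧
      (s.1 1 0 * k + s.1 1 1 ≠ 0 → ∀ m : ZMod 7, m * (s.1 1 0 * k + s.1 1 1) = s.1 0 0 * k + s.1 0 1 → pf m = σ (pf k))) :
    sact s = σ := by
  ext y
  obtain ⟨x, rfl⟩ := pt.surjective y
  congr 1
  show act (Matrix.SpecialLinearGroup.toGL s) (pt x) = _
  rw [act_pt]
  cases x with
  | infty =>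
    rw [OnePoint.smul_infty_eq_ite, pt_infty]
    show pt (if s.1 1 0 = 0 then OnePoint.infty else ((s.1 0 0 / s.1 1 0 : ZMod 7) : OnePoint (ZMod 7))) = σ 7
    split_ifs with h
    · rw [pt_infty, h1.1 h]
    · rw [pt_some]
      exact h1.2 h _ (div_mul_cancel₀ _ h)
  | coe k =>
    rw [OnePoint.smul_some_eq_ite, pt_some]
    show pt (if s.1 1 0 * k + s.1 1 1 = 0 then OnePoint.infty else
      (((s.1 0 0 * k + s.1 0 1) / (s.1 1 0 * k + s.1 1 1) : ZMod 7) : OnePoint (ZMod 7))) = σ (pf k)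
    split_ifs with h
    · rw [pt_infty, (h2 k).1 h]
    · rw [pt_some]
      exact (h2 k).2 h _ (div_mul_cancel₀ _ h)

/-- the matrix of `nn` -/
def mN : Matrix.SpecialLinearGroup (Fin 2) (ZMod 7) := ⟨!![1, 1; 0, 1], by decide⟩
/-- the matrix of `g6 ^ 2` -/
def mH : Matrix.SpecialLinearGroup (Fin 2) (ZMod 7) := ⟨!![3, 0; 0, 5], by decide⟩
/-- the matrix of `ww` -/
def mW : Matrix.SpecialLinearGroup (Fin 2) (ZMod 7) := ⟨!![0, -1; 1, 0], by decide⟩

theorem sact_N : sact mN = nn := by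
  refine sact_eq _ _ ?_ ?_
  · decide
  · decide +kernel

theorem sact_H : sact mH = g6 ^ 2 := by
  refine sact_eq _ _ ?_ ?_
  · decide
  · decide +kernel

theorem sact_W : sact mW = ww := by
  refine sact_eq _ _ ?_ ?_
  · decide
  · decide

theorem sact_center {s : Matrix.SpecialLinearGroup (Fin 2) (ZMod 7)}
    (hs : s ∈ Subgroup.center (Matrix.SpecialLinearGroup (Fin 2) (ZMod 7))) : sact s = 1 := by
  obtain ⟨r, hr, he⟩ := Matrix.SpecialLinearGroup.mem_center_iff.1 hs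
  have hr0 : r ≠ 0 := by
    rintro rfl
    simp only [_root_.Fintype.card_fin, _root_.ne_eq, _root_.OfNat.ofNat_ne_zero, _root_.not_false_eq_true, _root_.zero_pow, _root_.zero_ne_one] at hr
  have h00 : s.1 0 0 = r := by rw [← he]; simp
  have h01 : s.1 0 1 = 0 := by rw [← he]; simp
  have h10 : s.1 1 0 = 0 := by rw [← he]; simp
  have h11 : s.1 1 1 = r := by rw [← he]; simp
  refine sact_eq s 1 ⟨fun _ => rfl, fun h => absurd h10 h⟩ fun k => ⟨fun h => ?_, fun _ m hm => ?_⟩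
  · rw [h10, h11, zero_mul, zero_add] at h
    exact absurd h hr0
  · rw [h10, h11, h00, h01, zero_mul, zero_add, add_zero, mul_comm] at hm
    rw [mul_left_cancel₀ hr0 hm]
    rfl

theorem center_of_sact {s : Matrix.SpecialLinearGroup (Fin 2) (ZMod 7)} (hs : sact s = 1) :
    s ∈ Subgroup.center (Matrix.SpecialLinearGroup (Fin 2) (ZMod 7)) := by
  have h : ∀ x : OnePoint (ZMod 7), (Matrix.SpecialLinearGroup.toGL s) • x = x := by
    intro x
    apply pt.injective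
    rw [← act_pt]
    have h1 : act (Matrix.SpecialLinearGroup.toGL s) = 1 := hs
    rw [h1]
    rfl
  have h10 : s.1 1 0 = 0 := by
    have h1 := h OnePoint.infty
    exact OnePoint.smul_infty_eq_self_iff.1 h1
  have hdet : s.1 0 0 * s.1 1 1 = 1 := by
    have h1 := s.2
    rw [Matrix.det_fin_two, h10, mul_zero, sub_zero] at h1
    exact h1
  have h11 : s.1 1 1 ≠ 0 := by
    intro h1
    rw [h1, mul_zero] at hdet
    exact zero_ne_one hdet
  have h01 : s.1 0 1 = 0 := by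
    have h1 := h ((0 : ZMod 7) : OnePoint (ZMod 7))
    rw [OnePoint.smul_some_eq_ite] at h1
    have h2 : (if s.1 1 0 * 0 + s.1 1 1 = 0 then OnePoint.infty else
      (((s.1 0 0 * 0 + s.1 0 1) / (s.1 1 0 * 0 + s.1 1 1) : ZMod 7) : OnePoint (ZMod 7))) =
        ((0 : ZMod 7) : OnePoint (ZMod 7)) := h1
    rw [mul_zero, zero_add, mul_zero, zero_add, if_neg h11, OnePoint.coe_eq_coe, div_eq_zero_iff] at h2
    rcases h2 with h2 | h2
    · exact h2
    · exact absurd h2 h11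
  have h00 : s.1 0 0 = s.1 1 1 := by
    have h1 := h ((1 : ZMod 7) : OnePoint (ZMod 7))
    rw [OnePoint.smul_some_eq_ite] at h1
    have h2 : (if s.1 1 0 * 1 + s.1 1 1 = 0 then OnePoint.infty else
      (((s.1 0 0 * 1 + s.1 0 1) / (s.1 1 0 * 1 + s.1 1 1) : ZMod 7) : OnePoint (ZMod 7))) =
        ((1 : ZMod 7) : OnePoint (ZMod 7)) := h1
    rw [h10, h01, zero_mul, zero_add, mul_one, add_zero, if_neg h11, OnePoint.coe_eq_coe,
      div_eq_one_iff_eq h11] at h2
    exact h2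
  rw [Matrix.SpecialLinearGroup.mem_center_iff]
  refine ⟨s.1 1 1, ?_, ?_⟩
  · rw [Fintype.card_fin, pow_two]
    nth_rewrite 1 [← h00]
    exact hdet
  · ext i j
    fin_cases i <;> fin_cases j
    · show (Matrix.scalar (Fin 2) (s.1 1 1)) 0 0 = s.1 0 0
      rw [h00]; simp
    · show (Matrix.scalar (Fin 2) (s.1 1 1)) 0 1 = s.1 0 1
      rw [h01]; simp
    · show (Matrix.scalar (Fin 2) (s.1 1 1)) 1 0 = s.1 1 0
      rw [h10]; simp
    · show (Matrix.scalar (Fin 2) (s.1 1 1)) 1 1 = s.1 1 1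
      simp

/-- The action of `PSL₂(7)`. -/
noncomputable def pact : Matrix.ProjectiveSpecialLinearGroup (Fin 2) (ZMod 7) →* Perm (Fin 8) :=
  QuotientGroup.lift _ sact fun _ hs => sact_center hs

theorem pact_injective : Function.Injective pact := by
  rw [injective_iff_map_eq_one]
  intro x hx
  obtain ⟨s, rfl⟩ := QuotientGroup.mk_surjective x
  exact (QuotientGroup.eq_one_iff s).2 (center_of_sact hx)

theorem P168_eq : P168 = pact.range := by
  have hle : P168 ≤ pact.range := by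
    unfold P168
    rw [Subgroup.closure_le]
    rintro x (rfl | rfl | rfl)
    · exact ⟨QuotientGroup.mk mN, sact_N⟩
    · exact ⟨QuotientGroup.mk mH, sact_H⟩
    · exact ⟨QuotientGroup.mk mW, sact_W⟩
  refine Subgroup.eq_of_le_of_card_ge hle ?_
  have h1 : Nat.card pact.range = 168 := by
    rw [← Nat.card_congr (MonoidHom.ofInjective pact_injective).toEquiv, card_psl (ZMod.card 7)]
  rw [h1]
  exact Nat.le_of_dvd Nat.card_pos dvd_card

theorem equiv168 : Nonempty (↥P168 ≃* Matrix.ProjectiveSpecialLinearGroup (Fin 2) (ZMod 7)) :=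
  ⟨(MulEquiv.subgroupCongr P168_eq).trans (MonoidHom.ofInjective pact_injective).symm⟩

theorem equiv336 :
    Nonempty (↥P336 ≃* MulAut (Matrix.ProjectiveSpecialLinearGroup (Fin 2) (ZMod 7))) := by
  obtain ⟨e⟩ := equiv168
  have hcen : Subgroup.centralizer ((P168.subgroupOf P336 : Subgroup P336) : Set P336) = ⊥ := by
    rw [eq_bot_iff]
    intro g hg
    rw [Subgroup.mem_bot]
    apply Subtype.ext
    refine centralizer_triv ?_ ?_
    · have h1 := Subgroup.mem_centralizer_iff.1 hg ⟨nn, P168_le nn_mem⟩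
        (Subgroup.mem_subgroupOf.2 nn_mem)
      exact (congrArg Subtype.val h1).symm
    · have h1 := Subgroup.mem_centralizer_iff.1 hg ⟨ww, P168_le ww_mem⟩
        (Subgroup.mem_subgroupOf.2 ww_mem)
      exact (congrArg Subtype.val h1).symm
  rcases two_cases (ZMod.card 7) (P168.subgroupOf P336) normal_P168
    ((Subgroup.subgroupOfEquivOfLe P168_le).trans e) hcen with ⟨h1, -⟩ | h1
  · exfalso
    rw [Subgroup.subgroupOf_eq_top] at h1
    exact g6_not_mem (h1 (Subgroup.subset_closure (by simp)))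
  · exact h1

/-- **Task GRP.** -/
theorem grp : Grp.{u} := by
  intro F _ _ hF H _ _ he
  obtain ⟨e⟩ := he
  have hFit : (Cfsg.generalizedFittingSubgroup H).Normal := Cfsg.Agent.Lib.GenFitting.genFitting_normal
  have σ : F ≃+* ZMod 7 := Classical.choice (by
    have h1 : Fintype.card F = Fintype.card (ZMod 7) := by rw [hF, ZMod.card]
    exact ⟨FiniteField.ringEquivOfCardEq h1⟩)
  have hcen : Subgroup.centralizer ((Cfsg.generalizedFittingSubgroup H : Subgroup H) : Set H) = ⊥ := by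
    rw [eq_bot_iff]
    intro g hg
    have h1 := Cfsg.Agent.S1265.result hg
    have h2 : (⟨g, h1⟩ : ↥(Cfsg.generalizedFittingSubgroup H)) ∈
        Subgroup.center ↥(Cfsg.generalizedFittingSubgroup H) := by
      rw [Subgroup.mem_center_iff]
      intro x
      exact Subtype.ext (Subgroup.mem_centralizer_iff.1 hg x x.2)
    have h3 : e ⟨g, h1⟩ ∈ Subgroup.center (Matrix.ProjectiveSpecialLinearGroup (Fin 2) F) := by
      rw [Subgroup.mem_center_iff] at h2 ⊢
      intro y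
      obtain ⟨x, rfl⟩ := e.surjective y
      rw [← map_mul, h2 x, map_mul]
    rw [psl_center hF, Subgroup.mem_bot, map_eq_one_iff e e.injective] at h3
    rw [Subgroup.mem_bot]
    exact congrArg Subtype.val h3
  have c := Cfsg.Agent.LieClassical.FieldTransfer.pslCongr (ι := Fin 2) σ
  rcases two_cases hF _ hFit e hcen with h | h
  · left
    obtain ⟨-, ⟨f⟩⟩ := h
    obtain ⟨k⟩ := equiv168
    exact ⟨(f.trans c).trans k.symm⟩
  · right
    obtain ⟨f⟩ := h
    obtain ⟨k⟩ := equiv336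
    exact ⟨(f.trans (MulAut.congr c)).trans k.symm⟩

end Cfsg.Agent.H89.L7
end

-- part: H942/L7/Vals
section
/-!
# S5920: values of the Brauer character and dimensions
-/

set_option autoImplicit false
set_option linter.unusedSectionVars false
set_option maxRecDepth 100000

namespace Cfsg.Agent.H942.L7

open Equiv Cfsg Cfsg.Lie Cfsg.Agent.H657 IsLocalRing Module
open Cfsg.Agent.H942.E8Alc Cfsg.Agent.H942.Common Cfsg.Agent.H942.Core Cfsg.Agent.H942.E8Val
open Cfsg.Agent.H358.L7 (enc mulC enc_inj enc_mul dg dg_enc)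

/-! ### codes of the elements of the lists -/

def C4a : List ℕ := [16434824, 7810817, 14522914, 11504724]
def C4b : List ℕ := [16434824, 5706211, 2895165, 8518230]
def C8a : List ℕ := [16434824, 7810817, 14522914, 11504724, 2773435, 1139551, 8435189, 4487406]
def C8b : List ℕ := [16434824, 5706211, 2895165, 8518230, 11789505, 12934684, 571823, 8258418]
def CU : List ℕ := [16434824, 14899409, 14969626, 15240547, 15536556, 15835701, 16135238]
def C14 : List ℕ := [16434824, 14899409, 14969626, 15240547, 15536556, 15835701, 16135238, 15022448, 15321985,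
  15621130, 15917139, 16188060, 16258277, 14722862]
def Cc : List ℕ := [16434824, 8435189, 7810817, 4487406]
def Cy : List ℕ := [16434824, 3137890, 8435189, 13240927, 7810817, 1954708, 4487406, 11607099]

theorem k4a : K4a.map enc = C4a := by decide +kernel
theorem k4b : K4b.map enc = C4b := by decide +kernel
theorem k8a : K8a.map enc = C8a := by decide +kernel
theorem k8b : K8b.map enc = C8b := by decide +kernel
theorem kU : KU.map enc = CU := by decide +kernel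
theorem k14 : K14.map enc = C14 := by decide +kernel
theorem kc : Kc.map enc = Cc := by decide +kernel
theorem ky : Ky.map enc = Cy := by decide +kernel

theorem d4a : C4a.map kd = [0, 2, 2, 2] := by decide +kernel
theorem d4b : C4b.map kd = [0, 2, 2, 2] := by decide +kernel
theorem d8a : C8a.map kd = [0, 2, 2, 2, 2, 2, 4, 4] := by decide +kernel
theorem d8b : C8b.map kd = [0, 2, 2, 2, 2, 4, 2, 4] := by decide +kernel
theorem dU : CU.map kd = [0, 7, 7, 7, 7, 7, 7] := by decide +kernel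
theorem d14 : C14.map kd = [0, 7, 7, 7, 7, 7, 7, 3, 3, 3, 3, 3, 3, 3] := by decide +kernel
theorem dc : Cc.map kd = [0, 4, 2, 4] := by decide +kernel
theorem dy : Cy.map kd = [0, 8, 4, 8, 2, 8, 4, 8] := by decide +kernel

/-- the values of the Brauer character -/
structure Vals {P : Subgroup (Perm (Fin 8))} (F : ↥P →* ↥(chevE8.group (ZMod 3))) (V : ValuationSubring ℂ)
    [CharP (ResidueField V) 3] (β2 β4 β7 : ℤ) : Prop where
  one : bc 3 (adj V F) 1 = 248
  two : ∀ g : ↥P, (g : Perm (Fin 8)) ∈ P168 → g ^ 2 = 1 → g ≠ 1 → bc 3 (adj V F) g = β2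
  four : ∀ g : ↥P, g ^ 4 = 1 → g ^ 2 ≠ 1 → bc 3 (adj V F) g = β4
  sev : ∀ g : ↥P, g ^ 7 = 1 → g ≠ 1 → bc 3 (adj V F) g = β7

/-- the value in terms of the kind -/
def vf (β2 β4 β7 βo β8 : ℤ) (k : ℕ) : ℤ :=
  if k = 0 then 248 else if k = 2 then β2 else if k = 3 then βo else if k = 4 then β4 else if k = 7 then β7 else
    if k = 8 then β8 else 0

section

variable {P : Subgroup (Perm (Fin 8))} {F : ↥P →* ↥(chevE8.group (ZMod 3))} {V : ValuationSubring ℂ}
    [CharP (ResidueField V) 3] {β2 β4 β7 : ℤ}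

theorem coe_pow_eq {g : ↥P} {n : ℕ} (h : (g : Perm (Fin 8)) ^ n = 1) : g ^ n = 1 :=
  Subtype.ext (by push_cast; exact h)

theorem enc_sq (g : Perm (Fin 8)) : enc (g ^ 2) = mulC (enc g) (enc g) := by rw [pow_two, enc_mul]

theorem eq_one_of_enc {g : Perm (Fin 8)} {a : ℕ} (h : enc g = a) (h1 : Nat.beq a 16434824 = true) : g = 1 :=
  enc_inj (by rw [h, enc1]; exact Nat.eq_of_beq_eq_true h1)

theorem ne_one_of_enc {g : Perm (Fin 8)} {a : ℕ} (h : enc g = a) (h1 : Nat.beq a 16434824 = false) : g ≠ 1 := by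
  rintro rfl
  rw [enc1] at h
  subst h
  exact absurd h1 (by decide)

theorem Vals.vf_eq (hv : Vals F V β2 β4 β7) (βo β8 : ℤ) {g : ↥P} (hg : (g : Perm (Fin 8)) ∈ P168)
    (hk : kd (enc g) = 0 ∨ kd (enc g) = 2 ∨ kd (enc g) = 4 ∨ kd (enc g) = 7) :
    bc 3 (adj V F) g = vf β2 β4 β7 βo β8 (kd (enc g)) := by
  have e2 : enc ((g : Perm (Fin 8)) ^ 2) = mulC (enc g) (enc g) := enc_sq _
  have e4 : enc ((g : Perm (Fin 8)) ^ 4) = mulC (mulC (enc g) (enc g)) (mulC (enc g) (enc g)) := by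
    rw [show 4 = 2 * 2 by norm_num, pow_mul, enc_sq, e2]
  have e7 : enc ((g : Perm (Fin 8)) ^ 7) = mulC (enc g) (mulC (mulC (enc g) (enc g)) (mulC (mulC (enc g) (enc g))
      (mulC (enc g) (enc g)))) := by
    rw [← e2, ← enc_mul, ← enc_mul, ← enc_mul, ← pow_add, ← pow_add, ← pow_succ']
  unfold kd at hk ⊢
  cases h1 : Nat.beq (enc g) 16434824 with
  | true =>
    rw [cond_true]
    have : g = 1 := Subtype.ext (eq_one_of_enc rfl h1)
    rw [this, hv.one]
    simp [vf]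
  | false =>
    have hg1 : g ≠ 1 := fun e => ne_one_of_enc rfl h1 (congrArg Subtype.val e)
    rw [h1] at hk
    rw [cond_false] at hk ⊢
    cases h2 : Nat.beq (mulC (enc g) (enc g)) 16434824 with
    | true =>
      rw [h2, cond_true] at hk
      rw [cond_true]
      have h3 := hv.two g hg (coe_pow_eq (eq_one_of_enc e2 h2)) hg1
      cases h4 : (Nat.beq (dg (enc g) 7) 7 || Nat.beq (dg (enc g) 0) 0 || Nat.beq (dg (enc g) 1) 1 ||
        Nat.beq (dg (enc g) 2) 2 || Nat.beq (dg (enc g) 3) 3 || Nat.beq (dg (enc g) 4) 4 ||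
        Nat.beq (dg (enc g) 5) 5 || Nat.beq (dg (enc g) 6) 6) with
      | true =>
        rw [h4, cond_true] at hk
        omega
      | false =>
        rw [cond_false, h3]
        simp [vf]
    | false =>
      have hg2 : g ^ 2 ≠ 1 := fun e => ne_one_of_enc e2 h2 (by
        have := congrArg Subtype.val e; push_cast at this; exact this)
      rw [h2, cond_false] at hk
      rw [cond_false]
      cases h4 : Nat.beq (mulC (mulC (enc g) (enc g)) (mulC (enc g) (enc g))) 16434824 with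
      | true =>
        rw [cond_true, hv.four g (coe_pow_eq (eq_one_of_enc e4 h4)) hg2]
        simp [vf]
      | false =>
        rw [h4, cond_false] at hk
        rw [cond_false]
        cases h7 : Nat.beq (mulC (enc g) (mulC (mulC (enc g) (enc g)) (mulC (mulC (enc g) (enc g))
            (mulC (enc g) (enc g))))) 16434824 with
        | true =>
          rw [cond_true, hv.sev g (coe_pow_eq (eq_one_of_enc e7 h7)) hg1]
          simp [vf]
        | false =>
          rw [h7, cond_false] at hk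
          cases h8 : Nat.beq (mulC (mulC (mulC (enc g) (enc g)) (mulC (enc g) (enc g)))
            (mulC (mulC (enc g) (enc g)) (mulC (enc g) (enc g)))) 16434824 with
          | true => rw [h8, cond_true] at hk; omega
          | false => rw [h8, cond_false] at hk; omega

theorem enc_mem {K : List (Perm (Fin 8))} {KC : List ℕ} (hKC : K.map enc = KC) {g : Perm (Fin 8)} (hg : g ∈ K) :
    enc g ∈ KC := by
  rw [← hKC]
  exact List.mem_map_of_mem hg

theorem Vals.dim (hv : Vals F V β2 β4 β7) (hP : P168 ≤ P) (hDim : Dim) {M : Ideal AlgInt} (hM : IsPModular 3 M)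
    (hV : Above M V) (K : List (Perm (Fin 8))) (hK : ∀ x ∈ K, x ∈ P168) (KC : List ℕ) (hKC : K.map enc = KC)
    (hnd : KC.Nodup) (h1 : enc 1 ∈ KC) (hcl : ∀ a ∈ KC, ∀ b ∈ KC, mulC a b ∈ KC) (hco : KC.length.Coprime 3)
    (Y : Set (Perm (Fin 8))) (hY : ∀ g, g ∈ Y ↔ g ∈ K) (hk : ∀ x ∈ KC, kd x = 0 ∨ kd x = 2 ∨ kd x = 4 ∨ kd x = 7) :
    ((KC.map kd).map (vf β2 β4 β7 0 0)).sum = KC.length * (finrank (ZMod 3) ↥(fixS (rep F) Y) : ℤ) :=
  dimK F hDim hM hV K (fun x hx => hP (hK x hx)) KC hKC hnd h1 hcl hco Y hY kd _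
    fun g hg => hv.vf_eq 0 0 (hK _ hg) (hk _ (enc_mem hKC hg))

theorem K4a_mem : ∀ x ∈ K4a, x ∈ P168 := by
  intro x hx
  unfold K4a at hx
  simp only [List.mem_cons, List.not_mem_nil, or_false] at hx
  rcases hx with rfl | rfl | rfl | rfl
  · exact one_mem _
  · exact H811.L7.za_mem
  · exact H811.L7.za'_mem
  · exact mul_mem H811.L7.za_mem H811.L7.za'_mem

theorem K4b_mem : ∀ x ∈ K4b, x ∈ P168 := by
  intro x hx
  unfold K4b at hx
  simp only [List.mem_cons, List.not_mem_nil, or_false] at hx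
  rcases hx with rfl | rfl | rfl | rfl
  · exact one_mem _
  · exact H811.L7.zb_mem
  · exact H811.L7.zb'_mem
  · exact mul_mem H811.L7.zb_mem H811.L7.zb'_mem

theorem K8a_mem : ∀ x ∈ K8a, x ∈ P168 := by
  intro x hx
  unfold K8a at hx
  rw [List.mem_append, List.mem_map] at hx
  rcases hx with hx | ⟨z, hz, rfl⟩
  · exact K4a_mem x hx
  · exact mul_mem (K4a_mem z hz) H811.L7.ta_mem

theorem K8b_mem : ∀ x ∈ K8b, x ∈ P168 := by
  intro x hx
  unfold K8b at hx
  rw [List.mem_append, List.mem_map] at hx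
  rcases hx with hx | ⟨z, hz, rfl⟩
  · exact K4b_mem x hx
  · exact mul_mem (K4b_mem z hz) H811.L7.tb_mem

theorem KU_mem : ∀ x ∈ KU, x ∈ P168 := by
  intro x hx
  unfold KU at hx
  rw [List.mem_map] at hx
  obtain ⟨i, -, rfl⟩ := hx
  exact pow_mem H811.L7.nn_mem i

theorem Kc_mem (hy : y8 ^ 2 ∈ P168) : ∀ x ∈ Kc, x ∈ P168 := by
  intro x hx
  unfold Kc at hx
  rw [List.mem_map] at hx
  obtain ⟨i, -, rfl⟩ := hx
  exact pow_mem hy i

theorem Vals.V4a (hv : Vals F V β2 β4 β7) (hP : P168 ≤ P) (hDim : Dim) {M : Ideal AlgInt}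
    (hM : IsPModular 3 M) (hV : Above M V) :
    248 + 3 * β2 = 4 * (finrank (ZMod 3) ↥(fixS (rep F) V4a) : ℤ) := by
  have h := hv.dim hP hDim hM hV K4a K4a_mem C4a k4a (by decide +kernel) (by rw [enc1]; decide +kernel)
    (by decide +kernel) (by decide) _ mem_V4a_iff (by decide +kernel)
  rw [d4a, show C4a.length = 4 from rfl] at h
  simp [vf] at h
  linarith

theorem Vals.V4b (hv : Vals F V β2 β4 β7) (hP : P168 ≤ P) (hDim : Dim) {M : Ideal AlgInt}
    (hM : IsPModular 3 M) (hV : Above M V) :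
    248 + 3 * β2 = 4 * (finrank (ZMod 3) ↥(fixS (rep F) V4b) : ℤ) := by
  have h := hv.dim hP hDim hM hV K4b K4b_mem C4b k4b (by decide +kernel) (by rw [enc1]; decide +kernel)
    (by decide +kernel) (by decide) _ mem_V4b_iff (by decide +kernel)
  rw [d4b, show C4b.length = 4 from rfl] at h
  simp [vf] at h
  linarith

theorem Vals.D8a (hv : Vals F V β2 β4 β7) (hP : P168 ≤ P) (hDim : Dim) {M : Ideal AlgInt}
    (hM : IsPModular 3 M) (hV : Above M V) :
    248 + 5 * β2 + 2 * β4 = 8 * (finrank (ZMod 3) ↥(fixS (rep F) D8a) : ℤ) := by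
  have h := hv.dim hP hDim hM hV K8a K8a_mem C8a k8a (by decide +kernel) (by rw [enc1]; decide +kernel)
    (by decide +kernel) (by decide) _ mem_D8a_iff (by decide +kernel)
  rw [d8a, show C8a.length = 8 from rfl] at h
  simp [vf] at h
  linarith

theorem Vals.D8b (hv : Vals F V β2 β4 β7) (hP : P168 ≤ P) (hDim : Dim) {M : Ideal AlgInt}
    (hM : IsPModular 3 M) (hV : Above M V) :
    248 + 5 * β2 + 2 * β4 = 8 * (finrank (ZMod 3) ↥(fixS (rep F) D8b) : ℤ) := by
  have h := hv.dim hP hDim hM hV K8b K8b_mem C8b k8b (by decide +kernel) (by rw [enc1]; decide +kernel)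
    (by decide +kernel) (by decide) _ mem_D8b_iff (by decide +kernel)
  rw [d8b, show C8b.length = 8 from rfl] at h
  simp [vf] at h
  linarith

theorem Vals.U7 (hv : Vals F V β2 β4 β7) (hP : P168 ≤ P) (hDim : Dim) {M : Ideal AlgInt}
    (hM : IsPModular 3 M) (hV : Above M V) :
    248 + 6 * β7 = 7 * (finrank (ZMod 3) ↥(fixS (rep F) U7) : ℤ) := by
  have h := hv.dim hP hDim hM hV KU KU_mem CU kU (by decide +kernel) (by rw [enc1]; decide +kernel)
    (by decide +kernel) (by decide) _ mem_U7_iff (by decide +kernel)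
  rw [dU, show CU.length = 7 from rfl] at h
  simp [vf] at h
  linarith

theorem Vals.Yc (hv : Vals F V β2 β4 β7) (hP : P168 ≤ P) (hy : y8 ^ 2 ∈ P168) (hDim : Dim) {M : Ideal AlgInt}
    (hM : IsPModular 3 M) (hV : Above M V) :
    248 + β2 + 2 * β4 = 4 * (finrank (ZMod 3) ↥(fixS (rep F) Yc) : ℤ) := by
  have h := hv.dim hP hDim hM hV Kc (Kc_mem hy) Cc kc (by decide +kernel) (by rw [enc1]; decide +kernel)
    (by decide +kernel) (by decide) _ mem_Yc_iff (by decide +kernel)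
  rw [dc, show Cc.length = 4 from rfl] at h
  simp [vf] at h
  linarith

end

end Cfsg.Agent.H942.L7
end

-- part: H942/L7/ExVals
section
/-!
# S5920: existence of the values; the group `PGL₂(7)`
-/

set_option autoImplicit false
set_option linter.unusedSectionVars false
set_option maxRecDepth 100000

namespace Cfsg.Agent.H942.L7

open Equiv Cfsg Cfsg.Lie Cfsg.Agent.H657 IsLocalRing Module
open Cfsg.Agent.H942.E8Alc Cfsg.Agent.H942.Common Cfsg.Agent.H942.Core Cfsg.Agent.H942.E8Val Cfsg.Agent.H942.CB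
open Cfsg.Agent.H358.L7 (enc mulC enc_inj enc_mul dg dg_enc)

section

variable {P : Subgroup (Perm (Fin 8))} (F : ↥P →* ↥(chevE8.group (ZMod 3))) (V : ValuationSubring ℂ)
    [CharP (ResidueField V) 3]

theorem bc_one' : bc 3 (adj V F) 1 = 248 := by
  obtain ⟨t₁, t₂, t₄, -, h1, -, -, h2, -, -⟩ := val8 V F (g := 1) (one_pow 8)
  rw [h1, h2.1 (map_one F)]
  norm_num

theorem bc_eq_of_conj {g g' : ↥P} (h : ∃ x ∈ P, x⁻¹ * (g : Perm (Fin 8)) * x = g') :
    bc 3 (adj V F) g = bc 3 (adj V F) g' := by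
  obtain ⟨x, hx, hx2⟩ := h
  have : g' = (⟨x, hx⟩ : ↥P)⁻¹ * g * ⟨x, hx⟩ := Subtype.ext (by push_cast; exact hx2.symm)
  rw [this, bc_conj']

theorem enc_y82 : enc (y8 ^ 2) = 8435189 := by decide +kernel
theorem enc_y84 : enc ((y8 ^ 2) ^ 2) = 7810817 := by
  rw [pow_two, enc_mul, enc_y82]
  decide +kernel

theorem y4 : (y8 ^ 2) ^ 4 = 1 := enc_inj (by
  rw [show 4 = 2 * 2 by norm_num, pow_mul, pow_two ((y8 ^ 2) ^ 2), enc_mul, enc_y84, enc1]
  decide +kernel)
theorem y2 : (y8 ^ 2) ^ 2 ≠ 1 := fun e => by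
  have := congrArg enc e
  rw [enc_y84, enc1] at this
  revert this
  decide +kernel

theorem exists_vals (hConj : Conj) (hP : P168 ≤ P) (hP' : P ≤ P336) (hF : Function.Injective F) (hy : y8 ^ 2 ∈ P168) :
    ∃ (β2 β4 β7 : ℤ) (b : ℕ), Vals F V β2 β4 β7 ∧ (β4, β2, b) ∈ B4 ∧ (β7 = 3 ∨ β7 = 52) ∧
      b ≤ Nat.card ↥(Subgroup.centralizer {F ⟨y8 ^ 2, hP hy⟩}) := by
  obtain ⟨hc2, hc4, hc7, -, -⟩ := hConj
  have e4 : (⟨y8 ^ 2, hP hy⟩ : ↥P) ^ 4 = 1 := Subtype.ext (by push_cast; exact y4)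
  have e2 : (⟨y8 ^ 2, hP hy⟩ : ↥P) ^ 2 ≠ 1 := fun e => y2 (by have := congrArg Subtype.val e; push_cast at this; exact this)
  obtain ⟨t₁, t₂, b, hb, h1, h2, hle⟩ := val4T V F (g := ⟨y8 ^ 2, hP hy⟩) e4
    (fun e => e2 (hF (by rw [e, map_one])))
  have n7 : H811.L7.en hP ^ 7 = 1 := H811.L7.n_pow hP
  have n1 : H811.L7.en hP ≠ 1 := fun e => (show nn ≠ 1 by decide +kernel) (congrArg Subtype.val e)
  obtain ⟨t₇, ht7, h7⟩ := val7 V F n7 (fun e => n1 (hF (by rw [e, map_one])))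
  refine ⟨t₂, t₁, t₇, b, ⟨bc_one' F V, ?_, ?_, ?_⟩, hb, ht7, hle⟩
  · intro g hg hg2 hg1
    rw [← h2]
    obtain ⟨x, hx, hx2⟩ := hc2 _ hg (by have := congrArg Subtype.val hg2; push_cast at this; exact this)
      (fun e => hg1 (Subtype.ext e))
    obtain ⟨x', hx', hx2'⟩ := hc2 ((y8 ^ 2) ^ 2) (pow_mem hy 2) (by rw [← pow_mul]; exact y4) y2
    have a1 : bc 3 (adj V F) g = bc 3 (adj V F) (⟨za, hP H811.L7.za_mem⟩ : ↥P) :=
      bc_eq_of_conj F V ⟨x, hP hx, hx2⟩
    have a2 : bc 3 (adj V F) ((⟨y8 ^ 2, hP hy⟩ : ↥P) ^ 2) = bc 3 (adj V F) (⟨za, hP H811.L7.za_mem⟩ : ↥P) :=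
      bc_eq_of_conj F V ⟨x', hP hx', by push_cast; exact hx2'⟩
    rw [a1, a2]
  · intro g hg4 hg2
    rw [← h1]
    obtain ⟨x, hx, hx2⟩ := hc4 _ (hP' g.2) (by have := congrArg Subtype.val hg4; push_cast at this; exact this)
      (fun e => hg2 (Subtype.ext (by push_cast; exact e)))
    exact bc_eq_of_conj F V ⟨x, hP hx, hx2⟩
  · intro g hg7 hg1
    obtain ⟨x, hx, d, hd, hx2⟩ := hc7 _ (hP' g.2) (by have := congrArg Subtype.val hg7; push_cast at this; exact this)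
      (fun e => hg1 (Subtype.ext e))
    rw [← h7 d hd]
    exact bc_eq_of_conj F V ⟨x, hP hx, by rw [hx2]; rfl⟩

end

section pgl

variable (F : ↥P336 →* ↥(chevE8.group (ZMod 3))) (V : ValuationSubring ℂ) [CharP (ResidueField V) 3]

theorem g63_mem : g6 ^ 3 ∈ P336 := H296.L7.R0.2

/-- outer involutions -/
theorem exists_out (hConj : Conj) (hF : Function.Injective F) :
    ∃ βo : ℤ, (βo = -8 ∨ βo = 24) ∧ ∀ g : ↥P336, (g : Perm (Fin 8)) ∉ P168 → g ^ 2 = 1 → bc 3 (adj V F) g = βo := by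
  obtain ⟨-, -, -, -, hco⟩ := hConj
  have r2 : (⟨g6 ^ 3, g63_mem⟩ : ↥P336) ^ 2 = 1 := Subtype.ext (by push_cast; decide +kernel)
  have r8 : (⟨g6 ^ 3, g63_mem⟩ : ↥P336) ^ 8 = 1 := by
    have := congrArg (fun x => x ^ 4) r2
    simp only [one_pow] at this
    rwa [← pow_mul] at this
  have r4 : (⟨g6 ^ 3, g63_mem⟩ : ↥P336) ^ 4 = 1 := by
    have := congrArg (fun x => x ^ 2) r2
    simp only [one_pow] at this
    rwa [← pow_mul] at this
  have r1 : (⟨g6 ^ 3, g63_mem⟩ : ↥P336) ≠ 1 := fun e => (show g6 ^ 3 ≠ 1 by decide +kernel) (congrArg Subtype.val e)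
  obtain ⟨t₁, t₂, t₄, ht, h1, -, -, h2, h3, h4⟩ := val8 V F (g := ⟨g6 ^ 3, g63_mem⟩)
    r8
  have e2 : t₂ = 248 := h3.1 (by rw [r2, map_one])
  have e4 : t₄ = 248 := h4.1 (by rw [r4, map_one])
  have e1 : t₁ ≠ 248 := fun e => r1 (hF (by rw [h2.2 e, map_one]))
  refine ⟨t₁, ?_, fun g hg hg2 => ?_⟩
  · subst e2 e4
    unfold L8 at ht
    simp only [List.mem_cons, List.not_mem_nil, or_false, Prod.mk.injEq] at ht
    (clear * - e1 ht; solve | lia | omega)
  · obtain ⟨x, hx, hx2⟩ := hco _ g.2 hg (by have := congrArg Subtype.val hg2; push_cast at this; exact this)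
    rw [← h1]
    exact bc_eq_of_conj F V ⟨x, hx, hx2⟩

theorem sign_D14 : ∀ i : ℕ, nn ^ i * g6 ^ 3 ∉ P168 := by
  intro i h
  have h1 : Perm.sign (nn ^ i * g6 ^ 3) = 1 := H89.L7.sign_of_mem h
  rw [map_mul, map_pow, show Perm.sign nn = 1 by decide +kernel, one_pow, one_mul] at h1
  revert h1
  decide +kernel

variable {F V} {β2 β4 β7 : ℤ}

theorem Vals.D14 (hv : Vals F V β2 β4 β7) (hDim : Dim) {M : Ideal AlgInt} (hM : IsPModular 3 M)
    (hV : Above M V) {βo : ℤ} (ho : ∀ g : ↥P336, (g : Perm (Fin 8)) ∉ P168 → g ^ 2 = 1 → bc 3 (adj V F) g = βo) :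
    248 + 6 * β7 + 7 * βo = 14 * (finrank (ZMod 3) ↥(fixS (rep F) D14) : ℤ) := by
  have hK : ∀ x ∈ K14, x ∈ P336 := by
    intro x hx
    unfold K14 at hx
    rw [List.mem_append, List.mem_map] at hx
    rcases hx with hx | ⟨z, hz, rfl⟩
    · exact H296.L7.le_168 (KU_mem x hx)
    · exact mul_mem (H296.L7.le_168 (KU_mem z hz)) g63_mem
  have h := dimK F hDim hM hV K14 hK C14 k14 (by decide +kernel) (by rw [enc1]; decide +kernel)
    (by decide +kernel) (by decide) _ mem_D14_iff kd (vf β2 β4 β7 βo 0) ?_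
  · rw [d14, show C14.length = 14 from rfl] at h
    simp [vf] at h
    linarith
  · intro g hg
    unfold K14 at hg
    rw [List.mem_append, List.mem_map] at hg
    rcases hg with hg | ⟨z, hz, hz2⟩
    · exact hv.vf_eq βo 0 (KU_mem _ hg) ((show ∀ x ∈ CU, kd x = 0 ∨ kd x = 2 ∨ kd x = 4 ∨ kd x = 7 by decide +kernel) _
        (enc_mem kU hg))
    · have hz' := hz
      obtain ⟨i, rfl⟩ := (mem_U7_iff z).2 hz
      have h1 : (g : Perm (Fin 8)) ∉ P168 := by rw [← hz2]; exact sign_D14 i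
      have h3 : enc (g : Perm (Fin 8)) = mulC (enc (nn ^ i)) 15022448 := by
        rw [← hz2, enc_mul, show enc (g6 ^ 3) = 15022448 by decide +kernel]
      have h2 : (g : Perm (Fin 8)) ^ 2 = 1 := by
        refine enc_inj ?_
        rw [enc_sq, h3, enc1]
        exact (show ∀ x ∈ CU, mulC (mulC x 15022448) (mulC x 15022448) = 16434824 by decide +kernel) _ (enc_mem kU hz')
      rw [ho g h1 (coe_pow_eq h2), h3, (show ∀ x ∈ CU, kd (mulC x 15022448) = 3 by decide +kernel) _ (enc_mem kU hz')]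
      simp [vf]

theorem Vals.Yy (hv : Vals F V β2 β4 β7) (hy : y8 ∈ P336) (hy2 : y8 ^ 2 ∈ P168) (hDim : Dim) {M : Ideal AlgInt}
    (hM : IsPModular 3 M) (hV : Above M V) {β8 : ℤ}
    (ho : ∀ d : ℕ, ¬ 2 ∣ d → bc 3 (adj V F) ((⟨y8, hy⟩ : ↥P336) ^ d) = β8) :
    248 + β2 + 2 * β4 + 4 * β8 = 8 * (finrank (ZMod 3) ↥(fixS (rep F) Yy) : ℤ) := by
  have hK : ∀ x ∈ Ky, x ∈ P336 := by
    intro x hx
    unfold Ky at hx
    rw [List.mem_map] at hx
    obtain ⟨i, -, rfl⟩ := hx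
    exact pow_mem hy i
  have h := dimK F hDim hM hV Ky hK Cy ky (by decide +kernel) (by rw [enc1]; decide +kernel)
    (by decide +kernel) (by decide) _ mem_Yy_iff kd (vf β2 β4 β7 0 β8) ?_
  · rw [dy, show Cy.length = 8 from rfl] at h
    simp [vf] at h
    linarith
  · intro g hg
    unfold Ky at hg
    rw [List.mem_map] at hg
    obtain ⟨i, hi, hi2⟩ := hg
    have hi := List.mem_range.1 hi
    by_cases h2 : 2 ∣ i
    · obtain ⟨j, rfl⟩ := h2
      have h3 : (g : Perm (Fin 8)) ∈ P168 := by rw [← hi2, pow_mul]; exact pow_mem hy2 j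
      refine hv.vf_eq 0 β8 h3 ?_
      have h4 : (g : Perm (Fin 8)) ∈ Kc := by
        rw [← mem_Yc_iff]
        exact ⟨j, by rw [← hi2, pow_mul]⟩
      exact (show ∀ x ∈ Cc, kd x = 0 ∨ kd x = 2 ∨ kd x = 4 ∨ kd x = 7 by decide +kernel) _ (enc_mem kc h4)
    · have h3 : g = (⟨y8, hy⟩ : ↥P336) ^ i := Subtype.ext (by push_cast; exact hi2.symm)
      have h4 : kd (enc g) = 8 := by
        obtain ⟨j, rfl⟩ : ∃ j, i = 2 * j + 1 := ⟨i / 2, by omega⟩
        have h5 : enc (g : Perm (Fin 8)) = mulC (enc ((y8 ^ 2) ^ j)) 3137890 := by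
          rw [← hi2, pow_succ, pow_mul, enc_mul, show enc y8 = 3137890 by decide +kernel]
        rw [h5]
        exact (show ∀ x ∈ Cc, kd (mulC x 3137890) = 8 by decide +kernel) _ (enc_mem kc ((mem_Yc_iff _).1 ⟨j, rfl⟩))
      rw [h4, h3, ho i h2]
      simp [vf]

end pgl

end Cfsg.Agent.H942.L7
end

private theorem dce_3e7d1833c972 : _root_.True := by
  try have : _root_.True := by simp only [_root_.Cfsg.Agent.H358.L7.ck2.eq_1]
  try have : _root_.True := by simp only [_root_.Cfsg.Agent.H358.L7.ck4.eq_1]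
  try have : _root_.True := by simp only [_root_.Cfsg.Agent.H942.L7.vf.eq_1]
  try have : _root_.True := by simp only [_root_.Cfsg.Agent.H358.L7.ck1.eq_1]
  try have : _root_.True := by simp only [_root_.Cfsg.Agent.H942.L7.V4b.eq_1]
  try have : _root_.True := by simp only [_root_.Cfsg.Agent.H358.L7.allB.eq_1]
  try have : _root_.True := by simp only [_root_.Cfsg.Agent.H811.L7.ezb.eq_1]
  try have : _root_.True := by simp only [_root_.Cfsg.Agent.H811.L7.E7.eq_1]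
  try have : _root_.True := by simp only [_root_.Cfsg.Agent.H811.L7.eig.eq_1]
  try have : _root_.True := by simp only [_root_.Cfsg.Agent.H358.L7.ckQ.eq_1]
  try have : _root_.True := by simp only [_root_.Cfsg.Agent.H811.L7.ezb'.eq_1]
  try have : _root_.True := by simp only [_root_.Cfsg.Agent.H358.L7.ck3.eq_1]
  try have : _root_.True := by simp only [_root_.Cfsg.Agent.H811.L7.en.congr_simp]
  try have : _root_.True := by simp only [_root_.Cfsg.Agent.H358.L7.allB.eq_2]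
  try have : _root_.True := by simp only [_root_.Cfsg.Agent.H811.L7.eza.eq_1]
  try have : _root_.True := by simp only [_root_.Cfsg.Agent.H942.L7.V4a.eq_1]
  try have : _root_.True := by simp only [_root_.Cfsg.Agent.H358.L7.ckA.eq_1]
  try have : _root_.True := by simp only [_root_.Cfsg.Agent.H358.L7.allB.eq_def]
  try have : _root_.True := by simp only [_root_.Cfsg.Agent.H811.L7.eza'.eq_1]
  try have : _root_.True := by simp only [_root_.Cfsg.Agent.H358.L7.ck5.eq_1]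
  try have : _root_.True := by simp only [_root_.Cfsg.Agent.H811.L7.KK.eq_1]
  try have : _root_.True := by simp only [_root_.Cfsg.Agent.H358.L7.ckP.eq_1]
  try have : _root_.True := by simp only [_root_.Cfsg.Agent.H358.L7.ckB.eq_1]
  exact _root_.True.intro
end

-- part: S5920
section
prune_inst 0x11000101400000000004051210000020140000000023000098040102010ed562000026004c2008040202800000000060000000200040000004000400000100208882c20022000004060097800004010000000000000000000000000000041000004010000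
set_option linter.all false
open scoped Cfsg.Agent.FastGrp

-- part: H942/L7/Count
section
/-!
# Counting vectors fixed by a maximal subgroup (S5920)
-/

set_option autoImplicit false
set_option linter.unusedSectionVars false
set_option linter.style.haveILetI false

namespace Cfsg.Agent.H942.L7

section Abstract

variable {G : Type*} [Group G] [Finite G] {X : Type*} [MulAction G X]

/-- if elements of `A` that are conjugate under `G` are conjugate under `H` only -/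
theorem count_aux (H : Subgroup G) (y : G) (A E : Set X) [Finite ↥A] [Finite ↥E]
    (hA : ∀ a ∈ A, ∀ g : G, g • a ∈ A → g ∈ H)
    (hE : ∀ m ∈ Subgroup.centralizer ({y} : Set G), ∀ a ∈ A, m • a ∈ E) :
    Nat.card ↥(Subgroup.centralizer ({y} : Set G)) * Nat.card ↥A ≤
      Nat.card ↥(H ⊓ Subgroup.centralizer ({y} : Set G)) * Nat.card ↥E := by
  classical
  rw [← Nat.card_prod, ← Nat.card_prod]
  let Φ : ↥(Subgroup.centralizer ({y} : Set G)) × ↥A → ↥E := fun p => ⟨(p.1 : G) • (p.2 : X), hE _ p.1.2 _ p.2.2⟩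
  rcases isEmpty_or_nonempty (↥(Subgroup.centralizer ({y} : Set G)) × ↥A) with h | h
  · rw [Nat.card_of_isEmpty]; exact Nat.zero_le _
  obtain ⟨r, hr⟩ : ∃ r : ↥E → ↥(Subgroup.centralizer ({y} : Set G)) × ↥A, ∀ p, Φ (r (Φ p)) = Φ p :=
    ⟨Function.invFun Φ, fun p => Function.invFun_eq ⟨p, rfl⟩⟩
  have hr' : ∀ p, (((r (Φ p)).1 : G)) • ((r (Φ p)).2 : X) = (p.1 : G) • (p.2 : X) := fun p =>
    congrArg Subtype.val (hr p)
  have key : ∀ p, ((p.1⁻¹ * (r (Φ p)).1 : ↥(Subgroup.centralizer ({y} : Set G))) : G) ∈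
      H ⊓ Subgroup.centralizer ({y} : Set G) := by
    intro p
    refine ⟨hA _ (r (Φ p)).2.2 _ ?_, (p.1⁻¹ * (r (Φ p)).1).2⟩
    have : ((p.1⁻¹ * (r (Φ p)).1 : ↥(Subgroup.centralizer ({y} : Set G))) : G) • ((r (Φ p)).2 : X) = (p.2 : X) := by
      push_cast
      rw [mul_smul, hr' p, inv_smul_smul]
    rw [this]
    exact p.2.2
  refine Nat.card_le_card_of_injective (fun p => (⟨_, key p⟩, Φ p)) ?_
  intro p q hpq
  rw [Prod.mk.injEq] at hpq
  obtain ⟨h1, h2⟩ := hpq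
  rw [Subtype.mk.injEq, h2] at h1
  push_cast at h1
  have h3 : (p.1 : G) = q.1 := inv_injective (mul_right_cancel h1)
  have h4 : (p.1 : G) • (p.2 : X) = (q.1 : G) • (q.2 : X) := congrArg Subtype.val h2
  rw [h3] at h4
  exact Prod.ext (Subtype.ext h3) (Subtype.ext (smul_left_cancel _ h4))

end Abstract

section Rep

variable {k : Type*} [Field k] {G : Type*} [Group G] [Finite G] {V : Type*} [AddCommGroup V] [Module k V]
  (ρ : Representation k G V)

/-- the stabilizer of `{a, -a}` -/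
def stab (a : V) : Subgroup G where
  carrier := {g | ρ g a = a ∨ ρ g a = - a}
  mul_mem' := by
    intro g h hg hh
    have h1 : ρ (g * h) a = ρ g (ρ h a) := by rw [map_mul]; rfl
    show ρ (g * h) a = a ∨ ρ (g * h) a = - a
    rw [h1]
    rcases hh with hh | hh
    · rw [hh]; exact hg
    · rw [hh, map_neg]
      rcases hg with hg | hg
      · rw [hg]; exact Or.inr rfl
      · rw [hg, neg_neg]; exact Or.inl rfl
  one_mem' := by left; rw [map_one]; rfl
  inv_mem' := by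
    intro g hg
    have h1 : ρ g⁻¹ (ρ g a) = a := by
      have : ρ (g⁻¹ * g) a = ρ g⁻¹ (ρ g a) := by rw [map_mul]; rfl
      rw [← this, inv_mul_cancel, map_one]; rfl
    rcases hg with hg | hg
    · left; rw [hg] at h1; exact h1
    · right; rw [hg, map_neg] at h1; rw [← h1, neg_neg]; exact congrArg _ (by rw [h1])

theorem mem_stab {a : V} {g : G} : g ∈ stab ρ a ↔ ρ g a = a ∨ ρ g a = - a := Iff.rfl

/-- the stabilizer of a vector -/
def fixG (a : V) : Subgroup G where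
  carrier := {g | ρ g a = a}
  mul_mem' := by
    intro g h hg hh
    have h1 : ρ (g * h) a = ρ g (ρ h a) := by rw [map_mul]; rfl
    show ρ (g * h) a = a
    rw [h1, show ρ h a = a from hh, show ρ g a = a from hg]
  one_mem' := by show ρ 1 a = a; rw [map_one]; rfl
  inv_mem' := by
    intro g hg
    have h1 : ρ g⁻¹ (ρ g a) = a := by
      have : ρ (g⁻¹ * g) a = ρ g⁻¹ (ρ g a) := by rw [map_mul]; rfl
      rw [← this, inv_mul_cancel, map_one]; rfl
    show ρ g⁻¹ a = a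
    rw [show ρ g a = a from hg] at h1
    exact h1

theorem stab_eq (hG : IsSimpleGroup G) (hc : 2 < Nat.card G) (hfix : ∀ v, (∀ g, ρ g v = v) → v = 0) (H : Subgroup G)
    (hmax : IsCoatom H) {a : V} (ha : a ≠ 0) (hH : H ≤ stab ρ a) : stab ρ a = H := by
  classical
  by_contra hne
  have htop : stab ρ a = ⊤ := hmax.2 _ (lt_of_le_of_ne hH (Ne.symm hne))
  have hall : ∀ g : G, ρ g a = a ∨ ρ g a = - a := fun g => by
    have : g ∈ stab ρ a := by rw [htop]; trivial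
    exact this
  have hmul : ∀ (g h : G) (v : V), ρ (g * h) v = ρ g (ρ h v) := fun g h v => by rw [map_mul]; rfl
  have hnorm : (fixG ρ a).Normal := by
    constructor
    intro f hf g
    have hf' : ρ f a = a := hf
    show ρ (g * f * g⁻¹) a = a
    rw [hmul, hmul]
    have h1 : ρ g (ρ g⁻¹ a) = a := by rw [← hmul, mul_inv_cancel, map_one]; rfl
    rcases hall g⁻¹ with h | h
    · rw [h] at h1 ⊢
      rw [hf', h1]
    · rw [h] at h1 ⊢
      rw [map_neg, hf', h1]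
  rcases hG.eq_bot_or_eq_top_of_normal _ hnorm with h | h
  · -- the group has at most two elements
    have hle : Nat.card G ≤ 2 := by
      by_contra hlt
      have h3 : ∀ g h' : G, g ∉ fixG ρ a → h' ∉ fixG ρ a → g = h' := by
        intro g h' hg hh'
        have e1 : ρ g a = - a := (hall g).resolve_left hg
        have e2 : ρ h'⁻¹ a = - a := by
          refine (hall h'⁻¹).resolve_left fun e => hh' ?_
          have : h'⁻¹ ∈ fixG ρ a := e
          exact (Subgroup.inv_mem_iff _).1 this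
        have e3 : g * h'⁻¹ ∈ fixG ρ a := by
          show ρ (g * h'⁻¹) a = a
          rw [hmul, e2, map_neg, e1, neg_neg]
        rw [h, Subgroup.mem_bot] at e3
        exact mul_inv_eq_one.1 e3
      have : ∃ g h' : G, g ≠ 1 ∧ h' ≠ 1 ∧ g ≠ h' := by
        by_contra hcon
        push Not at hcon
        refine hlt ?_
        rcases exists_or_forall_not (fun g : G => g ≠ 1) with ⟨g, hg⟩ | hnone
        · have : Function.Injective (fun x : G => if x = 1 then (0 : Fin 2) else 1) := by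
            intro x y hxy
            simp only at hxy
            by_cases hx : x = 1 <;> by_cases hy : y = 1
            · rw [hx, hy]
            · simp [hx, hy] at hxy
            · simp [hx, hy] at hxy
            · exact hcon x y hx hy
          have := Nat.card_le_card_of_injective _ this
          simpa only [_root_.ge_iff_le, _root_.Nat.card_eq_fintype_card, _root_.Fintype.card_fin] using this
        · have : Function.Injective (fun _ : G => (0 : Fin 2)) := by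
            intro x y _
            rw [not_not.1 (hnone x), not_not.1 (hnone y)]
          have := Nat.card_le_card_of_injective _ this
          simpa only [_root_.ge_iff_le, _root_.Nat.card_eq_fintype_card, _root_.Fintype.card_fin] using this
      obtain ⟨g, h', h4, h5, h6⟩ := this
      refine h6 (h3 g h' ?_ ?_)
      · rw [h, Subgroup.mem_bot]; exact h4
      · rw [h, Subgroup.mem_bot]; exact h5
    omega
  · refine ha (hfix a fun g => ?_)
    have : g ∈ fixG ρ a := by rw [h]; trivial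
    exact this

theorem count_max (hG : IsSimpleGroup G) (hc : 2 < Nat.card G) (hfix : ∀ v, (∀ g, ρ g v = v) → v = 0) (H : Subgroup G)
    (hmax : IsCoatom H) (hbot : H ≠ ⊥) (y : G) (A E : Set V) [Finite ↥A] [Finite ↥E]
    (hA : ∀ a ∈ A, a ≠ 0 ∧ ∀ h ∈ H, ρ h a = a ∨ ρ h a = - a)
    (hE : ∀ m ∈ Subgroup.centralizer ({y} : Set G), ∀ a ∈ A, ρ m a ∈ E) :
    Nat.card ↥(Subgroup.centralizer ({y} : Set G)) * Nat.card ↥A ≤
      Nat.card ↥(H ⊓ Subgroup.centralizer ({y} : Set G)) * Nat.card ↥E := by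
  have hmul : ∀ (g h : G) (v : V), ρ (g * h) v = ρ g (ρ h v) := fun g h v => by rw [map_mul]; rfl
  letI : MulAction G V := {
    smul := fun g v => ρ g v
    one_smul := fun v => by show ρ 1 v = v; rw [map_one]; rfl
    mul_smul := fun g h v => hmul g h v }
  have hst : ∀ a ∈ A, stab ρ a = H := fun a ha => stab_eq ρ hG hc hfix H hmax (hA a ha).1 (hA a ha).2
  have hnorm : ∀ g : G, g ∈ Subgroup.normalizer (H : Set G) → g ∈ H := by
    intro g hg
    by_contra hne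
    have hle : H < Subgroup.normalizer (H : Set G) := lt_of_le_of_ne Subgroup.le_normalizer fun h => hne (h ▸ hg)
    have htop := hmax.2 _ hle
    have hN : H.Normal := Subgroup.normalizer_eq_top_iff.1 htop
    rcases hG.eq_bot_or_eq_top_of_normal _ hN with h | h
    · exact hbot h
    · exact hmax.1 h
  refine count_aux H y A E (fun a ha g hg => hnorm g ?_) (fun m hm a ha => hE m hm a ha)
  have hg' : ρ g a ∈ A := hg
  rw [Subgroup.mem_normalizer_iff]
  intro h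
  constructor
  · intro hh
    rw [← hst _ hg', mem_stab]
    rw [← hst _ ha, mem_stab] at hh
    rw [hmul, hmul]
    have h1 : ρ g⁻¹ (ρ g a) = a := by rw [← hmul, inv_mul_cancel, map_one]; rfl
    rw [h1]
    rcases hh with hh | hh
    · left; rw [hh]
    · right; rw [hh, map_neg]
  · intro hh
    rw [← hst _ ha, mem_stab]
    rw [← hst _ hg', mem_stab] at hh
    rw [hmul, hmul] at hh
    have h1 : ρ g⁻¹ (ρ g a) = a := by rw [← hmul, inv_mul_cancel, map_one]; rfl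
    rw [h1] at hh
    have h2 : ∀ v, ρ g⁻¹ (ρ g v) = v := fun v => by rw [← hmul, inv_mul_cancel, map_one]; rfl
    rcases hh with hh | hh
    · left
      have := congrArg (ρ g⁻¹) hh
      rwa [h2, h2] at this
    · right
      have := congrArg (ρ g⁻¹) hh
      rwa [h2, map_neg, h2] at this

end Rep

end Cfsg.Agent.H942.L7
end

-- part: H942/L7/Num
section
/-!
# S5920: numbers
-/

set_option autoImplicit false

namespace Cfsg.Agent.H942.L7

open Cfsg.Agent.H942.CB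

theorem pow_ge {x n : ℕ} (h : n ≤ x) : 3 ^ n ≤ 3 ^ x := Nat.pow_le_pow_right (by norm_num) h

/-- the case `PSL₂(7)` -/
theorem num1 {β2 β4 β7 : ℤ} {b : ℕ} (hB : (β4, β2, b) ∈ B4) (h7 : β7 = 3 ∨ β7 = 52) {v v' d e m x A E : ℕ}
    (hv : 248 + 3 * β2 = 4 * (v : ℤ)) (hv' : 248 + 3 * β2 = 4 * (v' : ℤ)) (hd : 248 + 5 * β2 + 2 * β4 = 8 * (d : ℤ))
    (he : 248 + 6 * β7 = 7 * (e : ℤ)) (hm : 248 + β2 + 2 * β4 = 4 * (m : ℤ))
    (hr : 3 * d + e ≤ v + v' + 3 * x) (hA : A + 1 = 3 ^ x) (hE : E + 1 = 3 ^ m) (hc : b * A ≤ 4 * E) : False := by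
  unfold B4 at hB
  simp only [List.mem_cons, List.not_mem_nil, or_false, Prod.mk.injEq] at hB
  have he' : 38 ≤ e := by (clear * - h7 he; omega)
  rcases hB with ⟨h1, h2, h3⟩ | ⟨h1, h2, h3⟩ | ⟨h1, h2, h3⟩ | ⟨h1, h2, h3⟩ | ⟨h1, h2, h3⟩ | ⟨h1, h2, h3⟩ | ⟨h1, h2, h3⟩ <;>
    subst h1 h2 h3
  · have hm' : m = 60 := by omega
    have hx := pow_ge (show 2 ≤ x by (clear * - hr he' hv hv' hd; omega))
    subst hm'
    rw [← hA] at hx
    norm_num at hE hx
    omega
  · have hm' : m = 66 := by omega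
    have hx := pow_ge (show 5 ≤ x by (clear * - hr he' hv hv' hd; omega))
    subst hm'
    rw [← hA] at hx
    norm_num at hE hx
    omega
  · have hm' : m = 64 := by omega
    have hx := pow_ge (show 4 ≤ x by (clear * - hr he' hv hv' hd; omega))
    subst hm'
    rw [← hA] at hx
    norm_num at hE hx
    omega
  · have hm' : m = 70 := by omega
    have hx := pow_ge (show 7 ≤ x by (clear * - hr he' hv hv' hd; omega))
    subst hm'
    rw [← hA] at hx
    norm_num at hE hx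
    omega
  · have hm' : m = 82 := by omega
    have hx := pow_ge (show 13 ≤ x by (clear * - hr he' hv hv' hd; omega))
    subst hm'
    rw [← hA] at hx
    norm_num at hE hx
    omega
  · have hm' : m = 92 := by omega
    have hx := pow_ge (show 18 ≤ x by (clear * - hr he' hv hv' hd; omega))
    subst hm'
    rw [← hA] at hx
    norm_num at hE hx
    omega
  · have hm' : m = 134 := by omega
    have hx := pow_ge (show 39 ≤ x by (clear * - hr he' hv hv' hd; omega))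
    subst hm'
    rw [← hA] at hx
    norm_num at hE hx
    omega

/-- convexity -/
theorem conv {a b k l : ℕ} (h : k + l ≤ a + b) (hkl : k ≤ l) (hlk : l ≤ k + 1) : 3 ^ k + 3 ^ l ≤ 3 ^ a + 3 ^ b := by
  by_cases h1 : l ≤ a ∧ k ≤ b
  · have := pow_ge h1.1
    have := pow_ge h1.2
    omega
  by_cases h2 : k ≤ a ∧ l ≤ b
  · have := pow_ge h2.1
    have := pow_ge h2.2
    omega
  have h3 : 3 ^ (l + 1) = 3 * 3 ^ l := by rw [pow_succ, mul_comm]
  have h4 := pow_ge hkl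
  have h7 : 0 < 3 ^ a := Nat.pow_pos (by norm_num)
  have h8 : 0 < 3 ^ b := Nat.pow_pos (by norm_num)
  by_cases h5 : a < k
  · have := pow_ge (show l + 1 ≤ b by omega)
    omega
  by_cases h6 : b < k
  · have := pow_ge (show l + 1 ≤ a by omega)
    omega
  omega

/-- the case `PGL₂(7)`, element of order 4 -/
theorem num2 {β2 β4 β7 : ℤ} {b : ℕ} (hB : (β4, β2, b) ∈ B4) (h7 : β7 = 3 ∨ β7 = 52) {v v' d e m x a c A E : ℕ}
    (hv : 248 + 3 * β2 = 4 * (v : ℤ)) (hv' : 248 + 3 * β2 = 4 * (v' : ℤ)) (hd : 248 + 5 * β2 + 2 * β4 = 8 * (d : ℤ))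
    (he : 248 + 6 * β7 = 7 * (e : ℤ)) (hm : 248 + β2 + 2 * β4 = 4 * (m : ℤ))
    (hr : 3 * d + e ≤ v + v' + 3 * x) (hx : x ≤ a + c) (hA : A + 2 = 3 ^ a + 3 ^ c) (hE : E + 1 = 3 ^ m)
    (hc : b * A ≤ 8 * E) : β2 = -8 ∧ β4 = 0 ∧ β7 = 3 ∧ a ≤ 2 := by
  unfold B4 at hB
  simp only [List.mem_cons, List.not_mem_nil, or_false, Prod.mk.injEq] at hB
  have he' : 38 ≤ e := by (clear * - h7 he; omega)
  rcases hB with ⟨h1, h2, h3⟩ | ⟨h1, h2, h3⟩ | ⟨h1, h2, h3⟩ | ⟨h1, h2, h3⟩ | ⟨h1, h2, h3⟩ | ⟨h1, h2, h3⟩ | ⟨h1, h2, h3⟩ <;>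
    subst h1 h2 h3
  · have hm' : m = 60 := by omega
    subst hm'
    refine ⟨rfl, rfl, ?_, ?_⟩
    · rcases h7 with h7 | h7
      · exact h7
      · exfalso
        subst h7
        have hx' := conv (show 8 + 8 ≤ a + c by omega) le_rfl (Nat.le_succ _)
        rw [← hA] at hx'
        norm_num at hE hx'
        omega
    · by_contra h8
      have h9 := pow_ge (show 3 ≤ a by omega)
      have h10 := pow_ge (show 0 ≤ c by omega)
      norm_num at hE h9 h10
      omega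
  · exfalso
    have hm' : m = 66 := by omega
    have hx' := conv (show 2 + 3 ≤ a + c by (clear * - hr hx he' hv hv' hd; omega)) (by norm_num) (by norm_num)
    subst hm'
    rw [← hA] at hx'
    norm_num at hE hx'
    omega
  · exfalso
    have hm' : m = 64 := by omega
    have hx' := conv (show 2 + 2 ≤ a + c by (clear * - hr hx he' hv hv' hd; omega)) (by norm_num) (by norm_num)
    subst hm'
    rw [← hA] at hx'
    norm_num at hE hx'
    omega
  · exfalso
    have hm' : m = 70 := by omega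
    have hx' := conv (show 3 + 4 ≤ a + c by (clear * - hr hx he' hv hv' hd; omega)) (by norm_num) (by norm_num)
    subst hm'
    rw [← hA] at hx'
    norm_num at hE hx'
    omega
  · exfalso
    have hm' : m = 82 := by omega
    have hx' := conv (show 6 + 7 ≤ a + c by (clear * - hr hx he' hv hv' hd; omega)) (by norm_num) (by norm_num)
    subst hm'
    rw [← hA] at hx'
    norm_num at hE hx'
    omega
  · exfalso
    have hm' : m = 92 := by omega
    have hx' := conv (show 9 + 9 ≤ a + c by (clear * - hr hx he' hv hv' hd; omega)) (by norm_num) (by norm_num)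
    subst hm'
    rw [← hA] at hx'
    norm_num at hE hx'
    omega
  · exfalso
    have hm' : m = 134 := by omega
    have hx' := conv (show 19 + 20 ≤ a + c by (clear * - hr hx he' hv hv' hd; omega)) (by norm_num) (by norm_num)
    subst hm'
    rw [← hA] at hx'
    norm_num at hE hx'
    omega

/-- the case `PGL₂(7)`, element of order 8 -/
theorem num3 {β8 : ℤ} {b : ℕ} (hB : (β8, b) ∈ B8) {m m4 c A E : ℕ} (hm : 248 - 8 + 0 + 4 * β8 = 8 * (m : ℤ))
    (hm4 : m4 + m ≤ 60) (hA : A + 1 = 3 ^ c) (hE : E + 1 = 3 ^ m4) (hc : b * A ≤ 8 * E) :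
    (β8 = 0 ∧ c ≤ 1) ∨ ((β8 = 4 ∨ β8 = 16) ∧ c = 0) := by
  unfold B8 at hB
  simp only [List.mem_cons, List.not_mem_nil, or_false, Prod.mk.injEq] at hB
  rcases hB with ⟨h1, h2⟩ | ⟨h1, h2⟩ | ⟨h1, h2⟩ <;> subst h1 h2
  · left
    refine ⟨rfl, ?_⟩
    by_contra h
    have h1 := pow_ge (show 2 ≤ c by omega)
    have h2 := pow_ge (show m4 ≤ 30 by omega)
    rw [← hA] at h1
    rw [← hE] at h2
    norm_num at h1 h2
    omega
  · right
    refine ⟨Or.inl rfl, ?_⟩
    by_contra h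
    have h1 := pow_ge (show 1 ≤ c by omega)
    have h2 := pow_ge (show m4 ≤ 28 by omega)
    rw [← hA] at h1
    rw [← hE] at h2
    norm_num at h1 h2
    omega
  · right
    refine ⟨Or.inr rfl, ?_⟩
    by_contra h
    have h1 := pow_ge (show 1 ≤ c by omega)
    have h2 := pow_ge (show m4 ≤ 22 by omega)
    rw [← hA] at h1
    rw [← hE] at h2
    norm_num at h1 h2
    omega

end Cfsg.Agent.H942.L7
end

-- part: H893/L7/Cent
section
/-!
# S5920, task CENT (helper893): orders of `P168`, `P336` and of some centralisers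
-/

set_option autoImplicit false

namespace Cfsg.Agent.H893.L7

open Equiv Cfsg.Agent.H942.L7

/-- normal form: `nn^i g6^j` (`k = 7`) or `nn^i g6^j ww nn^k` -/
def NF (i j k : ℕ) : Perm (Fin 8) := nn ^ i * g6 ^ j * (if k = 7 then 1 else ww * nn ^ k)

theorem nn_pow_seven : nn ^ 7 = 1 := by decide +kernel
theorem g6_pow_six : g6 ^ 6 = 1 := by decide +kernel
theorem ww_sq : ww * ww = 1 := by decide +kernel
theorem red (i j k : ℕ) : NF i j k = NF (i % 7) (j % 6) k := by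
  unfold NF
  rw [pow_eq_pow_mod i nn_pow_seven, pow_eq_pow_mod j g6_pow_six]

/-- the normal forms with `e ∣ j` -/
def S (e : ℕ) : Set (Perm (Fin 8)) := {g | ∃ i < 7, ∃ j < 6, ∃ k < 8, e ∣ j ∧ g = NF i j k}

theorem mem_S {e i j k : ℕ} (he : e ∣ 6) (hj : e ∣ j) (hk : k < 8) : NF i j k ∈ S e := by
  refine ⟨i % 7, Nat.mod_lt _ (by norm_num), j % 6, Nat.mod_lt _ (by norm_num), k, hk, ?_, red i j k⟩
  exact (Nat.dvd_mod_iff he).2 hj

theorem mul_nn : ∀ k < 8, (if k = 7 then (1 : Perm (Fin 8)) else ww * nn ^ k) * nn =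
    if k = 7 then nn else (if (k + 1) % 7 = 7 then 1 else ww * nn ^ ((k + 1) % 7)) := by decide +kernel

theorem g6_pow_nn : ∀ j < 6, g6 ^ j * nn = nn ^ (3 ^ j % 7) * g6 ^ j := by decide +kernel

theorem mul_g6 : ∀ k < 7, ww * nn ^ k * g6 = g6 ^ 5 * (ww * nn ^ (5 * k % 7)) := by decide +kernel

theorem mul_ww : ∀ k < 7, k ≠ 0 → ∃ a < 7, ∃ b < 6, ∃ c < 7, 2 ∣ b ∧
    ww * nn ^ k * ww = nn ^ a * g6 ^ b * (ww * nn ^ c) := by decide +kernel

theorem g6_pow_nn_pow (j a : ℕ) : ∃ a', g6 ^ j * nn ^ a = nn ^ a' * g6 ^ j := by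
  induction a with
  | zero => exact ⟨0, by simp⟩
  | succ a ih =>
    obtain ⟨a', ha'⟩ := ih
    have h1 : g6 ^ j * nn = nn ^ (3 ^ (j % 6) % 7) * g6 ^ j := by
      rw [pow_eq_pow_mod j g6_pow_six]
      exact g6_pow_nn _ (Nat.mod_lt _ (by norm_num))
    exact ⟨a' + 3 ^ (j % 6) % 7, by rw [pow_succ, ← mul_assoc, ha', mul_assoc, h1, ← mul_assoc, ← pow_add]⟩

theorem NF_mul_nn (i j k : ℕ) (hk : k < 8) : ∃ i' j' k', k' < 8 ∧ (j' = j) ∧ NF i j k * nn = NF i' j' k' := by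
  by_cases h7 : k = 7
  · subst h7
    obtain ⟨a', ha'⟩ := g6_pow_nn_pow j 1
    refine ⟨i + a', j, 7, by norm_num, rfl, ?_⟩
    rw [NF, NF, if_pos rfl, mul_one, mul_one, mul_assoc]
    rw [pow_one] at ha'
    rw [ha', ← mul_assoc, ← pow_add]
  · refine ⟨i, j, (k + 1) % 7, lt_trans (Nat.mod_lt _ (by norm_num)) (by norm_num), rfl, ?_⟩
    have h1 := mul_nn k hk
    rw [if_neg h7, if_neg h7] at h1
    rw [NF, if_neg h7, mul_assoc, h1, NF]

theorem NF_mul_g6 (i j k : ℕ) (hk : k < 8) : ∃ i' j' k', k' < 8 ∧ (j' = j + 1 ∨ j' = j + 5) ∧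
    NF i j k * g6 = NF i' j' k' := by
  by_cases h7 : k = 7
  · subst h7
    refine ⟨i, j + 1, 7, by norm_num, Or.inl rfl, ?_⟩
    rw [NF, NF, if_pos rfl, mul_one, mul_one, mul_assoc, ← pow_succ]
  · refine ⟨i, j + 5, 5 * k % 7, lt_trans (Nat.mod_lt _ (by norm_num)) (by norm_num), Or.inr rfl, ?_⟩
    have h1 := mul_g6 k (by omega)
    have h2 : 5 * k % 7 ≠ 7 := (Nat.mod_lt _ (by norm_num)).ne
    rw [NF, if_neg h7, mul_assoc, h1, NF, if_neg h2, pow_add]
    simp only [mul_assoc]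

theorem NF_mul_ww (i j k : ℕ) (hk : k < 8) : ∃ i' j' k', k' < 8 ∧ (∃ b, 2 ∣ b ∧ j' = j + b) ∧
    NF i j k * ww = NF i' j' k' := by
  by_cases h7 : k = 7
  · subst h7
    refine ⟨i, j, 0, by norm_num, ⟨0, dvd_zero _, rfl⟩, ?_⟩
    rw [NF, NF, if_pos rfl, if_neg (by norm_num), pow_zero, mul_one, mul_one]
  · by_cases h0 : k = 0
    · subst h0
      refine ⟨i, j, 7, by norm_num, ⟨0, dvd_zero _, rfl⟩, ?_⟩
      rw [NF, NF, if_pos rfl, if_neg (by norm_num), pow_zero, mul_one, mul_one, mul_assoc, ww_sq, mul_one]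
    · obtain ⟨a, -, b, -, c, hc, hb2, hb⟩ := mul_ww k (by omega) h0
      obtain ⟨a', ha'⟩ := g6_pow_nn_pow j a
      refine ⟨i + a', j + b, c, by omega, ⟨b, hb2, rfl⟩, ?_⟩
      rw [NF, if_neg h7, mul_assoc, hb, NF, if_neg hc.ne, pow_add, pow_add]
      have h1 : nn ^ i * g6 ^ j * (nn ^ a * g6 ^ b * (ww * nn ^ c)) =
          nn ^ i * (g6 ^ j * nn ^ a) * g6 ^ b * (ww * nn ^ c) := by simp only [mul_assoc]
      rw [h1, ha']
      simp only [mul_assoc]

theorem S_mul_nn {e : ℕ} (he : e ∣ 6) {g : Perm (Fin 8)} (hg : g ∈ S e) : g * nn ∈ S e := by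
  obtain ⟨i, -, j, -, k, hk, hj, rfl⟩ := hg
  obtain ⟨i', j', k', hk', rfl, h⟩ := NF_mul_nn i j k hk
  rw [h]
  exact mem_S he hj hk'

theorem S_mul_ww {e : ℕ} (he : e ∣ 6) (he2 : e ∣ 2) {g : Perm (Fin 8)} (hg : g ∈ S e) : g * ww ∈ S e := by
  obtain ⟨i, -, j, -, k, hk, hj, rfl⟩ := hg
  obtain ⟨i', j', k', hk', ⟨b, hb, rfl⟩, h⟩ := NF_mul_ww i j k hk
  rw [h]
  exact mem_S he ((Nat.dvd_add_right hj).2 (he2.trans hb)) hk'

theorem S_mul_g6 {g : Perm (Fin 8)} (hg : g ∈ S 1) : g * g6 ∈ S 1 := by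
  obtain ⟨i, -, j, -, k, hk, hj, rfl⟩ := hg
  obtain ⟨i', j', k', hk', -, h⟩ := NF_mul_g6 i j k hk
  rw [h]
  exact mem_S (one_dvd _) (one_dvd _) hk'

theorem S_mul_g6_sq {g : Perm (Fin 8)} (hg : g ∈ S 2) : g * g6 ^ 2 ∈ S 2 := by
  obtain ⟨i, -, j, -, k, hk, hj, rfl⟩ := hg
  obtain ⟨i', j', k', hk', h1, h⟩ := NF_mul_g6 i j k hk
  obtain ⟨i'', j'', k'', hk'', h2, h'⟩ := NF_mul_g6 i' j' k' hk'
  rw [pow_two, ← mul_assoc, h, h']
  exact mem_S (by norm_num) (by omega) hk''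

theorem S_mul_pow {e : ℕ} {x : Perm (Fin 8)} (h : ∀ g ∈ S e, g * x ∈ S e) (n : ℕ) :
    ∀ g ∈ S e, g * x ^ n ∈ S e := by
  induction n with
  | zero => intro g hg; simpa using hg
  | succ n ih =>
    intro g hg
    rw [pow_succ, ← mul_assoc]
    exact h _ (ih g hg)

theorem S_mul_inv {e : ℕ} {x : Perm (Fin 8)} (h : ∀ g ∈ S e, g * x ∈ S e) {g : Perm (Fin 8)} (hg : g ∈ S e) :
    g * x⁻¹ ∈ S e := by
  have h1 : x⁻¹ = x ^ (orderOf x - 1) := by
    have h2 : 0 < orderOf x := orderOf_pos x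
    have h3 : x ^ (orderOf x - 1) * x = 1 := by
      rw [← pow_succ, Nat.sub_add_cancel h2, pow_orderOf_eq_one]
    exact (eq_inv_of_mul_eq_one_left h3).symm
  rw [h1]
  exact S_mul_pow h _ g hg

theorem one_mem_S (e : ℕ) (he : e ∣ 6) : (1 : Perm (Fin 8)) ∈ S e := by
  have h := mem_S (i := 0) (j := 0) (k := 7) he (dvd_zero _) (by norm_num)
  have h1 : NF 0 0 7 = 1 := by simp [NF]
  rwa [h1] at h

theorem P336_le : ∀ g ∈ P336, g ∈ S 1 := by
  intro g hg
  refine Subgroup.closure_induction_right (p := fun g _ => g ∈ S 1) (one_mem_S 1 (one_dvd _)) ?_ ?_ hg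
  · rintro x _ y (rfl | rfl | rfl) hx
    · exact S_mul_nn (one_dvd _) hx
    · exact S_mul_g6 hx
    · exact S_mul_ww (one_dvd _) (one_dvd _) hx
  · rintro x _ y (rfl | rfl | rfl) hx
    · exact S_mul_inv (fun g hg => S_mul_nn (one_dvd _) hg) hx
    · exact S_mul_inv (fun g hg => S_mul_g6 hg) hx
    · exact S_mul_inv (fun g hg => S_mul_ww (one_dvd _) (one_dvd _) hg) hx

theorem P168_le : ∀ g ∈ P168, g ∈ S 2 := by
  intro g hg
  refine Subgroup.closure_induction_right (p := fun g _ => g ∈ S 2) (one_mem_S 2 (by norm_num)) ?_ ?_ hg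
  · rintro x _ y (rfl | rfl | rfl) hx
    · exact S_mul_nn (by norm_num) hx
    · exact S_mul_g6_sq hx
    · exact S_mul_ww (by norm_num) dvd_rfl hx
  · rintro x _ y (rfl | rfl | rfl) hx
    · exact S_mul_inv (fun g hg => S_mul_nn (by norm_num) hg) hx
    · exact S_mul_inv (fun g hg => S_mul_g6_sq hg) hx
    · exact S_mul_inv (fun g hg => S_mul_ww (by norm_num) dvd_rfl hg) hx

theorem NF_mem_P336 (i j k : ℕ) : NF i j k ∈ P336 := by
  have h1 : nn ∈ P336 := Subgroup.subset_closure (by simp)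
  have h2 : g6 ∈ P336 := Subgroup.subset_closure (by simp)
  have h3 : ww ∈ P336 := Subgroup.subset_closure (by simp)
  unfold NF
  refine mul_mem (mul_mem (pow_mem h1 _) (pow_mem h2 _)) ?_
  split_ifs
  · exact one_mem _
  · exact mul_mem h3 (pow_mem h1 _)

theorem NF_mem_P168 (i j k : ℕ) (hj : 2 ∣ j) : NF i j k ∈ P168 := by
  have h1 : nn ∈ P168 := Subgroup.subset_closure (by simp)
  have h2 : g6 ^ 2 ∈ P168 := Subgroup.subset_closure (by simp)
  have h3 : ww ∈ P168 := Subgroup.subset_closure (by simp)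
  obtain ⟨j, rfl⟩ := hj
  unfold NF
  refine mul_mem (mul_mem (pow_mem h1 _) ?_) ?_
  · rw [pow_mul]
    exact pow_mem h2 _
  split_ifs
  · exact one_mem _
  · exact mul_mem h3 (pow_mem h1 _)

/-- logarithm to the base 3 modulo 7 -/
def lg : ℕ → ℕ
  | 1 => 0
  | 3 => 1
  | 2 => 2
  | 6 => 3
  | 4 => 4
  | _ => 5

/-- decoding of the normal form -/
def dec (g : Perm (Fin 8)) : ℕ × ℕ × ℕ :=
  if (g 7 : Fin 8).val = 7 then ((g 0 : Fin 8).val, lg (((g 1 : Fin 8).val + 7 - (g 0 : Fin 8).val) % 7), 7)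
  else
    let k := (7 - (g.symm 7 : Fin 8).val) % 7
    ((g 7 : Fin 8).val, lg (((g 7 : Fin 8).val + 7 - (g (Fin.ofNat 8 ((8 - k) % 7)) : Fin 8).val) % 7), k)

theorem dec_NF : ∀ i < 7, ∀ j < 6, ∀ k < 8, dec (NF i j k) = (i, j, k) := by decide +kernel

theorem NF_inj {i j k i' j' k' : ℕ} (hi : i < 7) (hj : j < 6) (hk : k < 8) (hi' : i' < 7) (hj' : j' < 6) (hk' : k' < 8)
    (h : NF i j k = NF i' j' k') : i = i' ∧ j = j' ∧ k = k' := by
  have h1 := dec_NF i hi j hj k hk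
  rw [h, dec_NF i' hi' j' hj' k' hk'] at h1
  simp only [Prod.mk.injEq] at h1
  exact ⟨h1.1.symm, h1.2.1.symm, h1.2.2.symm⟩

theorem card_P336 : Nat.card ↥P336 = 336 := by
  have h : Function.Bijective (fun x : Fin 7 × Fin 6 × Fin 8 => (⟨NF x.1 x.2.1 x.2.2, NF_mem_P336 _ _ _⟩ : ↥P336)) := by
    constructor
    · rintro ⟨i, j, k⟩ ⟨i', j', k'⟩ h
      obtain ⟨h1, h2, h3⟩ := NF_inj i.2 j.2 k.2 i'.2 j'.2 k'.2 (congrArg Subtype.val h)
      exact Prod.ext (Fin.ext h1) (Prod.ext (Fin.ext h2) (Fin.ext h3))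
    · rintro ⟨g, hg⟩
      obtain ⟨i, hi, j, hj, k, hk, -, rfl⟩ := P336_le g hg
      exact ⟨(⟨i, hi⟩, ⟨j, hj⟩, ⟨k, hk⟩), rfl⟩
  rw [← Nat.card_congr (Equiv.ofBijective _ h)]
  simp

theorem card_P168 : Nat.card ↥P168 = 168 := by
  have h : Function.Bijective (fun x : Fin 7 × Fin 3 × Fin 8 =>
      (⟨NF x.1 (2 * x.2.1) x.2.2, NF_mem_P168 _ _ _ ⟨_, rfl⟩⟩ : ↥P168)) := by
    constructor
    · rintro ⟨i, j, k⟩ ⟨i', j', k'⟩ h
      obtain ⟨h1, h2, h3⟩ := NF_inj i.2 (by omega) k.2 i'.2 (by omega) k'.2 (congrArg Subtype.val h)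
      exact Prod.ext (Fin.ext h1) (Prod.ext (Fin.ext (by omega)) (Fin.ext h3))
    · rintro ⟨g, hg⟩
      obtain ⟨i, hi, j, hj, k, hk, ⟨m, rfl⟩, rfl⟩ := P168_le g hg
      exact ⟨(⟨i, hi⟩, ⟨m, by omega⟩, ⟨k, hk⟩), rfl⟩
  rw [← Nat.card_congr (Equiv.ofBijective _ h)]
  simp

theorem y8_eq : ∃ i < 7, ∃ j < 6, ∃ k < 8, y8 = NF i j k := by decide +kernel

theorem y8_sq_eq : ∃ i < 7, ∃ j < 6, ∃ k < 8, 2 ∣ j ∧ y8 ^ 2 = NF i j k := by decide +kernel

theorem y8_ne : ∀ i < 7, ∀ j < 6, ∀ k < 8, 2 ∣ j → y8 ≠ NF i j k := by decide +kernel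

theorem cent_sq : ∀ i < 7, ∀ j < 6, ∀ k < 8, NF i j k * y8 ^ 2 = y8 ^ 2 * NF i j k → ∃ m < 8, NF i j k = y8 ^ m := by
  decide +kernel

theorem cent_sq' : ∀ i < 7, ∀ j < 3, ∀ k < 8, NF i (2 * j) k * y8 ^ 2 = y8 ^ 2 * NF i (2 * j) k →
    ∃ m < 4, NF i (2 * j) k = y8 ^ (2 * m) := by
  decide +kernel

theorem card_le {G : Type} [Group G] {C : Subgroup G} {n : ℕ} (f : ℕ → Perm (Fin 8)) (φ : G → Perm (Fin 8))
    (hφ : Function.Injective φ) (h : ∀ x ∈ C, ∃ m < n, φ x = f m) : Nat.card ↥C ≤ n := by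
  choose m hm hm' using h
  have hinj : Function.Injective (fun x : ↥C => (⟨m x x.2, hm x x.2⟩ : Fin n)) := by
    intro x y hxy
    have h1 : m x x.2 = m y y.2 := congrArg Fin.val hxy
    apply Subtype.ext
    apply hφ
    rw [hm' x x.2, hm' y y.2, h1]
  have := Nat.card_le_card_of_injective _ hinj
  simpa only [_root_.ge_iff_le, _root_.Nat.card_eq_fintype_card, _root_.Fintype.card_fin] using this

/-- **Task CENT.** -/
theorem cent : Cfsg.Agent.H942.L7.Cent := by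
  refine ⟨card_P168, card_P336, ?_, ?_, ?_, ?_, ?_, ?_⟩
  · obtain ⟨i, -, j, -, k, -, h⟩ := y8_eq
    rw [h]
    exact NF_mem_P336 _ _ _
  · obtain ⟨i, -, j, -, k, -, hj, h⟩ := y8_sq_eq
    rw [h]
    exact NF_mem_P168 _ _ _ hj
  · intro h
    obtain ⟨i, hi, j, hj, k, hk, h2, h⟩ := P168_le _ h
    exact y8_ne i hi j hj k hk h2 h
  · intro c hc
    refine card_le (fun m => y8 ^ (2 * m)) (fun x : ↥P168 => (x : Perm (Fin 8))) Subtype.val_injective ?_
    intro x hx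
    obtain ⟨i, hi, j, hj, k, hk, ⟨l, rfl⟩, h⟩ := P168_le _ x.2
    have h3 : (x : Perm (Fin 8)) * c = c * x :=
      congrArg Subtype.val (Subgroup.mem_centralizer_singleton_iff.1 hx)
    rw [hc, h] at h3
    obtain ⟨m, hm, h4⟩ := cent_sq' i hi l (by omega) k hk h3
    exact ⟨m, hm, h.trans h4⟩
  · intro c hc
    refine card_le (fun m => y8 ^ m) (fun x : ↥P336 => (x : Perm (Fin 8))) Subtype.val_injective ?_
    intro x hx
    obtain ⟨i, hi, j, hj, k, hk, h2, h⟩ := P336_le _ x.2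
    have h3 : (x : Perm (Fin 8)) * c = c * x :=
      congrArg Subtype.val (Subgroup.mem_centralizer_singleton_iff.1 hx)
    rw [hc, h] at h3
    obtain ⟨m, hm, h4⟩ := cent_sq i hi j hj k hk h3
    exact ⟨m, hm, h.trans h4⟩
  · intro c hc
    refine card_le (fun m => y8 ^ m) (fun x : ↥P336 => (x : Perm (Fin 8))) Subtype.val_injective ?_
    intro x hx
    obtain ⟨i, hi, j, hj, k, hk, h2, h⟩ := P336_le _ x.2
    have h3 : (x : Perm (Fin 8)) * c = c * x :=
      congrArg Subtype.val (Subgroup.mem_centralizer_singleton_iff.1 hx)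
    rw [hc, h] at h3
    have h5 : NF i j k * y8 ^ 2 = y8 ^ 2 * NF i j k := by
      rw [pow_two, ← mul_assoc, h3, mul_assoc, h3, mul_assoc]
    obtain ⟨m, hm, h4⟩ := cent_sq i hi j hj k hk h5
    exact ⟨m, hm, h.trans h4⟩

end Cfsg.Agent.H893.L7
end

-- part: H942/L7/Final
section
/-!
# S5920: `E₈(3)` has no maximal subgroup isomorphic to `PSL₂(7)` or `PGL₂(7)`
-/

set_option autoImplicit false
set_option linter.unusedSectionVars false
set_option maxRecDepth 100000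

namespace Cfsg.Agent.H942.L7

open Equiv Cfsg Cfsg.Lie Cfsg.Agent.H657 IsLocalRing Module
open Cfsg.Agent.H942.E8Alc Cfsg.Agent.H942.Common Cfsg.Agent.H942.Core Cfsg.Agent.H942.E8Val Cfsg.Agent.H942.CB

/-- nonzero vectors of a subspace -/
def nz (S : Submodule (ZMod 3) (chevE8.Idx → ZMod 3)) : Set (chevE8.Idx → ZMod 3) := {v | v ∈ S ∧ v ≠ 0}

theorem card_nz (S : Submodule (ZMod 3) (chevE8.Idx → ZMod 3)) : Nat.card ↥(nz S) + 1 = 3 ^ finrank (ZMod 3) ↥S := by
  have h1 : nz S = (S : Set (chevE8.Idx → ZMod 3)) \ {0} := by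
    ext v
    simp [nz]
  have h2 : Nat.card ↥S = 3 ^ finrank (ZMod 3) ↥S := by
    rw [Module.natCard_eq_pow_finrank (K := ZMod 3), Nat.card_zmod]
  have h3 := Set.ncard_sdiff_singleton_add_one (s := (S : Set (chevE8.Idx → ZMod 3))) (a := 0) S.zero_mem (Set.toFinite _)
  rw [← h1] at h3
  rw [← h2]
  exact h3

section

variable {P : Subgroup (Perm (Fin 8))} {F : ↥P →* ↥(chevE8.group (ZMod 3))}

theorem cent_card (hF : Function.Injective F) (y : ↥P) :
    Nat.card ↥(F.range ⊓ Subgroup.centralizer ({F y} : Set ↥(chevE8.group (ZMod 3)))) ≤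
      Nat.card ↥(Subgroup.centralizer ({y} : Set ↥P)) := by
  have hmem : ∀ p : ↥(Subgroup.centralizer ({y} : Set ↥P)), F p ∈
      F.range ⊓ Subgroup.centralizer ({F y} : Set ↥(chevE8.group (ZMod 3))) := by
    intro p
    refine ⟨⟨p, rfl⟩, ?_⟩
    have h := Subgroup.mem_centralizer_singleton_iff.1 p.2
    show F p ∈ Subgroup.centralizer ({F y} : Set ↥(chevE8.group (ZMod 3)))
    rw [Subgroup.mem_centralizer_singleton_iff, ← map_mul, ← map_mul, h]
  refine Nat.card_le_card_of_surjective (fun p => ⟨F p, hmem p⟩) ?_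
  rintro ⟨x, ⟨p, hp⟩, hx⟩
  refine ⟨⟨p, ?_⟩, Subtype.ext hp⟩
  rw [Subgroup.mem_centralizer_singleton_iff]
  apply hF
  have hx' : x ∈ Subgroup.centralizer ({F y} : Set ↥(chevE8.group (ZMod 3))) := hx
  rw [Subgroup.mem_centralizer_singleton_iff, ← hp, ← map_mul, ← map_mul] at hx'
  exact hx'

theorem rep_mul {Q : Type*} [Group Q] (F : Q →* ↥(chevE8.group (ZMod 3))) (g h : Q) (v : chevE8.Idx → ZMod 3) :
    rep F (g * h) v = rep F g (rep F h v) := by
  rw [map_mul]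
  rfl

/-- the representation of the group `E₈(3)` itself -/
noncomputable abbrev rho : Representation (ZMod 3) ↥(chevE8.group (ZMod 3)) (chevE8.Idx → ZMod 3) :=
  rep (MonoidHom.id _)

theorem rep_eq (h : ↥P) (v : chevE8.Idx → ZMod 3) : rep F h v = rho (F h) v := rfl

theorem two_lt (hP : P168 ≤ P) (hF : Function.Injective F) : 2 < Nat.card ↥(chevE8.group (ZMod 3)) := by
  have h1 : Nat.card ↥P168 = 168 := (H893.L7.cent).1
  have h2 : Nat.card ↥P168 ≤ Nat.card ↥P := Nat.card_le_card_of_injective (Subgroup.inclusion hP)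
    (Subgroup.inclusion_injective hP)
  have h3 : Nat.card ↥P ≤ Nat.card ↥(chevE8.group (ZMod 3)) := Nat.card_le_card_of_injective F hF
  omega

theorem range_ne (hP : P168 ≤ P) (hF : Function.Injective F) : F.range ≠ ⊥ := by
  intro h
  have h1 : F (H811.L7.en hP) = 1 := by
    have : F (H811.L7.en hP) ∈ F.range := ⟨_, rfl⟩
    rw [h] at this
    exact this
  have h2 : H811.L7.en hP = 1 := hF (by rw [h1, map_one])
  exact (show nn ≠ 1 by decide +kernel) (congrArg Subtype.val h2)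

theorem cnt (hP : P168 ≤ P) (hF : Function.Injective F) (hmax : IsCoatom F.range) (y : ↥P)
    (A E : Set (chevE8.Idx → ZMod 3))
    (hA : ∀ a ∈ A, a ≠ 0 ∧ ∀ h : ↥P, rep F h a = a ∨ rep F h a = - a)
    (hE : ∀ m ∈ Subgroup.centralizer ({F y} : Set ↥(chevE8.group (ZMod 3))), ∀ a ∈ A, rho m a ∈ E)
    {b n : ℕ} (hb : b ≤ Nat.card ↥(Subgroup.centralizer ({F y} : Set ↥(chevE8.group (ZMod 3)))))
    (hn : Nat.card ↥(Subgroup.centralizer ({y} : Set ↥P)) ≤ n) :
    b * Nat.card ↥A ≤ n * Nat.card ↥E := by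
  obtain ⟨hs, hfix⟩ := H834.E8.noFix
  refine (Nat.mul_le_mul_right _ hb).trans (le_trans ?_ (Nat.mul_le_mul_right _ ((cent_card hF y).trans hn)))
  refine count_max rho hs (two_lt hP hF) (fun v hv => hfix v fun g hg => hv ⟨g, hg⟩) F.range hmax (range_ne hP hF) _ A E
    (fun a ha => ⟨(hA a ha).1, ?_⟩) hE
  rintro h ⟨p, rfl⟩
  exact (hA a ha).2 p

theorem exists_form (F : ↥P →* ↥(chevE8.group (ZMod 3))) :
    ∃ B : LinearMap.BilinForm (ZMod 3) (chevE8.Idx → ZMod 3), B.Nondegenerate ∧ B.IsSymm ∧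
      ∀ g v v', B (rep F g v) (rep F g v') = B v v' := by
  obtain ⟨J, hJ, hdet, hinv⟩ := H597.E8Form.form (ZMod 3)
  refine ⟨Matrix.toBilin' J, ?_, ?_, ?_⟩
  · rw [LinearMap.BilinForm.nondegenerate_toBilin'_iff_det_ne_zero]
    exact hdet.ne_zero
  · constructor
    intro x y
    rw [Matrix.toBilin'_apply', Matrix.toBilin'_apply', Matrix.dotProduct_mulVec,
      ← Matrix.mulVec_transpose, hJ, dotProduct_comm]
  · intro g v w
    have h1 := hinv _ (F g).2
    rw [Matrix.toBilin'_apply', Matrix.toBilin'_apply', rep_apply, rep_apply]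
    conv_rhs => rw [← h1, Matrix.mul_assoc, ← Matrix.mulVec_mulVec, Matrix.dotProduct_mulVec, Matrix.vecMul_transpose,
      ← Matrix.mulVec_mulVec]

/-- vectors fixed by an element -/
theorem fix_pow (g : ↥P) {v : chevE8.Idx → ZMod 3} (h : rep F g v = v) (i : ℕ) : rep F (g ^ i) v = v := by
  induction i with
  | zero => rw [pow_zero, map_one]; rfl
  | succ i ih => rw [pow_succ, rep_mul, h, ih]

theorem mem_Yc {hy : y8 ^ 2 ∈ P} {v : chevE8.Idx → ZMod 3} : v ∈ fixS (rep F) Yc ↔ rep F ⟨y8 ^ 2, hy⟩ v = v := by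
  constructor
  · intro h
    exact h _ ⟨1, (pow_one _).symm⟩
  · intro h g hg
    obtain ⟨i, hi⟩ := hg
    have : g = (⟨y8 ^ 2, hy⟩ : ↥P) ^ i := Subtype.ext (by push_cast; exact hi)
    rw [this]
    exact fix_pow _ h i

theorem mem_Yy {hy : y8 ∈ P} {v : chevE8.Idx → ZMod 3} : v ∈ fixS (rep F) Yy ↔ rep F ⟨y8, hy⟩ v = v := by
  constructor
  · intro h
    exact h _ ⟨1, (pow_one _).symm⟩
  · intro h g hg
    obtain ⟨i, hi⟩ := hg
    have : g = (⟨y8, hy⟩ : ↥P) ^ i := Subtype.ext (by push_cast; exact hi)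
    rw [this]
    exact fix_pow _ h i

/-- the centralizer preserves eigenspaces -/
theorem cent_eig {y : ↥P} {m : ↥(chevE8.group (ZMod 3))}
    (hm : m ∈ Subgroup.centralizer ({F y} : Set ↥(chevE8.group (ZMod 3)))) (v : chevE8.Idx → ZMod 3) :
    rep F y (rho m v) = rho m (rep F y v) := by
  rw [rep_eq, rep_eq, ← rep_mul, ← rep_mul, Subgroup.mem_centralizer_singleton_iff.1 hm]

theorem rho_ne {m : ↥(chevE8.group (ZMod 3))} {v : chevE8.Idx → ZMod 3} (hv : v ≠ 0) : rho m v ≠ 0 := by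
  intro h
  have h1 : rho m⁻¹ (rho m v) = v := by
    rw [← rep_mul, inv_mul_cancel, map_one]
    rfl
  rw [h, map_zero] at h1
  exact hv h1.symm

end

/-- the case `PSL₂(7)` -/
theorem case168 {F : ↥P168 →* ↥(chevE8.group (ZMod 3))} (hF : Function.Injective F) (hmax : IsCoatom F.range) :
    False := by
  obtain ⟨M, V, hM, hV, hchar⟩ := exists_V
  obtain ⟨-, -, hy8, hy2, hny, hc4, -, -⟩ := H893.L7.cent
  obtain ⟨β2, β4, β7, b, hv, hB, h7, hb⟩ := exists_vals F V H358.L7.conj le_rfl H296.L7.le_168 hF hy2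
  have d1 := hv.V4a le_rfl H451.L7.dim hM hV
  have d2 := hv.V4b le_rfl H451.L7.dim hM hV
  have d3 := hv.D8a le_rfl H451.L7.dim hM hV
  have d4 := hv.U7 le_rfl H451.L7.dim hM hV
  have d5 := hv.Yc le_rfl hy2 H451.L7.dim hM hV
  obtain ⟨B, hB1, hB2, hB3⟩ := exists_form F
  have hr := H811.L7.repS (chevE8.Idx → ZMod 3) P168 le_rfl (rep F) B hB1 hB2 hB3
  have hc := cnt le_rfl hF hmax ⟨y8 ^ 2, hy2⟩ (nz (fixS (rep F) P168)) (nz (fixS (rep F) Yc))
    (fun a ha => ⟨ha.2, fun h => Or.inl (ha.1 h h.2)⟩)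
    (fun m hm a ha => ⟨(mem_Yc (hy := hy2)).2 (by rw [cent_eig hm, ha.1 _ hy2]), rho_ne ha.2⟩) hb (hc4 _ rfl)
  exact num1 hB h7 d1 d2 d3 d4 d5 hr (card_nz _) (card_nz _) hc

theorem card_union {S T : Submodule (ZMod 3) (chevE8.Idx → ZMod 3)} (h : S ⊓ T = ⊥) :
    Nat.card ↥(nz S ∪ nz T) + 2 = 3 ^ finrank (ZMod 3) ↥S + 3 ^ finrank (ZMod 3) ↥T := by
  rw [← card_nz, ← card_nz]
  have hd : Disjoint (nz S) (nz T) := by
    rw [Set.disjoint_left]
    intro v hv hv'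
    have : v ∈ S ⊓ T := ⟨hv.1, hv'.1⟩
    rw [h] at this
    exact hv.2 this
  have h1 : (nz S ∪ nz T).ncard = (nz S).ncard + (nz T).ncard := Set.ncard_union_eq hd (Set.toFinite _) (Set.toFinite _)
  have h2 : Nat.card ↥(nz S ∪ nz T) = Nat.card ↥(nz S) + Nat.card ↥(nz T) := h1
  rw [h2]
  ring

theorem eq_zero_of_neg {v : chevE8.Idx → ZMod 3} (h : v = - v) : v = 0 := by
  funext i
  have h1 := congrFun h i
  exact (by decide : ∀ x : ZMod 3, x = - x → x = 0) _ h1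

theorem card_idx : finrank (ZMod 3) (chevE8.Idx → ZMod 3) = 248 := by
  rw [Module.finrank_fintype_fun_eq_card]
  rfl

/-- the case `PGL₂(7)` -/
theorem case336 {F : ↥P336 →* ↥(chevE8.group (ZMod 3))} (hF : Function.Injective F) (hmax : IsCoatom F.range) :
    False := by
  obtain ⟨M, V, hM, hV, hchar⟩ := exists_V
  have hconj := H358.L7.conj
  obtain ⟨-, -, hy8, hy2, hny, -, hc8, hc8'⟩ := H893.L7.cent
  have hP := H296.L7.le_168
  obtain ⟨β2, β4, β7, b, hv, hB, h7, hb⟩ := exists_vals F V hconj hP le_rfl hF hy2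
  obtain ⟨βo, ho1, ho2⟩ := exists_out F V hconj hF
  have d1 := hv.V4a hP H451.L7.dim hM hV
  have d2 := hv.V4b hP H451.L7.dim hM hV
  have d3 := hv.D8a hP H451.L7.dim hM hV
  have d3' := hv.D8b hP H451.L7.dim hM hV
  have d4 := hv.U7 hP H451.L7.dim hM hV
  have d5 := hv.Yc hP hy2 H451.L7.dim hM hV
  have d6 := hv.D14 H451.L7.dim hM hV ho2
  obtain ⟨B, hB1, hB2, hB3⟩ := exists_form F
  have hr := H811.L7.repS (chevE8.Idx → ZMod 3) P336 hP (rep F) B hB1 hB2 hB3
  have hx := H296.L7.dim_168 (rep F)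
  have hr6 : (⟨g6 ^ 3, g63_mem⟩ : ↥P336).1 ∉ P168 := by
    have := sign_D14 0
    rwa [pow_zero, one_mul] at this
  -- the space of invariants and the space of the sign character meet in 0
  have hinf : fixS (rep F) P336 ⊓ antS (rep F) = ⊥ := by
    rw [eq_bot_iff]
    rintro v ⟨h1, h2⟩
    have h3 := h1 ⟨g6 ^ 3, g63_mem⟩ g63_mem
    have h4 := (h2 ⟨g6 ^ 3, g63_mem⟩).2 hr6
    rw [h3] at h4
    exact eq_zero_of_neg h4
  have hc := cnt hP hF hmax ⟨y8 ^ 2, hP hy2⟩ (nz (fixS (rep F) P336) ∪ nz (antS (rep F))) (nz (fixS (rep F) Yc))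
    (fun a ha => by
      rcases ha with ha | ha
      · exact ⟨ha.2, fun h => Or.inl (ha.1 h h.2)⟩
      · refine ⟨ha.2, fun h => ?_⟩
        by_cases h1 : (h : Perm (Fin 8)) ∈ P168
        · exact Or.inl ((ha.1 h).1 h1)
        · exact Or.inr ((ha.1 h).2 h1))
    (fun m hm a ha => by
      have h1 : rep F ⟨y8 ^ 2, hP hy2⟩ a = a := by
        rcases ha with ha | ha
        · exact ha.1 _ (hP hy2)
        · exact (ha.1 _).1 hy2
      have h2 : a ≠ 0 := by
        rcases ha with ha | ha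
        · exact ha.2
        · exact ha.2
      exact ⟨(mem_Yc (hy := hP hy2)).2 (by rw [cent_eig hm, h1]), rho_ne h2⟩) hb (hc8 _ rfl)
  obtain ⟨e2, e4, e7, ha⟩ := num2 hB h7 d1 d2 d3 d4 d5 hr hx (card_union hinf) (card_nz _) hc
  subst e2 e4 e7
  -- the element of order 8
  have y8c : (⟨y8, hy8⟩ : ↥P336) ^ 2 = ⟨y8 ^ 2, hP hy2⟩ := rfl
  have y8d : (⟨y8, hy8⟩ : ↥P336) ^ 4 = (⟨y8 ^ 2, hP hy2⟩ : ↥P336) ^ 2 := by
    rw [← y8c, ← pow_mul]
  have y8e : (⟨y8, hy8⟩ : ↥P336) ^ 8 = 1 := by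
    have : (⟨y8, hy8⟩ : ↥P336) ^ 8 = (⟨y8 ^ 2, hP hy2⟩ : ↥P336) ^ 4 := by
      rw [← y8c, ← pow_mul]
    rw [this]
    exact Subtype.ext (by push_cast; exact y4)
  have c4 : (⟨y8 ^ 2, hP hy2⟩ : ↥P336) ^ 4 = 1 := Subtype.ext (by push_cast; exact y4)
  have c2 : (⟨y8 ^ 2, hP hy2⟩ : ↥P336) ^ 2 ≠ 1 := fun e => y2 (by
    have := congrArg Subtype.val e; push_cast at this; exact this)
  obtain ⟨β8, b8, hB8, t1, t2, t3⟩ := val8T V F (g := ⟨y8, hy8⟩) y8e
    (by rw [y8c, hv.four _ c4 c2]; norm_num)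
    (by
      rw [y8d, hv.two _ (pow_mem hy2 2) (by rw [← pow_mul]; exact c4) c2]
      norm_num)
  have d7 := hv.Yy hy8 hy2 H451.L7.dim hM hV t3
  -- the eigenvalue -1 of the element of order 8
  let T : Submodule (ZMod 3) (chevE8.Idx → ZMod 3) := LinearMap.ker (rep F ⟨y8, hy8⟩ + LinearMap.id)
  have hT : ∀ v, v ∈ T ↔ rep F ⟨y8, hy8⟩ v = - v := by
    intro v
    rw [LinearMap.mem_ker, LinearMap.add_apply, LinearMap.id_apply, add_eq_zero_iff_eq_neg]
  have hTc : T ≤ fixS (rep F) Yc := by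
    intro v hv'
    rw [hT] at hv'
    rw [mem_Yc (hy := hP hy2), ← y8c, pow_two, rep_mul, hv', map_neg, hv', neg_neg]
  have hYc : fixS (rep F) Yy ≤ fixS (rep F) Yc := by
    intro v hv'
    rw [mem_Yy (hy := hy8)] at hv'
    rw [mem_Yc (hy := hP hy2), ← y8c, pow_two, rep_mul, hv', hv']
  have hTi : T ⊓ fixS (rep F) Yy = ⊥ := by
    rw [eq_bot_iff]
    rintro v ⟨h1, h2⟩
    have h1' := (hT v).1 h1
    have h2' := (mem_Yy (hy := hy8)).1 h2
    rw [h2'] at h1'
    exact eq_zero_of_neg h1'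
  have hdim : finrank (ZMod 3) ↥T + finrank (ZMod 3) ↥(fixS (rep F) Yy) ≤ 60 := by
    have h1 := Submodule.finrank_sup_add_finrank_inf_eq T (fixS (rep F) Yy)
    rw [hTi, finrank_bot, add_zero] at h1
    have h2 := Submodule.finrank_mono (sup_le hTc hYc)
    omega
  have hcy := cnt hP hF hmax ⟨y8, hy8⟩ (nz (antS (rep F))) (nz T)
    (fun a ha => ⟨ha.2, fun h => by
        by_cases h1 : (h : Perm (Fin 8)) ∈ P168
        · exact Or.inl ((ha.1 h).1 h1)
        · exact Or.inr ((ha.1 h).2 h1)⟩)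
    (fun m hm a ha => ⟨(hT _).2 (by rw [cent_eig hm, (ha.1 _).2 hny, map_neg]), rho_ne ha.2⟩) t2 (hc8' _ rfl)
  have hfin := num3 hB8 (by linarith only [d7]) hdim (card_nz _) (card_nz _) hcy
  refine H296.L7.repH (chevE8.Idx → ZMod 3) (rep F) B hB1 hB2 hB3 card_idx (by omega) (by omega) (by omega) (by omega)
    (by omega) (by (clear * - ho1 d6; omega)) (β8 : ZMod 3) ?_ ?_ ?_ ?_ ?_ ha (by omega) ?_
  · rcases hfin with ⟨h, -⟩ | ⟨h | h, -⟩
    · left; rw [h]; decide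
    · right; rw [h]; decide
    · right; rw [h]; decide
  · intro g hg hg2
    have h1 : g ^ 2 = 1 := by rw [← hg]; exact pow_orderOf_eq_one g
    have h2 : g ≠ 1 := by rintro rfl; rw [orderOf_one] at hg; omega
    rw [rep_trace, theta_eq F V (by rw [hg]; norm_num) (hv.two g hg2 h1 h2)]
    decide
  · intro g hg
    have h1 : g ^ 4 = 1 := by rw [← hg]; exact pow_orderOf_eq_one g
    have h2 : g ^ 2 ≠ 1 := by
      intro h
      have := orderOf_dvd_of_pow_eq_one h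
      rw [hg] at this
      omega
    rw [rep_trace, theta_eq F V (by rw [hg]; norm_num) (hv.four g h1 h2)]
    decide
  · intro g hg
    have h1 : g ^ 7 = 1 := by rw [← hg]; exact pow_orderOf_eq_one g
    have h2 : g ≠ 1 := by rintro rfl; rw [orderOf_one] at hg; omega
    rw [rep_trace, theta_eq F V (by rw [hg]; norm_num) (hv.sev g h1 h2)]
    decide
  · intro g hg
    have h1 : g ^ 8 = 1 := by
      have := pow_orderOf_eq_one g
      rwa [hg] at this
    have h2 : g ^ 4 ≠ 1 := by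
      intro h
      have := orderOf_dvd_of_pow_eq_one h
      rw [hg] at this
      omega
    obtain ⟨x, hx, d, hd, hx2⟩ := hconj.2.2.2.1 (g : Perm (Fin 8)) g.2
      (by have := congrArg Subtype.val h1; push_cast at this; exact this)
      (fun e => h2 (Subtype.ext (by push_cast; exact e)))
    have h3 : bc 3 (adj V F) g = β8 := by
      rw [← t3 d hd]
      exact bc_eq_of_conj F V ⟨x, hx, by rw [hx2]; rfl⟩
    rw [rep_trace, theta_eq F V (by rw [hg]; norm_num) h3]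
  · intro h
    rcases hfin with ⟨h', -⟩ | ⟨-, h'⟩
    · rw [h'] at h
      exact absurd h (by decide)
    · exact h'

end Cfsg.Agent.H942.L7
end

-- part: S5920
section
set_option autoImplicit false
open Cfsg

namespace Cfsg.Agent.S5920

/-- Let G be the Chevalley group of type E₈ over the field with three elements (generated by its root elements in the 248-dimensional adjoint representation; it is the simple group E₈(3)), and let H be a subgroup of G whose generalized Fitting subgroup F*(H) is isomorphic to PSL₂(7). Then H is not a maximal subgroup of G. Here F denotes a field with 7 elements. -/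
theorem result
    {F : Type*} [Field F] [Fintype F] (hF : Fintype.card F = 7) (H : Subgroup ↥(Cfsg.Lie.chevE8.group (ZMod 3)))
    (hH : Nonempty (↥(Cfsg.generalizedFittingSubgroup ↥H) ≃* Matrix.ProjectiveSpecialLinearGroup (Fin 2) F)) :
    ¬ IsCoatom H := by
  intro hmax
  have key : ∀ (P : Subgroup (Equiv.Perm (Fin 8))) (e : ↥H ≃* ↥P),
      Function.Injective (H.subtype.comp e.symm.toMonoidHom) ∧ (H.subtype.comp e.symm.toMonoidHom).range = H := by
    intro P e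
    constructor
    · exact H.subtype_injective.comp e.symm.injective
    · rw [MonoidHom.range_comp, MonoidHom.range_eq_top.2 e.symm.surjective, ← MonoidHom.range_eq_map,
        Subgroup.range_subtype]
  rcases H89.L7.grp F hF ↥H hH with ⟨⟨e⟩⟩ | ⟨⟨e⟩⟩
  · obtain ⟨h1, h2⟩ := key _ e
    exact H942.L7.case168 h1 (h2.symm ▸ hmax)
  · obtain ⟨h1, h2⟩ := key _ e
    exact H942.L7.case336 h1 (h2.symm ▸ hmax)

end Cfsg.Agent.S5920
end

private theorem dce_be7929ef3311 : _root_.True := by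
  try have : _root_.True := by simp only [_root_.Cfsg.Agent.H942.L7.nz.eq_1]
  try have : _root_.True := by simp only [_root_.Cfsg.Agent.H893.L7.NF.eq_1]
  exact _root_.True.intro
end
end
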