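import Mathlib
import Cfsg.Agent.H857.E8L.Rep_mg_m3
import Cfsg.Agent.H971.RV.Lie_m3
import Cfsg.Agent.H943.No6_m3
import Cfsg.Agent.H525.E8L.Final
import Cfsg.Statements.S5921
import Cfsg.Agent.ChevFast.E8
import Cfsg.Agent.FastGrp
import Cfsg.Agent.Prune
set_option linter.all false
prune_inst 0x7ffdfdf9fbb8fddfdfff7e7ffedfdffdd9bb9fffa6dff9cb7fe067ff2b9f3308c9c5fbad8de010ff1ed6e29410b87853fb7eeeffea6bdc7ffffdfff41ffbee4ff5f7b508519b84a40fb80ff703f0778e7f3fffffffffffffffffffffffffffbeffffffffffff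
open scoped Cfsg.Agent.FastGrp

-- part: H948/P3/Count
section
/-!
# S5921, P3: counting the values of a quadratic form
-/

set_option autoImplicit false
set_option linter.unusedSectionVars false

namespace Cfsg.Agent.H948.P3

open Module

variable {K : Type*} [Field K]

/-- the form -/
def Qg (v : Fin 3 → K) : K := v 0 * v 1 + v 2 ^ 2

/-- its polar form -/
def Bg (v w : Fin 3 → K) : K := v 0 * w 1 + w 0 * v 1 + 2 * (v 2 * w 2)

theorem Qg_add (v w : Fin 3 → K) : Qg (v + w) = Qg v + Qg w + Bg v w := by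
  unfold Qg Bg
  simp only [Pi.add_apply]
  ring

theorem Bg_add_left (u v w : Fin 3 → K) : Bg (u + v) w = Bg u w + Bg v w := by
  unfold Bg
  simp only [Pi.add_apply]
  ring

theorem Bg_smul_left (c : K) (v w : Fin 3 → K) : Bg (c • v) w = c * Bg v w := by
  unfold Bg
  simp only [Pi.smul_apply, smul_eq_mul]
  ring

theorem Bg_comm (v w : Fin 3 → K) : Bg v w = Bg w v := by
  unfold Bg
  ring

/-- the roots of `X ^ 81 - X` -/
theorem exists_roots (K : Type*) [Field K] : ∃ R : Finset K, R.card ≤ 81 ∧ ∀ x : K, x ^ 81 = x → x ∈ R := by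
  classical
  let p : Polynomial K := Polynomial.X ^ 81 - Polynomial.X
  have hp : p ≠ 0 := by
    intro h
    have h1 : p.coeff 81 = 1 := by
      simp [p, Polynomial.coeff_X]
    rw [h, Polynomial.coeff_zero] at h1
    exact zero_ne_one h1
  have hd : p.natDegree ≤ 81 := by
    refine (Polynomial.natDegree_sub_le _ _).trans ?_
    simp
  refine ⟨p.roots.toFinset, (Multiset.toFinset_card_le _).trans ((Polynomial.card_roots' p).trans hd), fun x hx => ?_⟩
  rw [Multiset.mem_toFinset, Polynomial.mem_roots hp]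
  show Polynomial.eval x (Polynomial.X ^ 81 - Polynomial.X) = 0
  simp [hx]

variable {P : Set (Fin 3 → K)} (hP : P.Finite)
  (hadd : ∀ x ∈ P, ∀ y ∈ P, x + y ∈ P) (hsub : ∀ x ∈ P, ∀ y ∈ P, x - y ∈ P)
  (hPhi : ∀ (b : Finset (Fin 3 → K)) (l : (Fin 3 → K) → K), (∀ x ∈ b, x ∈ P) → ∀ y ∈ P, y = ∑ x ∈ b, l x • x →
    y = ∑ x ∈ b, l x ^ 81 • x)

include hP hPhi

/-- the structure of `P` -/
theorem exists_basis : ∃ b : Finset (Fin 3 → K), (∀ x ∈ b, x ∈ P) ∧ b.card ≤ 3 ∧ P.ncard ≤ 81 ^ b.card ∧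
    Submodule.span K (b : Set (Fin 3 → K)) = Submodule.span K P ∧ LinearIndependent K (fun x : b => (x : Fin 3 → K)) := by
  classical
  obtain ⟨b, hb, hspan, hli⟩ := exists_linearIndependent K P
  have hfin : b.Finite := hP.subset hb
  obtain ⟨B, rfl⟩ : ∃ B : Finset (Fin 3 → K), (B : Set (Fin 3 → K)) = b := ⟨hfin.toFinset, hfin.coe_toFinset⟩
  have hli' : LinearIndependent K (fun x : B => (x : Fin 3 → K)) := hli
  have hc : B.card ≤ 3 := by
    have := hli'.fintype_card_le_finrank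
    rw [Fintype.card_coe, Module.finrank_fin_fun] at this
    exact this
  refine ⟨B, fun x hx => hb hx, hc, ?_, hspan, hli'⟩
  obtain ⟨R, hR, hRx⟩ := exists_roots K
  -- coordinates
  have hco : ∀ y ∈ P, ∃ l : (Fin 3 → K) → K, (∀ x ∈ B, l x ∈ R) ∧ y = ∑ x ∈ B, l x • x := by
    intro y hy
    have h1 : y ∈ Submodule.span K (B : Set (Fin 3 → K)) := by rw [hspan]; exact Submodule.subset_span hy
    obtain ⟨l, -, hl⟩ := Submodule.mem_span_finset.1 h1
    have h2 := hPhi B l (fun x hx => hb hx) y hy hl.symm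
    refine ⟨l, fun x hx => hRx _ ?_, hl.symm⟩
    have h3 : ∑ x ∈ B, (l x ^ 81 - l x) • x = 0 := by
      rw [← sub_eq_zero.2 (h2.symm.trans hl.symm), ← Finset.sum_sub_distrib]
      exact Finset.sum_congr rfl fun x _ => sub_smul _ _ _
    have h4 := (linearIndependent_iff'.1 hli') Finset.univ (fun x => l x ^ 81 - l x) (by
      rw [Finset.sum_coe_sort B (fun x => (l x ^ 81 - l x) • x)]
      exact h3) ⟨x, hx⟩ (Finset.mem_univ _)
    exact sub_eq_zero.1 h4
  choose! l hlR hl using hco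
  let F : (Fin 3 → K) → (B → R) := fun y => fun x => if h : y ∈ P then ⟨l y x, hlR y h x x.2⟩ else
    ⟨0, hRx 0 (by norm_num)⟩
  have hinj : Set.InjOn F P := by
    intro y hy z hz h
    rw [hl y hy, hl z hz]
    refine Finset.sum_congr rfl fun x hx => ?_
    have h1 := congrArg Subtype.val (congrFun h ⟨x, hx⟩)
    simp only [F, dif_pos hy, dif_pos hz] at h1
    rw [h1]
  have h1 : P.ncard ≤ Nat.card (B → R) := by
    rw [← hinj.ncard_image, ← Set.ncard_univ]
    exact Set.ncard_le_ncard (Set.subset_univ _) (Set.toFinite _)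
  refine h1.trans ?_
  rw [Nat.card_pi, Finset.prod_const, Nat.card_eq_fintype_card, Fintype.card_coe, Finset.card_univ, Fintype.card_coe]
  exact Nat.pow_le_pow_left hR _

include hadd hsub

/-- **the count** -/
theorem count (h2 : (2 : K) ≠ 0) {O : Set (Fin 3 → K)} (hO : O ⊆ P) {c : K} (hc : ∀ x ∈ O, Qg x = c) :
    O.ncard < 531360 := by
  classical
  by_contra hcon
  push Not at hcon
  obtain ⟨b, hbP, hb3, hbc, hspan, hli⟩ := exists_basis hP hPhi
  have hOP := Set.ncard_le_ncard hO hP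
  have hb : b.card = 3 := by
    by_contra h
    have h1 : b.card ≤ 2 := by omega
    have h4 : (81 : ℕ) ^ b.card ≤ 81 ^ 2 := Nat.pow_le_pow_right (by norm_num) h1
    omega
  rw [hb] at hbc
  have hspan' : Submodule.span K P = ⊤ := by
    rw [← hspan]
    have h1 := finrank_span_finset_eq_card (R := K) hli
    apply Submodule.eq_top_of_finrank_eq
    rw [h1, hb, Module.finrank_fin_fun]
  -- few exceptions
  have hex : ∀ w ∈ P, {u | u ∈ P ∧ u + w ∉ O}.ncard ≤ 81 := by
    intro w hw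
    have h1 : {u | u ∈ P ∧ u + w ∉ O}.ncard ≤ (P \ O).ncard := by
      refine Set.ncard_le_ncard_of_injOn (fun u => u + w) ?_ (fun a _ b _ h => add_right_cancel h)
        (hP.subset Set.sdiff_subset)
      rintro u ⟨hu, hu'⟩
      exact ⟨hadd u hu w hw, hu'⟩
    have h3 : (P \ O).ncard = P.ncard - O.ncard := Set.ncard_sdiff hO (hP.subset hO)
    rw [h3] at h1
    omega
  have h0 : (0 : Fin 3 → K) ∈ P := by
    have hne : P.Nonempty := by
      rw [Set.nonempty_iff_ne_empty]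
      intro h
      rw [h, Set.ncard_empty] at hOP
      omega
    obtain ⟨x, hx⟩ := hne
    have := hsub x hx x hx
    rwa [sub_self] at this
  have hB : ∀ v ∈ P, ∀ x ∈ P, Bg v x = 0 := by
    intro v hv x hx
    have hvx := hadd v hv x hx
    -- an element `u`
    obtain ⟨u, hu, u0, ux, uv, uvx⟩ : ∃ u ∈ P, u ∈ O ∧ u + x ∈ O ∧ u + v ∈ O ∧ u + (v + x) ∈ O := by
      by_contra hno
      push Not at hno
      have h1 : P ⊆ {u | u ∈ P ∧ u + 0 ∉ O} ∪ {u | u ∈ P ∧ u + x ∉ O} ∪ {u | u ∈ P ∧ u + v ∉ O} ∪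
          {u | u ∈ P ∧ u + (v + x) ∉ O} := by
        intro u hu
        by_cases a1 : u ∈ O
        · by_cases a2 : u + x ∈ O
          · by_cases a3 : u + v ∈ O
            · exact Or.inr ⟨hu, hno u hu a1 a2 a3⟩
            · exact Or.inl (Or.inr ⟨hu, a3⟩)
          · exact Or.inl (Or.inl (Or.inr ⟨hu, a2⟩))
        · exact Or.inl (Or.inl (Or.inl ⟨hu, by rwa [add_zero]⟩))
      have hf : ∀ w, {u | u ∈ P ∧ u + w ∉ O}.Finite := fun w => hP.subset fun u hu => hu.1
      have h3 := Set.ncard_le_ncard h1 (((hf _).union (hf _)).union (hf _) |>.union (hf _))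
      have h4 := Set.ncard_union_le ({u | u ∈ P ∧ u + 0 ∉ O} ∪ {u | u ∈ P ∧ u + x ∉ O} ∪ {u | u ∈ P ∧ u + v ∉ O})
        {u | u ∈ P ∧ u + (v + x) ∉ O}
      have h5 := Set.ncard_union_le ({u | u ∈ P ∧ u + 0 ∉ O} ∪ {u | u ∈ P ∧ u + x ∉ O}) {u | u ∈ P ∧ u + v ∉ O}
      have h6 := Set.ncard_union_le {u | u ∈ P ∧ u + 0 ∉ O} {u | u ∈ P ∧ u + x ∉ O}
      have e0 := hex 0 h0
      have e1 := hex x hx
      have e2 := hex v hv
      have e3 := hex (v + x) hvx
      omega
    have h1 := hc _ u0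
    have h3 := hc _ ux
    have h4 := hc _ uv
    have h5 := hc _ uvx
    rw [Qg_add] at h3
    rw [← add_assoc, Qg_add, Bg_add_left] at h5
    linear_combination h1 - h3 - h4 + h5
  -- the form vanishes
  have hB2 : ∀ x ∈ P, ∀ v : Fin 3 → K, Bg v x = 0 := by
    intro x hx v
    have hv : v ∈ Submodule.span K P := by rw [hspan']; trivial
    induction hv using Submodule.span_induction with
    | mem y hy => exact hB y hy x hx
    | zero => simp [Bg]
    | add y z _ _ hy hz => rw [Bg_add_left, hy, hz, add_zero]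
    | smul a y _ hy => rw [Bg_smul_left, hy, mul_zero]
  have hB3 : ∀ v w : Fin 3 → K, Bg v w = 0 := by
    intro v w
    have hw : w ∈ Submodule.span K P := by rw [hspan']; trivial
    induction hw using Submodule.span_induction with
    | mem y hy => exact hB2 y hy v
    | zero => simp [Bg]
    | add y z _ _ hy hz => rw [Bg_comm, Bg_add_left, Bg_comm y, Bg_comm z, hy, hz, add_zero]
    | smul a y _ hy => rw [Bg_comm, Bg_smul_left, Bg_comm y, hy, mul_zero]
  have h1 := hB3 ![1, 0, 0] ![0, 1, 0]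
  simp [Bg] at h1

end Cfsg.Agent.H948.P3
end

-- part: H948/P3/Va
section
/-!
# S5921, P3: the fixed vectors of `y` in the frame of `t`
-/

set_option autoImplicit false
set_option linter.unusedSectionVars false
set_option maxRecDepth 100000

namespace Cfsg.Agent.H948.P3

open CoxeterSystem Cfsg Cfsg.Lie Cfsg.Lie.ChevalleyDatum
open Cfsg.Agent.ChevalleyStructure Cfsg.Agent.ChevalleyStructure.Elts Cfsg.Agent.ChevalleyStructure.CoxeterGeom
  Cfsg.Agent.ChevalleyStructure.CoxeterGeomTypes Cfsg.Agent.ChevalleyStructure.NPerm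
  Cfsg.Agent.ChevalleyStructure.RootVec Cfsg.Agent.ChevalleyStructure.RootVecTab
open Cfsg.Agent.Tits.Roots Cfsg.Agent.Tits.Core Cfsg.Agent.Nodes Cfsg.Agent.Nodes.Reps Cfsg.Agent.Nodes.BNOf
  Cfsg.Agent.Nodes.RGDChev Cfsg.Agent.Nodes.Bruhat Cfsg.Agent.Nodes.SubComb Cfsg.Agent.Nodes.Coroot
  Cfsg.Agent.Nodes.NormalForm
open Cfsg.Agent.KFacts.RgdField Cfsg.Agent.KFacts.RgdChevCoord Cfsg.Agent.BpExc.TorCent Cfsg.Agent.BpExc.TorChev
open Cfsg.Agent.GpExc.Field Cfsg.Agent.BpExc.Tow Cfsg.Agent.BpExc.TowChev Cfsg.Agent.BpExc.Fr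
  Cfsg.Agent.BpExc.LangFr Cfsg.Agent.LangThm Cfsg.Agent.BpExc Cfsg.Agent.H129.TorusChar Cfsg.Agent.H129.TorusMain
open Cfsg.Agent.H720.TorusReal Cfsg.Agent.Nodes.Unique Cfsg.Agent.H897.T5Cent
open Cfsg.Agent.BpExc.FamUntw Cfsg.Agent.BpExc.FamInst Cfsg.Agent.BpExc.FamField
open Cfsg.Agent.H942.E8Tab Cfsg.Agent.H942.E8Alc Cfsg.Agent.H942.CB
open Cfsg.Agent.H944.Tab Cfsg.Agent.H944.Kac
open Cfsg.Agent.H540.E8C (KK cX_of_vals)
open Matrix

/-- `E₈(3)` -/
abbrev Ge : Type := ↥(chevE8.group (ZMod 3))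

/-- the vectors -/
abbrev Lv : Type := chevE8.Idx → ZMod 3

/-- the embedding -/
noncomputable abbrev ee : Ge →* ↥(chevE8.group KK) := emb e8T.inList (algebraMap (ZMod 3) KK)

/-- the action -/
def ac (g : Ge) (v : Lv) : Lv := ((g : GL chevE8.Idx (ZMod 3)) : Matrix chevE8.Idx chevE8.Idx (ZMod 3)) *ᵥ v

theorem ac_mul (g g' : Ge) (v : Lv) : ac (g * g') v = ac g (ac g' v) := by
  unfold ac
  rw [Subgroup.coe_mul, Units.val_mul, Matrix.mulVec_mulVec]

theorem ac_one (v : Lv) : ac 1 v = v := by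
  unfold ac
  rw [Subgroup.coe_one, Units.val_one, Matrix.one_mulVec]

/-- the frame -/
structure Dt (y : Ge) where
  z : ↥(chevE8.group KK)
  t : ↥(chevE8.group KK)
  n : ↥(chevE8.group KK)
  ζ : KK
  hζ : IsPrimitiveRoot ζ 40
  htT : t ∈ TT chevE8 KK
  hX : ∀ a, cX e8T t a = ζ ^ fz (YZ V3) a
  hn : Rp cs8 hNs (word w3) n
  hnt : n * sg t * n⁻¹ = t
  hsz : z⁻¹ * sg z = n
  hzt : z⁻¹ * ee y * z = t
  ht : t ^ 40 = 1

theorem V3_len : (YZ V3).length = 8 := by decide

theorem tab_w3 : ((List.range 8).all fun i => decide (((actW w3 (YZ V3)).getD i 0 - 3 * (YZ V3).getD i 0) % (40 : ℤ) = 0)) =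
    true := by decide +kernel

theorem exists_dt {y : Ge} (hy : y ^ 40 = 1) {ζ : KK} (hζ : IsPrimitiveRoot ζ 40) {z t : ↥(chevE8.group KK)}
    (hz : z⁻¹ * ee y * z = t) (htT : t ∈ TT chevE8 KK) (hv : ∀ i, cX e8T t (sr i) = ζ ^ (vecL 40 V3 i).val) :
    Nonempty (Dt y) := by
  have hX : ∀ a, cX e8T t a = ζ ^ fz (YZ V3) a := cX_of_vals htT hζ (by norm_num) hv
  have hζ0 : ζ ≠ 0 := hζ.ne_zero (by norm_num)
  have hwt : ∀ a, cX e8T t (rep cs8 e8T.isCartan (word w3) a) = cX e8T t a ^ 3 ^ 1 := by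
    intro a
    have hw3 : (40 : ℤ) ∣ fz (YZ V3) (rep cs8 e8T.isCartan (word w3) a) - 3 * fz (YZ V3) a := by
      rw [← fz_actW w3 w3_lt V3_len]
      exact fz_dvd (fun i => Int.dvd_of_emod_eq_zero (of_decide_eq_true (all_range tab_w3 i))) a
    rw [hX, hX]
    obtain ⟨m, hm⟩ := hw3
    have h1 : fz (YZ V3) (rep cs8 e8T.isCartan (word w3) a) = fz (YZ V3) a * 3 + (40 : ℕ) * m := by
      push_cast
      linarith only [hm]
    rw [h1, zpow_add₀ hζ0, _root_.zpow_mul, _root_.zpow_mul, zpow_natCast ζ 40, hζ.pow_eq_one, _root_.one_zpow, mul_one]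
    exact zpow_ofNat _ 3
  have hn : Nat.card (ZMod 3) = 3 ^ 1 := by rw [Nat.card_eq_fintype_card, ZMod.card]; rfl
  have hσF : IsFrob 3 1 sg := phi_isFrob 3 1
  have F : Fr cs8 e8T.isCartan (TT chevE8 KK) (XX chevE8 8 KK) sg (AddEquiv.refl _) := phi_fr e8T cs8 3 lf 1
  have hσx : sg (ee y) = ee y := Cfsg.Agent.H378.TorFin.phi_emb' e8T _ 3 hn y
  obtain ⟨n1, hn1⟩ := exists_rp cs8 hNs (word w3)
  have hnt : n1 * sg t * n1⁻¹ = t := (tau_iff e8T cs8 lf hσF F hn1 htT).2 hwt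
  have htN : t ^ 40 = 1 := by
    rw [← hz]
    have h1 : (z⁻¹ * ee y * z) ^ 40 = z⁻¹ * (ee y) ^ 40 * z := by
      have := conj_pow (i := 40) (a := z⁻¹) (b := ee y)
      rwa [inv_inv] at this
    rw [h1, ← map_pow, hy, map_one, mul_one, inv_mul_cancel]
  obtain ⟨z1, hz1, hz2⟩ := Cfsg.Agent.H897.T5Cent.star e8T cs8 lf 3 con40 one_pos hσF F invC_E8 one_ne_zero hn1 hσx hz htT
    htN hnt
  exact ⟨⟨z1, t, n1, ζ, hζ, htT, hX, hn1, hnt, hz1, hz2, htN⟩⟩

variable {y : Ge} (D : Dt y)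

/-- the vector in the frame -/
noncomputable def va (a : Lv) : chevE8.Idx → KK := mt D.z⁻¹ *ᵥ fun i => algebraMap (ZMod 3) KK (a i)

theorem va_add (a b : Lv) : va D (a + b) = va D a + va D b := by
  unfold va
  rw [← Matrix.mulVec_add]
  congr 1
  funext i
  exact map_add _ _ _

theorem va_sub (a b : Lv) : va D (a - b) = va D a - va D b := by
  unfold va
  rw [← Matrix.mulVec_sub]
  congr 1
  funext i
  exact map_sub _ _ _

theorem mt_inv_mul (g : ↥(chevE8.group KK)) (u : chevE8.Idx → KK) : mt g *ᵥ (mt g⁻¹ *ᵥ u) = u := by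
  rw [Matrix.mulVec_mulVec, ← mt_mul, mul_inv_cancel, mt_one, Matrix.one_mulVec]

theorem va_inj {a b : Lv} (h : va D a = va D b) : a = b := by
  have h1 := congrArg (fun u => mt D.z *ᵥ u) h
  unfold va at h1
  simp only [mt_inv_mul] at h1
  funext i
  exact (algebraMap (ZMod 3) KK).injective (congrFun h1 i)

theorem ee_ac (g : Ge) (v : Lv) : mt (ee g) *ᵥ (fun i => algebraMap (ZMod 3) KK (v i)) =
    fun i => algebraMap (ZMod 3) KK (ac g v i) := by
  rw [mt, coe_emb, coe_glMap]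
  funext i
  exact (RingHom.map_mulVec (algebraMap (ZMod 3) KK) _ v i).symm

/-- the elements commuting with `y` -/
theorem va_ac {m : Ge} (hm : m * y = y * m) : ∃ m' : ↥(chevE8.group KK), m' * D.t = D.t * m' ∧
    ∀ a, va D (ac m a) = mt m' *ᵥ va D a := by
  refine ⟨D.z⁻¹ * ee m * D.z, ?_, fun a => ?_⟩
  · rw [← D.hzt]
    have h1 : ee m * ee y = ee y * ee m := by rw [← map_mul, hm, map_mul]
    calc D.z⁻¹ * ee m * D.z * (D.z⁻¹ * ee y * D.z) = D.z⁻¹ * (ee m * ee y) * D.z := by group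
      _ = D.z⁻¹ * (ee y * ee m) * D.z := by rw [h1]
      _ = _ := by group
  · unfold va
    rw [Matrix.mulVec_mulVec, ← mt_mul, mul_inv_cancel_right, mt_mul, ← Matrix.mulVec_mulVec, ee_ac]

theorem va_su {a : Lv} (ha : ac y a = a) : Su (va D a) := by
  rw [← su_iff D.hζ D.htT D.hX]
  unfold va
  rw [Matrix.mulVec_mulVec, ← mt_mul]
  have h1 : D.t * D.z⁻¹ = D.z⁻¹ * ee y := by rw [← D.hzt]; group
  rw [h1, mt_mul, ← Matrix.mulVec_mulVec, ee_ac, ha]

theorem pow_three (c : ZMod 3) : c ^ 3 = c := by revert c; decide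

theorem va_fr (a : Lv) : mt D.n *ᵥ Fv (va D a) = va D a := by
  unfold va
  rw [Fv_mt, Matrix.mulVec_mulVec, ← mt_mul]
  have h1 : D.n * sg D.z⁻¹ = D.z⁻¹ := by rw [← D.hsz, map_inv]; group
  have h2 : Fv (fun i => algebraMap (ZMod 3) KK (a i)) = fun i => algebraMap (ZMod 3) KK (a i) := by
    funext i
    show (algebraMap (ZMod 3) KK (a i)) ^ 3 = _
    rw [← map_pow, pow_three]
  rw [h1, h2]

/-- **the step** -/
theorem step {ι : Type*} (s : Finset ι) (l : ι → KK) (g : ι → Lv) (hg : ∀ i ∈ s, ac y (g i) = g i) {a : Lv}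
    (ha : ac y a = a) {j : Fin 4} (h : cp j (va D a) = ∑ i ∈ s, l i • cp j (va D (g i))) :
    cp (cy j) (va D a) = ∑ i ∈ s, l i ^ 3 • cp (cy j) (va D (g i)) := by
  have h1 : Su (va D a - ∑ i ∈ s, l i • va D (g i)) := by
    rw [sub_eq_add_neg, ← neg_one_smul KK]
    exact (va_su D ha).add ((Su.sum s _ fun i hi => (va_su D (hg i hi)).smul _).smul _)
  have h2 : cp j (va D a - ∑ i ∈ s, l i • va D (g i)) = 0 := by
    rw [map_sub, map_sum, h, sub_eq_zero]
    exact Finset.sum_congr rfl fun i _ => (map_smul _ _ _).symm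
  have h3 := tw_ker D.hζ D.htT D.hX D.hn D.hnt h1 h2
  rw [Fv_sub, Fv_sum, Matrix.mulVec_sub, va_fr, Matrix.mulVec_sum, map_sub, map_sum, sub_eq_zero] at h3
  rw [h3]
  refine Finset.sum_congr rfl fun i _ => ?_
  rw [Fv_smul, Matrix.mulVec_smul, va_fr, map_smul]

theorem step_zero {a : Lv} (ha : ac y a = a) {j : Fin 4} (h : cp j (va D a) = 0) : cp (cy j) (va D a) = 0 := by
  have := step D (∅ : Finset Unit) (fun _ => 0) (fun _ => 0) (fun i hi => absurd hi (Finset.notMem_empty i)) ha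
    (j := j) (by rw [Finset.sum_empty]; exact h)
  rwa [Finset.sum_empty] at this

theorem all_zero {a : Lv} (ha : ac y a = a) (h : cp 0 (va D a) = 0) (j : Fin 4) : cp j (va D a) = 0 := by
  have h1 := step_zero D ha h
  have h2 := step_zero D ha h1
  have h3 := step_zero D ha h2
  fin_cases j
  · exact h
  · exact h1
  · exact h3
  · exact h2

theorem zero_of {a : Lv} (ha : ac y a = a) {j : Fin 4} (h : cp j (va D a) = 0) : cp 0 (va D a) = 0 := by
  have h1 := step_zero D ha h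
  have h2 := step_zero D ha h1
  have h3 := step_zero D ha h2
  fin_cases j
  · exact h
  · exact h3
  · exact h1
  · exact h2

theorem step4 (s : Finset (Fin 3 → KK)) (l : (Fin 3 → KK) → KK) (g : (Fin 3 → KK) → Lv) (hg : ∀ i ∈ s, ac y (g i) = g i)
    {a : Lv} (ha : ac y a = a) (h : cp 0 (va D a) = ∑ i ∈ s, l i • cp 0 (va D (g i))) :
    cp 0 (va D a) = ∑ i ∈ s, l i ^ 81 • cp 0 (va D (g i)) := by
  have h1 := step D s l g hg ha h
  have h2 := step D s (fun i => l i ^ 3) g hg ha h1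
  have h3 := step D s (fun i => (l i ^ 3) ^ 3) g hg ha h2
  have h4 := step D s (fun i => ((l i ^ 3) ^ 3) ^ 3) g hg ha h3
  have e : ∀ c : KK, (((c ^ 3) ^ 3) ^ 3) ^ 3 = c ^ 81 := fun c => by rw [← pow_mul, ← pow_mul, ← pow_mul]
  have e0 : cy (cy (cy (cy 0))) = 0 := cy4 0
  rw [e0] at h4
  rw [h4]
  exact Finset.sum_congr rfl fun i _ => by rw [e]

/-- the set of the components -/
def PP : Set (Fin 3 → KK) := {x | ∃ a : Lv, ac y a = a ∧ cp 0 (va D a) = x}

theorem PP_fin : (PP D).Finite := by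
  have : PP D = (fun a : Lv => cp 0 (va D a)) '' {a | ac y a = a} := by
    ext x
    constructor
    · rintro ⟨a, ha, hx⟩
      exact ⟨a, ha, hx⟩
    · rintro ⟨a, ha, hx⟩
      exact ⟨a, ha, hx⟩
  rw [this]
  exact (Set.toFinite _).image _

theorem ac_add (g : Ge) (v w : Lv) : ac g (v + w) = ac g v + ac g w := Matrix.mulVec_add _ _ _
theorem ac_sub (g : Ge) (v w : Lv) : ac g (v - w) = ac g v - ac g w := Matrix.mulVec_sub _ _ _

theorem PP_add : ∀ x ∈ PP D, ∀ x' ∈ PP D, x + x' ∈ PP D := by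
  rintro _ ⟨a, ha, rfl⟩ _ ⟨b, hb, rfl⟩
  exact ⟨a + b, by rw [ac_add, ha, hb], by rw [va_add, map_add]⟩

theorem PP_sub : ∀ x ∈ PP D, ∀ x' ∈ PP D, x - x' ∈ PP D := by
  rintro _ ⟨a, ha, rfl⟩ _ ⟨b, hb, rfl⟩
  exact ⟨a - b, by rw [ac_sub, ha, hb], by rw [va_sub, map_sub]⟩

theorem PP_phi (b : Finset (Fin 3 → KK)) (l : (Fin 3 → KK) → KK) (hb : ∀ x ∈ b, x ∈ PP D) (x : Fin 3 → KK)
    (hx : x ∈ PP D) (h : x = ∑ i ∈ b, l i • i) : x = ∑ i ∈ b, l i ^ 81 • i := by
  classical
  choose! g hg hg' using hb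
  obtain ⟨a, ha, rfl⟩ := hx
  have h1 := step4 D b l g hg ha (h.trans (Finset.sum_congr rfl fun i hi => by rw [hg' i hi]))
  exact h1.trans (Finset.sum_congr rfl fun i hi => by rw [hg' i hi])

/-- the elements of the centraliser of `y` are good -/
theorem good_ac {m : Ge} (hm : m * y = y * m) : ∃ A : Matrix chevE8.Idx chevE8.Idx KK, Good A ∧
    ∀ a, va D (ac m a) = A *ᵥ va D a := by
  obtain ⟨m', h1, h2⟩ := va_ac D hm
  exact ⟨mt m', good_of_comm D.hζ D.htT D.hX D.ht h1, h2⟩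

theorem eq_of_cp {a b : Lv} (ha : ac y a = a) (hb : ac y b = b) (hz : zp (va D a) = zp (va D b))
    (hc : cp 0 (va D a) = cp 0 (va D b)) : a = b := by
  have hab : ac y (a - b) = a - b := by rw [ac_sub, ha, hb]
  have h1 : va D (a - b) = 0 := by
    refine ext_of_comp (va_su D hab) (by rw [va_sub, map_sub, hz, sub_self]) (all_zero D hab ?_)
    rw [va_sub, map_sub, hc, sub_self]
  rw [va_sub, sub_eq_zero] at h1
  exact va_inj D h1

include D in
/-- **the orbits are short** -/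
theorem orbit_lt {a : Lv} (ha : ac y a = a) :
    Set.ncard {b | ∃ m : Ge, m * y = y * m ∧ b = ac m a} < 531360 := by
  classical
  have hfix : ∀ m : Ge, m * y = y * m → ac y (ac m a) = ac m a := by
    intro m hm
    rw [← ac_mul, ← hm, ac_mul, ha]
  have key := count (K := KK) (P := PP D) (PP_fin D) (PP_add D) (PP_sub D) (PP_phi D) (by
    intro h2
    have := kk3
    have h1 : (1 : KK) = 0 := by linear_combination this - h2
    exact one_ne_zero h1)
    (O := (fun b : Lv => cp 0 (va D b)) '' {b | ∃ m : Ge, m * y = y * m ∧ b = ac m a}) (by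
      rintro _ ⟨b, ⟨m, hm, rfl⟩, rfl⟩
      exact ⟨_, hfix m hm, rfl⟩) (c := Qg (cp 0 (va D a))) (by
      rintro _ ⟨b, ⟨m, hm, rfl⟩, rfl⟩
      obtain ⟨A, hA, hA'⟩ := good_ac D hm
      show Qg (cp 0 (va D (ac m a))) = _
      rw [hA']
      exact hA.q _ (va_su D ha) 0)
  rw [Set.InjOn.ncard_image] at key
  · exact key
  · rintro _ ⟨m, hm, rfl⟩ _ ⟨m', hm', rfl⟩ h
    refine eq_of_cp D (hfix m hm) (hfix m' hm') ?_ h
    obtain ⟨A, hA, hA'⟩ := good_ac D hm
    obtain ⟨A', hB, hB'⟩ := good_ac D hm'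
    rw [hA', hB', hA.zp _ (va_su D ha), hB.zp _ (va_su D ha)]

/-- vectors fixed together -/
theorem fix_together {a b : Lv} (ha : ac y a = a) (hb : ac y b = b)
    (hab : ∀ j, ∃ c : KK, cp j (va D b) = c • cp j (va D a)) {m : Ge} (hm : m * y = y * m) (hma : ac m a = a) :
    ac m b = b := by
  obtain ⟨A, hA, hA'⟩ := good_ac D hm
  have hmb : ac y (ac m b) = ac m b := by rw [← ac_mul, ← hm, ac_mul, hb]
  refine eq_of_cp D hmb hb (by rw [hA', hA.zp _ (va_su D hb)]) ?_
  obtain ⟨c, hc⟩ := hab 0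
  have hs : Su (va D b - c • va D a) := by
    rw [sub_eq_add_neg, ← neg_one_smul KK]
    exact (va_su D hb).add (((va_su D ha).smul _).smul _)
  have h1 := hA.ker _ hs 0 (by rw [map_sub, map_smul, hc, sub_self])
  rw [Matrix.mulVec_sub, Matrix.mulVec_smul, ← hA', ← hA', hma, map_sub, map_smul, ← hc, sub_eq_zero] at h1
  exact h1

end Cfsg.Agent.H948.P3
end

-- part: H948/P3/Br
section
/-!
# S5921, P3: the bracket on the 16-dimensional space
-/

set_option autoImplicit false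
set_option linter.unusedSectionVars false
set_option maxRecDepth 100000

namespace Cfsg.Agent.H948.P3

open Matrix Cfsg Cfsg.Lie Cfsg.Lie.ChevalleyDatum
open Cfsg.Agent.ChevalleyStructure Cfsg.Agent.ChevalleyStructure.XColumns
open Cfsg.Agent.ChevalleyStructure.LieAbs Cfsg.Agent.ChevalleyStructure.Ring Cfsg.Agent.ChevalleyStructure.JacMain
  Cfsg.Agent.ChevalleyStructure.LieAut Cfsg.Agent.ChevalleyStructure.JacAll
open Cfsg.Agent.H971.RV (br)

universe u

theorem lac8 : Cfsg.Agent.H512.LinFour.IdealF.Lac chevE8 := ⟨by simp, by (delta Cfsg.Agent.ChevalleyStructure.Columns.row; rewrite [Cfsg.Agent.ChevFast.E8.chain]; decide +kernel), by decide +kernel⟩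

variable {K : Type u} [Field K]

/-- the Lie action of `e_r` from the action of `x_r(± 1)` -/
theorem adK_of {r : ℕ} (hr : r < chevE8.nroots) (h2 : (2 : K) ≠ 0) {v a b : chevE8.Idx → K}
    (h : ∀ t : K, chevE8.x K r t *ᵥ v = v + t • a + t ^ 2 • b) : adK chevE8 K r *ᵥ v = a := by
  have h1 := h 1
  have h3 := h (-1)
  rw [Cfsg.Agent.H971.RV.x_eq_three lac8 hr] at h1 h3
  simp only [Matrix.add_mulVec, Matrix.one_mulVec, Matrix.smul_mulVec, one_smul, one_pow, neg_one_sq, neg_smul, Matrix.neg_mulVec] at h1 h3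
  have h4 : (2 : K) • (adK chevE8 K r *ᵥ v) = (2 : K) • a := by
    have h5 := congrArg₂ (fun x y => x - y) h1 h3
    have e1 : ∀ x y z : chevE8.Idx → K, x + y + z - (x + -y + z) = (2 : K) • y := by
      intro x y z
      rw [two_smul]; abel
    rw [e1, e1] at h5
    exact h5
  have h6 := congrArg (fun x => (2 : K)⁻¹ • x) h4
  simp only [smul_smul, inv_mul_cancel₀ h2, one_smul] at h6
  exact h6

theorem ad_p (h2 : (2 : K) ≠ 0) {v : chevE8.Idx → K} (hv : Su v) (j : Fin 4) :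
    adK chevE8 K (pI j) *ᵥ v = -(al j v) • ev chevE8 K (pI j) + v (nx j) • XColumns.hv chevE8 K (hI j).val := by
  refine adK_of (pI_lt j) h2 (b := -(v (nx j)) • ev chevE8 K (pI j)) fun t => ?_
  rw [x_p hv]
  simp only [smul_add, smul_smul, sub_smul, neg_smul, smul_neg]
  have e : ∀ x y z w : chevE8.Idx → K, x + (-y - z) + w = x + (-y + w) + -z := by intros; abel
  exact e _ _ _ _

theorem ad_n (h2 : (2 : K) ≠ 0) {v : chevE8.Idx → K} (hv : Su v) (j : Fin 4) :
    adK chevE8 K (nI j) *ᵥ v = (al j v) • ev chevE8 K (nI j) - v (px j) • XColumns.hv chevE8 K (hI j).val := by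
  refine adK_of (nI_lt j) h2 (b := -(v (px j)) • ev chevE8 K (nI j)) fun t => ?_
  rw [x_n hv]
  simp only [smul_sub, smul_smul, sub_smul, neg_smul, smul_neg]
  have e : ∀ x y z w : chevE8.Idx → K, x + (y - z) - w = x + (y - w) + -z := by intros; abel
  exact e _ _ _ _

theorem br_eq (u v : chevE8.Idx → K) : br chevE8 K u v =
    (∑ i : Fin chevE8.rank, u (Sum.inl i) • (adR chevE8 K (Sum.inl i) *ᵥ v)) +
    ∑ s : Fin chevE8.nroots, u (Sum.inr s) • (adK chevE8 K s.val *ᵥ v) := by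
  unfold br adv
  rw [Matrix.sum_mulVec, Fintype.sum_sum_type]
  (with_reducible congr 1)
  · exact Finset.sum_congr rfl fun i _ => Matrix.smul_mulVec _ _ _
  · exact Finset.sum_congr rfl fun i _ => Matrix.smul_mulVec _ _ _

theorem adH_apply (i : Fin chevE8.rank) (v : chevE8.Idx → K) :
    (∀ k, (adR chevE8 K (Sum.inl i) *ᵥ v) (Sum.inl k) = 0) ∧
    ∀ s : Fin chevE8.nroots, (adR chevE8 K (Sum.inl i) *ᵥ v) (Sum.inr s) = (chevE8.cartan i.val s.val : K) * v (Sum.inr s) := by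
  have e : adR chevE8 K (Sum.inl i) = Matrix.diagonal (Sum.elim (fun _ => (0 : K))
      (fun s : Fin chevE8.nroots => (chevE8.cartan i.val s.val : K))) := by
    rw [adR_def, adA_inl]
    unfold adH
    rw [Matrix.diagonal_map (map_zero _)]
    congr 1
    funext a
    rcases a with k | s
    · simp
    · rfl
  rw [e]
  constructor
  · intro k
    rw [Matrix.mulVec_diagonal, Sum.elim_inl, zero_mul]
  · intro s
    rw [Matrix.mulVec_diagonal, Sum.elim_inr]

theorem br_px (h2 : (2 : K) ≠ 0) {u v : chevE8.Idx → K} (hu : Su u) (hv : Su v) (j : Fin 4) :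
    br chevE8 K u v (px j) = al j u * v (px j) - u (px j) * al j v := by
  classical
  rw [br_eq, Pi.add_apply, Finset.sum_apply, Finset.sum_apply]
  have h1 : ∑ i : Fin chevE8.rank, (u (Sum.inl i) • (adR chevE8 K (Sum.inl i) *ᵥ v)) (px j) = al j u * v (px j) := by
    rw [al_apply, Finset.sum_mul]
    refine Finset.sum_congr rfl fun i _ => ?_
    rw [Pi.smul_apply, smul_eq_mul]
    unfold px
    rw [(adH_apply i v).2]
    ring
  have h3 : ∑ s : Fin chevE8.nroots, (u (Sum.inr s) • (adK chevE8 K s.val *ᵥ v)) (px j) = -(u (px j) * al j v) := by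
    rw [Finset.sum_eq_single (⟨pI j, pI_lt j⟩ : Fin chevE8.nroots)]
    · rw [Pi.smul_apply, smul_eq_mul]
      show u (px j) * (adK chevE8 K (pI j) *ᵥ v) (px j) = _
      rw [ad_p h2 hv, Pi.add_apply, Pi.smul_apply, Pi.smul_apply]
      have e1 : ev chevE8 K (pI j) (px j) = 1 := if_pos rfl
      have e2 : XColumns.hv chevE8 K (hI j).val (px j) = 0 := rfl
      rw [e1, e2]
      simp
    · intro s _ hs
      rw [Pi.smul_apply, smul_eq_mul]
      by_cases h0 : u (Sum.inr s) = 0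
      · rw [h0, zero_mul]
      obtain ⟨i, hi | hi⟩ := hu s h0
      · have hij : i ≠ j := fun h => hs (Fin.ext (by rw [hi, h]))
        rw [hi, ad_p h2 hv, Pi.add_apply, Pi.smul_apply, Pi.smul_apply]
        have e1 : ev chevE8 K (pI i) (px j) = 0 := if_neg fun h => hij (pI_inj _ _ h).symm
        have e2 : XColumns.hv chevE8 K (hI i).val (px j) = 0 := rfl
        rw [e1, e2]
        simp
      · rw [hi, ad_n h2 hv, Pi.sub_apply, Pi.smul_apply, Pi.smul_apply]
        have e1 : ev chevE8 K (nI i) (px j) = 0 := if_neg fun h => pI_ne_nI _ _ h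
        have e2 : XColumns.hv chevE8 K (hI i).val (px j) = 0 := rfl
        rw [e1, e2]
        simp
    · intro h; exact absurd (Finset.mem_univ _) h
  rw [h1, h3, ← sub_eq_add_neg]

theorem br_nx (h2 : (2 : K) ≠ 0) {u v : chevE8.Idx → K} (hu : Su u) (hv : Su v) (j : Fin 4) :
    br chevE8 K u v (nx j) = u (nx j) * al j v - al j u * v (nx j) := by
  classical
  rw [br_eq, Pi.add_apply, Finset.sum_apply, Finset.sum_apply]
  have h1 : ∑ i : Fin chevE8.rank, (u (Sum.inl i) • (adR chevE8 K (Sum.inl i) *ᵥ v)) (nx j) = -(al j u * v (nx j)) := by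
    rw [al_apply, Finset.sum_mul, ← Finset.sum_neg_distrib]
    refine Finset.sum_congr rfl fun i _ => ?_
    rw [Pi.smul_apply, smul_eq_mul]
    unfold nx
    rw [(adH_apply i v).2]
    simp only
    rw [car_n]
    push_cast
    ring
  have h3 : ∑ s : Fin chevE8.nroots, (u (Sum.inr s) • (adK chevE8 K s.val *ᵥ v)) (nx j) = u (nx j) * al j v := by
    rw [Finset.sum_eq_single (⟨nI j, nI_lt j⟩ : Fin chevE8.nroots)]
    · rw [Pi.smul_apply, smul_eq_mul]
      show u (nx j) * (adK chevE8 K (nI j) *ᵥ v) (nx j) = _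
      rw [ad_n h2 hv, Pi.sub_apply, Pi.smul_apply, Pi.smul_apply]
      have e1 : ev chevE8 K (nI j) (nx j) = 1 := if_pos rfl
      have e2 : XColumns.hv chevE8 K (hI j).val (nx j) = 0 := rfl
      rw [e1, e2]
      simp
    · intro s _ hs
      rw [Pi.smul_apply, smul_eq_mul]
      by_cases h0 : u (Sum.inr s) = 0
      · rw [h0, zero_mul]
      obtain ⟨i, hi | hi⟩ := hu s h0
      · rw [hi, ad_p h2 hv, Pi.add_apply, Pi.smul_apply, Pi.smul_apply]
        have e1 : ev chevE8 K (pI i) (nx j) = 0 := if_neg fun h => pI_ne_nI _ _ h.symm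
        have e2 : XColumns.hv chevE8 K (hI i).val (nx j) = 0 := rfl
        rw [e1, e2]
        simp
      · have hij : i ≠ j := fun h => hs (Fin.ext (by rw [hi, h]))
        rw [hi, ad_n h2 hv, Pi.sub_apply, Pi.smul_apply, Pi.smul_apply]
        have e1 : ev chevE8 K (nI i) (nx j) = 0 := if_neg fun h => hij (nI_inj _ _ h).symm
        have e2 : XColumns.hv chevE8 K (hI i).val (nx j) = 0 := rfl
        rw [e1, e2]
        simp
    · intro h; exact absurd (Finset.mem_univ _) h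
  rw [h1, h3]
  ring

theorem br_hx (h2 : (2 : K) ≠ 0) {u v : chevE8.Idx → K} (hu : Su u) (hv : Su v) (j : Fin 4) :
    br chevE8 K u v (hx (hI j)) = u (px j) * v (nx j) - u (nx j) * v (px j) := by
  classical
  rw [br_eq, Pi.add_apply, Finset.sum_apply, Finset.sum_apply]
  have h1 : ∑ i : Fin chevE8.rank, (u (Sum.inl i) • (adR chevE8 K (Sum.inl i) *ᵥ v)) (hx (hI j)) = 0 := by
    refine Finset.sum_eq_zero fun i _ => ?_
    rw [Pi.smul_apply, smul_eq_mul]
    unfold hx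
    rw [(adH_apply i v).1, mul_zero]
  have e3 : ∀ i : Fin 4, XColumns.hv chevE8 K (hI i).val (hx (hI j)) = if i = j then 1 else 0 := by
    intro i
    unfold hx
    rw [hv_inl]
    by_cases h : i = j
    · subst h; simp
    · rw [if_neg h, if_neg fun h' => h (hI_inj _ _ (Fin.ext h')).symm]
  have e4 : ∀ r : ℕ, ev chevE8 K r (hx (hI j)) = 0 := fun r => rfl
  let f : Fin chevE8.nroots → K := fun s => (u (Sum.inr s) • (adK chevE8 K s.val *ᵥ v)) (hx (hI j))
  have h3 : ∑ s : Fin chevE8.nroots, f s = u (px j) * v (nx j) - u (nx j) * v (px j) := by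
    have hne : (⟨pI j, pI_lt j⟩ : Fin chevE8.nroots) ≠ ⟨nI j, nI_lt j⟩ := fun h => pI_ne_nI j j (congrArg Fin.val h)
    have h4 : ∑ s ∈ ({⟨pI j, pI_lt j⟩, ⟨nI j, nI_lt j⟩} : Finset (Fin chevE8.nroots)), f s = ∑ s : Fin chevE8.nroots, f s := by
      refine Finset.sum_subset (Finset.subset_univ _) ?_
      intro s _ hs
      rw [Finset.mem_insert, Finset.mem_singleton, not_or] at hs
      show (u (Sum.inr s) • (adK chevE8 K s.val *ᵥ v)) (hx (hI j)) = 0
      rw [Pi.smul_apply, smul_eq_mul]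
      by_cases h0 : u (Sum.inr s) = 0
      · rw [h0, zero_mul]
      obtain ⟨i, hi | hi⟩ := hu s h0
      · have hij : i ≠ j := fun h => hs.1 (Fin.ext (by rw [hi, h]))
        rw [hi, ad_p h2 hv, Pi.add_apply, Pi.smul_apply, Pi.smul_apply, e4, e3, if_neg hij]
        simp
      · have hij : i ≠ j := fun h => hs.2 (Fin.ext (by rw [hi, h]))
        rw [hi, ad_n h2 hv, Pi.sub_apply, Pi.smul_apply, Pi.smul_apply, e4, e3, if_neg hij]
        simp
    rw [← h4, Finset.sum_pair hne]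
    have h5 : f ⟨pI j, pI_lt j⟩ = u (px j) * v (nx j) := by
      show (u (px j) • (adK chevE8 K (pI j) *ᵥ v)) (hx (hI j)) = _
      rw [Pi.smul_apply, smul_eq_mul, ad_p h2 hv, Pi.add_apply, Pi.smul_apply, Pi.smul_apply, e4, e3, if_pos rfl]
      simp
    have h6 : f ⟨nI j, nI_lt j⟩ = -(u (nx j) * v (px j)) := by
      show (u (nx j) • (adK chevE8 K (nI j) *ᵥ v)) (hx (hI j)) = _
      rw [Pi.smul_apply, smul_eq_mul, ad_n h2 hv, Pi.sub_apply, Pi.smul_apply, Pi.smul_apply, e4, e3, if_pos rfl]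
      simp
    rw [h5, h6, ← sub_eq_add_neg]
  rw [h1, zero_add]
  exact h3

end Cfsg.Agent.H948.P3
end

-- part: H948/P3/Fin
section
/-!
# S5921, P3: the conclusion
-/

set_option autoImplicit false
set_option linter.unusedSectionVars false
set_option maxRecDepth 100000

namespace Cfsg.Agent.H948.P3

open CoxeterSystem Cfsg Cfsg.Lie Cfsg.Lie.ChevalleyDatum
open Cfsg.Agent.ChevalleyStructure Cfsg.Agent.ChevalleyStructure.LieAut Cfsg.Agent.ChevalleyStructure.LieAbs
open Cfsg.Agent.KFacts.RgdChevCoord Cfsg.Agent.BpExc.TowChev Cfsg.Agent.H129.TorusChar Cfsg.Agent.Tits.Roots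
open Cfsg.Agent.GpExc.Field Cfsg.Agent.H944.Kac Cfsg.Agent.H944.Tab Cfsg.Agent.H942.E8Alc
open Cfsg.Agent.H942.E8Tab Cfsg.Agent.H942.CB
open Cfsg.Agent.H540.E8C (KK)
open Cfsg.Agent.H971.RV (br rho_br rho_apply br_add_left br_add_right br_smul_left br_smul_right)
open Matrix
open Cfsg.Agent.H943.SL2Rel (h u w)

/-! ### the bracket over the field with three elements -/

theorem mem8 : chevE8 ∈ [chevG2, chevB2, chevD4, chevF4, chevE6, chevE7, chevE8] := by simp

/-- the bracket -/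
noncomputable abbrev bb (a b : Lv) : Lv := br chevE8 (ZMod 3) a b

theorem ac_bb (g : Ge) (a b : Lv) : ac g (bb a b) = bb (ac g a) (ac g b) := by
  have h1 := rho_br (k := ZMod 3) mem8 g a b
  rw [rho_apply, rho_apply, rho_apply] at h1
  exact h1

theorem mt_br (g : ↥(chevE8.group KK)) (a b : chevE8.Idx → KK) :
    mt g *ᵥ br chevE8 KK a b = br chevE8 KK (mt g *ᵥ a) (mt g *ᵥ b) := by
  have h1 := rho_br (k := KK) mem8 g a b
  rw [rho_apply, rho_apply, rho_apply] at h1
  exact h1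

theorem em_bb (a b : Lv) : (fun i => algebraMap (ZMod 3) KK (bb a b i)) =
    br chevE8 KK (fun i => algebraMap (ZMod 3) KK (a i)) (fun i => algebraMap (ZMod 3) KK (b i)) := by
  funext i
  show algebraMap (ZMod 3) KK ((adv (adR chevE8 (ZMod 3)) a *ᵥ b) i) = _
  rw [RingHom.map_mulVec]
  have e : (adv (adR chevE8 (ZMod 3)) a).map (algebraMap (ZMod 3) KK) =
      adv (adR chevE8 KK) (fun i => algebraMap (ZMod 3) KK (a i)) := by
    rw [adv_map]
    have e2 : (fun k => (adR chevE8 (ZMod 3) k).map (algebraMap (ZMod 3) KK)) = adR chevE8 KK := by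
      funext k
      exact adR_map chevE8 _ k
    rw [e2]
  rw [e]
  rfl

theorem kk2 : (2 : KK) ≠ 0 := by
  intro h2
  have := kk3
  have h1 : (1 : KK) = 0 := by linear_combination this - h2
  exact one_ne_zero h1

/-- vectors in the centre are fixed by the whole centraliser -/
theorem fix_centre {y : Ge} (D : Dt y) {a : Lv} (ha : ac y a = a) (h0 : cp 0 (va D a) = 0) {m : Ge}
    (hm : m * y = y * m) : ac m a = a := by
  obtain ⟨A, hA, hA'⟩ := good_ac D hm
  have hma : ac y (ac m a) = ac m a := by rw [← ac_mul, ← hm, ac_mul, ha]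
  refine eq_of_cp D hma ha (by rw [hA', hA.zp _ (va_su D ha)]) ?_
  rw [hA', h0]
  exact hA.ker _ (va_su D ha) 0 h0

/-! ### the stabilisers are large -/

theorem ac_zero (g : Ge) : ac g 0 = 0 := Matrix.mulVec_zero _
theorem ac_neg (g : Ge) (v : Lv) : ac g (-v) = - ac g v := Matrix.mulVec_neg _ _

theorem mem_cen {G : Type*} [Group G] {y m : G} : m ∈ Subgroup.centralizer ({y} : Set G) ↔ m * y = y * m :=
  Subgroup.mem_centralizer_singleton_iff

/-- the centraliser -/
def cen (y : Ge) : Subgroup Ge := Subgroup.centralizer {y}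

theorem mem_cen' {y m : Ge} : m ∈ cen y ↔ m * y = y * m := mem_cen

/-- the stabiliser of a vector in the centraliser of `y` -/
def stb (y : Ge) (a : Lv) : Subgroup Ge where
  carrier := {m | m * y = y * m ∧ ac m a = a}
  one_mem' := ⟨by rw [one_mul, mul_one], ac_one a⟩
  mul_mem' := fun {m m'} hm hm' => ⟨by rw [mul_assoc, hm'.1, ← mul_assoc, hm.1, mul_assoc],
    by rw [ac_mul, hm'.2, hm.2]⟩
  inv_mem' := fun {m} hm => ⟨by
    rw [inv_mul_eq_iff_eq_mul, ← mul_assoc, hm.1, mul_assoc, mul_inv_cancel, mul_one], by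
    conv_lhs => rw [← hm.2]
    rw [← ac_mul, inv_mul_cancel, ac_one]⟩

theorem mem_stb {y : Ge} {a : Lv} {m : Ge} : m ∈ stb y a ↔ m * y = y * m ∧ ac m a = a := Iff.rfl

/-- counting through the fibres -/
theorem card_le_fib {G V : Type*} [Group G] [Finite G] (C S : Subgroup G) (f : G → V) (T : Set V) (hT : T.Finite)
    (hfT : ∀ m ∈ C, f m ∈ T) (hf : ∀ m ∈ C, ∀ m' ∈ C, f m = f m' → m⁻¹ * m' ∈ S) :
    Nat.card ↥C ≤ Nat.card ↥S * T.ncard := by
  classical
  have := Fintype.ofFinite G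
  let s : Finset G := Finset.univ.filter fun m => m ∈ C
  have hs : s.card = Nat.card ↥C := by
    rw [Nat.card_eq_fintype_card, Fintype.card_subtype]
  have h1 := Finset.card_le_mul_card_image (s := s) (f := f) (Nat.card ↥S) (by
    intro a ha
    rw [Finset.mem_image] at ha
    obtain ⟨m, hm, rfl⟩ := ha
    have hmC : m ∈ C := (Finset.mem_filter.1 hm).2
    have h2 : (s.filter fun x => f x = f m) ⊆ (Finset.univ.filter fun x => x ∈ S).image fun x => m * x := by
      intro x hx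
      rw [Finset.mem_filter] at hx
      have hxC : x ∈ C := (Finset.mem_filter.1 hx.1).2
      rw [Finset.mem_image]
      exact ⟨m⁻¹ * x, Finset.mem_filter.2 ⟨Finset.mem_univ _, hf m hmC x hxC hx.2.symm⟩, by rw [mul_inv_cancel_left]⟩
    refine (Finset.card_le_card h2).trans (Finset.card_image_le.trans (le_of_eq ?_))
    rw [Nat.card_eq_fintype_card, Fintype.card_subtype])
  rw [hs] at h1
  refine h1.trans (Nat.mul_le_mul_left _ ?_)
  rw [← Set.ncard_coe_finset]
  refine Set.ncard_le_ncard ?_ hT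
  intro b hb
  rw [Finset.mem_coe, Finset.mem_image] at hb
  obtain ⟨m, hm, rfl⟩ := hb
  exact hfT m (Finset.mem_filter.1 hm).2

theorem arith (M S N : ℕ) (h1 : 42508800 ≤ M) (h2 : N < 531360) (h3 : M ≤ S * N) : 80 < S := by
  by_contra hcon
  push Not at hcon
  have h5 : S * N ≤ 80 * 531359 := Nat.mul_le_mul hcon (by omega)
  omega

theorem finGe : Finite Ge := finite_group

/-- the orbit -/
def orb (y : Ge) (a : Lv) : Set Lv := {b | ∃ m : Ge, m * y = y * m ∧ b = ac m a}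

theorem orb_fin (y : Ge) (a : Lv) : (orb y a).Finite := (Set.finite_univ : (Set.univ : Set Lv).Finite).subset (Set.subset_univ _)

theorem orb_lt {y : Ge} (D : Dt y) {a : Lv} (ha : ac y a = a) : (orb y a).ncard < 531360 := orbit_lt D ha

theorem cent_le_stb (y : Ge) (a : Lv) : Nat.card ↥(cen y) ≤ Nat.card ↥(stb y a) * (orb y a).ncard := by
  have hfinG : Finite Ge := finGe
  refine card_le_fib (G := Ge) (V := Lv) (cen y) (stb y a) (fun m : Ge => ac m a) (orb y a)
    (orb_fin y a) (fun m hm => ⟨m, mem_cen'.1 hm, rfl⟩) ?_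
  intro m hm m' hm' h
  have h1 : m⁻¹ * m' ∈ cen y := mul_mem (inv_mem hm) hm'
  refine mem_stb.2 ⟨mem_cen'.1 h1, ?_⟩
  have h' : ac m a = ac m' a := h
  rw [ac_mul, ← h', ← ac_mul, inv_mul_cancel, ac_one]

/-- orbit and stabiliser -/
theorem card_stb {y : Ge} (D : Dt y) (hM : 42508800 ≤ Nat.card ↥(cen y)) {a : Lv} (ha : ac y a = a) :
    80 < Nat.card ↥(stb y a) :=
  arith _ _ _ hM (orb_lt D ha) (cent_le_stb y a)

end Cfsg.Agent.H948.P3
end

-- part: H948/P3/Pair
section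
/-!
# S5921, P3: the invariant pair of vectors, abstractly
-/

set_option autoImplicit false
set_option linter.unusedVariables false

namespace Cfsg.Agent.H948.P3

/-- **the invariant pair** -/
theorem pair_abs {G V : Type} [Group G] [AddCommGroup V] [Module (ZMod 3) V] [Finite V] (ac : G → V → V)
    (ac_mul : ∀ g g' v, ac (g * g') v = ac g (ac g' v)) (ac_zero : ∀ g, ac g 0 = 0)
    (ac_add : ∀ g x y, ac g (x + y) = ac g x + ac g y) (ac_smul : ∀ g (c : ZMod 3) x, ac g (c • x) = c • ac g x)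
    (ac_neg : ∀ g x, ac g (-x) = -ac g x) (ac_sub : ∀ g x y, ac g (x - y) = ac g x - ac g y)
    (bb : V → V → V) (ac_bb : ∀ g x y, ac g (bb x y) = bb (ac g x) (ac g y))
    (negl : ∀ x z, bb (-x) z = -bb x z) (negr : ∀ x z, bb x (-z) = -bb x z)
    (zl : ∀ c, bb 0 c = 0) (zr : ∀ c, bb c 0 = 0)
    {H S : Subgroup G} (hn : ∀ g ∈ H, ∀ s ∈ S, g * s * g⁻¹ ∈ S)
    (hcomm : ∀ a ∈ H, ∀ b ∈ H, a * b * a⁻¹ * b⁻¹ ∈ S) (hfour : ∀ a ∈ H, a ^ 4 ∈ S) {a0 : V} (ha0 : a0 ≠ 0)
    (hfix : ∀ s ∈ S, ac s a0 = a0) :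
    ∃ a b : V, a ≠ 0 ∧ (∀ s ∈ S, ac s a = a) ∧ (∀ s ∈ S, ac s b = b) ∧ bb a b = bb b a ∧
      (∀ g ∈ H, ac g a ∈ Submodule.span (ZMod 3) {a, b}) ∧ ∀ g ∈ H, ac g b ∈ Submodule.span (ZMod 3) {a, b} := by
  classical
  -- fixed vectors
  let A : Submodule (ZMod 3) V :=
    { carrier := {a | ∀ s ∈ S, ac s a = a}
      zero_mem' := fun s _ => ac_zero s
      add_mem' := fun {x y} hx hy s hs => by rw [ac_add, hx s hs, hy s hs]
      smul_mem' := fun c x hx s hs => by rw [ac_smul, hx s hs] }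
  have hAH : ∀ g ∈ H, ∀ a ∈ A, ac g a ∈ A := by
    intro g hg a ha s hs
    have h1 : g⁻¹ * s * g ∈ S := by
      have := hn g⁻¹ (H.inv_mem hg) s hs
      rwa [inv_inv] at this
    have h2 : s * g = g * (g⁻¹ * s * g) := by group
    rw [← ac_mul, h2, ac_mul, ha _ h1]
  have hcm : ∀ g ∈ H, ∀ k ∈ H, ∀ a ∈ A, ac g (ac k a) = ac k (ac g a) := by
    intro g hg k hk a ha
    have h1 : g * k = (g * k * g⁻¹ * k⁻¹) * (k * g) := by group
    rw [← ac_mul, h1, ac_mul (g * k * g⁻¹ * k⁻¹), ac_mul k]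
    exact hAH k hk _ (hAH g hg a ha) _ (hcomm g hg k hk)
  have h4 : ∀ g ∈ H, ∀ a ∈ A, ac g (ac g (ac g (ac g a))) = a := by
    intro g hg a ha
    rw [← ac_mul, ← ac_mul, ← ac_mul]
    have h2 : g * g * g * g = g ^ 4 := by rw [pow_succ, pow_succ, pow_succ, pow_one]
    rw [h2]
    exact ha _ (hfour g hg)
  -- the minimal subspace
  let P : Submodule (ZMod 3) V → Prop := fun W => W ≠ ⊥ ∧ W ≤ A ∧ ∀ g ∈ H, ∀ a ∈ W, ac g a ∈ W
  have hPA : P A := ⟨fun h => ha0 (by
    have : a0 ∈ A := hfix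
    rw [h] at this
    exact (Submodule.mem_bot _).1 this), le_rfl, hAH⟩
  obtain ⟨W, ⟨hW0, hWA, hWH⟩, hmin⟩ := (wellFounded_lt (α := Submodule (ZMod 3) V)).has_min {W | P W} ⟨A, hPA⟩
  have hdich : ∀ W' : Submodule (ZMod 3) V, W' ≤ W → (∀ g ∈ H, ∀ a ∈ W', ac g a ∈ W') → W' = ⊥ ∨ W' = W := by
    intro W' hle hinv
    by_cases h0 : W' = ⊥
    · exact Or.inl h0
    · right
      by_contra hne
      exact hmin W' ⟨h0, hle.trans hWA, hinv⟩ (lt_of_le_of_ne hle hne)
  obtain ⟨a, haW, ha⟩ := (Submodule.ne_bot_iff _).1 hW0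
  -- the eigenspaces
  have hE : ∀ g ∈ H, (∀ a ∈ W, ac g (ac g a) = a) → (∀ a ∈ W, ac g a = a) ∨ ∀ a ∈ W, ac g a = -a := by
    intro g hg hgg
    let W' : Submodule (ZMod 3) V :=
      { carrier := {a | a ∈ W ∧ ac g a = a}
        zero_mem' := ⟨W.zero_mem, ac_zero g⟩
        add_mem' := fun {x y} hx hy => ⟨W.add_mem hx.1 hy.1, by rw [ac_add, hx.2, hy.2]⟩
        smul_mem' := fun c x hx => ⟨W.smul_mem c hx.1, by rw [ac_smul, hx.2]⟩ }
    rcases hdich W' (fun x hx => hx.1) (fun k hk x hx => ⟨hWH k hk x hx.1, by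
      rw [hcm g hg k hk x (hWA hx.1), hx.2]⟩) with h1 | h1
    · right
      intro x hx
      have h2 : ac g x + x ∈ W' := ⟨W.add_mem (hWH g hg x hx) hx, by rw [ac_add, hgg x hx, add_comm]⟩
      rw [h1] at h2
      exact eq_neg_of_add_eq_zero_left ((Submodule.mem_bot _).1 h2)
    · left
      intro x hx
      rw [← h1] at hx
      exact hx.2
  have hEE : ∀ g ∈ H, (∀ a ∈ W, ac g (ac g a) = a) ∨ ∀ a ∈ W, ac g (ac g a) = -a := by
    intro g hg
    let W' : Submodule (ZMod 3) V :=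
      { carrier := {a | a ∈ W ∧ ac g (ac g a) = a}
        zero_mem' := ⟨W.zero_mem, by rw [ac_zero, ac_zero]⟩
        add_mem' := fun {x y} hx hy => ⟨W.add_mem hx.1 hy.1, by rw [ac_add, ac_add, hx.2, hy.2]⟩
        smul_mem' := fun c x hx => ⟨W.smul_mem c hx.1, by rw [ac_smul, ac_smul, hx.2]⟩ }
    rcases hdich W' (fun x hx => hx.1) (fun k hk x hx => ⟨hWH k hk x hx.1, by
      rw [hcm g hg k hk x (hWA hx.1), hcm g hg k hk _ (hWA (hWH g hg x hx.1)), hx.2]⟩) with h1 | h1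
    · right
      intro x hx
      have h2 : ac g (ac g x) + x ∈ W' := ⟨W.add_mem (hWH g hg _ (hWH g hg x hx)) hx, by
        rw [ac_add, ac_add, h4 g hg x (hWA hx), add_comm]⟩
      rw [h1] at h2
      exact eq_neg_of_add_eq_zero_left ((Submodule.mem_bot _).1 h2)
    · left
      intro x hx
      rw [← h1] at hx
      exact hx.2
  -- the one-dimensional case
  have one : ∀ c : V, c ≠ 0 → c ∈ A → (∀ g ∈ H, ac g c = c ∨ ac g c = -c) → ∃ a b : V, a ≠ 0 ∧ (∀ s ∈ S, ac s a = a) ∧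
      (∀ s ∈ S, ac s b = b) ∧ bb a b = bb b a ∧
      (∀ g ∈ H, ac g a ∈ Submodule.span (ZMod 3) {a, b}) ∧ ∀ g ∈ H, ac g b ∈ Submodule.span (ZMod 3) {a, b} := by
    intro c hc hcA hcH
    refine ⟨c, 0, hc, hcA, fun s _ => ac_zero s, ?_, ?_, ?_⟩
    · rw [zr, zl]
    · intro g hg
      rcases hcH g hg with h | h
      · rw [h]; exact Submodule.subset_span (Or.inl rfl)
      · rw [h]; exact Submodule.neg_mem _ (Submodule.subset_span (Or.inl rfl))
    · intro g _
      rw [ac_zero]; exact Submodule.zero_mem _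
  by_cases hall : ∀ g ∈ H, ∀ a ∈ W, ac g (ac g a) = a
  · refine one a ha (hWA haW) fun g hg => ?_
    rcases hE g hg (hall g hg) with h | h
    · exact Or.inl (h a haW)
    · exact Or.inr (h a haW)
  · push Not at hall
    obtain ⟨σ, hσ, a', ha', hne⟩ := hall
    have hσσ : ∀ a ∈ W, ac σ (ac σ a) = -a := (hEE σ hσ).resolve_left fun h => hne (h a' ha')
    -- every element acts as `± 1` or `± σ`
    have hcase : ∀ g ∈ H, (∀ x ∈ W, ac g x = x) ∨ (∀ x ∈ W, ac g x = -x) ∨ (∀ x ∈ W, ac g x = ac σ x) ∨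
        ∀ x ∈ W, ac g x = -ac σ x := by
      intro g hg
      rcases hEE g hg with h1 | h1
      · rcases hE g hg h1 with h2 | h2
        · exact Or.inl h2
        · exact Or.inr (Or.inl h2)
      · have h2 : ∀ x ∈ W, ac (g * σ) (ac (g * σ) x) = x := by
          intro x hx
          rw [ac_mul, ac_mul, hcm σ hσ g hg _ (hWA (hWH σ hσ x hx)), hσσ x hx, ac_neg, ac_neg, h1 x hx, neg_neg]
        rcases hE (g * σ) (H.mul_mem hg hσ) h2 with h3 | h3
        · right; right; right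
          intro x hx
          have h5 := h3 (ac σ x) (hWH σ hσ x hx)
          rw [ac_mul, hσσ x hx, ac_neg] at h5
          rw [← h5, neg_neg]
        · right; right; left
          intro x hx
          have h5 := h3 (ac σ x) (hWH σ hσ x hx)
          rw [ac_mul, hσσ x hx, ac_neg] at h5
          exact neg_injective h5
    have hbW := hWH σ hσ a haW
    set b := ac σ a with hb
    have hσb : ac σ b = -a := by rw [hb]; exact hσσ a haW
    by_cases hc : bb a b = bb b a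
    · refine ⟨a, b, ha, hWA haW, hWA hbW, hc, ?_, ?_⟩
      · intro g hg
        rcases hcase g hg with h | h | h | h
        · rw [h a haW]; exact Submodule.subset_span (Or.inl rfl)
        · rw [h a haW]; exact Submodule.neg_mem _ (Submodule.subset_span (Or.inl rfl))
        · rw [h a haW]; exact Submodule.subset_span (Or.inr rfl)
        · rw [h a haW]; exact Submodule.neg_mem _ (Submodule.subset_span (Or.inr rfl))
      · intro g hg
        rcases hcase g hg with h | h | h | h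
        · rw [h b hbW]; exact Submodule.subset_span (Or.inr rfl)
        · rw [h b hbW]; exact Submodule.neg_mem _ (Submodule.subset_span (Or.inr rfl))
        · rw [h b hbW, hσb]; exact Submodule.neg_mem _ (Submodule.subset_span (Or.inl rfl))
        · rw [h b hbW, hσb, neg_neg]; exact Submodule.subset_span (Or.inl rfl)
    · refine one (bb a b - bb b a) (sub_ne_zero.2 hc) ?_ ?_
      · intro s hs
        rw [ac_sub, ac_bb, ac_bb, hWA haW s hs, hWA hbW s hs]
      · intro g hg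
        left
        rw [ac_sub, ac_bb, ac_bb]
        rcases hcase g hg with h | h | h | h
        · rw [h a haW, h b hbW]
        · rw [h a haW, h b hbW, negl, negr, negl, negr, neg_neg, neg_neg]
        · rw [h a haW, h b hbW, hσb, ← hb, negr, negl]
          abel
        · rw [h a haW, h b hbW, hσb, ← hb, neg_neg, negl, negr]
          abel

end Cfsg.Agent.H948.P3
end

-- part: H948/P3/AZero
section
/-!
# S5921, P3: the invariant subspace, and the conclusion
-/

set_option autoImplicit false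
set_option linter.unusedSectionVars false
set_option maxRecDepth 100000

namespace Cfsg.Agent.H948.P3

open CoxeterSystem Cfsg Cfsg.Lie Cfsg.Lie.ChevalleyDatum
open Cfsg.Agent.H971.RV (br br_add_left br_add_right br_sub_left br_sub_right br_smul_left br_smul_right)
open Cfsg.Agent.H540.E8C (KK)
open Cfsg.Agent.H943.SL2Rel (h u w)
open Cfsg.Agent.H525.E8L (CentreStmt P3Stmt)

/-- proportional components -/
theorem prop_of_br' {u v : chevE8.Idx → KK} (hu : Su u) (hv : Su v) (h : br chevE8 KK u v = br chevE8 KK v u)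
    {j : Fin 4} (h0 : cp j u ≠ 0) : ∃ c : KK, cp j v = c • cp j u := by
  have h3 := br_px kk2 hu hv j
  have h4 := br_nx kk2 hu hv j
  have h5 := br_hx kk2 hu hv j
  rw [h] at h3 h4 h5
  rw [br_px kk2 hv hu] at h3
  rw [br_nx kk2 hv hu] at h4
  rw [br_hx kk2 hv hu] at h5
  have k3 : al j u * v (px j) - u (px j) * al j v = 0 := by
    have : (2 : KK) * (al j u * v (px j) - u (px j) * al j v) = 0 := by linear_combination -h3
    exact (mul_eq_zero.1 this).resolve_left kk2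
  have k4 : u (nx j) * al j v - al j u * v (nx j) = 0 := by
    have : (2 : KK) * (u (nx j) * al j v - al j u * v (nx j)) = 0 := by linear_combination -h4
    exact (mul_eq_zero.1 this).resolve_left kk2
  have k5 : u (px j) * v (nx j) - u (nx j) * v (px j) = 0 := by
    have : (2 : KK) * (u (px j) * v (nx j) - u (nx j) * v (px j)) = 0 := by linear_combination -h5
    exact (mul_eq_zero.1 this).resolve_left kk2
  clear h3 h4 h5
  rw [cp_eq] at h0
  rw [cp_eq, cp_eq]
  by_cases a1 : u (px j) = 0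
  · by_cases a2 : u (nx j) = 0
    · have a3 : al j u ≠ 0 := by
        intro a3
        apply h0
        rw [a1, a2, a3]
        funext k; fin_cases k <;> rfl
      rw [a1, zero_mul, sub_zero] at k3
      rw [a2, zero_mul, zero_sub] at k4
      have b1 : v (px j) = 0 := (mul_eq_zero.1 k3).resolve_left a3
      have b2 : v (nx j) = 0 := (mul_eq_zero.1 (neg_eq_zero.1 k4)).resolve_left a3
      refine ⟨al j v / al j u, ?_⟩
      rw [a1, a2, b1, b2]
      funext k
      fin_cases k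
      · simp
      · simp
      · simp [div_mul_cancel₀ _ a3]
    · refine ⟨v (nx j) / u (nx j), ?_⟩
      rw [a1, zero_mul, zero_sub] at k5
      have b1 : v (px j) = 0 := (mul_eq_zero.1 (neg_eq_zero.1 k5)).resolve_left a2
      funext k
      fin_cases k
      · simp [a1, b1]
      · simp [div_mul_cancel₀ _ a2]
      · show al j v = v (nx j) / u (nx j) * al j u
        field_simp
        linear_combination k4
  · refine ⟨v (px j) / u (px j), ?_⟩
    funext k
    fin_cases k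
    · simp [div_mul_cancel₀ _ a1]
    · show v (nx j) = v (px j) / u (px j) * u (nx j)
      field_simp
      linear_combination k5
    · show al j v = v (px j) / u (px j) * al j u
      field_simp
      linear_combination -k3

theorem va_bb' {y : Ge} (D : Dt y) {a b : Lv} (hab : bb a b = bb b a) :
    br chevE8 KK (va D a) (va D b) = br chevE8 KK (va D b) (va D a) := by
  unfold va
  rw [← mt_br, ← mt_br, ← em_bb, ← em_bb, hab]

theorem fix_comm' {y : Ge} (D : Dt y) {a b : Lv} (ha : ac y a = a) (hb : ac y b = b) (hab : bb a b = bb b a)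
    (h0 : cp 0 (va D a) ≠ 0) {m : Ge} (hm : m * y = y * m) (hma : ac m a = a) : ac m b = b :=
  fix_together D ha hb (fun _ => prop_of_br' (va_su D ha) (va_su D hb) (va_bb' D hab)
    (fun hj => h0 (zero_of D ha hj))) hm hma

theorem ac_smul (g : Ge) (c : ZMod 3) (v : Lv) : ac g (c • v) = c • ac g v := Matrix.mulVec_smul _ _ _

theorem bb_negl (x z : Lv) : bb (-x) z = -bb x z := by
  have := br_smul_left (k := ZMod 3) (D := chevE8) (-1) x z
  rwa [neg_one_smul, neg_one_smul] at this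

theorem bb_negr (x z : Lv) : bb x (-z) = -bb x z := by
  have := br_smul_right (k := ZMod 3) (D := chevE8) (-1) x z
  rwa [neg_one_smul, neg_one_smul] at this

theorem bb_zr (c : Lv) : bb c 0 = 0 := by
  have := br_sub_right (k := ZMod 3) (D := chevE8) c 0 0
  rw [sub_zero] at this
  show br chevE8 (ZMod 3) c 0 = 0
  rw [this, sub_self]

theorem bb_zl (c : Lv) : bb 0 c = 0 := by
  have := br_sub_left (k := ZMod 3) (D := chevE8) 0 0 c
  rw [sub_zero] at this
  show br chevE8 (ZMod 3) 0 c = 0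
  rw [this, sub_self]

/-- **the invariant pair** -/
theorem exists_pair {H S : Subgroup Ge} (hn : ∀ g ∈ H, ∀ s ∈ S, g * s * g⁻¹ ∈ S)
    (hcomm : ∀ a ∈ H, ∀ b ∈ H, a * b * a⁻¹ * b⁻¹ ∈ S) (hfour : ∀ a ∈ H, a ^ 4 ∈ S) {a0 : Lv} (ha0 : a0 ≠ 0)
    (hfix : ∀ s ∈ S, ac s a0 = a0) :
    ∃ a b : Lv, a ≠ 0 ∧ (∀ s ∈ S, ac s a = a) ∧ (∀ s ∈ S, ac s b = b) ∧ bb a b = bb b a ∧
      (∀ g ∈ H, ac g a ∈ Submodule.span (ZMod 3) {a, b}) ∧ ∀ g ∈ H, ac g b ∈ Submodule.span (ZMod 3) {a, b} := by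
  refine pair_abs ac ?_ ?_ ?_ ?_ ?_ ?_ bb ?_ ?_ ?_ ?_ ?_ ?_ ?_ ?_ ha0 hfix
  · exact ac_mul
  · exact ac_zero
  · exact ac_add
  · exact ac_smul
  · exact ac_neg
  · exact ac_sub
  · exact ac_bb
  · exact bb_negl
  · exact bb_negr
  · exact bb_zl
  · exact bb_zr
  · exact hn
  · exact hcomm
  · exact hfour

theorem cen_le {y : Ge} (hy : y ^ 40 = 1) {ζ : KK} (hζ : IsPrimitiveRoot ζ 40) {z t : ↥(chevE8.group KK)}
    (hz : z⁻¹ * ee y * z = t) (htT : t ∈ Cfsg.Agent.KFacts.RgdChevCoord.TT chevE8 KK)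
    (hv : ∀ i, Cfsg.Agent.H129.TorusChar.cX Cfsg.Agent.H942.E8Tab.e8T t (Cfsg.Agent.Tits.Roots.sr i) =
      ζ ^ (Cfsg.Agent.H942.E8Alc.vecL 40 V3 i).val) :
    42508800 ≤ Nat.card ↥(cen y) := by
  unfold cen
  rw [← bndC3]
  exact Cfsg.Agent.H942.CB.cent_le (by norm_num) (by norm_num) chkC3 hy ⟨z, t, ζ, hζ, hz, htT, hv⟩

/-- **P3** -/
theorem p3 (hC : CentreStmt) : P3Stmt := by
  intro F _ _ ι H φ hS lam hlam hT hfx
  obtain ⟨a0, ha0, hfix⟩ := hfx
  have hy40 : φ (h lam) ^ 40 = 1 := (Cfsg.Agent.H525.E8L.y_pow φ hS.ker hS.card hlam).1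
  have hζ := Cfsg.Agent.H525.E8L.prim40 hS.card ι hlam
  obtain ⟨z, t, hz, htT, hv⟩ := hT
  obtain ⟨D⟩ := exists_dt hy40 hζ hz htT hv
  have hM := cen_le hy40 hζ hz htT hv
  obtain ⟨a, b, ha, haS, hbS, hab, hga, hgb⟩ := exists_pair hS.norm hS.comm hS.four ha0 hfix
  have hyS : φ (h lam) ∈ φ.range := ⟨_, rfl⟩
  have hya := haS _ hyS
  have hyb := hbS _ hyS
  -- elements fixing `a` and `b` lie in `H`
  have hH : ∀ g : Ge, ac g a = a → ac g b = b → g ∈ H := by
    intro g h1 h2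
    refine hC F H φ hS (Submodule.span (ZMod 3) {a, b}) ?_ ?_ ?_ g ?_
    · intro h0
      have h3 : a ∈ Submodule.span (ZMod 3) {a, b} := Submodule.subset_span (Or.inl rfl)
      rw [h0] at h3
      exact ha ((Submodule.mem_bot _).1 h3)
    · intro g hg x hx
      show ac g x ∈ _
      induction hx using Submodule.span_induction with
      | mem x hx =>
        rcases hx with rfl | hx
        · exact hga g hg
        · rw [Set.mem_singleton_iff] at hx
          rw [hx]; exact hgb g hg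
      | zero => rw [ac_zero]; exact Submodule.zero_mem _
      | add x y _ _ hx hy => rw [ac_add]; exact Submodule.add_mem _ hx hy
      | smul c x _ hx => rw [ac_smul]; exact Submodule.smul_mem _ _ hx
    · intro s hs x hx
      show ac s x = x
      induction hx using Submodule.span_induction with
      | mem x hx =>
        rcases hx with rfl | hx
        · exact haS s hs
        · rw [Set.mem_singleton_iff] at hx
          rw [hx]; exact hbS s hs
      | zero => exact ac_zero s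
      | add x y _ _ hx hy => rw [ac_add, hx, hy]
      | smul c x _ hx => rw [ac_smul, hx]
    · intro x hx
      show ac g x = x
      induction hx using Submodule.span_induction with
      | mem x hx =>
        rcases hx with rfl | hx
        · exact h1
        · rw [Set.mem_singleton_iff] at hx
          rw [hx]; exact h2
      | zero => exact ac_zero g
      | add x y _ _ hx hy => rw [ac_add, hx, hy]
      | smul c x _ hx => rw [ac_smul, hx]
  -- the stabiliser of one of the vectors is in `H ∩ C(y)`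
  have hcard : ∀ e : Lv, ac (φ (h lam)) e = e → (∀ m ∈ stb (φ (h lam)) e, ac m a = a ∧ ac m b = b) → False := by
    intro e he hme
    have h1 := card_stb D hM he
    have hfinG : Finite Ge := finGe
    have h2 : stb (φ (h lam)) e ≤ H ⊓ Subgroup.centralizer {φ (h lam)} := fun m hm =>
      Subgroup.mem_inf.2 ⟨hH m (hme m hm).1 (hme m hm).2, mem_cen'.2 (mem_stb.1 hm).1⟩
    have h3 := Nat.le_of_dvd (by norm_num) (hS.cyc lam hlam).2
    have h4 : Nat.card ↥(stb (φ (h lam)) e) ≤ Nat.card ↥(H ⊓ Subgroup.centralizer {φ (h lam)}) :=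
      Nat.card_le_card_of_injective _ (Subgroup.inclusion_injective h2)
    omega
  by_cases h0 : cp 0 (va D a) = 0
  · by_cases h1 : cp 0 (va D b) = 0
    · exact hcard a hya fun m hm => ⟨(mem_stb.1 hm).2, fix_centre D hyb h1 (mem_stb.1 hm).1⟩
    · exact hcard b hyb fun m hm => ⟨fix_centre D hya h0 (mem_stb.1 hm).1, (mem_stb.1 hm).2⟩
  · exact hcard a hya fun m hm => ⟨(mem_stb.1 hm).2, fix_comm' D hya hyb hab h0 (mem_stb.1 hm).1 (mem_stb.1 hm).2⟩

end Cfsg.Agent.H948.P3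
end

-- part: H288/E8L/Main
section
/-!
# The regular cases: the assembly
-/

set_option autoImplicit false
set_option linter.unusedSectionVars false
set_option maxRecDepth 100000

namespace Cfsg.Agent.H288.E8L

open CoxeterSystem Cfsg Cfsg.Lie Cfsg.Lie.ChevalleyDatum
open Cfsg.Agent.ChevalleyStructure Cfsg.Agent.ChevalleyStructure.Elts Cfsg.Agent.ChevalleyStructure.CoxeterGeom
  Cfsg.Agent.ChevalleyStructure.CoxeterGeomTypes Cfsg.Agent.ChevalleyStructure.RootVec
  Cfsg.Agent.ChevalleyStructure.RootVecTab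
open Cfsg.Agent.Tits.Roots Cfsg.Agent.Tits.Core Cfsg.Agent.Nodes Cfsg.Agent.Nodes.Reps Cfsg.Agent.Nodes.BNOf
  Cfsg.Agent.Nodes.RGDChev
open Cfsg.Agent.GpExc.Field Cfsg.Agent.BpExc.TowChev Cfsg.Agent.H129.TorusChar
open Cfsg.Agent.KFacts.RgdChevCoord
open Cfsg.Agent.H942.E8Tab Cfsg.Agent.H942.E8Alc Cfsg.Agent.H942.CB Cfsg.Agent.H944.Tab Cfsg.Agent.H944.Kac
open Matrix
open Cfsg.Agent.H943

theorem dt_vl (c : List ℤ) (s : ℕ) : dt c (vl s) = fz c (_root_.Cfsg.Agent.Nodes.RGDChev.vec chevE8 8 s) := by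
  rw [dt_fz (by simp [vl]), toV_vl]

theorem three_pow_inj : ∀ i < 4, ∀ j < 4, ((3 : ℤ) ^ i - 3 ^ j) % 40 = 0 → i = j := by decide

theorem mem_four : ∀ i < 4, (3 : ℤ) ^ i % 40 ∈ [(1 : ℤ), 3, 9, 27] := by decide

theorem fz_un (i : Fin 8) (x : Q8) : fz (un i) x = x i := by
  unfold fz
  rw [Finset.sum_eq_single i]
  · have : (un (i : ℕ)).getD (i : ℕ) 0 = 1 := by
      unfold un
      rw [List.getD_eq_getElem _ _ (by simp)]
      simp
    rw [this, one_mul]
  · intro j _ hj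
    have : (un (i : ℕ)).getD (j : ℕ) 0 = 0 := by
      unfold un
      rw [List.getD_eq_getElem _ _ (by simp)]
      simp only [List.getElem_map, List.getElem_range, ite_eq_right_iff, one_ne_zero, imp_false]
      exact fun e => hj (Fin.ext e)
    rw [this, zero_mul]
  · exact fun h => absurd (Finset.mem_univ _) h

/-- the table is an orbit table -/
theorem act_RV {D : Dat} (hG : Geo D) {k : ℕ} (hk : k < 28) (h3 : k % 4 ≠ 3) :
    act8 (word D.w) (toV (D.RV.getD k [])) = toV (D.RV.getD (k + 1) []) := by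
  funext i
  have h1 := hG.phi k hk h3 i
  have hl : (D.RV.getD k []).length = 8 := by rw [okD_RV hG.okD hk]; simp [vl]
  have hu : (un (i : ℕ)).length = 8 := by simp [un]
  rw [dt_fz hl.le, fz_actW D.w hG.okw hu, fz_un] at h1
  exact h1

section S

variable {F : Type} [Field F] [Fintype F] (hF : Fintype.card F = 81) (ι : F →+* K8)
  (φ : _root_.Matrix.SpecialLinearGroup (Fin 2) F →* G8) (lam : Fˣ) (hlam : ∀ x, x ∈ Subgroup.zpowers lam)
  {D : Dat} (hG : Geo D) {z t : GK} (hz : z⁻¹ * emb8 (φ (SL2Rel.h lam)) * z = t) (ht : t ∈ TT chevE8 K8)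
  (hv : ∀ i, cX e8T t (sr i) = (ι lam ^ 2) ^ (vecL 40 D.Y i).val)

include hF hlam hz ht hv in
theorem ind_exp {f : Q8 →+ ℤ} (hf : ∀ g ∈ WW φ z, Uni f (mx g)) {s : Fin chevE8.nroots}
    (hs : _root_.Cfsg.Agent.Nodes.RGDChev.vec chevE8 8 s ∈ Ind (WW φ z)) :
    ∃ i < 4, (40 : ℤ) ∣ fz (YZ D.Y) (_root_.Cfsg.Agent.Nodes.RGDChev.vec chevE8 8 s) - 3 ^ i ∧ ∃ c : K8, c ≠ 0 ∧
      ∀ x, cf s (mx (cj φ z (SL2Rel.u x))) = c * ι x ^ 3 ^ i := by
  have hζ := prim' hF ι lam hlam
  have hζ0 : ι (lam : F) ^ 2 ≠ 0 := hζ.ne_zero (by norm_num)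
  obtain ⟨h1, i, hi, h2, h3⟩ := semi hF ι (primF hF lam hlam) (fun x => cf s (mx (cj φ z (SL2Rel.u x))))
    (fun x y => by
      show cf s (mx (cj φ z (SL2Rel.u (x + y)))) = _
      rw [SL2Rel.u_add, map_mul]
      exact cf_mul hf hs (cj_mem φ z x) (cj_mem φ z y)) (c := cX e8T t (_root_.Cfsg.Agent.Nodes.RGDChev.vec chevE8 8 s))
    (fun x => by
      show cf s (mx (cj φ z (SL2Rel.u ((lam : F) ^ 2 * x)))) = _
      rw [← conj_u hz x]
      exact cf_conj ht _ s)
    (by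
      obtain ⟨g, hg, h⟩ := exists_cf_ne hf hs
      obtain ⟨x, rfl⟩ := mem_WW.1 hg
      exact ⟨x, h⟩)
  refine ⟨i, hi, ?_, _, h1, h2⟩
  rw [cX_eq hζ ht hv, map_pow] at h3
  have h4 : (ι (lam : F) ^ 2) ^ (fz (YZ D.Y) (_root_.Cfsg.Agent.Nodes.RGDChev.vec chevE8 8 s) - 3 ^ i) = 1 := by
    rw [zpow_sub₀ hζ0, h3]
    have : ((3 : ℤ) ^ i) = ((3 ^ i : ℕ) : ℤ) := by push_cast; rfl
    rw [this, zpow_natCast, div_self (pow_ne_zero _ hζ0)]
  exact_mod_cast (hζ.zpow_eq_one_iff_dvd _).1 h4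

theorem lvl_eq {D : Dat} (hG : Geo D) {k : ℕ} (hk : k < 28) {i : ℕ} (hi : i < 4)
    (h : (40 : ℤ) ∣ fz (YZ D.Y) (_root_.Cfsg.Agent.Nodes.RGDChev.vec chevE8 8 (fi (D.ix.getD k 0))) - 3 ^ i) : i = k % 4 := by
  refine three_pow_inj i hi (k % 4) (Nat.mod_lt _ (by norm_num)) (Int.emod_eq_zero_of_dvd ?_)
  have h1 := Int.dvd_of_emod_eq_zero (hG.kap k hk)
  have hl : (D.RV.getD k []).length = 8 := by rw [okD_RV hG.okD hk]; simp [vl]
  rw [dt_fz hl.le, okD_toV hG.okD hk] at h1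
  have h2 := dvd_sub h1 h
  have e : fz (YZ D.Y) (_root_.Cfsg.Agent.Nodes.RGDChev.vec chevE8 8 (fi (D.ix.getD k 0)).val) - 3 ^ (k % 4) -
      (fz (YZ D.Y) (_root_.Cfsg.Agent.Nodes.RGDChev.vec chevE8 8 (fi (D.ix.getD k 0)).val) - 3 ^ i) = (3 : ℤ) ^ i - 3 ^ (k % 4) := by ring
  rwa [e] at h2

include hF hlam hG hz ht hv in
/-- the mask of the indecomposable displacements -/
theorem exists_mask {f : Q8 →+ ℤ} (hf : ∀ g ∈ WW φ z, Uni f (mx g)) :
    ∃ m < 128, (∀ a, a ∈ Ind (WW φ z) ↔ ∃ r ∈ sup D m, toV r = a) ∧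
      (∀ k < 28, m.testBit (k / 4) = true →
        ∃ c : K8, c ≠ 0 ∧ ∀ x : F, cf (fi (D.ix.getD k 0)) (mx (cj φ z (SL2Rel.u x))) = c * ι x ^ 3 ^ (k % 4)) := by
  classical
  let m := Nat.ofBits fun j : Fin 7 => decide (toV (D.RV.getD (4 * j.val) []) ∈ Ind (WW φ z))
  have hm : m < 128 := Nat.ofBits_lt_two_pow _
  have hbit : ∀ j < 7, (m.testBit j = true ↔ toV (D.RV.getD (4 * j) []) ∈ Ind (WW φ z)) := by
    intro j hj
    rw [Nat.testBit_ofBits_lt _ _ hj, decide_eq_true_iff]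
  -- Frobenius stability
  have hn := rep_n hF ι φ lam hlam hG hz ht hv
  have hst : ∀ a, a ∈ Ind (WW φ z) ↔ act8 (word D.w) a ∈ Ind (WW φ z) := by
    refine ind_stable H857.E8L.wts hn fun g hg => ?_
    obtain ⟨x, rfl⟩ := mem_WW.1 hg
    exact frb_cj φ z _
  have hk4 : ∀ k < 28, (toV (D.RV.getD k []) ∈ Ind (WW φ z) ↔ m.testBit (k / 4) = true) := by
    intro k hk
    rw [hbit (k / 4) (by omega)]
    have h1 : ∀ i < 4, ∀ j < 7, (toV (D.RV.getD (4 * j + i) []) ∈ Ind (WW φ z) ↔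
        toV (D.RV.getD (4 * j) []) ∈ Ind (WW φ z)) := by
      intro i
      induction i with
      | zero => intro _ j _; rfl
      | succ i ih =>
        intro hi j hj
        rw [← ih (by omega) j hj, hst (toV (D.RV.getD (4 * j + i) [])), act_RV hG (by omega) (by omega)]
        rfl
    have h2 := h1 (k % 4) (Nat.mod_lt _ (by norm_num)) (k / 4) (by omega)
    rwa [Nat.div_add_mod] at h2
  refine ⟨m, hm, fun a => ?_, fun k hk hb => ?_⟩
  · constructor
    · intro ha
      obtain ⟨s, rfl⟩ := ind_root hf ha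
      obtain ⟨i, hi, hd, -⟩ := ind_exp hF ι φ lam hlam hz ht hv hf ha
      have h1 : dt (YZ D.Y) (vl s) % 40 ∈ [(1 : ℤ), 3, 9, 27] := by
        have h2 : dt (YZ D.Y) (vl s) % 40 = 3 ^ i % 40 := by
          rw [dt_vl]
          generalize (3 : ℤ) ^ i = B at hd ⊢
          generalize fz (YZ D.Y) (_root_.Cfsg.Agent.Nodes.RGDChev.vec chevE8 8 s) = A at hd ⊢
          omega
        rw [h2]
        exact mem_four i hi
      have h3 := hG.cls s.val s.2 h1
      obtain ⟨k, hk, hks⟩ := List.getElem_of_mem h3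
      have hlen : D.ix.length = 28 := by
        have := hG.okD
        unfold okD at this
        simp only [Bool.and_eq_true, decide_eq_true_eq] at this
        exact this.1.1
      rw [hlen] at hk
      have h4 : D.ix.getD k 0 = s.val := by rw [List.getD_eq_getElem _ _ (by omega)]; exact hks
      have h5 : toV (D.RV.getD k []) = _root_.Cfsg.Agent.Nodes.RGDChev.vec chevE8 8 s := by
        rw [okD_toV hG.okD hk, h4, fi_val s.2]
      refine ⟨_, mem_sup.2 ⟨k, hk, (hk4 k hk).1 ?_, rfl⟩, h5⟩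
      rw [h5]
      exact ha
    · rintro ⟨r, hr, rfl⟩
      obtain ⟨k, hk, hb, rfl⟩ := mem_sup.1 hr
      exact (hk4 k hk).2 hb
  · have h1 := (hk4 k hk).2 hb
    rw [okD_toV hG.okD hk] at h1
    obtain ⟨i, hi, hd, c, hc, hx⟩ := ind_exp hF ι φ lam hlam hz ht hv hf h1
    refine ⟨c, hc, fun x => ?_⟩
    rw [hx, lvl_eq hG hk hi hd]

theorem lvl_inj {F : Type} [Field F] [Fintype F] (hF : Fintype.card F = 81) (ι : F →+* K8) (lam : Fˣ)
    (hlam : ∀ x, x ∈ Subgroup.zpowers lam) (i j : ℕ) (hi : i < 4) (hj : j < 4)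
    (h : ∀ y : F, ι y ^ 3 ^ i = ι y ^ 3 ^ j) : i = j := by
  have h1 := h ((lam : F) ^ 2)
  rw [← map_pow, ← map_pow] at h1
  have h2 := ι.injective h1
  have h3 := (primF hF lam hlam).pow_inj (i := 3 ^ i) (j := 3 ^ j) (by interval_cases i <;> norm_num)
    (by interval_cases j <;> norm_num) h2
  exact Nat.pow_right_injective (le_refl 2 |>.trans (by norm_num)) h3

include hF hlam hG hz ht hv in
/-- the relation of the Weyl element -/
theorem rel_w : cj φ z (SL2Rel.u (1 : F)) * cj φ z SL2Rel.w * cj φ z (SL2Rel.u 1) =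
    cj φ z SL2Rel.w * (cj φ z (SL2Rel.u 1))⁻¹ * cj φ z SL2Rel.w := by
  rw [← map_mul, ← map_mul, ← map_inv, ← map_mul, ← map_mul]
  (with_reducible congr 1)
  refine Subtype.ext ?_
  rw [← SL2Rel.u_neg]
  show !![1, (1 : F); 0, 1] * !![0, 1; -1, 0] * !![1, (1 : F); 0, 1] = !![0, 1; -1, 0] * !![1, -(1 : F); 0, 1] * !![0, 1; -1, 0]
  rw [Matrix.mul_fin_two, Matrix.mul_fin_two, Matrix.mul_fin_two, Matrix.mul_fin_two]
  simp

/-- generation -/
theorem gen_all {C : Subgroup (_root_.Matrix.SpecialLinearGroup (Fin 2) F)} (hu : ∀ x, SL2Rel.u x ∈ C) (hw : SL2Rel.w ∈ C)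
    (g : _root_.Matrix.SpecialLinearGroup (Fin 2) F) : g ∈ C := by
  refine SL2Rel.induct (P := fun g => g ∈ C) hu (fun a => ?_) hw (fun a b ha hb => C.mul_mem ha hb) g
  have ha0 : (-(a : F)⁻¹) ≠ 0 := neg_ne_zero.2 (inv_ne_zero a.ne_zero)
  have h1 := SL2Rel.w_u_w (-(a : F)⁻¹) ha0
  have h2 : SL2Rel.mi (-(a : F)⁻¹) ha0 = a := by
    refine Units.ext ?_
    show -(-(a : F)⁻¹)⁻¹ = a
    rw [inv_neg, inv_inv, _root_.neg_neg]
  rw [h2] at h1
  have h3 : SL2Rel.h a = (SL2Rel.u (-(-(a : F)⁻¹)⁻¹))⁻¹ * (SL2Rel.w * SL2Rel.u (-(a : F)⁻¹) * SL2Rel.w) *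
      (SL2Rel.u (-(-(a : F)⁻¹)⁻¹))⁻¹ * (SL2Rel.w)⁻¹ := by
    rw [h1]; group
  rw [h3]
  exact C.mul_mem (C.mul_mem (C.mul_mem (C.inv_mem (hu _)) (C.mul_mem (C.mul_mem hw (hu _)) hw)) (C.inv_mem (hu _)))
    (C.inv_mem hw)

include hF hlam hG hz ht hv in
/-- **from the parity functional to the centraliser** -/
theorem fin_of (hINV : INV) {f : Q8 →+ ℤ} (hf : ∀ g ∈ WW φ z, Uni f (mx g)) (hC : Concl (WW φ z) D) :
    ∃ g : G8, g ≠ 1 ∧ ∀ s ∈ φ.range, g * s = s * g := by
  obtain ⟨e, he8, he1, heφ, heI⟩ := hC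
  obtain ⟨w0, hw0, hneg⟩ := rep_w hF ι φ lam hlam hG hz ht hv
  have hn := rep_n hF ι φ lam hlam hG hz ht hv
  have hP : ∀ a ∈ PP (WW φ z), (2 : ℤ) ∣ fz e a := by
    intro a ha
    refine cl_ind hf (P := fun a => (2 : ℤ) ∣ fz e a) ?_ heI (fun x y hx hy => ?_) a (PP_le ha)
    · rw [fz_zero]; exact dvd_zero _
    · rw [fz_add]; exact dvd_add hx hy
  obtain ⟨g, s, hg1, hgs, hsW, hsn⟩ := hINV (WW φ z) (word D.w) w0 (z⁻¹ * frb8 z) (cj φ z SL2Rel.w) z e hn hw0 hneg rfl
    he8 he1 heφ hP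
  refine ⟨g, hg1, ?_⟩
  let C : Subgroup (_root_.Matrix.SpecialLinearGroup (Fin 2) F) := (Subgroup.centralizer {s}).comap (cj φ z)
  have hC : ∀ x, x ∈ C ↔ s * cj φ z x = cj φ z x * s := by
    intro x
    show cj φ z x ∈ Subgroup.centralizer {s} ↔ _
    rw [Subgroup.mem_centralizer_singleton_iff]
    exact eq_comm
  have hall : ∀ x, x ∈ C := gen_all (fun x => (hC _).2 (hsW _ (cj_mem φ z x))) ((hC _).2 hsn)
  rintro _ ⟨x, rfl⟩
  have h1 := (hC x).1 (hall x)
  refine emb_injective e8T.inList (algebraMap (ZMod 3) K8) ?_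
  show emb8 (g * φ x) = emb8 (φ x * g)
  rw [map_mul, map_mul, hgs]
  have h2 : emb8 (φ x) = z * cj φ z x * z⁻¹ := by rw [cj_apply]; group
  rw [h2]
  calc z * s * z⁻¹ * (z * cj φ z x * z⁻¹) = z * (s * cj φ z x) * z⁻¹ := by group
    _ = z * (cj φ z x * s) * z⁻¹ := by rw [h1]
    _ = z * cj φ z x * z⁻¹ * (z * s * z⁻¹) := by group

end S

/-- **the regular cases** -/
theorem p57_of (hHW : HW) (hINV : INV) : H525.E8L.P57Stmt := by
  intro F _ _ hF ι φ hker lam hlam Y hY hT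
  obtain ⟨z, t, hz, ht, hv⟩ := hT
  have hz' : z⁻¹ * emb8 (φ (SL2Rel.h lam)) * z = t := hz
  have hY' : Y = D5.Y ∨ Y = D7.Y := by
    simp only [List.mem_cons, List.not_mem_nil, or_false] at hY
    exact hY
  rcases hY' with rfl | rfl
  · have hG := geo_of g5
    obtain ⟨f, hf⟩ := exists_f hF ι φ lam hlam hG hz' ht hv
    obtain ⟨w0, hw0, hneg⟩ := rep_w hF ι φ lam hlam hG hz' ht hv
    obtain ⟨m, hm, hS, hcf⟩ := exists_mask hF ι φ lam hlam hG hz' ht hv hf
    have hb := hHW (WW φ z) f w0 _ _ hf hw0 hneg (cj_mem φ z 1) (rel_w hF ι φ lam hlam hG hz' ht hv)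
    exact fin_of hF ι φ lam hlam hG hz' ht hv hINV hf
      (concl5 hf (WW_comm φ z) ι (fun x => cj φ z (SL2Rel.u x)) (cj_mem φ z) (lvl_inj hF ι lam hlam) hb hm hS hcf)
  · have hG := geo_of g7
    obtain ⟨f, hf⟩ := exists_f hF ι φ lam hlam hG hz' ht hv
    obtain ⟨w0, hw0, hneg⟩ := rep_w hF ι φ lam hlam hG hz' ht hv
    obtain ⟨m, hm, hS, hcf⟩ := exists_mask hF ι φ lam hlam hG hz' ht hv hf
    have hb := hHW (WW φ z) f w0 _ _ hf hw0 hneg (cj_mem φ z 1) (rel_w hF ι φ lam hlam hG hz' ht hv)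
    exact fin_of hF ι φ lam hlam hG hz' ht hv hINV hf
      (concl7 hf (WW_comm φ z) ι (fun x => cj φ z (SL2Rel.u x)) (cj_mem φ z) (lvl_inj hF ι lam hlam) hb hm hS hcf)

end Cfsg.Agent.H288.E8L
end

-- part: H288/E8L/Inv
section
/-!
# From a parity functional to an element of the centraliser
-/

set_option autoImplicit false
set_option linter.unusedSectionVars false
set_option maxRecDepth 100000

namespace Cfsg.Agent.H288.E8L

open CoxeterSystem Cfsg Cfsg.Lie Cfsg.Lie.ChevalleyDatum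
open Cfsg.Agent.ChevalleyStructure Cfsg.Agent.ChevalleyStructure.Elts Cfsg.Agent.ChevalleyStructure.CoxeterGeom
  Cfsg.Agent.ChevalleyStructure.CoxeterGeomTypes Cfsg.Agent.ChevalleyStructure.RootVec
  Cfsg.Agent.ChevalleyStructure.RootVecTab
open Cfsg.Agent.Tits.Roots Cfsg.Agent.Tits.Core Cfsg.Agent.Nodes Cfsg.Agent.Nodes.Reps Cfsg.Agent.Nodes.BNOf
  Cfsg.Agent.Nodes.RGDChev
open Cfsg.Agent.GpExc.Field Cfsg.Agent.BpExc.TowChev Cfsg.Agent.H129.TorusChar
open Cfsg.Agent.KFacts.RgdChevCoord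
open Cfsg.Agent.H942.E8Tab Cfsg.Agent.H942.E8Alc Cfsg.Agent.H942.CB Cfsg.Agent.H944.Tab Cfsg.Agent.H944.Kac
open Matrix

theorem neg_one_zpow_eq {a b : ℤ} (h : (2 : ℤ) ∣ a - b) : ((-1 : K8)) ^ a = (-1 : K8) ^ b := by
  obtain ⟨c, hc⟩ := h
  have e : a = b + 2 * c := by linarith
  have h0 : (-1 : K8) ≠ 0 := neg_ne_zero.2 one_ne_zero
  rw [e, zpow_add₀ h0, _root_.zpow_mul]
  have : ((-1 : K8)) ^ (2 : ℤ) = 1 := by norm_num
  rw [this, _root_.one_zpow, mul_one]

/-- **INV** -/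
theorem inv : INV := by
  intro W w w0 n n0 z e hn hn0 hneg hnz he8 ⟨i, hi, hei⟩ hφ hP
  have h0 : (-1 : K8) ≠ 0 := neg_ne_zero.2 one_ne_zero
  have hmc : IsMC fun x : Q8 => (-1 : K8) ^ fz e x := ⟨by
    show (-1 : K8) ^ fz e 0 = 1
    rw [fz_zero, zpow_zero], fun a b => by
    show (-1 : K8) ^ fz e (a + b) = _
    rw [fz_add, zpow_add₀ h0]⟩
  obtain ⟨s, hs, hsx⟩ := exists_cX e8T invC_E8 one_ne_zero hmc (fun i => ⟨_, pow_one _⟩)
  have hcomm : ∀ {v : W8} {m : GK}, Rep v m → (∀ x : Q8, (2 : ℤ) ∣ fz e (act8 v x) - fz e x) → m * s * m⁻¹ = s := by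
    intro v m hm hx
    have hms : m * s * m⁻¹ ∈ TT chevE8 K8 := (Subgroup.mem_normalizer_iff.1 hm.mem_normalizer s).1 hs
    refine cX_inj e8T hms hs fun i => ?_
    have h1 := cX_rp e8T cs8 locFin8 3 hm hs (act8 v⁻¹ (sr i))
    have h2 : (rep cs8 e8T.isCartan v) (act8 v⁻¹ (sr i)) = sr i := act8_inv v (sr i)
    rw [h2] at h1
    rw [h1, hsx, hsx]
    have h3 := hx (act8 v⁻¹ (sr i))
    rw [act8_inv] at h3
    exact (neg_one_zpow_eq h3).symm
  have hsn0 : n0 * s * n0⁻¹ = s := hcomm hn0 fun x => by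
    rw [hneg]
    have : fz e (-x) - fz e x = 2 * (-fz e x) := by rw [H845.E8L.fz_neg]; ring
    rw [this]
    exact dvd_mul_right _ _
  have hsn : n * s * n⁻¹ = s := hcomm hn hφ
  have hfs : frb8 s = s := by
    refine cX_inj e8T (frb_TT hs) hs fun i => ?_
    rw [cX_frb hs, hsx]
    rw [← zpow_natCast, ← _root_.zpow_mul]
    refine neg_one_zpow_eq ⟨fz e (sr i), ?_⟩
    push_cast
    ring
  have hfz : frb8 (z * s * z⁻¹) = z * s * z⁻¹ := by
    have h1 : frb8 z = z * n := by rw [hnz]; group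
    rw [map_mul, map_mul, map_inv, hfs, h1]
    calc z * n * s * (z * n)⁻¹ = z * (n * s * n⁻¹) * z⁻¹ := by group
      _ = z * s * z⁻¹ := by rw [hsn]
  obtain ⟨g, hg⟩ := H857.E8L.fix _ hfz
  refine ⟨g, s, ?_, hg, fun v hv => comm_of_char hs (fun μ hμ => ?_) hv, ?_⟩
  · rintro rfl
    rw [map_one] at hg
    have hs1 : s = 1 := by
      have : z⁻¹ * 1 * z = s := by rw [hg]; group
      rw [← this]; group
    have h1 := hsx (sr ⟨i, hi⟩)
    have h2 : cX e8T (1 : GK) (sr ⟨i, hi⟩) = 1 := by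
      have hr : Rt (sr ⟨i, hi⟩) := isRoot_sr cs8 e8T.isCartan _
      obtain ⟨r, hr'⟩ := exists_idx hr
      have ht1 : (1 : GK) ∈ TT chevE8 K8 := one_mem _
      have a1 := mx_torus ht1
      have a2 := congrFun (congrFun a1 (Sum.inr r)) (Sum.inr r)
      rw [Matrix.diagonal_apply_eq, wt_inr, hr'] at a2
      rw [← a2]
      exact Matrix.one_apply_eq _
    rw [hs1, h2, fz_sr] at h1
    have h3 : (-1 : K8) ^ e.getD i 0 = (-1 : K8) ^ (1 : ℤ) := neg_one_zpow_eq (by omega)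
    have h4 : (1 : K8) = -1 := by
      have : (1 : K8) = (-1 : K8) ^ e.getD i 0 := h1
      rw [h3, zpow_one] at this
      exact this
    have h5 : ((2 : ℕ) : K8) = 0 := by
      push_cast
      linear_combination h4
    rw [CharP.cast_eq_zero_iff K8 3] at h5
    omega
  · rw [hsx]
    have h1 := neg_one_zpow_eq (a := fz e μ) (b := 0) (by rw [sub_zero]; exact hP μ hμ)
    rw [h1, zpow_zero]
  · calc s * n0 = (n0 * s * n0⁻¹) * n0 := by rw [hsn0]
      _ = n0 * s := by group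

end Cfsg.Agent.H288.E8L
end

-- part: H72/E8L/HW
section
/-!
# S5921, `L₂(81)` in `E₈(3)`: the highest weight argument (`HW` of `H288.E8L.Iface2`)
-/

set_option autoImplicit false
set_option linter.unusedSectionVars false
set_option maxRecDepth 100000

namespace Cfsg.Agent.H72.E8L

open CoxeterSystem Cfsg Cfsg.Lie Cfsg.Lie.ChevalleyDatum
open Cfsg.Agent.ChevalleyStructure Cfsg.Agent.ChevalleyStructure.Elts Cfsg.Agent.ChevalleyStructure.CoxeterGeom
  Cfsg.Agent.ChevalleyStructure.CoxeterGeomTypes Cfsg.Agent.ChevalleyStructure.RootVec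
  Cfsg.Agent.ChevalleyStructure.RootVecTab
open Cfsg.Agent.Tits.Roots Cfsg.Agent.Tits.Core Cfsg.Agent.Nodes Cfsg.Agent.Nodes.Reps Cfsg.Agent.Nodes.BNOf
  Cfsg.Agent.Nodes.RGDChev
open Cfsg.Agent.GpExc.Field Cfsg.Agent.BpExc.TowChev Cfsg.Agent.H129.TorusChar
open Cfsg.Agent.KFacts.RgdChevCoord
open Cfsg.Agent.H942.E8Tab Cfsg.Agent.H942.E8Alc Cfsg.Agent.H942.CB Cfsg.Agent.H944.Tab Cfsg.Agent.H944.Kac
open Cfsg.Agent.H288.E8L
open Matrix

/-- the form on the root lattice -/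
abbrev fm (x y : Q8) : ℤ := H943.LatFix.ip (cartanOf chevE8 8) x y

theorem sym : ∀ i j, cartanOf chevE8 8 i j = cartanOf chevE8 8 j i := by
  rw [H943.E8Fix.cartan_eq]; exact H943.E8Fix.C8_symm

theorem dia : ∀ i, cartanOf chevE8 8 i i = 2 := by
  rw [H943.E8Fix.cartan_eq]; exact H943.E8Fix.C8_diag

theorem fm_add_right (x y z : Q8) : fm x (y + z) = fm x y + fm x z := by
  unfold fm
  rw [H943.LatFix.ip_symm sym, H943.LatFix.ip_add_left, H943.LatFix.ip_symm sym y, H943.LatFix.ip_symm sym z]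

theorem fm_pos {x : Q8} (hx : x ≠ 0) : 0 < fm x x := by
  have h1 : 0 ≤ fm x x := by
    unfold fm
    rw [H943.E8Fix.cartan_eq]
    exact H943.E8Fix.ip_C8_nonneg x
  rcases h1.lt_or_eq with h | h
  · exact h
  · exfalso
    have h2 : H943.LatFix.ipQ H943.E8Fix.C8 (H378.LatCyc.vq x) (H378.LatCyc.vq x) = 0 := by
      rw [H943.LatFix.ipQ_vq]
      unfold fm at h
      rw [H943.E8Fix.cartan_eq] at h
      exact_mod_cast h.symm
    exact hx (H378.LatCyc.vq_eq_zero.1 (H943.E8Fix.ipQ_C8_pos _ h2))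

theorem fm_wt (i : chevE8.Idx) : fm (wt i) (wt i) ≤ 2 := by
  rcases i with i | s
  · rw [wt_inl]
    have := H943.LatFix.ip_smul_left (cartanOf chevE8 8) 0 0 0
    rw [zero_smul, zero_mul] at this
    unfold fm
    rw [this]; norm_num
  · rw [wt_inr]
    exact (H943.LatFix.ip_root sym dia (rt_vec s)).le

/-- **HW** -/
theorem hw : HW := by
  intro W f w0 n0 u hW hn hw0 hu heq s hb
  obtain ⟨b, hbd⟩ : ∃ b, b = _root_.Cfsg.Agent.Nodes.RGDChev.vec chevE8 8 s := ⟨_, rfl⟩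
  have hbR : Rt b := by rw [hbd]; exact rt_vec s
  have hb0 : b ≠ 0 := by rw [hbd]; exact vec_ne_zero s
  rw [← hbd] at hb ⊢
  have hbb : fm b b = 2 := H943.LatFix.ip_root sym dia hbR
  -- nonnegativity on the monoid
  have h1 : ∀ x ∈ CL W, 0 ≤ fm b x := by
    refine cl_ind hW ?_ hb ?_
    · have := H943.LatFix.ip_smul_left (cartanOf chevE8 8) 0 0 b
      rw [zero_smul, zero_mul, H943.LatFix.ip_symm sym] at this
      exact this.ge
    · intro x y hx hy
      rw [fm_add_right]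
      exact add_nonneg hx hy
  -- the column of `b`
  have h2 : ∀ g ∈ W, ∀ i, mx g i (Sum.inr s) ≠ 0 → i = Sum.inr s := by
    intro g hg i hne
    rcases supp_mem hg i (Sum.inr s) hne with h | h
    · exact wt_inj h (by rw [h, wt_inr, ← hbd]; exact hb0)
    · exfalso
      obtain ⟨ν, hν⟩ : ∃ ν, ν = wt i - wt (Sum.inr s : chevE8.Idx) := ⟨_, rfl⟩
      rw [← hν] at h
      have e : wt i = b + ν := by rw [hν, wt_inr, ← hbd]; abel
      have h3 := fm_wt i
      rw [e, fm_add_right] at h3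
      have e2 : fm (b + ν) b = 2 + fm b ν := by
        unfold fm
        rw [H943.LatFix.ip_add_left, H943.LatFix.ip_symm sym ν]
        show fm b b + _ = _
        rw [hbb]
      have e3 : fm (b + ν) ν = fm b ν + fm ν ν := by
        unfold fm
        rw [H943.LatFix.ip_add_left]
      have h4 := h1 ν (PP_le h)
      have h5 := fm_pos h.1
      omega
  have h2' : ∀ g ∈ W, ∀ i, mx g i (Sum.inr s) = if i = Sum.inr s then 1 else 0 := by
    intro g hg i
    split_ifs with h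
    · rw [h]; exact (hW g hg).1 _
    · by_contra hne
      exact h (h2 g hg i hne)
  -- the index of `-b`
  have hnb : Rt (-b) := hbR.neg
  obtain ⟨s', hs'⟩ := exists_idx hnb
  have hN : ∀ i j, mx n0 i j ≠ 0 → wt i = -wt j := by
    intro i j hij
    rw [H857.E8L.wts w0 n0 hn i j hij, hw0]
  -- the columns of `n0`
  have hcb : ∀ i, mx n0 i (Sum.inr s) ≠ 0 → i = Sum.inr s' := by
    intro i hi
    have h3 := hN _ _ hi
    rw [wt_inr, ← hbd] at h3
    exact wt_inj (by rw [h3, wt_inr, hs']) (by rw [h3]; exact neg_ne_zero.2 hb0)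
  have hcb' : ∀ i, mx n0 i (Sum.inr s') ≠ 0 → i = Sum.inr s := by
    intro i hi
    have h3 := hN _ _ hi
    rw [wt_inr, hs', _root_.neg_neg] at h3
    exact wt_inj (by rw [h3, wt_inr, ← hbd]) (by rw [h3]; exact hb0)
  have hinv : mx n0 * mx n0⁻¹ = 1 := by
    rw [← mx_mul, mul_inv_cancel]; rfl
  have hinv' : mx n0⁻¹ * mx n0 = 1 := by
    rw [← mx_mul, inv_mul_cancel]; rfl
  have hcol : ∀ j, ∃ i, mx n0 i j ≠ 0 := by
    intro j
    by_contra hne
    push Not at hne
    have h3 := congrFun (congrFun hinv' j) j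
    rw [Matrix.mul_apply, Matrix.one_apply_eq] at h3
    rw [Finset.sum_eq_zero (fun i _ => by rw [hne i, mul_zero])] at h3
    exact zero_ne_one h3
  have hc : mx n0 (Sum.inr s') (Sum.inr s) ≠ 0 := by
    obtain ⟨i, hi⟩ := hcol (Sum.inr s)
    rwa [hcb i hi] at hi
  have hd : mx n0 (Sum.inr s) (Sum.inr s') ≠ 0 := by
    obtain ⟨i, hi⟩ := hcol (Sum.inr s')
    rwa [hcb' i hi] at hi
  -- the identity
  have hg : n0 * u = u⁻¹ * n0 * u⁻¹ * n0 := by
    calc n0 * u = u⁻¹ * (u * n0 * u) := by group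
      _ = u⁻¹ * n0 * u⁻¹ * n0 := by rw [heq]; group
  have key : mx n0 * mx u = mx u⁻¹ * mx n0 * mx u⁻¹ * mx n0 := congrArg mx hg
  have hui : u⁻¹ ∈ W := inv_mem hu
  have e1 : mx u⁻¹ *ᵥ Pi.single (Sum.inr s) 1 = Pi.single (Sum.inr s) 1 := by
    rw [Matrix.mulVec_single_one]
    funext i
    rw [Matrix.col_apply, h2' _ hui i, Pi.single_apply]
  have e2 : mx n0 *ᵥ Pi.single (Sum.inr s) 1 = mx n0 (Sum.inr s') (Sum.inr s) • (Pi.single (Sum.inr s') 1 : chevE8.Idx → K8) := by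
    rw [Matrix.mulVec_single_one]
    funext i
    rw [Matrix.col_apply, Pi.smul_apply, Pi.single_apply, smul_eq_mul]
    split_ifs with h
    · rw [h, mul_one]
    · rw [mul_zero]
      by_contra hne
      exact h (hcb i hne)
  have e3 : mx n0 *ᵥ Pi.single (Sum.inr s') 1 = mx n0 (Sum.inr s) (Sum.inr s') • (Pi.single (Sum.inr s) 1 : chevE8.Idx → K8) := by
    rw [Matrix.mulVec_single_one]
    funext i
    rw [Matrix.col_apply, Pi.smul_apply, Pi.single_apply, smul_eq_mul]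
    split_ifs with h
    · rw [h, mul_one]
    · rw [mul_zero]
      by_contra hne
      exact h (hcb' i hne)
  have key2 := congrFun (congrArg (fun M => M *ᵥ (Pi.single (Sum.inr s') 1 : chevE8.Idx → K8)) key) (Sum.inr s')
  simp only [← Matrix.mulVec_mulVec] at key2
  rw [e3, Matrix.mulVec_smul, e1, Matrix.mulVec_smul, e2, Matrix.mulVec_smul, Matrix.mulVec_smul,
    Pi.smul_apply, Pi.smul_apply, Matrix.mulVec_single_one, Matrix.mulVec_single_one, Matrix.col_apply,
    (hW _ hui).1, smul_eq_mul, smul_eq_mul, mul_one] at key2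
  have hne : (mx n0 *ᵥ (mx u).col (Sum.inr s')) (Sum.inr s') ≠ 0 := by
    rw [key2]
    exact mul_ne_zero hd hc
  have hne' : ∑ p, mx n0 (Sum.inr s') p * mx u p (Sum.inr s') ≠ 0 := hne
  obtain ⟨p, -, hp⟩ := Finset.exists_ne_zero_of_sum_ne_zero hne'
  have hp1 := left_ne_zero_of_mul hp
  have hp2 := right_ne_zero_of_mul hp
  have hwp : wt p = b := by
    have h3 := hN _ _ hp1
    rw [wt_inr, hs'] at h3
    exact (neg_injective h3).symm
  have e4 : (2 : ℤ) • b = wt p - wt (Sum.inr s' : chevE8.Idx) := by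
    rw [hwp, wt_inr, hs', sub_neg_eq_add, two_smul]
  rw [e4]
  refine PP_le (disp_of_entry hu hp2 ?_)
  rw [hwp, wt_inr, hs']
  intro h
  exact hb0 (self_eq_neg.1 h)

end Cfsg.Agent.H72.E8L
end

-- part: H288/E8L/P57
section
/-!
# `L₂(81)` in `E₈(3)`: the regular cases
-/

set_option autoImplicit false

namespace Cfsg.Agent.H288.E8L

/-- **P57** -/
theorem p57 : H525.E8L.P57Stmt := p57_of H72.E8L.hw inv

end Cfsg.Agent.H288.E8L
end

-- part: S5921
section
set_option autoImplicit false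
open Cfsg

namespace Cfsg.Agent.S5921

/-- Let G be the Chevalley group of type E₈ over the field with three elements (generated by its root elements in the 248-dimensional adjoint representation; it is the simple group E₈(3)), let n ∈ {4, 5, 6, 7}, and let H be a subgroup of G whose generalized Fitting subgroup F*(H) is isomorphic to PSL₂(3ⁿ). Then H is not a maximal subgroup of G. Here F denotes a field with 3ⁿ elements. (The case n = 3 is not covered.) -/
theorem result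
    {F : Type*} [Field F] [Fintype F] (n : ℕ) (hn : n = 4 ∨ n = 5 ∨ n = 6 ∨ n = 7) (hF : Fintype.card F = 3 ^ n)
    (H : Subgroup ↥(Cfsg.Lie.chevE8.group (ZMod 3))) (hH : Nonempty (↥(Cfsg.generalizedFittingSubgroup ↥H) ≃* Matrix.ProjectiveSpecialLinearGroup (Fin 2) F)) :
    ¬ IsCoatom H := by
  exact Cfsg.Agent.H525.E8L.s5921_of (Cfsg.Agent.H948.P3.p3 Cfsg.Agent.H434.E8L.centreStmt)
    Cfsg.Agent.H288.E8L.p57 n hn hF H hH

end Cfsg.Agent.S5921
end

private theorem dce_0bb1a7664b3a : _root_.True := by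
  try have : _root_.True := by simp only [_root_.Cfsg.Agent.H288.E8L.un.eq_1]
  try have : _root_.True := by simp only [_root_.Cfsg.Agent.H948.P3.Bg.eq_1]
  exact _root_.True.intro
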