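import Cfsg.Agent.H602.L5.CardAT_m3
import Cfsg.Agent.H865.L5.GoodEx_m3
import Cfsg.Agent.H602.L5.U1_m3
import Cfsg.Statements.S5924
import Cfsg.Agent.H136.L5.XExist
import Cfsg.Agent.FastGrp
import Cfsg.Agent.Prune
set_option linter.all false
prune_inst 0x7f00000000000000000000000000000000000000000000000000000000000000000000000000000000000000000000000000000000000000000000000000000000000000000000000000000000000000003fffffffffffffffffffffffffffbeffbdffffffff
open scoped Cfsg.Agent.FastGrp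

-- part: H602/L5/U1F
section
/-!
# S5924, U1ab (helper602): unconditional versions of `z0_AT`, `card_AT2`
-/

set_option autoImplicit false
set_option linter.unusedSectionVars false

namespace Cfsg.Agent.H602.L5

open CoxeterSystem Subgroup Cfsg Cfsg.Lie Cfsg.Lie.ChevalleyDatum
open Cfsg.Agent.ChevalleyStructure Cfsg.Agent.ChevalleyStructure.Elts Cfsg.Agent.ChevalleyStructure.CoxeterGeom
  Cfsg.Agent.ChevalleyStructure.CoxeterGeomTypes Cfsg.Agent.ChevalleyStructure.NPerm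
open Cfsg.Agent.Tits.Roots Cfsg.Agent.Tits.Core Cfsg.Agent.Nodes Cfsg.Agent.Nodes.SubComb Cfsg.Agent.Nodes.Reps
  Cfsg.Agent.Nodes.BNOf Cfsg.Agent.Nodes.RGDChev Cfsg.Agent.Nodes.Bruhat Cfsg.Agent.Nodes.Coroot
open Cfsg.Agent.KFacts.RgdField Cfsg.Agent.KFacts.RgdChevCoord Cfsg.Agent.BpExc.TorCent Cfsg.Agent.BpExc.TorChev
open Cfsg.Agent.GpExc.Field Cfsg.Agent.BpExc.Tow Cfsg.Agent.BpExc.TowChev Cfsg.Agent.BpExc.Fr
  Cfsg.Agent.BpExc.LangFr Cfsg.Agent.BpExc.FamField Cfsg.Agent.BpExc.FamInst Cfsg.Agent.H129.TorusChar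
  Cfsg.Agent.H795.LangT Cfsg.Agent.BpExc.FamExt Cfsg.Agent.BpExc.FamUntw Cfsg.Agent.H378.TorDual Cfsg.Agent.H378.TorChar
  Cfsg.Agent.H378.TorFin Cfsg.Agent.H378.RankOne Cfsg.Agent.H378.RootTor Cfsg.Agent.H865.EE Cfsg.Agent.H865.L5

attribute [local irreducible] w8

variable {k : Type} [Field k] [CharP k 3] [IsAlgClosed k] [PerfectRing k 3]

/-- `f z0` acts on `AT k` as `t ↦ t⁷` -/
theorem z0_AT (hk : LocFin k) {f : SL35 →* ↥(chevE8.group k)} (hf : Function.Injective f) (hr : ∀ x, f x ∈ GT k)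
    (hT : ∀ s ∈ VP, f s ∈ T5 k) (hreg : Reg (f '' VP)) : ∀ t ∈ AT k, f z0 * t * (f z0)⁻¹ = t ^ 7 := by
  obtain ⟨ζ, hζ⟩ := exists_zeta3 k
  obtain ⟨e, -, hrg, -, he⟩ := exists_iso3 hk hζ
  exact fun t ht => z0_AT_of hk (fun {u} hu {n} h => H343.L5.five_elt hu h)
    (fun {u} hu h5 h1 {φ ψ} hφ hψ h0 => H343.L5.fix_line hu h5 h1 hφ hψ h0) hζ hrg he hf hr hT hreg ht

/-- sixteen elements with `t² = 1` -/
theorem card_AT2 (hk : LocFin k) : Nat.card {t : ↥(chevE8.group k) // t ∈ AT k ∧ t ^ 2 = 1} = 16 :=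
  card_AT2_of hk (card_AT hk) (card_T5 hk)

end Cfsg.Agent.H602.L5
end

-- part: H305/L5/ConjW8
section
/-!
# S5924, T0: the elements `ω` of `W(E₈)` with `ω² = -1` are conjugate (helper305)

`ω` is made equal to `w8` on the simple roots 0, 5, 7, 6 one after the other: the images of the next root are the roots with
given inner products (126, 20, 6, 1 candidates), connected by inner products 1, i.e. by reflections which fix
everything obtained before.
-/

set_option autoImplicit false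
set_option linter.unusedSectionVars false

namespace Cfsg.Agent.H305.L5

open CoxeterSystem Subgroup Cfsg Cfsg.Lie Cfsg.Lie.ChevalleyDatum
open Cfsg.Agent.ChevalleyStructure Cfsg.Agent.ChevalleyStructure.Elts Cfsg.Agent.ChevalleyStructure.CoxeterGeom
  Cfsg.Agent.ChevalleyStructure.CoxeterGeomTypes Cfsg.Agent.ChevalleyStructure.NPerm
open Cfsg.Agent.Tits.Roots Cfsg.Agent.Tits.Core Cfsg.Agent.Nodes Cfsg.Agent.Nodes.SubComb Cfsg.Agent.Nodes.Reps
  Cfsg.Agent.Nodes.BNOf Cfsg.Agent.Nodes.RGDChev Cfsg.Agent.Nodes.Bruhat Cfsg.Agent.Nodes.Coroot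
open Cfsg.Agent.H865.EE

attribute [local irreducible] w8

/-! ### the form on lists -/

/-- the form of `E₈` on lists -/
def bL : List ℤ → List ℤ → ℤ
  | [a0, a1, a2, a3, a4, a5, a6, a7], [b0, b1, b2, b3, b4, b5, b6, b7] =>
    a0 * (2 * b0 - b2) + a1 * (2 * b1 - b3) + a2 * (2 * b2 - b0 - b3) + a3 * (2 * b3 - b1 - b2 - b4) +
    a4 * (2 * b4 - b3 - b5) + a5 * (2 * b5 - b4 - b6) + a6 * (2 * b6 - b5 - b7) + a7 * (2 * b7 - b6)
  | _, _ => 0

theorem toL_eq (x : Fin 8 → ℤ) : toL x = [x 0, x 1, x 2, x 3, x 4, x 5, x 6, x 7] := by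
  unfold toL
  rfl

theorem bL_toL (x y : Fin 8 → ℤ) : bL (toL x) (toL y) = bf x y := by
  rw [toL_eq, toL_eq]
  unfold bf
  simp only [Fin.sum_univ_eight, bL]
  have h : ∀ i j, C8 i j = ![![2, 0, -1, 0, 0, 0, 0, 0], ![0, 2, 0, -1, 0, 0, 0, 0], ![-1, 0, 2, -1, 0, 0, 0, 0],
    ![0, -1, -1, 2, -1, 0, 0, 0], ![0, 0, 0, -1, 2, -1, 0, 0], ![0, 0, 0, 0, -1, 2, -1, 0], ![0, 0, 0, 0, 0, -1, 2, -1],
    ![0, 0, 0, 0, 0, 0, -1, 2]] i j := fun i j => rfl
  have h2 : ∀ i, C8 i i = 2 := by decide +kernel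
  have e : ∀ i j, (i, j) ∈ [((0 : Fin 8), (2 : Fin 8)), (1, 3), (2, 0), (2, 3), (3, 1), (3, 2), (3, 4), (4, 3), (4, 5), (5, 4),
    (5, 6), (6, 5), (6, 7), (7, 6)] → C8 i j = -1 := by decide +kernel
  have z : ∀ i j, i ≠ j → (i, j) ∉ [((0 : Fin 8), (2 : Fin 8)), (1, 3), (2, 0), (2, 3), (3, 1), (3, 2), (3, 4), (4, 3), (4, 5),
    (5, 4), (5, 6), (6, 5), (6, 7), (7, 6)] → C8 i j = 0 := by decide +kernel
  clear h
  rw [h2 0, h2 1, h2 2, h2 3, h2 4, h2 5, h2 6, h2 7, e 0 2 (by decide), e 1 3 (by decide), e 2 0 (by decide), e 2 3 (by decide),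
    e 3 1 (by decide), e 3 2 (by decide), e 3 4 (by decide), e 4 3 (by decide), e 4 5 (by decide), e 5 4 (by decide),
    e 5 6 (by decide), e 6 5 (by decide), e 6 7 (by decide), e 7 6 (by decide),
    z 0 1 (by decide) (by decide), z 0 3 (by decide) (by decide), z 0 4 (by decide) (by decide), z 0 5 (by decide) (by decide),
    z 0 6 (by decide) (by decide), z 0 7 (by decide) (by decide), z 1 0 (by decide) (by decide), z 1 2 (by decide) (by decide),
    z 1 4 (by decide) (by decide), z 1 5 (by decide) (by decide), z 1 6 (by decide) (by decide), z 1 7 (by decide) (by decide),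
    z 2 1 (by decide) (by decide), z 2 4 (by decide) (by decide), z 2 5 (by decide) (by decide), z 2 6 (by decide) (by decide),
    z 2 7 (by decide) (by decide), z 3 0 (by decide) (by decide), z 3 5 (by decide) (by decide), z 3 6 (by decide) (by decide),
    z 3 7 (by decide) (by decide), z 4 0 (by decide) (by decide), z 4 1 (by decide) (by decide), z 4 2 (by decide) (by decide),
    z 4 6 (by decide) (by decide), z 4 7 (by decide) (by decide), z 5 0 (by decide) (by decide), z 5 1 (by decide) (by decide),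
    z 5 2 (by decide) (by decide), z 5 3 (by decide) (by decide), z 5 7 (by decide) (by decide), z 6 0 (by decide) (by decide),
    z 6 1 (by decide) (by decide), z 6 2 (by decide) (by decide), z 6 3 (by decide) (by decide), z 6 4 (by decide) (by decide),
    z 7 0 (by decide) (by decide), z 7 1 (by decide) (by decide), z 7 2 (by decide) (by decide), z 7 3 (by decide) (by decide),
    z 7 4 (by decide) (by decide), z 7 5 (by decide) (by decide)]
  ring

/-! ### moving roots -/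

theorem act_inv_act (v : W8) (x : Fin 8 → ℤ) : act v⁻¹ (act v x) = x := by
  rw [← act_mul, inv_mul_cancel, act_one]

theorem act_act_inv (v : W8) (x : Fin 8 → ℤ) : act v (act v⁻¹ x) = x := by
  rw [← act_mul, mul_inv_cancel, act_one]

/-- a reflection moves `c` to `d` if their inner product is 1 -/
theorem edge_step {c d : Fin 8 → ℤ} (hc : Rt c) (hd : Rt d) (h : c = d ∨ bf c d = 1) :
    ∃ v : W8, act v c = d ∧ ∀ s, bf c s = bf d s → act v s = s := by
  rcases h with rfl | h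
  · exact ⟨1, act_one _, fun s _ => act_one s⟩
  · have hr : Rt (c - d) := by
      have h1 : Rt (act (_root_.Cfsg.Agent.H865.EE.rf d) c) := hc.act (_root_.Cfsg.Agent.H865.EE.rf d)
      rwa [act_rf hd, h, one_smul] at h1
    refine ⟨_root_.Cfsg.Agent.H865.EE.rf (c - d), ?_, fun s hs => ?_⟩
    · rw [act_rf hr, bf_sub_right, bf_self hc, h, show (2 : ℤ) - 1 = 1 by norm_num, one_smul, sub_sub_cancel]
    · rw [act_rf hr, bf_sub_right, bf_comm s c, bf_comm s d, hs, sub_self, zero_smul, sub_zero]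

/-- candidates -/
def okC (rs : List (List ℤ × List ℤ)) (r c : List ℤ) : Bool :=
  bL c r == 0 && rs.all fun p => bL c p.1 == -(bL r p.2) && bL c p.2 == bL r p.1

def edge (c d : List ℤ) : Bool := c == d || bL c d == 1

/-- a path of length at most three -/
def reach (P : List ℤ → Bool) (c t : List ℤ) : Bool :=
  edge c t || RL.any (fun d => edge c d && (P d && edge d t)) ||
    RL.any (fun d => edge c d && (P d && RL.any (fun e => edge d e && (edge e t && P e))))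

def stepOK (rs : List (List ℤ × List ℤ)) (r t : List ℤ) : Bool :=
  (okC rs r t && RL.elem t) && RL.all fun c => !(okC rs r c) || reach (okC rs r) c t

theorem exists_rt {l : List ℤ} (h : l ∈ RL) : ∃ a, Rt a ∧ toL a = l := by
  have hlen : ∀ l ∈ RL, l.length = 8 := by decide +kernel
  have h8 := hlen l h
  refine ⟨fun i => l.getD i 0, ?_, ?_⟩
  · rw [rt_iff]
    convert h
    apply List.ext_getElem
    · simp [toL, h8]
    · intro i h1 h2
      simp [toL, h2]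
  · apply List.ext_getElem
    · simp [toL, h8]
    · intro i h1 h2
      simp [toL, h2]

/-- the simple roots and their images -/
abbrev Pr := (Fin 8 → ℤ) × (Fin 8 → ℤ)

def toP (p : Pr) : List ℤ × List ℤ := (toL p.1, toL p.2)

theorem okC_iff {rs : List Pr} {r c : Fin 8 → ℤ} : okC (rs.map toP) (toL r) (toL c) = true ↔
    bf c r = 0 ∧ ∀ p ∈ rs, bf c p.1 = -bf r p.2 ∧ bf c p.2 = bf r p.1 := by
  unfold okC
  rw [Bool.and_eq_true, List.all_map, List.all_eq_true, bL_toL]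
  simp only [beq_iff_eq, Function.comp_apply, toP, Bool.and_eq_true, bL_toL]

theorem edge_iff {c d : Fin 8 → ℤ} : edge (toL c) (toL d) = true ↔ c = d ∨ bf c d = 1 := by
  unfold edge
  rw [Bool.or_eq_true, beq_iff_eq, beq_iff_eq, bL_toL]
  exact or_congr_left ⟨fun h => toL_inj h, fun h => by rw [h]⟩

theorem move {rs : List Pr} {r c t : Fin 8 → ℤ} (hc : Rt c) (ht : Rt t)
    (hcP : okC (rs.map toP) (toL r) (toL c) = true) (htP : okC (rs.map toP) (toL r) (toL t) = true)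
    (h : reach (okC (rs.map toP) (toL r)) (toL c) (toL t) = true) :
    ∃ v : W8, act v c = t ∧ act v r = r ∧ ∀ p ∈ rs, act v p.1 = p.1 ∧ act v p.2 = p.2 := by
  -- one step inside the candidates
  have one : ∀ c d : Fin 8 → ℤ, Rt c → Rt d → okC (rs.map toP) (toL r) (toL c) = true →
      okC (rs.map toP) (toL r) (toL d) = true → edge (toL c) (toL d) = true →
      ∃ v : W8, act v c = d ∧ act v r = r ∧ ∀ p ∈ rs, act v p.1 = p.1 ∧ act v p.2 = p.2 := by
    intro c d hc hd h1 h2 h3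
    obtain ⟨v, hv, hv'⟩ := edge_step hc hd (edge_iff.1 h3)
    obtain ⟨a1, a2⟩ := okC_iff.1 h1
    obtain ⟨b1, b2⟩ := okC_iff.1 h2
    refine ⟨v, hv, hv' r (by rw [a1, b1]), fun p hp => ⟨hv' _ ?_, hv' _ ?_⟩⟩
    · rw [(a2 p hp).1, (b2 p hp).1]
    · rw [(a2 p hp).2, (b2 p hp).2]
  have comp : ∀ c d e : Fin 8 → ℤ, (∃ v : W8, act v c = d ∧ act v r = r ∧ ∀ p ∈ rs, act v p.1 = p.1 ∧ act v p.2 = p.2) →
      (∃ v : W8, act v d = e ∧ act v r = r ∧ ∀ p ∈ rs, act v p.1 = p.1 ∧ act v p.2 = p.2) →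
      ∃ v : W8, act v c = e ∧ act v r = r ∧ ∀ p ∈ rs, act v p.1 = p.1 ∧ act v p.2 = p.2 := by
    rintro c d e ⟨v, h1, h2, h3⟩ ⟨u, h4, h5, h6⟩
    refine ⟨u * v, by rw [act_mul, h1, h4], by rw [act_mul, h2, h5], fun p hp => ⟨?_, ?_⟩⟩
    · rw [act_mul, (h3 p hp).1, (h6 p hp).1]
    · rw [act_mul, (h3 p hp).2, (h6 p hp).2]
  unfold reach at h
  rw [Bool.or_eq_true, Bool.or_eq_true] at h
  rcases h with (h | h) | h
  · exact one c t hc ht hcP htP h
  · obtain ⟨l, hl, h⟩ := List.any_eq_true.1 h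
    obtain ⟨d, hd, rfl⟩ := exists_rt hl
    rw [Bool.and_eq_true, Bool.and_eq_true] at h
    exact comp c d t (one c d hc hd hcP h.2.1 h.1) (one d t hd ht h.2.1 htP h.2.2)
  · obtain ⟨l, hl, h⟩ := List.any_eq_true.1 h
    obtain ⟨d, hd, rfl⟩ := exists_rt hl
    rw [Bool.and_eq_true, Bool.and_eq_true] at h
    obtain ⟨h1, h2, h3⟩ := h
    obtain ⟨l', hl', h3⟩ := List.any_eq_true.1 h3
    obtain ⟨e, he, rfl⟩ := exists_rt hl'
    rw [Bool.and_eq_true, Bool.and_eq_true] at h3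
    exact comp c d t (one c d hc hd hcP h2 h1) (comp d e t (one d e hd he h2 h3.2.2 h3.1)
      (one e t he ht h3.2.2 htP h3.2.1))

/-- **one more root** -/
theorem step {rs : List Pr} (hrs : ∀ p ∈ rs, act w8 p.1 = p.2) {r t : Fin 8 → ℤ} (hr : Rt r) (hrt : act w8 r = t)
    (hok : stepOK (rs.map toP) (toL r) (toL t) = true) {ω : W8} (h : ∀ x, act ω (act ω x) = -x)
    (hag : ∀ p ∈ rs, act ω p.1 = p.2) :
    ∃ ω' : W8, (∃ v : W8, v * ω * v⁻¹ = ω') ∧ (∀ x, act ω' (act ω' x) = -x) ∧ ∀ p ∈ (r, t) :: rs, act ω' p.1 = p.2 := by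
  have hsk : ∀ x y, bf (act ω x) y = -bf x (act ω y) := by
    intro x y
    rw [← bf_act ω (act ω x) y, h, bf_neg_left]
  unfold stepOK at hok
  rw [Bool.and_eq_true, Bool.and_eq_true] at hok
  obtain ⟨⟨htP, -⟩, hall⟩ := hok
  have ht : Rt t := by
    rw [← hrt]
    exact hr.act w8
  have hc : Rt (act ω r) := hr.act ω
  have hcP : okC (rs.map toP) (toL r) (toL (act ω r)) = true := by
    rw [okC_iff]
    refine ⟨?_, fun p hp => ⟨?_, ?_⟩⟩
    · have h1 := hsk r r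
      rw [bf_comm r] at h1
      omega
    · rw [hsk, hag p hp]
    · rw [← hag p hp, bf_act]
  have h1 := List.all_eq_true.1 hall _ ((rt_iff _).1 hc)
  rw [hcP, Bool.not_true, Bool.false_or] at h1
  obtain ⟨v, hv1, hv2, hv3⟩ := move hc ht hcP htP h1
  have hvi : ∀ x, act v x = x → act v⁻¹ x = x := fun x hx => by
    conv_lhs => rw [← hx]
    exact act_inv_act v x
  refine ⟨v * ω * v⁻¹, ⟨v, rfl⟩, fun x => ?_, fun p hp => ?_⟩
  · rw [act_mul, act_mul, act_mul, act_mul, act_inv_act, h, map_neg, act_act_inv]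
  · rcases List.mem_cons.1 hp with rfl | hp
    · show act (v * ω * v⁻¹) r = t
      rw [act_mul, act_mul, hvi r hv2, hv1]
    · rw [act_mul, act_mul, hvi _ (hv3 p hp).1, hag p hp, (hv3 p hp).2]

/-! ### the four roots -/

def r0 : Fin 8 → ℤ := ![1, 0, 0, 0, 0, 0, 0, 0]
def r5 : Fin 8 → ℤ := ![0, 0, 0, 0, 0, 1, 0, 0]
def r7 : Fin 8 → ℤ := ![0, 0, 0, 0, 0, 0, 0, 1]
def r6 : Fin 8 → ℤ := ![0, 0, 0, 0, 0, 0, 1, 0]
def t0 : Fin 8 → ℤ := ![1, 2, 2, 3, 3, 3, 2, 1]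
def t5 : Fin 8 → ℤ := ![-2, -2, -3, -5, -4, -3, -2, -1]
def t7 : Fin 8 → ℤ := ![0, -1, 0, -1, 0, 0, 0, 0]
def t6 : Fin 8 → ℤ := ![2, 3, 4, 6, 4, 3, 2, 1]

theorem w_r0 : act w8 r0 = t0 := by rw [act_w8]; funext i; revert i; decide +kernel
theorem w_r5 : act w8 r5 = t5 := by rw [act_w8]; funext i; revert i; decide +kernel
theorem w_r7 : act w8 r7 = t7 := by rw [act_w8]; funext i; revert i; decide +kernel
theorem w_r6 : act w8 r6 = t6 := by rw [act_w8]; funext i; revert i; decide +kernel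

theorem rt0 : Rt r0 := (rt_iff _).2 (by decide +kernel)
theorem rt5 : Rt r5 := (rt_iff _).2 (by decide +kernel)
theorem rt7 : Rt r7 := (rt_iff _).2 (by decide +kernel)
theorem rt6 : Rt r6 := (rt_iff _).2 (by decide +kernel)

/-- the same search on the filtered lists -/
private def stepF (Q N : List (List ℤ)) (t : List ℤ) : Bool :=
  Q.all fun c => edge c t || N.any (fun d => edge c d) || Q.any fun d => edge c d && N.any fun e => edge d e

private theorem stepOK_of {rs : List (List ℤ × List ℤ)} {r t : List ℤ} (h0 : (okC rs r t && RL.elem t) = true)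
    (h : stepF (RL.filter (okC rs r)) ((RL.filter (okC rs r)).filter fun d => edge d t) t = true) :
    stepOK rs r t = true := by
  unfold stepOK
  rw [h0, Bool.true_and, List.all_eq_true]
  intro c hc
  cases hP : okC rs r c
  · rfl
  have h1 := List.all_eq_true.1 h c (List.mem_filter.2 ⟨hc, hP⟩)
  unfold reach
  simp only [Bool.not_true, Bool.false_or, Bool.or_eq_true, List.any_eq_true, Bool.and_eq_true, List.mem_filter] at h1 ⊢
  rcases h1 with (h1 | ⟨d, ⟨⟨a, b⟩, e⟩, f⟩) | ⟨d, ⟨a, b⟩, f, e, ⟨⟨g, i⟩, j⟩, k⟩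
  · exact Or.inl (Or.inl h1)
  · exact Or.inl (Or.inr ⟨d, a, f, b, e⟩)
  · exact Or.inr ⟨d, a, f, b, e, g, k, j, i⟩

theorem ok0 : stepOK (([] : List Pr).map toP) (toL r0) (toL t0) = true :=
  stepOK_of (by decide +kernel) (by decide +kernel)
theorem ok5 : stepOK ([(r0, t0)].map toP) (toL r5) (toL t5) = true :=
  stepOK_of (by decide +kernel) (by decide +kernel)
theorem ok7 : stepOK ([(r5, t5), (r0, t0)].map toP) (toL r7) (toL t7) = true :=
  stepOK_of (by decide +kernel) (by decide +kernel)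
theorem ok6 : stepOK ([(r7, t7), (r5, t5), (r0, t0)].map toP) (toL r6) (toL t6) = true := by decide +kernel

/-- coordinates with respect to `r0, t0, r5, t5, r7, t7, r6, t6` (times 5) -/
def cf : Fin 8 → Fin 8 → ℤ :=
  ![![5, 0, 0, 0, 0, 0, 0, 0], ![2, 4, -3, 4, -1, -2, -2, 1], ![0, 0, 0, 5, 0, 5, 0, 5], ![-2, -4, 3, -4, 1, -3, 2, -1],
    ![-1, 3, -6, -2, -2, 1, -4, -3], ![0, 0, 5, 0, 0, 0, 0, 0], ![0, 0, 0, 0, 0, 0, 5, 0], ![0, 0, 0, 0, 5, 0, 0, 0]]

theorem five_smul (j : Fin 8) : (5 : ℤ) • (sr j : Fin 8 → ℤ) = cf j 0 • r0 + cf j 1 • t0 + cf j 2 • r5 + cf j 3 • t5 +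
    cf j 4 • r7 + cf j 5 • t7 + cf j 6 • r6 + cf j 7 • t6 := by
  funext i
  revert i j
  decide +kernel

theorem eq_w8 {ω : W8} (h : ∀ x, act ω (act ω x) = -x) (h0 : act ω r0 = t0) (h5 : act ω r5 = t5) (h7 : act ω r7 = t7)
    (h6 : act ω r6 = t6) : ω = w8 := by
  have hs : ∀ j, act ω (sr j) = act w8 (sr j) := by
    intro j
    have key : ∀ u : W8, (∀ x, act u (act u x) = -x) → act u r0 = t0 → act u r5 = t5 → act u r7 = t7 → act u r6 = t6 →
        (5 : ℤ) • act u (sr j) = cf j 0 • t0 + cf j 1 • (-r0) + cf j 2 • t5 + cf j 3 • (-r5) +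
          cf j 4 • t7 + cf j 5 • (-r7) + cf j 6 • t6 + cf j 7 • (-r6) := by
      intro u h h0 h5 h7 h6
      have a0 : act u t0 = -r0 := by rw [← h0, h]
      have a5 : act u t5 = -r5 := by rw [← h5, h]
      have a7 : act u t7 = -r7 := by rw [← h7, h]
      have a6 : act u t6 = -r6 := by rw [← h6, h]
      rw [← map_smul, five_smul]
      simp only [map_add, map_smul, h0, h5, h7, h6, a0, a5, a7, a6]
    have h1 := (key ω h h0 h5 h7 h6).trans (key w8 w8_sq w_r0 w_r5 w_r7 w_r6).symm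
    funext i
    have h2 := congrFun h1 i
    simp only [Pi.smul_apply, smul_eq_mul] at h2
    omega
  refine act_ext fun x => ?_
  have h1 : x = ∑ j, x j • (sr j : Fin 8 → ℤ) := by
    funext i
    rw [Finset.sum_apply, Finset.sum_eq_single i (fun j _ hj => by
      rw [Pi.smul_apply, sr_ne hj.symm, smul_zero]) (fun h => absurd (Finset.mem_univ i) h), Pi.smul_apply, sr_self,
      smul_eq_mul, mul_one]
  rw [h1, map_sum, map_sum]
  exact Finset.sum_congr rfl fun j _ => by rw [map_smul, map_smul, hs]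

/-- **T0** -/
theorem conj_w8 {ω : W8} (h : ∀ x, act ω (act ω x) = -x) : ∃ v : W8, v * ω * v⁻¹ = w8 := by
  obtain ⟨ω₁, ⟨v₁, e₁⟩, hh₁, ha₁⟩ := step (rs := []) (by simp) rt0 w_r0 ok0 h (by simp)
  obtain ⟨ω₂, ⟨v₂, e₂⟩, hh₂, ha₂⟩ := step (rs := [(r0, t0)]) (by simp [w_r0]) rt5 w_r5 ok5 hh₁ ha₁
  obtain ⟨ω₃, ⟨v₃, e₃⟩, hh₃, ha₃⟩ := step (rs := [(r5, t5), (r0, t0)]) (by simp [w_r0, w_r5]) rt7 w_r7 ok7 hh₂ ha₂
  obtain ⟨ω₄, ⟨v₄, e₄⟩, hh₄, ha₄⟩ := step (rs := [(r7, t7), (r5, t5), (r0, t0)]) (by simp only [w_r0, w_r5, w_r7, _root_.List.mem_cons, _root_.List.not_mem_nil, _root_.or_false, _root_.forall_eq_or_imp, _root_.forall_eq, _root_.and_self]) rt6 w_r6 ok6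
    hh₃ ha₃
  have h4 : ω₄ = w8 := eq_w8 hh₄ (ha₄ (r0, t0) (by simp)) (ha₄ (r5, t5) (by simp)) (ha₄ (r7, t7) (by simp))
    (ha₄ (r6, t6) (by simp))
  refine ⟨v₄ * v₃ * v₂ * v₁, ?_⟩
  rw [← h4, ← e₄, ← e₃, ← e₂, ← e₁]
  group

end Cfsg.Agent.H305.L5
end

-- part: H342/L5/RpGT
section
/-!
# Representatives in `GT` of the elements of `C_W(w8)` (S5923, A6, helper342)
-/

set_option autoImplicit false
set_option linter.unusedSectionVars false

namespace Cfsg.Agent.H342.L5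

open CoxeterSystem Subgroup Cfsg Cfsg.Lie Cfsg.Lie.ChevalleyDatum
open Cfsg.Agent.ChevalleyStructure Cfsg.Agent.ChevalleyStructure.Elts Cfsg.Agent.ChevalleyStructure.CoxeterGeom
  Cfsg.Agent.ChevalleyStructure.CoxeterGeomTypes Cfsg.Agent.ChevalleyStructure.NPerm
open Cfsg.Agent.Tits.Roots Cfsg.Agent.Tits.Core Cfsg.Agent.Nodes Cfsg.Agent.Nodes.SubComb Cfsg.Agent.Nodes.Reps
  Cfsg.Agent.Nodes.BNOf Cfsg.Agent.Nodes.RGDChev Cfsg.Agent.Nodes.Bruhat Cfsg.Agent.Nodes.Coroot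
open Cfsg.Agent.KFacts.RgdField Cfsg.Agent.KFacts.RgdChevCoord Cfsg.Agent.BpExc.TorCent Cfsg.Agent.BpExc.TorChev
open Cfsg.Agent.GpExc.Field Cfsg.Agent.BpExc.Tow Cfsg.Agent.BpExc.TowChev Cfsg.Agent.BpExc.Fr
  Cfsg.Agent.BpExc.LangFr Cfsg.Agent.BpExc.FamField Cfsg.Agent.BpExc.FamInst Cfsg.Agent.H129.TorusChar
  Cfsg.Agent.H795.LangT Cfsg.Agent.BpExc.FamExt Cfsg.Agent.BpExc.FamUntw Cfsg.Agent.H378.TorDual Cfsg.Agent.H378.TorChar
  Cfsg.Agent.H378.TorFin Cfsg.Agent.H378.RankOne Cfsg.Agent.H378.RootTor Cfsg.Agent.H865.EE Cfsg.Agent.H865.L5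
  Cfsg.Agent.H241.L5

attribute [local irreducible] w8

section A
variable {k : Type} [Field k] [CharP k 3] [IsAlgClosed k] [PerfectRing k 3]

/-- the generators `n_i` are fixed by the Frobenius -/
theorem phi_nc3 (i : Fin 8) : phi chevE8 k 3 1 (nc tp8 k i) = nc tp8 k i := by
  rw [← emb_nc tp8 (ZMod.castHom (dvd_refl 3) k) i]
  apply Subtype.ext
  apply Units.ext
  rw [phi_coe]
  ext a b
  rw [Matrix.map_apply]
  have h1 : ∀ g : ↥(chevE8.group (ZMod 3)), ∀ i j,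
      ((((emb tp8.inList (ZMod.castHom (dvd_refl 3) k) g : ↥(chevE8.group k)) : GL chevE8.Idx k) :
      Matrix chevE8.Idx chevE8.Idx k) i j) = ZMod.castHom (dvd_refl 3) k ((g : GL chevE8.Idx (ZMod 3)) i j) :=
    fun g i j => by
      rw [coe_emb]
      rfl
  have h2 : ∀ c : ZMod 3, c ^ 3 = c := by decide
  rw [h1, pow_one, ← map_pow, h2]

theorem phi_word (ω : List (Fin 8)) :
    phi chevE8 k 3 1 ((ω.map (nc tp8 k)).prod) = (ω.map (nc tp8 k)).prod := by
  induction ω with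
  | nil => rw [List.map_nil, List.prod_nil, map_one]
  | cons i ω ih => rw [List.map_cons, List.prod_cons, map_mul, phi_nc3, ih]

/-- A6 : every element of `CW` is represented by an element of `GT k` -/
theorem exists_rp_GT (hk : LocFin k) {v : W8} (hv : v ∈ CW) :
    ∃ y ∈ GT k, Rp cs8 (nsysL tp8 cs8 hk 3) v y := by
  obtain ⟨ω, rfl⟩ := cs8.wordProd_surjective v
  have hn := rp_word hk ω
  set n := (ω.map (nc tp8 k)).prod with hnd
  -- `sg n` represents `v` too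
  have h1 : Rp cs8 (nsysL tp8 cs8 hk 3) (cs8.wordProd ω) (sg k n) := by
    have h2 := ((n0_rp hk).mul hn).mul (n0_rp hk).inv
    have e1 : w8⁻¹ * cs8.wordProd ω * w8⁻¹⁻¹ = cs8.wordProd ω := by
      have h3 := Subgroup.mem_centralizer_singleton_iff.1 hv
      rw [inv_inv, mul_assoc, h3, inv_mul_cancel_left]
    rw [e1] at h2
    rw [sg_apply, hnd, phi_word]
    exact h2
  have h2 : sg k n * n⁻¹ ∈ TT chevE8 k := by
    have h3 := h1.mul hn.inv
    rw [mul_inv_cancel] at h3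
    exact h3.mem_of_one
  obtain ⟨b, hb, hcb⟩ := lang_sg hk h2
  refine ⟨b⁻¹ * n, ?_, ?_⟩
  · show sg k (b⁻¹ * n) = b⁻¹ * n
    have h3 : sg k n = sg k b * b⁻¹ * n := by rw [← hcb, inv_mul_cancel_right]
    rw [map_mul, map_inv, h3]
    group
  · have h3 := (rp_of_mem (cs := cs8) (hN := nsysL tp8 cs8 hk 3) (inv_mem hb)).mul hn
    rwa [one_mul] at h3

end A

end Cfsg.Agent.H342.L5
end

-- part: H865/L5/Uniq
section
/-!
# Uniqueness of `SL₃(5)` in `E₈(3)` (helper865, S5924)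
-/

set_option autoImplicit false
set_option linter.unusedSectionVars false

namespace Cfsg.Agent.H865.L5

open CoxeterSystem Subgroup Cfsg Cfsg.Lie Cfsg.Lie.ChevalleyDatum
open Cfsg.Agent.ChevalleyStructure Cfsg.Agent.ChevalleyStructure.Elts Cfsg.Agent.ChevalleyStructure.CoxeterGeom
  Cfsg.Agent.ChevalleyStructure.CoxeterGeomTypes Cfsg.Agent.ChevalleyStructure.NPerm
open Cfsg.Agent.Tits.Roots Cfsg.Agent.Tits.Core Cfsg.Agent.Nodes Cfsg.Agent.Nodes.SubComb Cfsg.Agent.Nodes.Reps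
  Cfsg.Agent.Nodes.BNOf Cfsg.Agent.Nodes.RGDChev Cfsg.Agent.Nodes.Bruhat Cfsg.Agent.Nodes.Coroot
open Cfsg.Agent.KFacts.RgdField Cfsg.Agent.KFacts.RgdChevCoord Cfsg.Agent.BpExc.TorCent Cfsg.Agent.BpExc.TorChev
open Cfsg.Agent.GpExc.Field Cfsg.Agent.BpExc.Tow Cfsg.Agent.BpExc.TowChev Cfsg.Agent.BpExc.Fr
  Cfsg.Agent.BpExc.LangFr Cfsg.Agent.BpExc.FamField Cfsg.Agent.BpExc.FamInst Cfsg.Agent.H129.TorusChar
  Cfsg.Agent.H795.LangT Cfsg.Agent.BpExc.FamExt Cfsg.Agent.BpExc.FamUntw Cfsg.Agent.H378.TorDual Cfsg.Agent.H378.TorChar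
  Cfsg.Agent.H378.TorFin Cfsg.Agent.H378.RankOne Cfsg.Agent.H378.RootTor Cfsg.Agent.H865.EE

open Cfsg.Agent.H602.L5 (AT_pow z0_AT card_AT2 uu_AT2)
open Cfsg.Agent.H858.L5 (psl_equiv io_not_inner)
open Cfsg.Agent.H513.L5 (unique_abs)
open Cfsg.Agent.H887.L5 (exists_equiv)

section U

variable {k : Type} [Field k] [CharP k 3] [IsAlgClosed k] [PerfectRing k 3]

/-- T3 -/
theorem tor (hk : LocFin k) (f : SL35 →* ↥(chevE8.group k)) (hf : Function.Injective f) (hr : ∀ x, f x ∈ GT k)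
    (h : ∀ s ∈ VP, f s ∈ T5 k) (hreg : Reg (f '' VP)) :
    ∃ g ∈ GT k, (∀ s ∈ VL, g * f s * g⁻¹ ∈ T5 k) ∧ Reg ((fun s => g * f s * g⁻¹) '' VL) := by
  obtain ⟨ζ, hζ⟩ := exists_zeta3 k
  obtain ⟨e, -, he, -, hch⟩ := exists_iso3 hk hζ
  exact Cfsg.Agent.H241.L5.tor_of hk (fun h => Cfsg.Agent.H305.L5.conj_w8 h)
    (Cfsg.Agent.H969.L5.toral_VL hk f hf hr h hreg) (fun hu _ h => Cfsg.Agent.H343.L5.five_elt hu h)
    (fun hu h5 h1 _ _ hφ hψ h0 => Cfsg.Agent.H343.L5.fix_line hu h5 h1 hφ hψ h0) hζ he hch hf hr h hreg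

theorem conj_VP (hk : LocFin k) {f f' : SL35 →* ↥(chevE8.group k)}
    (hf : Function.Injective f) (hT : ∀ s ∈ VP, f s ∈ T5 k) (hreg : Reg (f '' VP))
    (hf' : Function.Injective f') (hT' : ∀ s ∈ VP, f' s ∈ T5 k) (hreg' : Reg (f' '' VP)) :
    ∃ g ∈ GT k, ∀ s ∈ VP, ∃ s' ∈ VP, f' s = g * f s' * g⁻¹ :=
  Cfsg.Agent.H305.L5.conj_VP_of hk (fun hv => Cfsg.Agent.H342.L5.exists_rp_GT hk hv) hf hT hreg hf' hT' hreg'

theorem cjf_inj (g : ↥(chevE8.group k)) {f : SL35 →* ↥(chevE8.group k)} (hf : Function.Injective f) :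
    Function.Injective (cjf g f) := fun _ _ e => hf (mul_left_cancel (mul_right_cancel e))

theorem cjf_mem {g : ↥(chevE8.group k)} (hg : g ∈ GT k) {f : SL35 →* ↥(chevE8.group k)} (hr : ∀ x, f x ∈ GT k) (x : SL35) :
    cjf g f x ∈ GT k := mul_mem (mul_mem hg (hr x)) (inv_mem hg)

/-- `VP` is always regular and toral. -/
theorem vp_reg (hk : LocFin k) (f : SL35 →* ↥(chevE8.group k)) (hf : Function.Injective f) (hr : ∀ x, f x ∈ GT k) :
    ∃ g ∈ GT k, (∀ s ∈ VP, cjf g f s ∈ T5 k) ∧ Reg (cjf g f '' VP) := by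
  rcases exists_reg hk f hf hr with h | h
  · exact h
  · obtain ⟨g, hg, h1, h2⟩ := reg_io hr h
    obtain ⟨g', hg', h3, h4⟩ := tor hk (cjf g (f.comp io.toMonoidHom)) (cjf_inj g ((hf.comp io.injective :)))
      (cjf_mem hg fun x => hr _) h1 h2
    have e1 : ∀ s, g' * cjf g (f.comp io.toMonoidHom) s * g'⁻¹ = (g' * g) * (f.comp io.toMonoidHom) s * (g' * g)⁻¹ := by
      intro s
      rw [cjf_apply, mul_inv_rev]
      simp only [mul_assoc]
    obtain ⟨g2, hg2, h5, h6⟩ := reg_io (f := f.comp io.toMonoidHom) (fun x => hr _) ⟨g' * g, mul_mem hg' hg,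
      fun s hs => by rw [← e1]; exact h3 s hs, by
        have : (fun s => (g' * g) * (f.comp io.toMonoidHom) s * (g' * g)⁻¹) =
          fun s => g' * cjf g (f.comp io.toMonoidHom) s * g'⁻¹ := funext fun s => (e1 s).symm
        rw [this]; exact h4⟩
    have e2 : (f.comp io.toMonoidHom).comp io.toMonoidHom = f := MonoidHom.ext fun x => (congrArg f (io_io x) :)
    rw [e2] at h5 h6
    exact ⟨g2, hg2, h5, h6⟩

/-- the homomorphism into `Y` -/
noncomputable abbrev up (f : SL35 →* ↥(GT k)) : SL35 →* ↥(chevE8.group k) := (GT k).subtype.comp f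

theorem up_inj {f : SL35 →* ↥(GT k)} (hf : Function.Injective f) : Function.Injective (up f) :=
  Subtype.val_injective.comp hf

theorem up_mem (f : SL35 →* ↥(GT k)) (x : SL35) : up f x ∈ GT k := (f x).2

theorem conj_comm {G : Type*} [Group G] {g a b : G} (h : a * b = b * a) :
    g * a * g⁻¹ * (g * b * g⁻¹) = g * b * g⁻¹ * (g * a * g⁻¹) := by
  calc g * a * g⁻¹ * (g * b * g⁻¹) = g * (a * b) * g⁻¹ := by group
    _ = g * (b * a) * g⁻¹ := by rw [h]
    _ = _ := by group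

theorem comm_conj {G : Type*} [Group G] {g a b : G} (h : g * a * g⁻¹ * (g * b * g⁻¹) = g * b * g⁻¹ * (g * a * g⁻¹)) :
    a * b = b * a := by
  have e1 : g * a * g⁻¹ * (g * b * g⁻¹) = g * (a * b) * g⁻¹ := by group
  have e2 : g * b * g⁻¹ * (g * a * g⁻¹) = g * (b * a) * g⁻¹ := by group
  rw [e1, e2] at h
  exact mul_left_cancel (mul_right_cancel h)

variable {f : SL35 →* ↥(GT k)}

/-- elements commuting with `f VP`, conjugated into `AT` -/
theorem mem_AT_of (hk : LocFin k) (hf : Function.Injective f) {g : ↥(chevE8.group k)} (hg : g ∈ GT k)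
    (hT : ∀ s ∈ VP, cjf g (up f) s ∈ T5 k) (hreg : Reg (cjf g (up f) '' VP)) {a : ↥(GT k)}
    (h : ∀ s ∈ VP, a * f s = f s * a) : g * (a : ↥(chevE8.group k)) * g⁻¹ ∈ AT k :=
  cent_VP_AT hk (cjf_inj g (up_inj hf)) hT hreg (mul_mem (mul_mem hg a.2) (inv_mem hg))
    fun s hs => conj_comm (congrArg Subtype.val (h s hs))

theorem comm_of_mem_AT {g : ↥(chevE8.group k)} (hT : ∀ s ∈ VP, cjf g (up f) s ∈ T5 k) {a : ↥(GT k)}
    (h : g * (a : ↥(chevE8.group k)) * g⁻¹ ∈ AT k) : ∀ s ∈ VP, a * f s = f s * a := fun s hs =>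
  Subtype.ext (comm_conj (TT_comm tp8 _ h.1 _ (T5_TT (hT s hs))))

theorem hc_GT (hk : LocFin k) (hf : Function.Injective f) (a : ↥(GT k)) (h : ∀ s ∈ VP, a * f s = f s * a) :
    a ^ 10 = 1 ∧ f z0 * a * (f z0)⁻¹ = a ^ 7 := by
  obtain ⟨g, hg, hT, hreg⟩ := vp_reg hk (up f) (up_inj hf) (up_mem f)
  have h1 := mem_AT_of hk hf hg hT hreg h
  constructor
  · have h2 := AT_pow hk h1
    rw [conj_pow] at h2
    exact Subtype.ext (conj_eq_one_iff.1 h2)
  · have h2 := z0_AT hk (cjf_inj g (up_inj hf)) (cjf_mem hg (up_mem f)) hT hreg _ h1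
    rw [conj_pow] at h2
    apply Subtype.ext
    have h3 : g * ((f z0 : ↥(chevE8.group k)) * (a : ↥(chevE8.group k)) * (f z0 : ↥(chevE8.group k))⁻¹) * g⁻¹ =
        g * (a : ↥(chevE8.group k)) ^ 7 * g⁻¹ := by
      rw [← h2]
      have e := cjf_apply g (up f) z0
      rw [e]
      show _ = g * (f z0 : ↥(chevE8.group k)) * g⁻¹ * (g * (a : ↥(chevE8.group k)) * g⁻¹) *
        (g * (f z0 : ↥(chevE8.group k)) * g⁻¹)⁻¹
      simp only [mul_inv_rev, inv_inv, mul_assoc, inv_mul_cancel_left]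
    exact mul_left_cancel (mul_right_cancel h3)

theorem hab_GT (hk : LocFin k) (hf : Function.Injective f) (a b : ↥(GT k)) (h : ∀ s ∈ VP, a * f s = f s * a)
    (h' : ∀ s ∈ VP, b * f s = f s * b) : a * b = b * a := by
  obtain ⟨g, hg, hT, hreg⟩ := vp_reg hk (up f) (up_inj hf) (up_mem f)
  exact Subtype.ext (comm_conj (TT_comm tp8 _ (mem_AT_of hk hf hg hT hreg h).1 _ (mem_AT_of hk hf hg hT hreg h').1))

theorem h16_GT (hk : LocFin k) (hf : Function.Injective f) :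
    Nat.card {a : ↥(GT k) // (∀ s ∈ VP, a * f s = f s * a) ∧ a ^ 2 = 1} = 16 := by
  obtain ⟨g, hg, hT, hreg⟩ := vp_reg hk (up f) (up_inj hf) (up_mem f)
  rw [← card_AT2 hk]
  refine Nat.card_eq_of_bijective (fun a => ⟨g * ((a.1 : ↥(GT k)) : ↥(chevE8.group k)) * g⁻¹,
    mem_AT_of hk hf hg hT hreg a.2.1, by
      rw [conj_pow, ← Subgroup.coe_pow, a.2.2, Subgroup.coe_one, mul_one, mul_inv_cancel]⟩) ⟨?_, ?_⟩
  · intro a b e
    have e' := congrArg Subtype.val e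
    exact Subtype.ext (Subtype.ext (mul_left_cancel (mul_right_cancel e')))
  · rintro ⟨t, ht, h2⟩
    have e : g * (g⁻¹ * t * g) * g⁻¹ = t := by group
    have hm : g⁻¹ * t * g ∈ GT k := mul_mem (mul_mem (inv_mem hg) ht.2) hg
    refine ⟨⟨⟨g⁻¹ * t * g, hm⟩, ?_, ?_⟩, ?_⟩
    · refine comm_of_mem_AT (g := g) hT ?_
      show g * (g⁻¹ * t * g) * g⁻¹ ∈ AT k
      rw [e]; exact ht
    · apply Subtype.ext
      show (g⁻¹ * t * g) ^ 2 = 1
      have := conj_pow (i := 2) (a := g⁻¹) (b := t)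
      rw [inv_inv] at this
      rw [this, h2, mul_one, inv_mul_cancel]
    · exact Subtype.ext e

theorem hu_GT (hk : LocFin k) (hf : Function.Injective f) (a : ↥(GT k)) (h : ∀ s ∈ VP, a * f s = f s * a)
    (hu : a * f (us 0 0 1) = f (us 0 0 1) * a) (h2 : a ^ 2 = 1) : a = 1 := by
  obtain ⟨g, hg, hT, hreg⟩ := vp_reg hk (up f) (up_inj hf) (up_mem f)
  have h3 := uu_AT2 hk (cjf_inj g (up_inj hf)) (cjf_mem hg (up_mem f)) hT hreg (mem_AT_of hk hf hg hT hreg h) (by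
    rw [conj_pow, ← Subgroup.coe_pow, h2, Subgroup.coe_one, mul_one, mul_inv_cancel])
    (conj_comm (congrArg Subtype.val hu))
  exact Subtype.ext (conj_eq_one_iff.1 h3)

theorem hS_GT (hk : LocFin k) (hf : Function.Injective f) (a : ↥(GT k)) (h : ∀ s ∈ US, a * f s = f s * a) :
    ∃ s ∈ US, a = f s := by
  obtain ⟨g, hg, hT, hreg⟩ := vp_reg hk (up f) (up_inj hf) (up_mem f)
  obtain ⟨s, hs, e⟩ := (goodIn_of_reg hk (up_inj hf) (up_mem f) hg hT hreg).centS a a.2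
    fun s hs => congrArg Subtype.val (h s hs)
  exact ⟨s, hs, Subtype.ext e⟩

theorem hV_GT (hk : LocFin k) {f f' : SL35 →* ↥(GT k)} (hf : Function.Injective f) (hf' : Function.Injective f') :
    ∃ g, ∀ s ∈ VP, ∃ s' ∈ VP, f' s = g * f s' * g⁻¹ := by
  obtain ⟨g, hg, hT, hreg⟩ := vp_reg hk (up f) (up_inj hf) (up_mem f)
  obtain ⟨g', hg', hT', hreg'⟩ := vp_reg hk (up f') (up_inj hf') (up_mem f')
  obtain ⟨y, hy, h⟩ := conj_VP hk (cjf_inj g (up_inj hf)) hT hreg (cjf_inj g' (up_inj hf')) hT' hreg'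
  refine ⟨⟨g'⁻¹ * y * g, mul_mem (mul_mem (inv_mem hg') hy) hg⟩, fun s hs => ?_⟩
  obtain ⟨s', hs', e⟩ := h s hs
  refine ⟨s', hs', Subtype.ext ?_⟩
  rw [cjf_apply, cjf_apply] at e
  show (f' s : ↥(chevE8.group k)) = g'⁻¹ * y * g * (f s' : ↥(chevE8.group k)) * (g'⁻¹ * y * g)⁻¹
  have e1 : (f' s : ↥(chevE8.group k)) = g'⁻¹ * (g' * (f' s : ↥(chevE8.group k)) * g'⁻¹) * g' := by group
  rw [e1]
  have e2 : g' * (f' s : ↥(chevE8.group k)) * g'⁻¹ = y * (g * (f s' : ↥(chevE8.group k)) * g⁻¹) * y⁻¹ := e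
  rw [e2]
  simp only [mul_inv_rev, inv_inv, mul_assoc]

end U

/-- EX -/
theorem not_graph {f : SL35 →* G3} (hf : Function.Injective f) : ¬ ∃ τ, ∀ x, τ * f x * τ⁻¹ = f (io x) := by
  rintro ⟨τ, hτ⟩
  obtain ⟨f', hf', hg, he⟩ := exists_good f hf
  have h1 : τ ∈ Subgroup.normalizer (f'.range : Set G3) := by
    rw [he, Subgroup.mem_normalizer_iff]
    intro y
    constructor
    · rintro ⟨x, rfl⟩
      exact ⟨io x, (hτ x).symm⟩
    · rintro ⟨x, e⟩
      refine ⟨io x, ?_⟩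
      have h2 := hτ (io x)
      rw [io_io, e] at h2
      exact mul_left_cancel (mul_right_cancel h2)
  rw [norm_eq hg hf', he] at h1
  obtain ⟨z, rfl⟩ := h1
  exact io_not_inner ⟨z, fun x => hf (by rw [← hτ, map_mul, map_mul, map_inv])⟩

theorem unique_G3 (f f' : SL35 →* G3) (hf : Function.Injective f) (hf' : Function.Injective f') :
    ∃ g, f'.range = f.range.map (MulAut.conj g).toMonoidHom := by
  obtain ⟨k, _, _, _, _, hk, ⟨e⟩⟩ := exists_equiv
  obtain ⟨g, hg⟩ := unique_abs (Γ := ↥(GT k)) (fun f hf a h => hc_GT hk hf a h) (fun f hf a b h h' => hab_GT hk hf a b h h')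
    (fun f hf => h16_GT hk hf) (fun f hf a h hu h2 => hu_GT hk hf a h hu h2) (fun f hf a h => hS_GT hk hf a h)
    (fun f f' hf hf' => hV_GT hk hf hf') (fun f hf => by
      rintro ⟨τ, hτ⟩
      refine not_graph (f := e.symm.toMonoidHom.comp f) (e.symm.injective.comp hf) ⟨e.symm τ, fun x => ?_⟩
      show e.symm τ * e.symm (f x) * (e.symm τ)⁻¹ = e.symm (f (io x))
      rw [← hτ, map_mul, map_mul, map_inv])
    (e.toMonoidHom.comp f) (e.toMonoidHom.comp f') (e.injective.comp hf) (e.injective.comp hf')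
  refine ⟨e.symm g, ?_⟩
  ext y
  have h1 : y ∈ f'.range ↔ e y ∈ (e.toMonoidHom.comp f').range := by
    constructor
    · rintro ⟨x, rfl⟩
      exact ⟨x, rfl⟩
    · rintro ⟨x, hx⟩
      exact ⟨x, e.injective hx⟩
  rw [h1, hg]
  constructor
  · rintro ⟨_, ⟨x, rfl⟩, hx⟩
    refine ⟨f x, ⟨x, rfl⟩, e.injective ?_⟩
    rw [← hx]
    show e (e.symm g * f x * (e.symm g)⁻¹) = g * e (f x) * g⁻¹
    rw [map_mul, map_mul, map_inv, e.apply_symm_apply]
  · rintro ⟨_, ⟨x, rfl⟩, rfl⟩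
    refine ⟨e (f x), ⟨x, rfl⟩, ?_⟩
    show g * e (f x) * g⁻¹ = e (e.symm g * f x * (e.symm g)⁻¹)
    rw [map_mul, map_mul, map_inv, e.apply_symm_apply]

end Cfsg.Agent.H865.L5
end

-- part: S5924
section
set_option autoImplicit false
open Cfsg

namespace Cfsg.Agent.S5924

/-- Let G be the Chevalley group of type E₈ over the field with three elements (generated by its root elements in the 248-dimensional adjoint representation; it is the simple group E₈(3)), and let F be a field with 5 elements. Then G has a subgroup isomorphic to PSL₃(5), and any two subgroups of G isomorphic to PSL₃(5) are conjugate in G. -/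
theorem result
    {F : Type*} [Field F] [Fintype F] (hF : Fintype.card F = 5) :
    (∃ H : Subgroup ↥(Cfsg.Lie.chevE8.group (ZMod 3)), Nonempty (↥H ≃* Matrix.ProjectiveSpecialLinearGroup (Fin 3) F)) ∧
    ∀ H₁ H₂ : Subgroup ↥(Cfsg.Lie.chevE8.group (ZMod 3)), Nonempty (↥H₁ ≃* Matrix.ProjectiveSpecialLinearGroup (Fin 3) F) → Nonempty (↥H₂ ≃* Matrix.ProjectiveSpecialLinearGroup (Fin 3) F) →
      ∃ g : ↥(Cfsg.Lie.chevE8.group (ZMod 3)), H₁.map (MulAut.conj g).toMonoidHom = H₂ := by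
  obtain ⟨ψ⟩ := Cfsg.Agent.H858.L5.psl_equiv hF
  constructor
  · obtain ⟨f, hf⟩ := Cfsg.Agent.H136.L5.XExist.exists_f
    exact ⟨f.range, ⟨(MonoidHom.ofInjective hf).symm.trans ψ⟩⟩
  · rintro H₁ H₂ ⟨φ₁⟩ ⟨φ₂⟩
    have key : ∀ (H : Subgroup Cfsg.Agent.H865.L5.G3) (φ : ↥H ≃* Matrix.ProjectiveSpecialLinearGroup (Fin 3) F),
        ∃ f : Cfsg.Agent.H865.L5.SL35 →* Cfsg.Agent.H865.L5.G3, Function.Injective f ∧ f.range = H := by
      intro H φ
      refine ⟨H.subtype.comp (φ.symm.toMonoidHom.comp ψ.toMonoidHom),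
        Subtype.val_injective.comp (φ.symm.injective.comp ψ.injective), ?_⟩
      ext y
      constructor
      · rintro ⟨x, rfl⟩
        exact (φ.symm (ψ x)).2
      · intro hy
        refine ⟨ψ.symm (φ ⟨y, hy⟩), ?_⟩
        show ((φ.symm (ψ (ψ.symm (φ ⟨y, hy⟩))) : ↥H) : Cfsg.Agent.H865.L5.G3) = y
        rw [ψ.apply_symm_apply, φ.symm_apply_apply]
    obtain ⟨f₁, hf₁, e₁⟩ := key H₁ φ₁
    obtain ⟨f₂, hf₂, e₂⟩ := key H₂ φ₂
    obtain ⟨g, hg⟩ := Cfsg.Agent.H865.L5.unique_G3 f₁ f₂ hf₁ hf₂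
    exact ⟨g, by rw [← e₁, ← e₂, hg]⟩

end Cfsg.Agent.S5924
end

private theorem dce_97095e966f02 : _root_.True := by
  try have : _root_.True := by simp only [_root_.Cfsg.Agent.H865.EE.toL.eq_1]
  try have : _root_.True := by simp only [_root_.Cfsg.Agent.H305.L5.bL._sparseCasesOn_2.else_eq]
  try have : _root_.True := by simp only [_root_.Cfsg.Agent.H305.L5.bL._sparseCasesOn_1.else_eq]
  try have : _root_.True := by simp only [_root_.Cfsg.Agent.H305.L5.toP.eq_1]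
  try have : _root_.True := by simp only [_root_.Cfsg.Agent.H305.L5.bL.eq_2]
  try have : _root_.True := by simp only [_root_.Cfsg.Agent.H305.L5.bL.eq_1]
  exact _root_.True.intro
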