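import Cfsg.Agent.H238.E8.Inj_m3
import Cfsg.Agent.H732.E8T.K_m3
import Cfsg.Agent.H908.P9.Run.R04_m3
import Cfsg.Agent.H239.E8P.Tor
import Cfsg.Agent.H65.E8L.Chk_m3
import Mathlib
import Cfsg.Agent.H610.ChevRegular
import Cfsg.Agent.ChevFast.E8
import Cfsg.Agent.ChevFast.Lin
import Cfsg.Agent.H857.E8L.Rep_mg_m3
import Cfsg.Agent.H288.E8L.Brk
import Cfsg.Agent.H540.E8C.Centre
import Cfsg.Agent.H791.E8L.Rel2_m3
import Cfsg.Agent.H934.E83.Hom
import Cfsg.Agent.H605.MX.Orb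
import Cfsg.Agent.H738.E83.Cube_mg
import Cfsg.Agent.S1054
import Cfsg.Agent.H908.P9.Run.R03_m3
import Cfsg.Agent.H908.P9.Run.R02_m3
import Cfsg.Agent.H908.P9.Run.All
import Cfsg.Statements.S5925
import Cfsg.Agent.FastGrp
import Cfsg.Agent.Prune
set_option linter.all false

section
prune_inst 0x7ffebdfbabb8bddfffff7e7fa6decffdf9b91fffa6dff9cbffe0e1ff0bdf4b08c9e57b8d8be052fe0fd6e21410387b43fffefeffe26bf87ffffd1ff41ffbee4fe5f7b50851948c340fb80fff83f0778e7f3fffffffffffffffffffffffffffaeffbfffffffff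

-- part: H238/E8/Up
section
prune_inst 0x100005440422000000180582110000402200040000400000c0000a000240206028012000b000110200080c5c2008000010100080400000000a000c000119008000800000a1080004440006800080000000000000000000000000000000010004000000000
set_option linter.all false
open scoped Cfsg.Agent.FastGrp

-- part: H238/E8/Boxes
section
/-!
# S5925: the boxes B2, B, C in the form of `H114/E8L/Stmt.lean` (helper238)
-/

set_option autoImplicit false

namespace Cfsg.Agent.H238.E8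

open Matrix Cfsg Cfsg.Lie Cfsg.Agent.H114.E8L

end Cfsg.Agent.H238.E8
end

-- part: H239/E8P/Anti
section
/-!
# S5925, box F (P7): anti-automorphisms of the two copies of `sl₅` (helper239)
-/

set_option autoImplicit false
set_option linter.unusedSectionVars false

namespace Cfsg.Agent.H239.E8P

open Cfsg.Lie Cfsg.Agent.ChevalleyStructure Cfsg.Agent.ChevalleyStructure.Elts
  Cfsg.Agent.ChevalleyStructure.XColumns Cfsg.Agent.ChevalleyStructure.Strings
open Cfsg.Agent.H576.E8L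
open Matrix

section
variable {K : Type*} [Field K]

theorem rv_eq (r : ℕ) : Cfsg.Agent.H576.E8L.rv K r = ev chevE8 K r := by
  funext a
  rcases a with i | u
  · rw [rv_inl, ev_inl]
  · rw [rv_inr, ev_inr]

theorem hv_eq (r : ℕ) : Cfsg.Agent.H576.E8L.hv K r = corv chevE8 K r := by
  funext a
  rcases a with i | u
  · rfl
  · rfl

theorem tab0 : ∀ i j : Fin 5, i ≠ j → w0 i j = RT 0 i j ∧ s0 i j = SG 0 i j := by decide +kernel
theorem tab1 : ∀ i j : Fin 5, i ≠ j → w1 i j = RT 1 i j ∧ s1 i j = SG 1 i j := by decide +kernel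

theorem WM_eq {w : Fin 5 → Fin 5 → ℕ} {s : Fin 5 → Fin 5 → ℤ} (c : Fin 2)
    (h : ∀ i j : Fin 5, i ≠ j → w i j = RT c i j ∧ s i j = SG c i j) (A : Matrix (Fin 5) (Fin 5) K) :
    WM K w s A = io1 K c A := by
  rw [WM_apply, io1_apply]
  congr 1
  · refine Finset.sum_congr rfl fun i _ => Finset.sum_congr rfl fun j _ => ?_
    by_cases hij : i = j
    · rw [if_pos hij, if_pos hij, zero_smul]
    · rw [if_neg hij, if_neg hij, (h i j hij).1, (h i j hij).2, rv_eq, EV, smul_smul, mul_comm]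
  · refine Finset.sum_congr rfl fun k _ => ?_
    rw [(h _ _ (Fin.castSucc_lt_succ).ne).1, hv_eq]
    rfl

theorem io_eq (A0 A1 : Matrix (Fin 5) (Fin 5) K) : io K (A0, A1) = io1 K 0 A0 + io1 K 1 A1 := by
  rw [io_apply, WM_eq 0 tab0, WM_eq 1 tab1]

theorem io1_inj [CharP K 3] (c : Fin 2) {A B : Matrix (Fin 5) (Fin 5) K} (hA : A.trace = 0) (hB : B.trace = 0)
    (h : io1 K c A = io1 K c B) : A = B := by
  have h0 : (0 : Matrix (Fin 5) (Fin 5) K).trace = 0 := Matrix.trace_zero ..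
  fin_cases c
  · exact (io_inj hA h0 hB h0 (by rw [io_eq, io_eq]; exact congrArg (fun v => v + io1 K 1 0) h)).1
  · exact (io_inj h0 hA h0 hB (by rw [io_eq, io_eq]; exact congrArg (fun v => io1 K 0 0 + v) h)).2

end

universe u

variable {K : Type u} [Field K]

/-- `g` acts on the two copies of `sl₅` as `A ↦ -q⁻¹ Aᵀ q` -/
structure Anti (g : GL chevE8.Idx K) (q q' : Fin 2 → Matrix (Fin 5) (Fin 5) K) : Prop where
  mi : ∀ c, q c * q' c = 1
  im : ∀ c, q' c * q c = 1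
  act : ∀ c (A : Matrix (Fin 5) (Fin 5) K), A.trace = 0 →
    (g : Matrix chevE8.Idx chevE8.Idx K) *ᵥ io1 K c A = io1 K c (-(q' c * Aᵀ * q c))

theorem trace_anti {q q' : Matrix (Fin 5) (Fin 5) K} (h : q * q' = 1) (A : Matrix (Fin 5) (Fin 5) K) :
    (-(q' * Aᵀ * q)).trace = -A.trace := by
  rw [Matrix.trace_neg, Matrix.trace_mul_comm, ← mul_assoc, h, one_mul, Matrix.trace_transpose]

theorem Acts.mul_anti {g g' : GL chevE8.Idx K} {P P' q q' : Fin 2 → Matrix (Fin 5) (Fin 5) K} (h : Acts g P P')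
    (h' : Anti g' q q') : Anti (g * g') (fun c => q c * P' c) (fun c => P c * q' c) where
  mi c := by rw [mul_assoc, ← mul_assoc (P' c), h.im, one_mul, h'.mi]
  im c := by rw [mul_assoc, ← mul_assoc (q' c), h'.im, one_mul, h.mi]
  act c A hA := by
    rw [Units.val_mul, ← Matrix.mulVec_mulVec, h'.act c A hA, h.act c _ (by rw [trace_anti (h'.mi c), hA, neg_zero])]
    simp only [mul_assoc, mul_neg, neg_mul]

/-- the form of an anti-automorphism of order 2 -/
theorem Anti.invol [CharP K 3] {g : GL chevE8.Idx K} {q q' : Fin 2 → Matrix (Fin 5) (Fin 5) K} (h : Anti g q q')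
    (h2 : g * g = 1) (c : Fin 2) {A : Matrix (Fin 5) (Fin 5) K} (hA : A.trace = 0) :
    q' c * (q' c * Aᵀ * q c)ᵀ * q c = A := by
  have h3 := trace_anti (h.mi c) A
  rw [hA, neg_zero] at h3
  have h1 := h.act c _ h3
  rw [← h.act c A hA, Matrix.mulVec_mulVec, ← Units.val_mul, h2, Units.val_one, Matrix.one_mulVec,
    Matrix.transpose_neg, mul_neg, neg_mul, neg_neg] at h1
  refine (io1_inj c hA ?_ h1).symm
  have h4 := trace_anti (h.mi c) (q' c * Aᵀ * q c)
  rw [Matrix.trace_neg, neg_inj] at h4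
  rw [h4]
  rw [Matrix.trace_neg, neg_eq_zero] at h3
  exact h3

/-- the combined form on `io` -/
theorem Anti.io_act {g : GL chevE8.Idx K} {q q' : Fin 2 → Matrix (Fin 5) (Fin 5) K} (h : Anti g q q')
    {A0 A1 : Matrix (Fin 5) (Fin 5) K} (h0 : A0.trace = 0) (h1 : A1.trace = 0) :
    (g : Matrix chevE8.Idx chevE8.Idx K) *ᵥ io K (A0, A1) =
      io K (-(q' 0 * A0ᵀ * q 0), -(q' 1 * A1ᵀ * q 1)) := by
  rw [io_eq, io_eq, Matrix.mulVec_add, h.act 0 A0 h0, h.act 1 A1 h1]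

theorem Acts.io_act {g : GL chevE8.Idx K} {P P' : Fin 2 → Matrix (Fin 5) (Fin 5) K} (h : Acts g P P')
    {A0 A1 : Matrix (Fin 5) (Fin 5) K} (h0 : A0.trace = 0) (h1 : A1.trace = 0) :
    (g : Matrix chevE8.Idx chevE8.Idx K) *ᵥ io K (A0, A1) = io K (P 0 * A0 * P' 0, P 1 * A1 * P' 1) := by
  rw [io_eq, io_eq, Matrix.mulVec_add, h.act 0 A0 h0, h.act 1 A1 h1]

end Cfsg.Agent.H239.E8P
end

-- part: H277/E83/Symm
section
/-!
# S5925, box F: a symmetric matrix from an involution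

If `A ↦ q⁻¹ (q⁻¹ Aᵀ q)ᵀ q` fixes all `E_ij`, `i ≠ j` (five by five matrices over a field), then `q`
is symmetric.
-/

set_option autoImplicit false

namespace Cfsg.Agent.H277.E83

open Matrix

theorem symm_of_invol {K : Type*} [Field K] (q q' : Matrix (Fin 5) (Fin 5) K) (h1 : q * q' = 1)
    (h2 : q' * q = 1)
    (hi : ∀ i j : Fin 5, i ≠ j →
      q' * (q' * (Matrix.single i j (1 : K))ᵀ * q)ᵀ * q = Matrix.single i j 1) : qᵀ = q := by
  have t1 : q'ᵀ * qᵀ = 1 := by rw [← Matrix.transpose_mul, h1, Matrix.transpose_one]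
  have t2 : qᵀ * q'ᵀ = 1 := by rw [← Matrix.transpose_mul, h2, Matrix.transpose_one]
  have hMM : (q'ᵀ * q) * (q' * qᵀ) = 1 := by
    rw [Matrix.mul_assoc, ← Matrix.mul_assoc q, h1, Matrix.one_mul, t1]
  have hc : Pairwise fun i j : Fin 5 => Commute (Matrix.single i j (1 : K)) (q' * qᵀ) := by
    intro i j hij
    have h := hi i j hij
    rw [Matrix.transpose_mul, Matrix.transpose_mul, Matrix.transpose_transpose] at h
    have h' : (q' * qᵀ) * Matrix.single i j (1 : K) * (q'ᵀ * q) = Matrix.single i j 1 := by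
      refine Eq.trans ?_ h
      simp only [Matrix.mul_assoc]
    show Matrix.single i j (1 : K) * (q' * qᵀ) = (q' * qᵀ) * Matrix.single i j (1 : K)
    calc Matrix.single i j (1 : K) * (q' * qᵀ)
        = (q' * qᵀ) * Matrix.single i j (1 : K) * (q'ᵀ * q) * (q' * qᵀ) := by rw [h']
      _ = (q' * qᵀ) * Matrix.single i j (1 : K) := by
          rw [Matrix.mul_assoc _ (q'ᵀ * q), hMM, Matrix.mul_one]
  obtain ⟨l, hl⟩ := Matrix.mem_range_scalar_of_commute_single hc
  have hq : qᵀ = l • q := by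
    have := congrArg (fun M => q * M) hl
    simp only [← Matrix.mul_assoc, h1, Matrix.one_mul] at this
    rw [← this, Matrix.scalar_apply, ← Matrix.smul_eq_mul_diagonal]
  have hq2 : q = (l * l) • q := by
    conv_lhs => rw [← Matrix.transpose_transpose q, hq, Matrix.transpose_smul, hq, smul_smul]
  have hl2 : l * l = 1 := by
    have h := congrArg (fun M => (q' * M) 0 0) hq2
    simp only [Matrix.mul_smul, h2, Matrix.smul_apply, Matrix.one_apply_eq, smul_eq_mul,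
      mul_one] at h
    exact h.symm
  have hd : q.det ≠ 0 := by
    intro h0
    have := congrArg Matrix.det h1
    rw [Matrix.det_mul, h0, zero_mul, Matrix.det_one] at this
    exact zero_ne_one this
  have hl5 : l ^ 5 = 1 := by
    have h := congrArg Matrix.det hq
    rw [Matrix.det_transpose, Matrix.det_smul, Fintype.card_fin] at h
    have : (l ^ 5 - 1) * q.det = 0 := by linear_combination -h
    rcases mul_eq_zero.1 this with h | h
    · exact sub_eq_zero.1 h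
    · exact absurd h hd
  have hl1 : l = 1 := by
    calc l = l ^ 5 - (l * l - 1) * (l * l + 1) * l := by ring
      _ = 1 := by rw [hl5, hl2]; ring
  rw [hq, hl1, one_smul]

end Cfsg.Agent.H277.E83
end

-- part: H239/E8P/Core
section
/-!
# S5925, box F (P7): assembly (helper239)
-/

set_option autoImplicit false
set_option linter.unusedSectionVars false

namespace Cfsg.Agent.H239.E8P

open Cfsg.Lie Cfsg.Agent.ChevalleyStructure Cfsg.Agent.ChevalleyStructure.Elts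
open Cfsg.Agent.H576.E8L
open Matrix

universe u

variable {K : Type u} [Field K]

theorem det_unit {q q' : Matrix (Fin 5) (Fin 5) K} (h : q * q' = 1) : IsUnit q.det := by
  have h1 := congrArg Matrix.det h
  rw [Matrix.det_mul, Matrix.det_one] at h1
  exact IsUnit.of_mul_eq_one _ h1

/-- **the element `t` with `t h t⁻¹ = h⁻¹`**: from the lift `t₀` of `-1` and the centralizer of `h` -/
theorem core [CharP K 3] {t t₀ m s : GL chevE8.Idx K}
    (hm : m ∈ Subgroup.closure {x : GL chevE8.Idx K | ∃ (c : Fin 2) (i j : Fin 5) (a : K), i ≠ j ∧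
      x = xG hE (RT c i j) a})
    (hs : s ∈ chevE8.diagonalSubgroup K) {d : Fin 2 → Fin 5 → K} (hd : ∀ c i, d c i * d c i = 1)
    (h0 : ∀ c (A : Matrix (Fin 5) (Fin 5) K), A.trace = 0 → (t₀ : Matrix chevE8.Idx chevE8.Idx K) *ᵥ io1 K c A =
      io1 K c (-(Matrix.diagonal (d c) * Aᵀ * Matrix.diagonal (d c))))
    (ht : t = m * s * t₀) (h2 : t * t = 1) :
    ∃ q0 q1 : Matrix (Fin 5) (Fin 5) K, IsUnit q0.det ∧ IsUnit q1.det ∧ q0ᵀ = q0 ∧ q1ᵀ = q1 ∧
      ∀ A0 A1 : Matrix (Fin 5) (Fin 5) K, A0.trace = 0 → A1.trace = 0 →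
        (t : Matrix chevE8.Idx chevE8.Idx K) *ᵥ io K (A0, A1) = io K (-(q0⁻¹ * A0ᵀ * q0), -(q1⁻¹ * A1ᵀ * q1)) := by
  obtain ⟨P, P', hP⟩ := acts_closure (s := {x : GL chevE8.Idx K | ∃ (c : Fin 2) (i j : Fin 5) (a : K), i ≠ j ∧
      x = xG hE (RT c i j) a}) (by
    rintro x ⟨c, i, j, a, hij, rfl⟩
    exact acts_xG c hij a) hm
  obtain ⟨R, R', hR⟩ := acts_diag hs
  have hdd : ∀ c, Matrix.diagonal (d c) * Matrix.diagonal (d c) = 1 := by
    intro c
    rw [Matrix.diagonal_mul_diagonal, ← Matrix.diagonal_one]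
    congr 1
    funext i
    exact hd c i
  have hA0 : Anti t₀ (fun c => Matrix.diagonal (d c)) (fun c => Matrix.diagonal (d c)) := ⟨hdd, hdd, h0⟩
  have hA := (hP.mul hR).mul_anti hA0
  rw [← ht] at hA
  obtain ⟨q, hq⟩ : ∃ q : Fin 2 → Matrix (Fin 5) (Fin 5) K, q = fun c => Matrix.diagonal (d c) * (R' c * P' c) :=
    ⟨_, rfl⟩
  obtain ⟨q', hq'⟩ : ∃ q' : Fin 2 → Matrix (Fin 5) (Fin 5) K, q' = fun c => P c * R c * Matrix.diagonal (d c) :=
    ⟨_, rfl⟩
  rw [← hq, ← hq'] at hA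
  have hsym : ∀ c, (q c)ᵀ = q c := fun c =>
    Cfsg.Agent.H277.E83.symm_of_invol (q c) (q' c) (hA.mi c) (hA.im c) fun i j hij =>
      hA.invol h2 c (Matrix.trace_single_eq_of_ne i j _ hij)
  have hinv : ∀ c, (q c)⁻¹ = q' c := fun c => Matrix.inv_eq_right_inv (hA.mi c)
  refine ⟨q 0, q 1, det_unit (hA.mi 0), det_unit (hA.mi 1), hsym 0, hsym 1, fun A0 A1 h0 h1 => ?_⟩
  rw [hinv, hinv]
  exact hA.io_act h0 h1

end Cfsg.Agent.H239.E8P
end

-- part: H238/E8/Cent5
section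
/-!
# The centraliser in `E₈(k)` of the element of order 5 with centraliser `A₄A₄` (helper238; S5925 box F, piece B2)
-/

set_option autoImplicit false
set_option linter.unusedSectionVars false
set_option maxRecDepth 100000

namespace Cfsg.Agent.H238.E8

open CoxeterSystem Matrix Cfsg Cfsg.Lie Cfsg.Lie.ChevalleyDatum
open Cfsg.Agent.ChevalleyStructure Cfsg.Agent.ChevalleyStructure.Elts Cfsg.Agent.ChevalleyStructure.CoxeterGeom
  Cfsg.Agent.ChevalleyStructure.CoxeterGeomTypes Cfsg.Agent.ChevalleyStructure.NPerm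
  Cfsg.Agent.ChevalleyStructure.RootVec Cfsg.Agent.ChevalleyStructure.RootVecTab
open Cfsg.Agent.Tits.Roots Cfsg.Agent.Tits.Core Cfsg.Agent.Nodes Cfsg.Agent.Nodes.Reps Cfsg.Agent.Nodes.BNOf
  Cfsg.Agent.Nodes.RGDChev Cfsg.Agent.Nodes.Bruhat Cfsg.Agent.Nodes.SubComb Cfsg.Agent.Nodes.Coroot
  Cfsg.Agent.Nodes.NormalForm
open Cfsg.Agent.KFacts.RgdField Cfsg.Agent.KFacts.RgdChevCoord Cfsg.Agent.BpExc.TorCent Cfsg.Agent.BpExc.TorChev
open Cfsg.Agent.GpExc.Field Cfsg.Agent.BpExc.Tow Cfsg.Agent.BpExc.TowChev Cfsg.Agent.BpExc.Fr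
  Cfsg.Agent.BpExc.LangFr Cfsg.Agent.LangThm Cfsg.Agent.BpExc Cfsg.Agent.H129.TorusChar Cfsg.Agent.H129.TorusMain
open Cfsg.Agent.H720.TorusReal Cfsg.Agent.Nodes.Unique Cfsg.Agent.H897.T5Cent
open Cfsg.Agent.BpExc.FamUntw Cfsg.Agent.BpExc.FamInst Cfsg.Agent.BpExc.FamField
open Cfsg.Agent.H942.E8Tab Cfsg.Agent.H942.E8Alc Cfsg.Agent.H942.CB
open Cfsg.Agent.H944.Tab Cfsg.Agent.H944.Kac
open Cfsg.Agent.H540.E8C (KK)
open Cfsg.Agent.H992.E8X (X hE8)
open Cfsg.Agent.H239.E8P (mv RT RT_lt mem_of_mv)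

theorem con5 : Con e8T cs8 lf 3 5 :=
  con_of_frm' (p := 3) e8T cs8 lf frm8 invC_E8 (N := 5) (Nat.coprime_one_left 5) (by norm_num) (by norm_num)

theorem zpow_eq_one_of {w : KK} (hw : w ^ 5 = 1) (hw1 : w ≠ 1) {m : ℤ} (h : w ^ m = 1) : m % 5 = 0 := by
  have h5 : orderOf w = 5 := by
    have : Fact (Nat.Prime 5) := ⟨by norm_num⟩
    exact orderOf_eq_prime hw hw1
  have hp : IsPrimitiveRoot w 5 := by rw [← h5]; exact IsPrimitiveRoot.orderOf w
  exact Int.emod_eq_zero_of_dvd (by exact_mod_cast (hp.zpow_eq_one_iff_dvd m).1 h)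

/-- **Piece B2.** -/
theorem B2 {w : KK} (hw : w ^ 5 = 1) (hw1 : w ≠ 1) {h c : GL chevE8.Idx KK} (hh : h ∈ chevE8.diagonalSubgroup KK)
    (hm : (h : Matrix chevE8.Idx chevE8.Idx KK) =
      Matrix.diagonal (Sum.elim (fun _ => (1 : KK)) (fun s : Fin chevE8.nroots => w ^ mv s.val)))
    (hc : c ∈ chevE8.group KK) (hch : c * h = h * c) :
    ∃ m ∈ Subgroup.closure {x : GL chevE8.Idx KK | ∃ (c : Fin 2) (i j : Fin 5) (t : KK), i ≠ j ∧
        x = xG Cfsg.Agent.H239.E8P.hE (RT c i j) t},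
      ∃ s ∈ chevE8.diagonalSubgroup KK, c = m * s := by
  have hw0 : w ≠ 0 := by
    rintro rfl
    exact zero_ne_one ((zero_pow (by norm_num)).symm.trans hw)
  have hle : chevE8.diagonalSubgroup KK ≤ chevE8.group KK := by
    refine (Subgroup.closure_le _).2 ?_
    rintro g ⟨r, t, hr, ht, hg⟩
    have h1 : g = hG hE8 r t := Units.ext (hg.trans (coe_hG hE8 r t).symm)
    rw [h1]
    exact hG_mem_group hE8 r t
  obtain ⟨h', rfl⟩ : ∃ h' : ↥(chevE8.group KK), (h' : GL chevE8.Idx KK) = h := ⟨⟨h, hle hh⟩, rfl⟩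
  obtain ⟨c', rfl⟩ : ∃ c' : ↥(chevE8.group KK), (c' : GL chevE8.Idx KK) = c := ⟨⟨c, hc⟩, rfl⟩
  have hT : h' ∈ TT chevE8 KK := Subgroup.mem_subgroupOf.2 hh
  have h5 : h' ^ 5 = 1 := by
    apply Subtype.ext
    rw [Subgroup.coe_pow, Subgroup.coe_one]
    apply Units.ext
    rw [Units.val_pow_eq_pow_val, hm, Matrix.diagonal_pow, Units.val_one, ← Matrix.diagonal_one]
    congr 1
    funext i
    rcases i with i | s
    · rw [Pi.pow_apply, Sum.elim_inl, one_pow]
    · rw [Pi.pow_apply, Sum.elim_inr, ← zpow_natCast, ← _root_.zpow_mul, _root_.mul_comm, _root_.zpow_mul,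
        zpow_natCast, hw, _root_.one_zpow]
  have hcm : c' * h' = h' * c' := Subtype.ext hch
  have hX : ∀ s : Fin chevE8.nroots, cX e8T h' (vec chevE8 8 s) = w ^ mv s.val := by
    intro s
    have h1 := TT_diag' e8T hT
    rw [hm] at h1
    have h3 := congrFun (congrFun h1 (Sum.inr s)) (Sum.inr s)
    rw [Matrix.diagonal_apply_eq, Matrix.diagonal_apply_eq] at h3
    exact h3.symm
  obtain ⟨m, hm', s, hs, rfl⟩ := cent_form e8T cs8 lf 3 con5 hT h5 hcm
  set CL := Subgroup.closure {x : GL chevE8.Idx KK | ∃ (c : Fin 2) (i j : Fin 5) (t : KK), i ≠ j ∧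
        x = xG Cfsg.Agent.H239.E8P.hE (RT c i j) t} with hCL
  have h2 : Cfsg.Agent.H795.SetCent.MMZ cs8 e8T.isCartan (XX chevE8 8 KK) (ch e8T) {h'} ≤
      CL.subgroupOf (chevE8.group KK) := by
    refine RGD.Sup_le fun a ha => ?_
    obtain ⟨r, hr, rfl⟩ := (isRoot_iff e8T cs8 a).1 ha.1
    have h3 := ha.2 _ rfl
    rw [← cX_vec e8T hT hr, hX ⟨r, hr⟩] at h3
    obtain ⟨c, i, j, hij, h6⟩ := mem_of_mv r hr (zpow_eq_one_of hw hw1 h3)
    intro g hg
    obtain ⟨a, rfl⟩ := (mem_XX hr).1 hg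
    rw [Subgroup.mem_subgroupOf, coe_xc e8T hr]
    exact Subgroup.subset_closure ⟨c, i, j, a, hij, by rw [← h6]⟩
  exact ⟨m, Subgroup.mem_subgroupOf.1 (h2 hm'), s, Subgroup.mem_subgroupOf.1 hs, rfl⟩

end Cfsg.Agent.H238.E8
end

-- part: H277/E83/HForm
section
/-!
# S5925, box F: the matrix of the torus element of order five

* `YY_form` : helper576's `YY w h` has the diagonal entries `w ^ mv s` (`H239.E8P.mv`) and lies in the diagonal
  subgroup (`YY_diag`);
* `hform_chi`, `hform_simple` : the same form from the values `w ^ (4, 4, 4, 4, 1, 4, 4, 4)` on the simple roots.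
-/

set_option autoImplicit false
set_option maxRecDepth 100000

namespace Cfsg.Agent.H277.E83

open Matrix Cfsg Cfsg.Lie Cfsg.Agent.ChevalleyStructure Cfsg.Agent.ChevalleyStructure.Elts
  Cfsg.Agent.ChevalleyStructure.RootVec
open Cfsg.Agent.ChevalleyStructure.CoxeterGeomTypes
open Cfsg.Agent.Nodes.RGDChev Cfsg.Agent.KFacts.RgdChevCoord Cfsg.Agent.H129.TorusChar
open Cfsg.Agent.H942.E8Tab Cfsg.Agent.H942.CB
open Cfsg.Agent.H992.E8X (X hE8)
open Cfsg.Agent.H610.ChevRegular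
open Cfsg.Agent.H238.E8
open Cfsg.Agent.H576.E8L (YY YY_mat mx)
open Cfsg.Agent.H239.E8P (mv yv)

theorem mx_mv : ∀ s < 240, (mx s - mv s) % 5 = 0 := by (delta Cfsg.Agent.ChevalleyStructure.HMatDiagAll.expo Cfsg.Agent.H239.E8P.cof Cfsg.Agent.H239.E8P.mv Cfsg.Agent.H576.E8L.mx; rewrite [Cfsg.Agent.ChevFast.E8.chainEntry, Cfsg.Agent.ChevFast.E8.coroot, Cfsg.Agent.ChevFast.E8.neg]; open scoped Cfsg.Agent.ChevFast.Lin in decide +kernel)

theorem YY_form {K : Type} [Field K] {w : Kˣ} (h : w ^ 5 = 1) :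
    (((YY w h : ↥(chevE8.group K)) : GL chevE8.Idx K) : Matrix chevE8.Idx chevE8.Idx K) =
      Matrix.diagonal (Sum.elim (fun _ => (1 : K)) (fun s => (w : K) ^ (mv s.val))) := by
  rw [YY_mat]
  congr 2
  funext s
  rw [← Units.val_zpow_eq_zpow_val]
  congr 1
  obtain ⟨c, hc⟩ := Int.dvd_of_emod_eq_zero (mx_mv s.val s.2)
  have h5 : w ^ (5 * c) = 1 := by
    rw [_root_.zpow_mul, show (5 : ℤ) = ((5 : ℕ) : ℤ) from rfl, zpow_natCast, h, _root_.one_zpow]
  rw [← hc, _root_.zpow_sub] at h5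
  exact mul_inv_eq_one.1 h5

theorem YY_TT {K : Type} [Field K] {w : Kˣ} (h : w ^ 5 = 1) : YY w h ∈ TT chevE8 K :=
  mul_mem (ph1_dg _ (Cfsg.Agent.H576.E8L.dw_prod h)).1 (ph2_dg _ (Cfsg.Agent.H576.E8L.dw_prod h)).1

theorem YY_diag {K : Type} [Field K] {w : Kˣ} (h : w ^ 5 = 1) :
    ((YY w h : ↥(chevE8.group K)) : GL chevE8.Idx K) ∈ chevE8.diagonalSubgroup K :=
  Subgroup.mem_subgroupOf.1 (YY_TT h)

end Cfsg.Agent.H277.E83
end

-- part: H239/E8P/P7
section
/-!
# S5925, box F (P7): the element inverting `h = φ₁(Yd) φ₂(Yd)` (helper239)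
-/

set_option autoImplicit false
set_option linter.unusedSectionVars false

namespace Cfsg.Agent.H239.E8P

open Cfsg.Lie Cfsg.Agent.ChevalleyStructure Cfsg.Agent.ChevalleyStructure.Elts
open Cfsg.Agent.H576.E8L
open Cfsg.Agent.H540.E8C (KK)
open Matrix

/-- **Box F**: an involution inverting `h` acts on the two copies of `sl₅` as `A ↦ -q⁻¹ Aᵀ q` with symmetric `q` -/
theorem p7 {w : KKˣ} (h5 : w ^ 5 = 1) (hw : w ≠ 1) {T : ↥(chevE8.group KK)}
    (hT : T * YY w h5 * T⁻¹ = (YY w h5)⁻¹) (h2 : T * T = 1) :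
    ∃ q0 q1 : Matrix (Fin 5) (Fin 5) KK, IsUnit q0.det ∧ IsUnit q1.det ∧ q0ᵀ = q0 ∧ q1ᵀ = q1 ∧
      ∀ A0 A1 : Matrix (Fin 5) (Fin 5) KK, A0.trace = 0 → A1.trace = 0 →
        ((T : GL chevE8.Idx KK) : Matrix chevE8.Idx chevE8.Idx KK) *ᵥ io KK (A0, A1) =
          io KK (-(q0⁻¹ * A0ᵀ * q0), -(q1⁻¹ * A1ᵀ * q1)) := by
  obtain ⟨t0, ht0, hinv, d, hd, hact⟩ := Cfsg.Agent.H238.E8.B1
  have hYd := Cfsg.Agent.H277.E83.YY_diag (K := KK) h5
  have hYf := Cfsg.Agent.H277.E83.YY_form (K := KK) h5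
  have hT' : (T : GL chevE8.Idx KK) * (YY w h5 : GL chevE8.Idx KK) * (T : GL chevE8.Idx KK)⁻¹ =
      (YY w h5 : GL chevE8.Idx KK)⁻¹ := congrArg Subtype.val hT
  have h2' : (T : GL chevE8.Idx KK) * (T : GL chevE8.Idx KK) = 1 := congrArg Subtype.val h2
  obtain ⟨Y, hY⟩ : ∃ Y : GL chevE8.Idx KK, Y = (YY w h5 : GL chevE8.Idx KK) := ⟨_, rfl⟩
  rw [← hY] at hYd hYf hT'
  have h1 := hinv Y⁻¹ (inv_mem hYd)
  rw [inv_inv] at h1
  have e1 : t0⁻¹ * Y = Y⁻¹ * t0⁻¹ := by
    rw [inv_mul_eq_iff_eq_mul, ← mul_assoc, h1, mul_inv_cancel_right]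
  have e2 : (T : GL chevE8.Idx KK) * Y⁻¹ = Y * T := by
    have h3 : (T : GL chevE8.Idx KK) * Y = Y⁻¹ * T := mul_inv_eq_iff_eq_mul.1 hT'
    rw [mul_inv_eq_iff_eq_mul, mul_assoc, h3, mul_inv_cancel_left]
  have hc : ((T : GL chevE8.Idx KK) * t0⁻¹) * Y = Y * ((T : GL chevE8.Idx KK) * t0⁻¹) := by
    rw [mul_assoc, e1, ← mul_assoc, e2, mul_assoc]
  obtain ⟨m, hm, s, hs, hms⟩ := Cfsg.Agent.H238.E8.B2 (w := (w : KK)) (by
    rw [← Units.val_pow_eq_pow_val, h5, Units.val_one]) (fun h => hw (Units.ext h)) hYd hYf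
    (mul_mem T.2 (inv_mem ht0)) hc
  exact core hm hs hd hact (by rw [← hms, inv_mul_cancel_right]) h2'

end Cfsg.Agent.H239.E8P
end

-- part: H238/E8/Up
section
/-!
# S5925: from an element `t` of `E₈(3)` to the structure `PNine` over the algebraic closure (helper238)
-/

set_option autoImplicit false
set_option linter.unusedSectionVars false
set_option linter.style.longLine false

namespace Cfsg.Agent.H238.E8

open Matrix Cfsg Cfsg.Lie Cfsg.Agent.ChevalleyStructure Cfsg.Agent.ChevalleyStructure.Elts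
open Cfsg.Agent.H992.E8X Cfsg.Agent.H576.E8L
open Cfsg.Agent.H114.E8L (G3 L3 ac MoS FrS)
open Cfsg.Agent.H791.E8L (Rel)
open Cfsg.Agent.H908.E8L (Mo Fr)
open Cfsg.Agent.H183.E8F (NN)
open Cfsg.Agent.H540.E8C (KK)
open Cfsg.Agent.GpExc.Field (emb coe_emb)
open Cfsg.Agent.BpExc.FamUntw (phi)
open Cfsg.Agent.H879.E83 (PNine Mh Q2 sX Mt)

/-- base change of a matrix, tested by a functional -/
theorem dual_mulVec {F K : Type*} [Field F] [Field K] [Algebra F K] {n : Type*} [Fintype n] (φ : K →ₗ[F] F)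
    (A : Matrix n n F) (v : n → K) :
    (fun i => φ ((A.map (algebraMap F K) *ᵥ v) i)) = A *ᵥ fun i => φ (v i) := by
  funext i
  simp only [Matrix.mulVec, dotProduct, Matrix.map_apply, map_sum]
  refine Finset.sum_congr rfl fun j _ => ?_
  rw [← Algebra.smul_def, map_smul, smul_eq_mul]

/-- a linear identity on fixed vectors over `F` holds over `K` -/
theorem sum_base {F K : Type*} [Field F] [Field K] [Algebra F K] {n : Type*} [Fintype n] (A B : Matrix n n F)
    (C : ℕ → Matrix n n F) (m : ℕ) (h : ∀ v : n → F, A *ᵥ v = v → B *ᵥ v = v → v + ∑ i ∈ Finset.range m, C i *ᵥ v = 0)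
    (v : n → K) (h1 : A.map (algebraMap F K) *ᵥ v = v) (h2 : B.map (algebraMap F K) *ᵥ v = v) :
    v + ∑ i ∈ Finset.range m, (C i).map (algebraMap F K) *ᵥ v = 0 := by
  funext j
  rw [Pi.zero_apply]
  refine (Module.forall_dual_apply_eq_zero_iff F _).1 fun φ => ?_
  have e1 := dual_mulVec φ A v
  have e2 := dual_mulVec φ B v
  rw [h1] at e1
  rw [h2] at e2
  have h3 := congrFun (h (fun i => φ (v i)) e1.symm e2.symm) j
  rw [Pi.add_apply, Finset.sum_apply, Pi.zero_apply] at h3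
  rw [Pi.add_apply, Finset.sum_apply, map_add, map_sum, ← h3]
  congr 1
  refine Finset.sum_congr rfl fun i _ => ?_
  exact congrFun (dual_mulVec φ (C i) v) j

theorem sX_apply {K V : Type*} [Field K] [AddCommGroup V] [Module K V] (A : Module.End K V) (v : V) :
    sX A v = ∑ i ∈ Finset.range 11, (A ^ i) v := by
  unfold sX
  simp only [Finset.sum_range_succ, Finset.sum_range_zero, LinearMap.add_apply, pow_zero, pow_one, zero_add]

theorem En_mul (a b : ↥(chevE8.group KK)) (v : chevE8.Idx → KK) : En (a * b) v = En a (En b v) := by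
  rw [map_mul]; rfl

theorem En_inv (z : ↥(chevE8.group KK)) (v : chevE8.Idx → KK) : En z⁻¹ (En z v) = v := by
  rw [← En_mul, inv_mul_cancel, map_one]; rfl

theorem En_key (z a : ↥(chevE8.group KK)) (v : chevE8.Idx → KK) : En a (En z v) = En z (En (z⁻¹ * a * z) v) := by
  rw [← En_mul, ← En_mul]
  have : a * z = z * (z⁻¹ * a * z) := by group
  rw [this]

theorem hsum_emb {x y t : G3}
    (hQ : ∀ v : L3, ac x v = v → ac y v = v → v + ∑ i ∈ Finset.range 11, ac (x ^ i) (ac t v) = 0)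
    (v : chevE8.Idx → KK) (hx : En (emb hE8 f3 x) v = v) (hy : En (emb hE8 f3 y) v = v) :
    v + ∑ i ∈ Finset.range 11, En (emb hE8 f3 (x ^ i * t)) v = 0 := by
  have e : ∀ g : G3, En (emb hE8 f3 g) v = ((g : GL chevE8.Idx (ZMod 3)) : Matrix chevE8.Idx chevE8.Idx (ZMod 3)).map
      (algebraMap (ZMod 3) KK) *ᵥ v := fun g => En_apply _ _
  rw [e] at hx hy
  simp only [e]
  refine sum_base _ _ (fun i => ((x ^ i * t : G3) : GL chevE8.Idx (ZMod 3)).1) 11 (fun u h1 h2 => ?_) v hx hy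
  rw [← hQ u h1 h2]
  exact congrArg (u + ·) (Finset.sum_congr rfl fun i _ => Cfsg.Agent.H114.E8L.ac_mul _ _ _)

theorem up {g : KK} (hg : g ^ 4 = 1 - g) {z : ↥(chevE8.group KK)} {X : SpecialLinearGroup (Fin 5) KK}
    (hN : z⁻¹ * phi chevE8 KK 3 1 z = NN KK)
    (hx : z⁻¹ * emb hE8 f3 (ph2 (ZMod 3) Mo) * z = ph2 KK X)
    (hy : z⁻¹ * emb hE8 f3 (ph2 (ZMod 3) Fr * ph1 (ZMod 3) Fr) * z = YY (wU g hg) (wU_pow hg))
    {t : G3} (h : Rel (ph2 (ZMod 3) Mo) (ph2 (ZMod 3) Fr * ph1 (ZMod 3) Fr) t)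
    (htab : Tbl g (ph2 KK X))
    (hQ : ∀ v : L3, ac (ph2 (ZMod 3) Mo) v = v → ac (ph2 (ZMod 3) Fr * ph1 (ZMod 3) Fr) v = v →
      v + ∑ i ∈ Finset.range 11, ac (ph2 (ZMod 3) Mo ^ i) (ac t v) = 0) :
    ∃ q : Mt KK, PNine g q ∧ ∀ A0 A1 : Mt KK, A0.trace = 0 → A1.trace = 0 →
      (((z⁻¹ * emb hE8 f3 t * z : ↥(chevE8.group KK)) : GL chevE8.Idx KK) : Matrix chevE8.Idx chevE8.Idx KK) *ᵥ
        iota g (A0, A1) = iota g (-(Mh q * A0ᵀ * q), -(Q2 (Mh q) * A1ᵀ * Q2 q)) := by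
  let c : G3 →* ↥(chevE8.group KK) := ((MulAut.conj z⁻¹).toMonoidHom).comp (emb hE8 f3)
  have hc : ∀ a : G3, c a = z⁻¹ * emb hE8 f3 a * z := fun a => by
    show z⁻¹ * emb hE8 f3 a * z⁻¹⁻¹ = _
    rw [inv_inv]
  have hR := h.map c
  rw [hc, hc, hc, hx, hy] at hR
  obtain ⟨T, hTd⟩ : ∃ T, T = z⁻¹ * emb hE8 f3 t * z := ⟨_, rfl⟩
  rw [← hTd] at hR ⊢
  obtain ⟨r1, r2, r3, r4, r5, r6⟩ := hR
  have hti : T⁻¹ = T := inv_eq_of_mul_eq_one_right r3
  have r6' : T * YY (wU g hg) (wU_pow hg) * T⁻¹ = (YY (wU g hg) (wU_pow hg))⁻¹ := by rw [hti]; exact r6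
  obtain ⟨q0, q1, h0, h1, hs0, hs1, hio⟩ := Cfsg.Agent.H239.E8P.p7 (wU_pow hg) (wU_ne hg) r6' r3
  have hphi : NN KK * phi chevE8 KK 3 1 T = T * NN KK := by
    rw [hTd, map_mul, map_mul, map_inv, Cfsg.Agent.H138.E8L.Zed.phi_emb3]
    have h4 : phi chevE8 KK 3 1 z = z * NN KK := by rw [← hN]; group
    rw [h4]
    group
  obtain ⟨Y, hYd⟩ : ∃ Y, Y = YY (wU g hg) (wU_pow hg) := ⟨_, rfl⟩
  obtain ⟨P, hPd⟩ : ∃ P, P = ph2 KK X := ⟨_, rfl⟩
  rw [← hPd] at r4
  rw [← hYd, ← hPd] at r5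
  rw [← hYd] at r6
  have r7 : Y * P = P ^ 3 * Y := by rw [← r5]; group
  have r8 : T * Y = Y⁻¹ * T := by rw [← r6]; simp only [mul_assoc, r3, mul_one]
  have r9 : T * P * T = P⁻¹ * T * P⁻¹ := by
    have h3 : P * T * (P * T) * (P * T) = 1 := by rw [← r4, pow_succ, pow_two]
    calc T * P * T = P⁻¹ * (P * T * (P * T) * (P * T)) * (T⁻¹ * P⁻¹) := by group
      _ = P⁻¹ * T * P⁻¹ := by rw [h3, hti]; group
  rw [hYd, hPd] at r7
  rw [hYd] at r8
  rw [hPd] at r9
  refine pnine hg htab r1 r3 r7 r2 r8 r9 ?_ hphi h0 h1 hs0 hs1 hio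
  intro v hxv hyv
  have key : ∀ a : G3, En (emb hE8 f3 a) (En z v) = En z (En (z⁻¹ * emb hE8 f3 a * z) v) := fun a => En_key _ _ _
  have g1 := hsum_emb hQ (En z v) (by rw [key, hx, hxv]) (by rw [key, hy, hyv])
  have g2 := congrArg (En z⁻¹) g1
  rw [map_add, map_sum, map_zero, En_inv] at g2
  rw [sX_apply, ← g2]
  refine congrArg (v + ·) (Finset.sum_congr rfl fun i _ => ?_)
  show _ = En z⁻¹ (En (emb hE8 f3 (ph2 (ZMod 3) Mo ^ i * t)) (En z v))
  rw [key, En_inv, ← map_pow, ← En_mul, ← hx, hTd, ← hc, ← hc, ← hc, ← map_pow, ← map_mul]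

end Cfsg.Agent.H238.E8
end
end

-- part: H60/E83/Conj_mg
section
prune_inst 0x4000040400000000018008011000024000004020000000080200100000800002003000008000100000084400000000010000000404000000e000000000001000000020000000000000000000080000000000000000000000000000000000000000000000
set_option linter.all false
open scoped Cfsg.Agent.FastGrp

-- part: H60/E83/Diag
section
/-!
# S5925, gluing (I1): the elements of `E₈` which fix `L^y`, `y` of order 5 and type `A₄A₄` (helper60)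

* `exists_reg` : an element of the torus in the interior of the alcove;
* `mem_TT_of_diag` : a diagonal element of `E₈(K)` is in the torus;
* `diag_of_fix` : an element fixing the Cartan subalgebra is diagonal (characteristic three);
* `pow_of_fix` : an element fixing all the fixed vectors of `t₀` (order 5, type `A₄A₄`) is a power of `t₀`.
-/

set_option autoImplicit false
set_option linter.unusedSectionVars false
set_option maxRecDepth 100000

namespace Cfsg.Agent.H60.E83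

open CoxeterSystem Cfsg Cfsg.Lie Cfsg.Lie.ChevalleyDatum
open Cfsg.Agent.ChevalleyStructure Cfsg.Agent.ChevalleyStructure.Elts Cfsg.Agent.ChevalleyStructure.CoxeterGeom
  Cfsg.Agent.ChevalleyStructure.CoxeterGeomTypes Cfsg.Agent.ChevalleyStructure.RootVec
  Cfsg.Agent.ChevalleyStructure.RootVecTab
open Cfsg.Agent.ChevalleyStructure.Ring Cfsg.Agent.ChevalleyStructure.LieAut Cfsg.Agent.ChevalleyStructure.LieAbs
  Cfsg.Agent.ChevalleyStructure.JacMain
open Cfsg.Agent.Tits.Roots Cfsg.Agent.Tits.Core Cfsg.Agent.Nodes Cfsg.Agent.Nodes.Reps Cfsg.Agent.Nodes.BNOf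
  Cfsg.Agent.Nodes.RGDChev
open Cfsg.Agent.GpExc.Field Cfsg.Agent.BpExc.TowChev Cfsg.Agent.H129.TorusChar
open Cfsg.Agent.KFacts.RgdChevCoord
open Cfsg.Agent.H942.E8Tab Cfsg.Agent.H942.E8Alc Cfsg.Agent.H942.CB Cfsg.Agent.H944.Tab Cfsg.Agent.H944.Kac
open Cfsg.Agent.H288.E8L Cfsg.Agent.H540.E8C
open Matrix

/-! ### a regular element -/

/-- the heights -/
def Yh : List ℕ := [1, 1, 1, 1, 1, 1, 1, 1]

theorem isMC_zeta {ζ : K8} (hζ0 : ζ ≠ 0) (Y : List ℕ) : IsMC fun a : Fin 8 → ℤ => ζ ^ fz (YZ Y) a := ⟨by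
    show ζ ^ fz (YZ Y) 0 = 1
    have : fz (YZ Y) 0 = 0 := by unfold fz; simp
    rw [this, zpow_zero], fun a b => by
    show ζ ^ fz (YZ Y) (a + b) = _
    rw [fz_add, zpow_add₀ hζ0]⟩

/-- an element of the interior of the alcove -/
theorem exists_reg : ∃ (ζ : K8) (s : GK), IsPrimitiveRoot ζ 31 ∧ s ∈ TT chevE8 K8 ∧
    (∀ a, cX e8T s a = ζ ^ fz (YZ Yh) a) ∧ Reg s := by
  have hNne : NeZero ((31 : ℕ) : K8) := ⟨by
    have h3 : ((3 : ℕ) : K8) = 0 := CharP.cast_eq_zero K8 3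
    have h31 : ((31 : ℕ) : K8) = ((3 : ℕ) : K8) * 10 + 1 := by push_cast; norm_num
    rw [h31, h3, zero_mul, zero_add]
    exact one_ne_zero⟩
  obtain ⟨ζ, hζ⟩ := HasEnoughRootsOfUnity.exists_primitiveRoot K8 31
  have hζ0 : ζ ≠ 0 := hζ.ne_zero (by norm_num)
  obtain ⟨s, hs, hX⟩ := exists_cX e8T invC_E8 one_ne_zero (isMC_zeta hζ0 Yh) (fun i => ⟨_, pow_one _⟩)
  refine ⟨ζ, s, hζ, hs, hX, hs, fun a ha h => ?_⟩
  rw [hX, hζ.zpow_eq_one_iff_dvd] at h
  have hY : ∀ i < 8, 1 ≤ Yh.getD i 0 := by decide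
  have hN : dotN th8 Yh < 31 := by decide
  rcases ha.pos_or_neg with h1 | h1
  · obtain ⟨r, hr, rfl⟩ := mem_pos_iff.1 (⟨ha, h1⟩ : a ∈ RGD.Pos cs8 e8T.isCartan)
    have := Cfsg.Agent.H845.E8L.bound hY hN hr
    obtain ⟨m, hm⟩ := h
    push_cast at hm this
    omega
  · obtain ⟨r, hr, h2⟩ := mem_pos_iff.1 (⟨ha.neg, neg_nonneg.2 h1⟩ : -a ∈ RGD.Pos cs8 e8T.isCartan)
    have := Cfsg.Agent.H845.E8L.bound hY hN hr
    rw [← h2, Cfsg.Agent.H845.E8L.fz_neg] at this
    obtain ⟨m, hm⟩ := h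
    push_cast at hm this
    omega

/-- a diagonal element is in the torus -/
theorem mem_TT_of_diag {c : GK} (h : ∀ i k, i ≠ k → mx c i k = 0) : c ∈ TT chevE8 K8 := by
  obtain ⟨ζ, s, hζ, hs, hX, hreg⟩ := exists_reg
  have hc : mx c = Matrix.diagonal fun i => mx c i i := by
    ext i k
    by_cases hik : i = k
    · subst hik; rw [Matrix.diagonal_apply_eq]
    · rw [Matrix.diagonal_apply_ne _ hik, h i k hik]
  have hcs : c * s = s * c := by
    apply Subtype.ext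
    apply Units.ext
    show mx c * mx s = mx s * mx c
    rw [hc, mx_torus hs, Matrix.diagonal_mul_diagonal, Matrix.diagonal_mul_diagonal]
    congr 1
    funext i
    exact mul_comm _ _
  obtain ⟨w, hw⟩ := Cfsg.Agent.H857.E8L.nt s s c hs hreg hcs
  have hw1 : w = 1 := by
    refine Cfsg.Agent.H845.E8L.reg 31 Yh ζ s w rfl (by decide) (by decide) hζ hs (fun i => ?_) (fun x => ?_)
    · rw [hX, fz_sr, Cfsg.Agent.H845.E8L.YZ_getD, zpow_natCast]
    · have h1 := cX_rp e8T cs8 locFin8 3 hw hs x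
      rwa [hcs, mul_inv_cancel_right] at h1
  rw [hw1] at hw
  exact hw.mem_of_one

/-! ### elements fixing the Cartan subalgebra -/

/-- an element fixing the Cartan subalgebra is diagonal -/
theorem diag_of_fix {c : GK} (h : ∀ j : Fin chevE8.rank, mx c *ᵥ Pi.single (Sum.inl j) 1 = Pi.single (Sum.inl j) 1)
    (i k : chevE8.Idx) (hik : i ≠ k) : mx c i k = 0 := by
  rcases k with k | s
  · have h1 := congrFun (h k) i
    rw [Matrix.mulVec_single_one, Matrix.col_apply, Pi.single_eq_of_ne hik] at h1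
    exact h1
  · have hne : wt i ≠ wt (Sum.inr s) := by
      intro e
      exact hik (wt_inj e (by rw [e, wt_inr]; exact vec_ne_zero s))
    obtain ⟨j, hj⟩ := sep_field (K := K8) hne
    have h1 := aut c (Pi.single (Sum.inl j) 1)
    rw [h j, adv_single_one, adR_inl] at h1
    have h2 := congrFun (congrFun h1 i) (Sum.inr s)
    rw [Matrix.mul_diagonal, Matrix.diagonal_mul] at h2
    by_contra hne'
    apply hj
    rw [mul_comm] at h2
    exact (mul_right_cancel₀ hne' h2).symm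

/-! ### the lattice of the killed roots -/

/-- the lattice generated by the roots on which `Y` vanishes modulo 5 -/
def LY (Y : List ℕ) : AddSubgroup (Fin 8 → ℤ) := AddSubgroup.closure {a | Rt a ∧ (5 : ℤ) ∣ fz (YZ Y) a}

/-- an integral combination of roots -/
def cmb (l : List (ℤ × List ℕ)) (i : Fin 8) : ℤ := (l.map fun p => p.1 * (p.2.getD i 0 : ℤ)).sum

theorem cmb_mem {Y : List ℕ} : ∀ {l : List (ℤ × List ℕ)},
    (l.all fun p => R8.contains p.2 && Nat.beq (dotN p.2 Y % 5) 0) = true → (fun i => cmb l i) ∈ LY Y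
  | [], _ => by
    have : (fun i => cmb [] i) = 0 := by funext i; rfl
    rw [this]
    exact zero_mem _
  | p :: l, h => by
    rw [List.all_cons, Bool.and_eq_true, Bool.and_eq_true] at h
    obtain ⟨⟨h1, h2⟩, h3⟩ := h
    have e : (fun i => cmb (p :: l) i) = p.1 • toR p.2 + fun i => cmb l i := by
      funext i
      simp only [cmb, toR, _root_.List.getD_eq_getElem?_getD, _root_.List.map_cons, _root_.List.sum_cons, _root_.zsmul_eq_mul, _root_.Pi.add_apply, _root_.Pi.mul_apply, _root_.Pi.intCast_apply, _root_.Int.cast_eq]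
    rw [e]
    have hr : p.2 ∈ R8 := by simpa using h1
    refine add_mem ((LY Y).zsmul_mem (AddSubgroup.subset_closure ⟨?_, ?_⟩) _) (cmb_mem h3)
    · exact (mem_pos_iff.2 ⟨p.2, hr, rfl⟩).1
    · rw [fz_dotN hr]
      exact_mod_cast Nat.dvd_of_mod_eq_zero (by rwa [Nat.beq_eq] at h2)

/-- the certificate: `Q / L_Y` is cyclic of order 5 generated by a simple root -/
structure Gen (Y : List ℕ) (j : Fin 8) (m : Fin 8 → ℤ) : Prop where
  cop : Nat.Coprime (Y.getD j 0) 5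
  five : (5 : ℤ) • (sr j : Fin 8 → ℤ) ∈ LY Y
  all : ∀ i, (sr i : Fin 8 → ℤ) - m i • sr j ∈ LY Y

/-- the frame of helper114: `Y = (-1, -1, -1, -1, 1, -1, -1, -1)` -/
theorem gen_fr : Gen [4, 4, 4, 4, 1, 4, 4, 4] 4 ![-1, -1, -1, -1, 1, -1, -1, -1] := by
  refine ⟨by decide, ?_, ?_⟩
  · have h := cmb_mem (Y := [4, 4, 4, 4, 1, 4, 4, 4]) (l := [(-1, [1, 1, 2, 2, 2, 1, 0, 0]), (-1, [0, 1, 1, 2, 1, 1, 1, 0]),
      (1, [1, 1, 1, 2, 2, 1, 1, 0]), (-1, [1, 1, 2, 3, 2, 2, 2, 1]), (1, [1, 2, 2, 3, 3, 2, 2, 1]),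
      (-2, [1, 1, 1, 2, 1, 1, 0, 0]), (2, [1, 1, 2, 2, 2, 1, 0, 0]), (2, [0, 0, 0, 1, 1, 0, 0, 0]),
      (1, [0, 0, 0, 0, 1, 1, 0, 0])])
      (by decide +kernel)
    convert h using 1
    funext i
    (revert i; decide +kernel)
  · intro i
    have h := cmb_mem (Y := [4, 4, 4, 4, 1, 4, 4, 4]) (l := [[(-1, [0, 1, 1, 2, 1, 1, 1, 0]), (1, [1, 1, 1, 2, 2, 1, 1, 0])],
      [(-1, [1, 1, 2, 3, 2, 2, 2, 1]), (1, [1, 2, 2, 3, 3, 2, 2, 1])],
      [(-1, [1, 1, 1, 2, 1, 1, 0, 0]), (1, [1, 1, 2, 2, 2, 1, 0, 0])],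
      [(1, [0, 0, 0, 1, 1, 0, 0, 0])], [], [(1, [0, 0, 0, 0, 1, 1, 0, 0])],
      [(-1, [1, 1, 1, 2, 1, 1, 0, 0]), (1, [1, 1, 1, 2, 2, 1, 1, 0])],
      [(-1, [0, 1, 1, 2, 1, 1, 1, 0]), (1, [0, 1, 1, 2, 2, 1, 1, 1])]].getD (i : ℕ) [])
      (by revert i; decide +kernel)
    convert h using 1
    clear h
    funext k
    revert i k
    decide +kernel

/-! ### powers of `t₀` -/

/-- **an element fixing all the fixed vectors of `t₀` is a power of `t₀`** -/
theorem pow_of_fix {t0 c : GK} (ht : t0 ∈ TT chevE8 K8) {ζ : K8} (hζ : IsPrimitiveRoot ζ 5) {Y : List ℕ} {j : Fin 8}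
    {m : Fin 8 → ℤ} (hG : Gen Y j m) (hX : ∀ a, cX e8T t0 a = ζ ^ fz (YZ Y) a)
    (hc : ∀ v : chevE8.Idx → K8, mx t0 *ᵥ v = v → mx c *ᵥ v = v) : ∃ k : ℕ, c = t0 ^ k := by
  have hm0 := isMC_cX e8T ht
  have hfix : ∀ i : chevE8.Idx, cX e8T t0 (wt i) = 1 → mx c *ᵥ Pi.single i 1 = Pi.single i 1 := by
    intro i hi
    apply hc
    rw [mx_torus ht, Matrix.mulVec_single_one]
    funext k
    rw [Matrix.col_apply]
    by_cases hik : k = i
    · subst hik
      rw [Matrix.diagonal_apply_eq, Pi.single_eq_same, hi]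
    · rw [Matrix.diagonal_apply_ne _ hik, Pi.single_eq_of_ne hik]
  have hcT : c ∈ TT chevE8 K8 := mem_TT_of_diag (diag_of_fix fun j => hfix _ (by rw [wt_inl]; exact hm0.zero))
  have hmc := isMC_cX e8T hcT
  have hroot : ∀ a, Rt a → (5 : ℤ) ∣ fz (YZ Y) a → cX e8T c a = 1 := by
    intro a ha h5
    obtain ⟨s, rfl⟩ := exists_idx ha
    have h1 := hfix (Sum.inr s) (by rw [wt_inr, hX]; exact (hζ.zpow_eq_one_iff_dvd _).2 (by exact_mod_cast h5))
    have h2 := congrFun h1 (Sum.inr s)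
    rw [Matrix.mulVec_single_one, Matrix.col_apply, mx_torus hcT, Matrix.diagonal_apply_eq, Pi.single_eq_same, wt_inr] at h2
    exact h2
  have hL : ∀ {χ : (Fin 8 → ℤ) → K8}, IsMC χ → (∀ a, Rt a → (5 : ℤ) ∣ fz (YZ Y) a → χ a = 1) → ∀ a ∈ LY Y, χ a = 1 := by
    intro χ hχ h a ha
    refine AddSubgroup.closure_induction (fun x hx => h x hx.1 hx.2) hχ.zero (fun x y _ _ hx hy => ?_)
      (fun x _ hx => ?_) ha
    · rw [hχ.add, hx, hy, one_mul]
    · rw [hχ.neg, hx, inv_one]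
  have hLc := hL hmc hroot
  have hL0 := hL hm0 (fun a _ h5 => by rw [hX]; exact (hζ.zpow_eq_one_iff_dvd _).2 (by exact_mod_cast h5))
  have h5 : cX e8T c (sr j) ^ 5 = 1 := by
    have h1 := hLc _ hG.five
    rw [hmc.zsmul] at h1
    exact_mod_cast h1
  have hprim : IsPrimitiveRoot (cX e8T t0 (sr j)) 5 := by
    rw [hX, fz_sr, Cfsg.Agent.H845.E8L.YZ_getD, zpow_natCast]
    exact hζ.pow_of_coprime _ hG.cop
  obtain ⟨k, -, hk⟩ := hprim.eq_pow_of_pow_eq_one h5
  refine ⟨k, cX_inj e8T hcT (pow_mem ht k) fun i => ?_⟩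
  rw [cX_pow e8T ht]
  have e : (sr i : Fin 8 → ℤ) = (sr i - m i • sr j) + m i • sr j := by abel
  rw [e, hmc.add, hm0.add, hLc _ (hG.all i), hL0 _ (hG.all i), one_mul, one_mul, hmc.zsmul, hm0.zsmul, ← hk,
    ← zpow_natCast, ← zpow_natCast, ← _root_.zpow_mul, ← _root_.zpow_mul, mul_comm]

/-! ### over the field with three elements -/

/-- fixed vectors and extension of scalars -/
theorem base {F₀ K : Type*} [Field F₀] [Field K] [Algebra F₀ K] {n : Type*} [Fintype n] {A C : Matrix n n F₀}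
    (h : ∀ v, A *ᵥ v = v → C *ᵥ v = v) (v : n → K) (hv : A.map (algebraMap F₀ K) *ᵥ v = v) :
    C.map (algebraMap F₀ K) *ᵥ v = v := by
  have key : ∀ (D : Matrix n n F₀) (l : K →ₗ[F₀] F₀), (fun i => l ((D.map (algebraMap F₀ K) *ᵥ v) i)) = D *ᵥ fun i => l (v i) := by
    intro D l
    funext i
    simp only [Matrix.mulVec, dotProduct, Matrix.map_apply, map_sum]
    refine Finset.sum_congr rfl fun j _ => ?_
    rw [← Algebra.smul_def, map_smul, smul_eq_mul]
  funext i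
  rw [← sub_eq_zero, ← Module.forall_dual_apply_eq_zero_iff F₀]
  intro l
  have h1 := h (fun i => l (v i)) (by rw [← key A l, hv])
  rw [← key C l] at h1
  have h2 : l ((C.map (algebraMap F₀ K) *ᵥ v) i) = l (v i) := congrFun h1 i
  rw [map_sub, h2, sub_self]

/-- the matrix of an element of `E₈(3)` -/
abbrev my (g : G8) : Matrix chevE8.Idx chevE8.Idx (ZMod 3) := ((g : GL chevE8.Idx (ZMod 3)) : Matrix chevE8.Idx chevE8.Idx (ZMod 3))

theorem mx_emb8 (g : G8) : mx (emb8 g) = (my g).map (algebraMap (ZMod 3) K8) := by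
  show (((emb e8T.inList (algebraMap (ZMod 3) K8) g : GK) : GL chevE8.Idx K8) : Matrix chevE8.Idx chevE8.Idx K8) = _
  rw [coe_emb, coe_glMap]

/-- **(I1)** an element of `E₈(3)` fixing all the fixed vectors of `y` is a power of `y` -/
theorem pow_of_fix' {y c : G8} {Y : List ℕ} {j : Fin 8} {m : Fin 8 → ℤ} (hG : Gen Y j m) (hT : TorD e8T y 5 (vecL 5 Y))
    (hc : ∀ v : chevE8.Idx → ZMod 3, my y *ᵥ v = v → my c *ᵥ v = v) : ∃ k : ℕ, c = y ^ k := by
  obtain ⟨z, t, ζ, hζ, hz, htT, hv⟩ := hT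
  have hX : ∀ a, cX e8T t a = ζ ^ fz (YZ Y) a := cX_of_vals htT hζ (by norm_num) hv
  have hy : emb8 y = z * t * z⁻¹ := by
    rw [← hz]
    show emb e8T.inList (algebraMap (ZMod 3) K8) y = _
    group
  have hK : ∀ v : chevE8.Idx → K8, mx (emb8 y) *ᵥ v = v → mx (emb8 c) *ᵥ v = v := by
    intro v h
    rw [mx_emb8] at h ⊢
    exact base hc v h
  have h1 : ∃ k : ℕ, z⁻¹ * emb8 c * z = t ^ k := by
    refine pow_of_fix htT hζ hG hX fun v h => ?_
    have h2 : mx (emb8 y) *ᵥ (mx z *ᵥ v) = mx z *ᵥ v := by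
      rw [hy, Matrix.mulVec_mulVec, ← mx_mul, inv_mul_cancel_right, mx_mul, ← Matrix.mulVec_mulVec, h]
    have h3 := hK _ h2
    rw [mx_mul, mx_mul, ← Matrix.mulVec_mulVec, ← Matrix.mulVec_mulVec, h3, Matrix.mulVec_mulVec, ← mx_mul,
      inv_mul_cancel]
    exact Matrix.one_mulVec v
  obtain ⟨k, hk⟩ := h1
  refine ⟨k, emb_injective e8T.inList (algebraMap (ZMod 3) K8) ?_⟩
  show emb8 c = emb8 (y ^ k)
  rw [map_pow, hy, conj_pow, ← hk]
  group

end Cfsg.Agent.H60.E83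
end

-- part: H60/E83/Glue
section
/-!
# S5925, gluing (I2), (I3) (helper60)

* `y_pow_one` : `(x t)³ = (x t yⁱ)³ = 1` implies `yⁱ = 1`;
* `glue` : `t`, `t'` with the relations and the same action on `L^y` are equal;
* `conj_all` : uniqueness of the action on `L^{y₀}` up to `C(x₀, y₀)` gives: all triples are conjugate.
-/

set_option autoImplicit false
set_option maxRecDepth 100000

namespace Cfsg.Agent.H60.E83

open Cfsg Cfsg.Lie Cfsg.Lie.ChevalleyDatum
open Cfsg.Agent.ChevalleyStructure Cfsg.Agent.ChevalleyStructure.CoxeterGeomTypes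
open Cfsg.Agent.GpExc.Field Cfsg.Agent.BpExc.TowChev Cfsg.Agent.KFacts.RgdChevCoord Cfsg.Agent.Nodes.RGDChev
open Cfsg.Agent.H942.CB Cfsg.Agent.H942.E8Alc Cfsg.Agent.H942.E8Tab Cfsg.Agent.H288.E8L
open Matrix
open Cfsg.Agent.H828.E83 (Rel)

theorem y_pow_one {G : Type*} [Group G] {x y t : G} (h : _root_.Cfsg.Agent.H828.E83.Rel x y t) {i : ℕ}
    (hi : x * (t * y ^ i) * (x * (t * y ^ i)) * (x * (t * y ^ i)) = 1) : y ^ i = 1 := by
  obtain ⟨x11, x1, y5, -, yx, t2, ty', xt'⟩ := h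
  have ty : t * y * t = y⁻¹ := by
    have ht : t⁻¹ = t := inv_eq_of_mul_eq_one_right t2
    rw [← ty', ht]
  have xt : (x * t) ^ 3 = 1 := by rw [pow_succ, pow_two]; exact xt'
  replace hi : (x * (t * y ^ i)) ^ 3 = 1 := by rw [pow_succ, pow_two]; exact hi
  obtain ⟨s, hs⟩ : ∃ s, s = y ^ i := ⟨_, rfl⟩
  rw [← hs] at hi ⊢
  have s5 : s ^ 5 = 1 := by rw [hs, ← pow_mul, mul_comm, pow_mul, y5, one_pow]
  have ht : t⁻¹ = t := inv_eq_of_mul_eq_one_right t2
  have hts : t * s * t = s⁻¹ := by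
    have h1 : (t * y * t⁻¹) ^ i = t * y ^ i * t⁻¹ := conj_pow
    rw [ht] at h1
    rw [hs, ← h1, ty, inv_pow]
  have hsx : ∀ n : ℕ, ∃ a : ℕ, 1 ≤ a ∧ y ^ n * x * (y ^ n)⁻¹ = x ^ a := by
    intro n
    induction n with
    | zero => exact ⟨1, le_refl _, by simp⟩
    | succ n ih =>
      obtain ⟨a, ha, h1⟩ := ih
      refine ⟨3 * a, by omega, ?_⟩
      have h2 : y ^ (n + 1) * x * (y ^ (n + 1))⁻¹ = y * (y ^ n * x * (y ^ n)⁻¹) * y⁻¹ := by
        rw [pow_succ']; group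
      rw [h2, h1, ← conj_pow, yx, pow_mul]
  obtain ⟨a, ha, hax⟩ := hsx i
  rw [← hs] at hax
  have hst : s * t = t * s⁻¹ := by
    calc s * t = (t * t) * s * t := by rw [t2, one_mul]
      _ = t * (t * s * t) := by group
      _ = _ := by rw [hts]
  have h1 : x * t * x ^ a * t * x * t * s = 1 := by
    calc x * t * x ^ a * t * x * t * s = x * t * (s * x * s⁻¹) * t * x * t * s := by rw [hax]
      _ = x * t * s * x * (s⁻¹ * t) * x * t * s := by group
      _ = x * t * s * x * (t * s) * x * t * s := by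
        have : s⁻¹ * t = t * s := by
          calc s⁻¹ * t = (t * s * t) * t := by rw [hts]
            _ = t * s * (t * t) := by group
            _ = _ := by rw [t2, mul_one]
        rw [this]
      _ = (x * (t * s)) ^ 3 := by rw [pow_succ, pow_two]; group
      _ = 1 := hi
  have h2 : t * x * t = x⁻¹ * t * x⁻¹ := by
    have h3 : x * t * (x * t) * (x * t) = 1 := by rw [← xt, pow_succ, pow_two]
    calc t * x * t = x⁻¹ * (x * t * (x * t) * (x * t)) * (t⁻¹ * x⁻¹) := by group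
      _ = x⁻¹ * t * x⁻¹ := by rw [h3, ht]; group
  obtain ⟨b, rfl⟩ : ∃ b, a = b + 1 := ⟨a - 1, by omega⟩
  have h3 : x⁻¹ * s⁻¹ * x = t * x ^ b * t := by
    have h4 : s⁻¹ = x * t * x ^ (b + 1) * t * x * t := (eq_inv_of_mul_eq_one_left h1).symm
    calc x⁻¹ * s⁻¹ * x = x⁻¹ * (x * t * x ^ (b + 1) * t * x * t) * x := by rw [h4]
      _ = t * x ^ b * x * (t * x * t) * x := by rw [pow_succ]; group
      _ = t * x ^ b * x * (x⁻¹ * t * x⁻¹) * x := by rw [h2]
      _ = t * x ^ b * t := by group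
  have h5 : (x⁻¹ * s⁻¹ * x) ^ 5 = 1 := by
    have h6 : (x⁻¹ * s⁻¹ * x⁻¹⁻¹) ^ 5 = x⁻¹ * s⁻¹ ^ 5 * x⁻¹⁻¹ := conj_pow
    rw [inv_inv] at h6
    rw [h6, inv_pow, s5]
    group
  have h11 : (x⁻¹ * s⁻¹ * x) ^ 11 = 1 := by
    rw [h3]
    have h6 : (t * x ^ b * t⁻¹) ^ 11 = t * (x ^ b) ^ 11 * t⁻¹ := conj_pow
    rw [ht] at h6
    rw [h6, ← pow_mul, mul_comm b, pow_mul, x11, one_pow, mul_one, t2]
  have h1' : x⁻¹ * s⁻¹ * x = 1 := by
    generalize x⁻¹ * s⁻¹ * x = e at h5 h11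
    have h8 := Nat.dvd_gcd (orderOf_dvd_of_pow_eq_one h5) (orderOf_dvd_of_pow_eq_one h11)
    rw [show Nat.gcd 5 11 = 1 by decide, Nat.dvd_one] at h8
    exact orderOf_eq_one_iff.1 h8
  have h7 : s⁻¹ = 1 := by
    calc s⁻¹ = x * (x⁻¹ * s⁻¹ * x) * x⁻¹ := by group
      _ = 1 := by rw [h1', mul_one, mul_inv_cancel]
  exact inv_eq_one.1 h7

theorem conj_fix {G : Type*} [Group G] {x k : G} (h : k * x = x * k) : k * x * k⁻¹ = x := by
  rw [h, mul_inv_cancel_right]

theorem conj_conj {G : Type*} [Group G] (g k x : G) : k * g * x * (k * g)⁻¹ = k * (g * x * g⁻¹) * k⁻¹ := by group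

theorem rel_conj {G : Type*} [Group G] {x y t : G} (h : _root_.Cfsg.Agent.H828.E83.Rel x y t) (g : G) :
    _root_.Cfsg.Agent.H828.E83.Rel (g * x * g⁻¹) (g * y * g⁻¹) (g * t * g⁻¹) := by
  exact h.map (f := (MulAut.conj g).toMonoidHom) (MulAut.conj g).injective

/-- the abstract form of the gluing -/
theorem glue_abs {G : Type*} [Group G] {x y : G} (S : G → G → Prop)
    (hS : ∀ t t', S t t' → ∃ k : ℕ, t⁻¹ * t' = y ^ k) {t t' : G} (h : _root_.Cfsg.Agent.H828.E83.Rel x y t) (h' : _root_.Cfsg.Agent.H828.E83.Rel x y t') (hu : S t t') :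
    t = t' := by
  obtain ⟨k, hk⟩ := hS t t' hu
  have h1 : t' = t * y ^ k := by rw [← hk]; group
  have h2 : y ^ k = 1 := y_pow_one h (by rw [← h1]; exact h'.xt)
  rw [h1, h2, mul_one]

/-! ### in `E₈(3)` -/

/-- the same action on `L^y` -/
def SameU (y t t' : G8) : Prop := ∀ v : chevE8.Idx → ZMod 3, my y *ᵥ v = v → my t *ᵥ v = my t' *ᵥ v

/-- the hypothesis on `y`: order five, type `A₄A₄` -/
def TypA (y : G8) : Prop := ∃ (Y : List ℕ) (j : Fin 8) (m : Fin 8 → ℤ), Gen Y j m ∧ TorD e8T y 5 (vecL 5 Y)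

theorem typA_fr {y : G8} (h : TorD e8T y 5 (vecL 5 [4, 4, 4, 4, 1, 4, 4, 4])) : TypA y := ⟨_, _, _, gen_fr, h⟩

/-- **(I1)** -/
theorem pow_of_same {y : G8} (hy : TypA y) (t t' : G8) (hu : SameU y t t') : ∃ k : ℕ, t⁻¹ * t' = y ^ k := by
  obtain ⟨Y, j, m, hG, hT⟩ := hy
  have hmul : ∀ a b : G8, my (a * b) = my a * my b := fun _ _ => rfl
  refine pow_of_fix' (c := t⁻¹ * t') hG hT fun v hv => ?_
  rw [hmul, ← Matrix.mulVec_mulVec, ← hu v hv, Matrix.mulVec_mulVec, ← hmul, inv_mul_cancel]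
  exact Matrix.one_mulVec v

/-- **gluing**: the action of `t` on `L^y` determines `t` -/
theorem glue {x y t t' : G8} (hy : TypA y) (h : _root_.Cfsg.Agent.H828.E83.Rel x y t) (h' : _root_.Cfsg.Agent.H828.E83.Rel x y t') (hu : SameU y t t') : t = t' :=
  glue_abs (SameU y) (pow_of_same hy) h h' hu

end Cfsg.Agent.H60.E83
end

-- part: H60/E83/DiagSL
section
/-!
# S5925, gluing: diagonal matrices of `SL₅` as products of root elements (helper60)
-/

set_option autoImplicit false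

namespace Cfsg.Agent.H60.E83

open Matrix

universe u

variable {K : Type u} [Field K]

/-- a transvection -/
abbrev tv {a b : Fin 5} (h : a ≠ b) (c : K) : _root_.Matrix.SpecialLinearGroup (Fin 5) K := SpecialLinearGroup.transvection h c

/-- the element `w(t)` -/
def wE {a b : Fin 5} (h : a ≠ b) (t : K) : _root_.Matrix.SpecialLinearGroup (Fin 5) K := tv h t * (tv h.symm (-t⁻¹) * tv h t)

/-- the element `h(t)` -/
def hE {a b : Fin 5} (h : a ≠ b) (t : K) : _root_.Matrix.SpecialLinearGroup (Fin 5) K := wE h t * wE h (-1)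

theorem coe_upA (c : K) : (tv (show (1 : Fin 5) ≠ 2 by decide) c).1 = !![1, 0, 0, 0, 0; 0, 1, c, 0, 0; 0, 0, 1, 0, 0; 0, 0, 0, 1, 0; 0, 0, 0, 0, 1] := by
  ext i j
  (revert i j; simp only [SpecialLinearGroup.transvection, Matrix.transvection, Matrix.single_apply, Matrix.one_apply, _root_.Fin.forall_fin_succ, Fin.isValue, _root_.Matrix.add_apply, _root_.Matrix.of_apply, _root_.Matrix.cons_val', _root_.Matrix.cons_val_fin_one, Fin.reduceEq, _root_.and_false, ↓reduceIte, _root_.add_zero, _root_.Matrix.cons_val_zero, _root_.Matrix.cons_val_succ, _root_.Fin.succ_zero_eq_one, _root_.Fin.succ_one_eq_two, _root_.and_true, Fin.reduceSucc, _root_.IsEmpty.forall_iff, _root_.zero_ne_one, _root_.one_ne_zero, _root_.and_self, _root_.Fin.succ_ne_zero, _root_.zero_add, _root_.ite_eq_right_iff, _root_.imp_false, _root_.ite_eq_left_iff, _root_.Decidable.not_not, _root_.true_and, _root_.not_false_eq_true])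

theorem coe_loA (c : K) : (tv (show (2 : Fin 5) ≠ 1 by decide) c).1 = !![1, 0, 0, 0, 0; 0, 1, 0, 0, 0; 0, c, 1, 0, 0; 0, 0, 0, 1, 0; 0, 0, 0, 0, 1] := by
  ext i j
  (revert i j; simp only [SpecialLinearGroup.transvection, Matrix.transvection, Matrix.single_apply, Matrix.one_apply, _root_.Fin.forall_fin_succ, Fin.isValue, _root_.Matrix.add_apply, _root_.Matrix.of_apply, _root_.Matrix.cons_val', _root_.Matrix.cons_val_fin_one, _root_.one_ne_zero, _root_.and_false, ↓reduceIte, _root_.add_zero, _root_.Matrix.cons_val_zero, _root_.Matrix.cons_val_succ, _root_.Fin.succ_zero_eq_one, _root_.and_true, _root_.Fin.succ_one_eq_two, Fin.reduceEq, Fin.reduceSucc, _root_.IsEmpty.forall_iff, _root_.zero_ne_one, _root_.and_self, _root_.Fin.succ_ne_zero, _root_.zero_add, _root_.ite_eq_right_iff, _root_.imp_false, _root_.ite_eq_left_iff, _root_.Decidable.not_not, _root_.true_and, _root_.not_false_eq_true])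

theorem coe_wA {t : K} (ht : t ≠ 0) : (wE (show (1 : Fin 5) ≠ 2 by decide) t).1 = !![1, 0, 0, 0, 0; 0, 0, t, 0, 0; 0, -t⁻¹, 0, 0, 0; 0, 0, 0, 1, 0; 0, 0, 0, 0, 1] := by
  have h1 : (tv (show (2 : Fin 5) ≠ 1 by decide) (-t⁻¹)).1 * (tv (show (1 : Fin 5) ≠ 2 by decide) t).1 = !![1, 0, 0, 0, 0; 0, 1, t, 0, 0; 0, -t⁻¹, 0, 0, 0; 0, 0, 0, 1, 0; 0, 0, 0, 0, 1] := by
    rw [coe_upA, coe_loA]
    ext i j
    (revert i j; simp only [Matrix.mul_apply, Fin.sum_univ_five, ht, _root_.Fin.forall_fin_succ, _root_.Matrix.of_apply, _root_.Matrix.cons_val', _root_.Matrix.cons_val_fin_one, Fin.isValue, _root_.Matrix.cons_val_zero, _root_.Matrix.cons_val_one, _root_.Matrix.cons_val, _root_.mul_one, _root_.MulZeroClass.mul_zero, _root_.add_zero, _root_.Matrix.cons_val_succ, _root_.zero_add, _root_.implies_true, _root_.and_self, _root_.and_true, _root_.true_and, _root_.MulZeroClass.zero_mul, _root_.one_mul, _root_.neg_mul, _root_.ne_eq, _root_.not_false_eq_true,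 _root_.inv_mul_cancel₀, _root_.neg_add_cancel, _root_.add_eq_right, _root_.mul_eq_zero, _root_.or_false])
  show (tv (show (1 : Fin 5) ≠ 2 by decide) t).1 * ((tv (show (2 : Fin 5) ≠ 1 by decide) (-t⁻¹)).1 *
    (tv (show (1 : Fin 5) ≠ 2 by decide) t).1) = _
  rw [h1, coe_upA]
  ext i j
  (revert i j; simp only [Matrix.mul_apply, Fin.sum_univ_five, ht, _root_.Fin.forall_fin_succ, _root_.Matrix.of_apply, _root_.Matrix.cons_val', _root_.Matrix.cons_val_fin_one, Fin.isValue, _root_.Matrix.cons_val_zero, _root_.Matrix.cons_val_one, _root_.Matrix.cons_val, _root_.mul_one, _root_.MulZeroClass.mul_zero, _root_.add_zero, _root_.Matrix.cons_val_succ, _root_.zero_add, _root_.mul_neg, _root_.implies_true, _root_.and_self, _root_.and_true, _root_.true_and, _root_.MulZeroClass.zero_mul, _root_.neg_zero, _root_.ne_eq, _root_.not_false_eq_true, _root_.mul_inv_cancel₀, _root_.add_neg_cancel, _root_.one_mul, _root_.add_eq_left, _root_.neg_eq_zero,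 _root_.mul_eq_zero, _root_.inv_eq_zero, _root_.or_false])

theorem coe_hA {t : K} (ht : t ≠ 0) : (hE (show (1 : Fin 5) ≠ 2 by decide) t).1 = !![1, 0, 0, 0, 0; 0, t, 0, 0, 0; 0, 0, t⁻¹, 0, 0; 0, 0, 0, 1, 0; 0, 0, 0, 0, 1] := by
  show (wE (show (1 : Fin 5) ≠ 2 by decide) t).1 * (wE (show (1 : Fin 5) ≠ 2 by decide) (-1)).1 = _
  rw [coe_wA ht, coe_wA (neg_ne_zero.2 one_ne_zero)]
  ext i j
  (revert i j; simp only [Matrix.mul_apply, Fin.sum_univ_five, _root_.Fin.forall_fin_succ, _root_.inv_neg, _root_.inv_one, _root_.neg_neg, _root_.Matrix.of_apply, _root_.Matrix.cons_val', _root_.Matrix.cons_val_fin_one, Fin.isValue, _root_.Matrix.cons_val_zero, _root_.Matrix.cons_val_one, _root_.Matrix.cons_val, _root_.mul_one, _root_.MulZeroClass.mul_zero, _root_.add_zero, _root_.Matrix.cons_val_succ, _root_.zero_add, _root_.mul_neg, _root_.implies_true, _root_.and_self, _root_.and_true, _root_.true_and, _root_.neg_zero])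

theorem coe_upB (c : K) : (tv (show (2 : Fin 5) ≠ 3 by decide) c).1 = !![1, 0, 0, 0, 0; 0, 1, 0, 0, 0; 0, 0, 1, c, 0; 0, 0, 0, 1, 0; 0, 0, 0, 0, 1] := by
  ext i j
  (revert i j; simp only [SpecialLinearGroup.transvection, Matrix.transvection, Matrix.single_apply, Matrix.one_apply, _root_.Fin.forall_fin_succ, Fin.isValue, _root_.Matrix.add_apply, _root_.Matrix.of_apply, _root_.Matrix.cons_val', _root_.Matrix.cons_val_fin_one, Fin.reduceEq, _root_.and_false, ↓reduceIte, _root_.add_zero, _root_.Matrix.cons_val_zero, _root_.Matrix.cons_val_succ, _root_.Fin.succ_zero_eq_one, _root_.Fin.succ_one_eq_two, Fin.reduceSucc, _root_.and_true, _root_.IsEmpty.forall_iff, _root_.zero_ne_one, _root_.and_self, _root_.Fin.succ_ne_zero, _root_.zero_add, _root_.ite_eq_right_iff, _root_.one_ne_zero, _root_.imp_false, _root_.ite_eq_left_iff, _root_.Decidable.not_not, _root_.true_and, _root_.not_false_eq_true])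

theorem coe_loB (c : K) : (tv (show (3 : Fin 5) ≠ 2 by decide) c).1 = !![1, 0, 0, 0, 0; 0, 1, 0, 0, 0; 0, 0, 1, 0, 0; 0, 0, c, 1, 0; 0, 0, 0, 0, 1] := by
  ext i j
  (revert i j; simp only [SpecialLinearGroup.transvection, Matrix.transvection, Matrix.single_apply, Matrix.one_apply, _root_.Fin.forall_fin_succ, Fin.isValue, _root_.Matrix.add_apply, _root_.Matrix.of_apply, _root_.Matrix.cons_val', _root_.Matrix.cons_val_fin_one, Fin.reduceEq, _root_.and_false, ↓reduceIte, _root_.add_zero, _root_.Matrix.cons_val_zero, _root_.Matrix.cons_val_succ, _root_.Fin.succ_zero_eq_one, _root_.Fin.succ_one_eq_two, _root_.and_true, Fin.reduceSucc, _root_.IsEmpty.forall_iff, _root_.zero_ne_one, _root_.and_self, _root_.Fin.succ_ne_zero, _root_.zero_add, _root_.ite_eq_right_iff, _root_.one_ne_zero, _root_.imp_false, _root_.ite_eq_left_iff, _root_.Decidable.not_not, _root_.true_and, _root_.not_false_eq_true])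

theorem coe_wB {t : K} (ht : t ≠ 0) : (wE (show (2 : Fin 5) ≠ 3 by decide) t).1 = !![1, 0, 0, 0, 0; 0, 1, 0, 0, 0; 0, 0, 0, t, 0; 0, 0, -t⁻¹, 0, 0; 0, 0, 0, 0, 1] := by
  have h1 : (tv (show (3 : Fin 5) ≠ 2 by decide) (-t⁻¹)).1 * (tv (show (2 : Fin 5) ≠ 3 by decide) t).1 = !![1, 0, 0, 0, 0; 0, 1, 0, 0, 0; 0, 0, 1, t, 0; 0, 0, -t⁻¹, 0, 0; 0, 0, 0, 0, 1] := by
    rw [coe_upB, coe_loB]
    ext i j
    (revert i j; simp only [Matrix.mul_apply, Fin.sum_univ_five, ht, _root_.Fin.forall_fin_succ, _root_.Matrix.of_apply, _root_.Matrix.cons_val', _root_.Matrix.cons_val_fin_one, Fin.isValue, _root_.Matrix.cons_val_zero, _root_.Matrix.cons_val_one, _root_.Matrix.cons_val, _root_.mul_one, _root_.MulZeroClass.mul_zero, _root_.add_zero, _root_.Matrix.cons_val_succ, _root_.zero_add, _root_.implies_true, _root_.and_true, _root_.true_and, _root_.MulZeroClass.zero_mul, _root_.one_mul, _root_.neg_mul, _root_.ne_eq, _root_.not_false_eq_true,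 _root_.inv_mul_cancel₀, _root_.neg_add_cancel, _root_.and_self])
  show (tv (show (2 : Fin 5) ≠ 3 by decide) t).1 * ((tv (show (3 : Fin 5) ≠ 2 by decide) (-t⁻¹)).1 *
    (tv (show (2 : Fin 5) ≠ 3 by decide) t).1) = _
  rw [h1, coe_upB]
  ext i j
  (revert i j; simp only [Matrix.mul_apply, Fin.sum_univ_five, ht, _root_.Fin.forall_fin_succ, _root_.Matrix.of_apply, _root_.Matrix.cons_val', _root_.Matrix.cons_val_fin_one, Fin.isValue, _root_.Matrix.cons_val_zero, _root_.Matrix.cons_val_one, _root_.Matrix.cons_val, _root_.mul_one, _root_.MulZeroClass.mul_zero, _root_.add_zero, _root_.Matrix.cons_val_succ, _root_.zero_add, _root_.mul_neg, _root_.implies_true, _root_.and_true, _root_.true_and, _root_.MulZeroClass.zero_mul, _root_.neg_zero, _root_.and_self, _root_.ne_eq, _root_.not_false_eq_true, _root_.mul_inv_cancel₀, _root_.add_neg_cancel, _root_.one_mul])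

theorem coe_hB {t : K} (ht : t ≠ 0) : (hE (show (2 : Fin 5) ≠ 3 by decide) t).1 = !![1, 0, 0, 0, 0; 0, 1, 0, 0, 0; 0, 0, t, 0, 0; 0, 0, 0, t⁻¹, 0; 0, 0, 0, 0, 1] := by
  show (wE (show (2 : Fin 5) ≠ 3 by decide) t).1 * (wE (show (2 : Fin 5) ≠ 3 by decide) (-1)).1 = _
  rw [coe_wB ht, coe_wB (neg_ne_zero.2 one_ne_zero)]
  ext i j
  (revert i j; simp only [Matrix.mul_apply, Fin.sum_univ_five, _root_.Fin.forall_fin_succ, _root_.inv_neg, _root_.inv_one, _root_.neg_neg, _root_.Matrix.of_apply, _root_.Matrix.cons_val', _root_.Matrix.cons_val_fin_one, Fin.isValue, _root_.Matrix.cons_val_zero, _root_.Matrix.cons_val_one, _root_.Matrix.cons_val, _root_.mul_one, _root_.MulZeroClass.mul_zero, _root_.add_zero, _root_.Matrix.cons_val_succ, _root_.zero_add, _root_.mul_neg, _root_.implies_true, _root_.and_true, _root_.true_and, _root_.neg_zero, _root_.and_self])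

theorem coe_upC (c : K) : (tv (show (3 : Fin 5) ≠ 4 by decide) c).1 = !![1, 0, 0, 0, 0; 0, 1, 0, 0, 0; 0, 0, 1, 0, 0; 0, 0, 0, 1, c; 0, 0, 0, 0, 1] := by
  ext i j
  (revert i j; simp only [SpecialLinearGroup.transvection, Matrix.transvection, Matrix.single_apply, Matrix.one_apply, _root_.Fin.forall_fin_succ, Fin.isValue, _root_.Matrix.add_apply, _root_.Matrix.of_apply, _root_.Matrix.cons_val', _root_.Matrix.cons_val_fin_one, Fin.reduceEq, _root_.and_false, ↓reduceIte, _root_.add_zero, _root_.Matrix.cons_val_zero, _root_.Matrix.cons_val_succ, _root_.Fin.succ_zero_eq_one, _root_.Fin.succ_one_eq_two, Fin.reduceSucc, _root_.and_true, _root_.IsEmpty.forall_iff, _root_.zero_ne_one, _root_.and_self, _root_.Fin.succ_ne_zero, _root_.zero_add, _root_.ite_eq_right_iff, _root_.one_ne_zero, _root_.imp_false, _root_.true_and, _root_.not_false_eq_true])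

theorem coe_loC (c : K) : (tv (show (4 : Fin 5) ≠ 3 by decide) c).1 = !![1, 0, 0, 0, 0; 0, 1, 0, 0, 0; 0, 0, 1, 0, 0; 0, 0, 0, 1, 0; 0, 0, 0, c, 1] := by
  ext i j
  (revert i j; simp only [SpecialLinearGroup.transvection, Matrix.transvection, Matrix.single_apply, Matrix.one_apply, _root_.Fin.forall_fin_succ, Fin.isValue, _root_.Matrix.add_apply, _root_.Matrix.of_apply, _root_.Matrix.cons_val', _root_.Matrix.cons_val_fin_one, Fin.reduceEq, _root_.and_false, ↓reduceIte, _root_.add_zero, _root_.Matrix.cons_val_zero, _root_.Matrix.cons_val_succ, _root_.Fin.succ_zero_eq_one, _root_.Fin.succ_one_eq_two, Fin.reduceSucc, _root_.and_true, _root_.IsEmpty.forall_iff, _root_.zero_ne_one, _root_.and_self, _root_.Fin.succ_ne_zero, _root_.ite_eq_right_iff, _root_.one_ne_zero, _root_.imp_false, _root_.ite_eq_left_iff, _root_.Decidable.not_not, _root_.true_and, _root_.not_false_eq_true, _root_.zero_add])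

theorem coe_wC {t : K} (ht : t ≠ 0) : (wE (show (3 : Fin 5) ≠ 4 by decide) t).1 = !![1, 0, 0, 0, 0; 0, 1, 0, 0, 0; 0, 0, 1, 0, 0; 0, 0, 0, 0, t; 0, 0, 0, -t⁻¹, 0] := by
  have h1 : (tv (show (4 : Fin 5) ≠ 3 by decide) (-t⁻¹)).1 * (tv (show (3 : Fin 5) ≠ 4 by decide) t).1 = !![1, 0, 0, 0, 0; 0, 1, 0, 0, 0; 0, 0, 1, 0, 0; 0, 0, 0, 1, t; 0, 0, 0, -t⁻¹, 0] := by
    rw [coe_upC, coe_loC]
    ext i j
    (revert i j; simp only [Matrix.mul_apply, Fin.sum_univ_five, ht, _root_.Fin.forall_fin_succ, _root_.Matrix.of_apply, _root_.Matrix.cons_val', _root_.Matrix.cons_val_fin_one, Fin.isValue, _root_.Matrix.cons_val_zero, _root_.Matrix.cons_val_one, _root_.Matrix.cons_val, _root_.mul_one, _root_.MulZeroClass.mul_zero, _root_.add_zero, _root_.Matrix.cons_val_succ, _root_.zero_add, _root_.forall_const, _root_.true_and, _root_.MulZeroClass.zero_mul, _root_.one_mul, _root_.neg_mul, _root_.ne_eq, _root_.not_false_eq_true, _root_.inv_mul_cancel₀,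 _root_.neg_add_cancel, _root_.implies_true, _root_.and_self])
  show (tv (show (3 : Fin 5) ≠ 4 by decide) t).1 * ((tv (show (4 : Fin 5) ≠ 3 by decide) (-t⁻¹)).1 *
    (tv (show (3 : Fin 5) ≠ 4 by decide) t).1) = _
  rw [h1, coe_upC]
  ext i j
  (revert i j; simp only [Matrix.mul_apply, Fin.sum_univ_five, ht, _root_.Fin.forall_fin_succ, _root_.Matrix.of_apply, _root_.Matrix.cons_val', _root_.Matrix.cons_val_fin_one, Fin.isValue, _root_.Matrix.cons_val_zero, _root_.Matrix.cons_val_one, _root_.Matrix.cons_val, _root_.mul_one, _root_.MulZeroClass.mul_zero, _root_.add_zero, _root_.Matrix.cons_val_succ, _root_.zero_add, _root_.mul_neg, _root_.forall_const, _root_.true_and, _root_.MulZeroClass.zero_mul, _root_.neg_zero, _root_.and_self, _root_.ne_eq, _root_.not_false_eq_true, _root_.mul_inv_cancel₀, _root_.add_neg_cancel, _root_.one_mul, _root_.implies_true])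

theorem coe_hC {t : K} (ht : t ≠ 0) : (hE (show (3 : Fin 5) ≠ 4 by decide) t).1 = !![1, 0, 0, 0, 0; 0, 1, 0, 0, 0; 0, 0, 1, 0, 0; 0, 0, 0, t, 0; 0, 0, 0, 0, t⁻¹] := by
  show (wE (show (3 : Fin 5) ≠ 4 by decide) t).1 * (wE (show (3 : Fin 5) ≠ 4 by decide) (-1)).1 = _
  rw [coe_wC ht, coe_wC (neg_ne_zero.2 one_ne_zero)]
  ext i j
  (revert i j; simp only [Matrix.mul_apply, Fin.sum_univ_five, _root_.Fin.forall_fin_succ, _root_.inv_neg, _root_.inv_one, _root_.neg_neg, _root_.Matrix.of_apply, _root_.Matrix.cons_val', _root_.Matrix.cons_val_fin_one, Fin.isValue, _root_.Matrix.cons_val_zero, _root_.Matrix.cons_val_one, _root_.Matrix.cons_val, _root_.mul_one, _root_.MulZeroClass.mul_zero, _root_.add_zero, _root_.Matrix.cons_val_succ, _root_.zero_add, _root_.mul_neg, _root_.forall_const, _root_.true_and, _root_.neg_zero, _root_.implies_true, _root_.and_self])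

/-- `h₁₂(w) h₂₃(w³) h₃₄(w)` -/
def Dg (w : K) : _root_.Matrix.SpecialLinearGroup (Fin 5) K :=
  hE (show (1 : Fin 5) ≠ 2 by decide) w * hE (show (2 : Fin 5) ≠ 3 by decide) (w ^ 3) *
    hE (show (3 : Fin 5) ≠ 4 by decide) w

/-- `diag(1, w, w², w³, w⁴)` -/
theorem coe_Dg {w : K} (hw : w ^ 5 = 1) : (Dg w).1 = Matrix.diagonal ![1, w, w ^ 2, w ^ 3, w ^ 4] := by
  have hw0 : w ≠ 0 := by
    rintro rfl
    simp at hw
  have e1 : w⁻¹ = w ^ 4 := inv_eq_of_mul_eq_one_right (by rw [← pow_succ', hw])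
  have e3 : (w ^ 3)⁻¹ = w ^ 2 := inv_eq_of_mul_eq_one_right (by rw [← pow_add, hw])
  show (hE (show (1 : Fin 5) ≠ 2 by decide) w).1 * (hE (show (2 : Fin 5) ≠ 3 by decide) (w ^ 3)).1 *
    (hE (show (3 : Fin 5) ≠ 4 by decide) w).1 = _
  rw [coe_hA hw0, coe_hB (pow_ne_zero 3 hw0), coe_hC hw0, e1, e3]
  ext i j
  (revert i j; simp only [Matrix.mul_apply, Fin.sum_univ_five, Matrix.diagonal, _root_.Fin.forall_fin_succ, _root_.Matrix.cons_mul, _root_.Nat.succ_eq_add_one, Nat.reduceAdd, _root_.Matrix.vecMul_cons, _root_.Matrix.head_cons, _root_.one_smul, _root_.Matrix.tail_cons, _root_.zero_smul, _root_.Matrix.empty_vecMul, _root_.add_zero, _root_.Matrix.smul_cons, _root_.smul_eq_mul, _root_.MulZeroClass.mul_zero, _root_.mul_one, _root_.Matrix.smul_empty, _root_.zero_add, _root_.Matrix.empty_mul, _root_.Equiv.symm_apply_apply, _root_.Matrix.of_apply, _root_.Matrix.cons_val', _root_.Matrix.cons_val_fin_one, Fin.isValue, _root_.Matrix.cons_val_zero,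 _root_.Matrix.cons_val_one, _root_.Matrix.cons_val, _root_.Matrix.cons_val_succ, _root_.Fin.succ_zero_eq_one, _root_.Fin.succ_one_eq_two, Fin.reduceSucc, _root_.IsEmpty.forall_iff, ↓reduceIte, _root_.zero_ne_one, Fin.reduceEq, _root_.MulZeroClass.zero_mul, _root_.Fin.succ_ne_zero, _root_.right_eq_ite_iff, _root_.one_mul, _root_.left_eq_ite_iff, _root_.ne_eq, _root_.OfNat.ofNat_ne_zero, _root_.not_false_eq_true, _root_.pow_eq_zero_iff, _root_.not_true_eq_false, _root_.and_true, _root_.true_and]) <;> (repeat' with_reducible apply And.intro)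
  · rw [← pow_add, show 4 + 3 = 5 + 2 from rfl, pow_add, hw, one_mul]
  · rw [← pow_succ]

end Cfsg.Agent.H60.E83
end

-- part: H60/E83/Typ
section
/-!
# S5925, gluing: `y₀ = φ₁(Fr) φ₂(Fr)` is of type `A₄A₄` (helper60)

`B⁻¹ Fr B = diag(1, w, w², w³, w⁴)` in `SL₅` over the algebraic closure; `p1`, `p2` (helper934) map this diagonal matrix to
`h₃(w) h₄(w³) h₂(w)`, `h₈(w) h₇(w³) h₆(w)`.

* `p1_hE`, `p2_hE` : `φ_k(h(c))`;
* `cX_tD` : the simple roots on `φ₁(D) φ₂(D)`;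
* `exists_B` : the diagonalisation of `Fr`;
* `torD_y0`, `typA_y0`.
-/

set_option autoImplicit false
set_option linter.unusedSectionVars false
set_option maxRecDepth 100000

namespace Cfsg.Agent.H60.E83

open CoxeterSystem Cfsg Cfsg.Lie Cfsg.Lie.ChevalleyDatum
open Cfsg.Agent.ChevalleyStructure Cfsg.Agent.ChevalleyStructure.Elts Cfsg.Agent.ChevalleyStructure.CoxeterGeom
  Cfsg.Agent.ChevalleyStructure.CoxeterGeomTypes Cfsg.Agent.ChevalleyStructure.RootVec Cfsg.Agent.ChevalleyStructure.SL2Hom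
open Cfsg.Agent.Tits.Roots Cfsg.Agent.Tits.Core Cfsg.Agent.Nodes Cfsg.Agent.Nodes.Coroot Cfsg.Agent.Nodes.RGDChev
open Cfsg.Agent.GpExc.Field Cfsg.Agent.BpExc.TowChev Cfsg.Agent.H129.TorusChar
open Cfsg.Agent.KFacts.RgdChevCoord
open Cfsg.Agent.Nodes.RGDFoldSL (hS wS)
open Cfsg.Agent.H81.TorOrth (ps ps_up ps_lo ps_hS_mem)
open Cfsg.Agent.H942.E8Tab Cfsg.Agent.H942.E8Alc Cfsg.Agent.H942.CB Cfsg.Agent.H944.Tab Cfsg.Agent.H944.Kac
open Cfsg.Agent.H288.E8L Cfsg.Agent.H540.E8C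
open Cfsg.Agent.H934.E83 (hp8 r1 s1 r2 p1 p2 coe_p1_tv coe_p2_tv comm_eq emb_p1 emb_p2)
open Cfsg.Agent.H908.E8L (Fr FrM)
open Matrix

universe u

/-! ### The values on `h(c)` -/

section vals

variable {K : Type u} [Field K]

theorem hS_def (t : K) : hS t = up t * (lo (-t⁻¹) * up t) * (up (-1) * (lo (-(-1 : K)⁻¹) * up (-1))) := rfl

theorem hE_def {a b : Fin 5} (h : a ≠ b) (t : K) :
    hE h t = tv h t * (tv h.symm (-t⁻¹) * tv h t) * (tv h (-1) * (tv h.symm (-(-1 : K)⁻¹) * tv h (-1))) := rfl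

theorem map_hE {G : Type*} [Group G] (f : _root_.Matrix.SpecialLinearGroup (Fin 5) K →* G) (g : _root_.Matrix.SpecialLinearGroup (Fin 2) K →* G)
    {a b : Fin 5} (h : a ≠ b) (hu : ∀ t, f (tv h t) = g (up t)) (hl : ∀ t, f (tv h.symm t) = g (lo t)) (t : K) :
    f (hE h t) = g (hS t) := by
  rw [hS_def, hE_def]
  simp only [map_mul, hu, hl]

theorem p1_hE {a b : Fin 5} (h : a ≠ b) (hs : s1 a b = 1 ∧ s1 b a = 1) (hr : r1 b a = chevE8.neg (r1 a b))
    (hl : r1 a b < chevE8.nroots) (c : K) : p1 K (hE h c) = ps hp8 hl (hS c) := by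
  refine map_hE _ _ h (fun t => ?_) (fun t => ?_) c
  · rw [ps_up]
    apply Subtype.ext
    rw [coe_p1_tv, hs.1, Int.cast_one, one_mul]
    rfl
  · rw [ps_lo]
    apply Subtype.ext
    rw [coe_p1_tv, hs.2, Int.cast_one, one_mul, hr]
    rfl

theorem p2_hE {a b : Fin 5} (h : a ≠ b) (hr : r2 b a = chevE8.neg (r2 a b)) (hl : r2 a b < chevE8.nroots) (c : K) :
    p2 K (hE h c) = ps hp8 hl (hS c) := by
  refine map_hE _ _ h (fun t => ?_) (fun t => ?_) c
  · rw [ps_up]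
    apply Subtype.ext
    rw [coe_p2_tv]
    rfl
  · rw [ps_lo]
    apply Subtype.ext
    rw [coe_p2_tv, hr]
    rfl

end vals

/-! ### The torus element -/

theorem sl : ∀ j : Fin 8, chevE8.simple (j : ℕ) < chevE8.nroots := fun j => NPerm.simple_lt hp8.inList (lt_rank hp8 j)

/-- `h_j(c)` -/
noncomputable def hh (j : Fin 8) (c : K8) : GK := ps hp8 (sl j) (hS c)

theorem hh_mem (j : Fin 8) {c : K8} (hc : c ≠ 0) : hh j c ∈ TT chevE8 K8 := ps_hS_mem hp8 (sl j) hc

theorem cX_hh (j : Fin 8) {c : K8} (hc : c ≠ 0) (i : Fin 8) :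
    cX e8T (hh j c) (sr i) = c ^ chevE8.cartan j (chevE8.simple i) := by
  have hf := finite_W hp8 cs8
  show cX hp8 (ps hp8 (sl j) (hS c)) (sr i) = _
  rw [Cfsg.Agent.H605.MX.cX_hS hp8 cs8 locFin8 3 (sl j) hc, vec_simple hp8 j, cpr_sr, ← vec_simple hp8 i,
    pairing_vec hp8 j (sl i)]

theorem ps_eq {s : ℕ} (j : Fin 8) (hs : s < chevE8.nroots) (e : s = chevE8.simple j) (c : K8) :
    ps hp8 hs (hS c) = hh j c := by
  subst e
  rfl

theorem tab_p : (r1 1 2 = chevE8.simple (2 : Fin 8) ∧ r1 2 3 = chevE8.simple (3 : Fin 8) ∧ r1 3 4 = chevE8.simple (1 : Fin 8)) ∧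
    (r2 1 2 = chevE8.simple (7 : Fin 8) ∧ r2 2 3 = chevE8.simple (6 : Fin 8) ∧ r2 3 4 = chevE8.simple (5 : Fin 8)) := by
  decide +kernel

theorem p1_Dg (w : K8) : p1 K8 (Dg w) = hh 2 w * hh 3 (w ^ 3) * hh 1 w := by
  rw [Dg, map_mul, map_mul,
    p1_hE (show (1 : Fin 5) ≠ 2 by decide) (by decide) (by decide +kernel) (by decide +kernel),
    p1_hE (show (2 : Fin 5) ≠ 3 by decide) (by decide) (by decide +kernel) (by decide +kernel),
    p1_hE (show (3 : Fin 5) ≠ 4 by decide) (by decide) (by decide +kernel) (by decide +kernel),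
    ps_eq 2 _ tab_p.1.1, ps_eq 3 _ tab_p.1.2.1, ps_eq 1 _ tab_p.1.2.2]

theorem p2_Dg (w : K8) : p2 K8 (Dg w) = hh 7 w * hh 6 (w ^ 3) * hh 5 w := by
  rw [Dg, map_mul, map_mul,
    p2_hE (show (1 : Fin 5) ≠ 2 by decide) (by decide +kernel) (by decide +kernel),
    p2_hE (show (2 : Fin 5) ≠ 3 by decide) (by decide +kernel) (by decide +kernel),
    p2_hE (show (3 : Fin 5) ≠ 4 by decide) (by decide +kernel) (by decide +kernel),
    ps_eq 7 _ tab_p.2.1, ps_eq 6 _ tab_p.2.2.1, ps_eq 5 _ tab_p.2.2.2]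

/-- the torus element -/
noncomputable def tD (w : K8) : GK := p1 K8 (Dg w) * p2 K8 (Dg w)

theorem tD_mem {w : K8} (hw : w ≠ 0) : tD w ∈ TT chevE8 K8 := by
  rw [tD, p1_Dg, p2_Dg]
  have h3 := pow_ne_zero 3 hw
  exact mul_mem (mul_mem (mul_mem (hh_mem _ hw) (hh_mem _ h3)) (hh_mem _ hw))
    (mul_mem (mul_mem (hh_mem _ hw) (hh_mem _ h3)) (hh_mem _ hw))

/-- the exponents -/
def ex (i : Fin 8) : ℤ :=
  chevE8.cartan (2 : Fin 8) (chevE8.simple i) + 3 * chevE8.cartan (3 : Fin 8) (chevE8.simple i) +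
    chevE8.cartan (1 : Fin 8) (chevE8.simple i) + (chevE8.cartan (7 : Fin 8) (chevE8.simple i) +
    3 * chevE8.cartan (6 : Fin 8) (chevE8.simple i) + chevE8.cartan (5 : Fin 8) (chevE8.simple i))

theorem cX_tD {w : K8} (hw : w ≠ 0) (i : Fin 8) : cX e8T (tD w) (sr i) = w ^ ex i := by
  have h3 := pow_ne_zero 3 hw
  have e3 : ∀ n : ℤ, (w ^ 3) ^ n = w ^ (3 * n) := fun n => by rw [_root_.zpow_mul]; norm_cast
  rw [tD, p1_Dg, p2_Dg,
    cX_mul e8T (mul_mem (mul_mem (hh_mem _ hw) (hh_mem _ h3)) (hh_mem _ hw))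
      (mul_mem (mul_mem (hh_mem _ hw) (hh_mem _ h3)) (hh_mem _ hw)),
    cX_mul e8T (mul_mem (hh_mem _ hw) (hh_mem _ h3)) (hh_mem _ hw), cX_mul e8T (hh_mem _ hw) (hh_mem _ h3),
    cX_mul e8T (mul_mem (hh_mem _ hw) (hh_mem _ h3)) (hh_mem _ hw), cX_mul e8T (hh_mem _ hw) (hh_mem _ h3),
    cX_hh _ hw, cX_hh _ h3, cX_hh _ hw, cX_hh _ hw, cX_hh _ h3, cX_hh _ hw, e3, e3, ← zpow_add₀ hw, ← zpow_add₀ hw,
    ← zpow_add₀ hw, ← zpow_add₀ hw, ← zpow_add₀ hw]
  rfl

theorem ex_tab : ∀ i : Fin 8, (5 : ℤ) ∣ ex i - ((vecL 5 [4, 4, 4, 4, 1, 4, 4, 4] i).val : ℤ) := by decide +kernel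

theorem cX_tD' {w : K8} (hw : IsPrimitiveRoot w 5) (i : Fin 8) :
    cX e8T (tD w) (sr i) = w ^ (vecL 5 [4, 4, 4, 4, 1, 4, 4, 4] i).val := by
  have hw0 : w ≠ 0 := hw.ne_zero (by norm_num)
  rw [cX_tD hw0, ← zpow_natCast]
  have h := (hw.zpow_eq_one_iff_dvd _).2 (by exact_mod_cast ex_tab i)
  rw [zpow_sub₀ hw0, div_eq_one_iff_eq (zpow_ne_zero _ hw0)] at h
  exact h

/-! ### The diagonalisation of `Fr` -/

/-- the columns `Frⁱ u` -/
def Um : Matrix (Fin 5) (Fin 5) (ZMod 3) :=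
  !![1, 1, 0, 0, 0; 1, 0, 1, 0, 1; 0, 0, 0, 2, 1; 0, 1, 0, 0, 2; 0, 0, 2, 2, 2]

/-- the inverse of `Um` -/
def Ui : Matrix (Fin 5) (Fin 5) (ZMod 3) :=
  !![2, 2, 1, 1, 2; 2, 1, 2, 2, 1; 2, 1, 0, 1, 0; 2, 1, 1, 1, 1; 2, 1, 2, 1, 1]

/-- the cyclic shift -/
def Pm : Matrix (Fin 5) (Fin 5) (ZMod 3) :=
  !![0, 0, 0, 0, 1; 1, 0, 0, 0, 0; 0, 1, 0, 0, 0; 0, 0, 1, 0, 0; 0, 0, 0, 1, 0]

theorem um_tab : FrM * Um = Um * Pm ∧ Ui * Um = 1 := by decide +kernel

theorem Pm_apply (k j : Fin 5) : Pm k j = if k - 1 = j then 1 else 0 := by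
  fin_cases k <;> fin_cases j <;> rfl

/-- the map to the closure -/
noncomputable abbrev fm : ZMod 3 →+* K8 := algebraMap (ZMod 3) K8

/-- the transposed Vandermonde matrix -/
noncomputable def Wm (w : K8) : Matrix (Fin 5) (Fin 5) K8 := (vandermonde fun i : Fin 5 => (w ^ 4) ^ (i : ℕ))ᵀ

/-- the diagonal matrix -/
noncomputable def Dm (w : K8) : Matrix (Fin 5) (Fin 5) K8 := Matrix.diagonal ![1, w, w ^ 2, w ^ 3, w ^ 4]

theorem Wm_apply (w : K8) (k i : Fin 5) : Wm w k i = ((w ^ 4) ^ (i : ℕ)) ^ (k : ℕ) := rfl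

theorem vec_pow (w : K8) : ∀ i : Fin 5, (![1, w, w ^ 2, w ^ 3, w ^ 4] : Fin 5 → K8) i = w ^ (i : ℕ) := by
  intro i
  fin_cases i <;> simp

theorem mod_tab : ∀ k i : Fin 5, (4 * ((i : ℕ) * ((k - 1 : Fin 5) : ℕ))) % 5 = (4 * ((i : ℕ) * (k : ℕ)) + i) % 5 := by
  decide +kernel

theorem P_W {w : K8} (hw : w ^ 5 = 1) : Pm.map fm * Wm w = Wm w * Dm w := by
  have key : ∀ a b : ℕ, a % 5 = b % 5 → w ^ a = w ^ b := by
    intro a b h
    rw [← Nat.mod_add_div a 5, ← Nat.mod_add_div b 5, pow_add, pow_add, pow_mul, pow_mul, hw, one_pow, one_pow, h]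
  ext k i
  rw [Dm, Matrix.mul_diagonal, vec_pow, Matrix.mul_apply]
  have h1 : ∀ j : Fin 5, (Pm.map fm) k j * Wm w j i = if k - 1 = j then Wm w j i else 0 := by
    intro j
    rw [Matrix.map_apply, Pm_apply]
    split_ifs
    · rw [map_one, one_mul]
    · rw [map_zero, zero_mul]
  rw [Finset.sum_congr rfl fun j _ => h1 j, Finset.sum_ite_eq, if_pos (Finset.mem_univ _), Wm_apply, Wm_apply,
    ← pow_mul, ← pow_mul, ← pow_mul, ← pow_mul, ← pow_add]
  exact key _ _ (mod_tab k i)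

theorem det_Wm {w : K8} (hw : IsPrimitiveRoot w 5) : (Wm w).det ≠ 0 := by
  rw [Wm, Matrix.det_transpose, Matrix.det_vandermonde_ne_zero_iff]
  intro i j h
  exact Fin.ext ((hw.pow_of_coprime 4 (by decide)).pow_inj i.2 j.2 h)

/-- **the diagonalisation** -/
theorem exists_B {w : K8} (hw : IsPrimitiveRoot w 5) :
    ∃ B : _root_.Matrix.SpecialLinearGroup (Fin 5) K8, SpecialLinearGroup.map fm Fr * B = B * Dg w := by
  obtain ⟨hU, hUi⟩ := um_tab
  set V : Matrix (Fin 5) (Fin 5) K8 := Um.map fm * Wm w with hV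
  have hF : FrM.map fm * V = V * Dm w := by
    rw [hV, ← Matrix.mul_assoc, ← Matrix.map_mul, hU, Matrix.map_mul, Matrix.mul_assoc, P_W hw.pow_eq_one, Matrix.mul_assoc]
  have hd : V.det ≠ 0 := by
    rw [hV, Matrix.det_mul]
    refine mul_ne_zero (fun h => ?_) (det_Wm hw)
    have h1 : (Ui.map fm * Um.map fm).det = 1 := by
      rw [← Matrix.map_mul, hUi, Matrix.map_one _ (map_zero _) (map_one _), Matrix.det_one]
    rw [Matrix.det_mul, h, mul_zero] at h1
    exact zero_ne_one h1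
  set E : Matrix (Fin 5) (Fin 5) K8 := Matrix.diagonal ![(V.det)⁻¹, 1, 1, 1, 1] with hE'
  have hB : (V * E).det = 1 := by
    rw [Matrix.det_mul, hE', Matrix.det_diagonal, Fin.prod_univ_five]
    simp [hd]
  refine ⟨⟨V * E, hB⟩, ?_⟩
  apply Subtype.ext
  show (SpecialLinearGroup.map fm Fr).1 * (V * E) = (V * E) * (Dg w).1
  rw [coe_Dg hw.pow_eq_one]
  have h1 : (SpecialLinearGroup.map fm Fr).1 = FrM.map fm := rfl
  have h2 : Dm w * E = E * Dm w := by
    rw [Dm, hE', Matrix.diagonal_mul_diagonal, Matrix.diagonal_mul_diagonal]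
    congr 1
    funext i
    exact mul_comm _ _
  rw [h1, ← Matrix.mul_assoc, hF, Matrix.mul_assoc V, h2, ← Matrix.mul_assoc, Dm]

/-! ### the conclusion -/

/-- `y₀` -/
noncomputable def y0 : G8 := p1 (ZMod 3) Fr * p2 (ZMod 3) Fr

theorem torD_y0 : TorD e8T y0 5 (vecL 5 [4, 4, 4, 4, 1, 4, 4, 4]) := by
  have hNne : NeZero ((5 : ℕ) : K8) := ⟨by
    have h3 : ((3 : ℕ) : K8) = 0 := CharP.cast_eq_zero K8 3
    have h5 : ((5 : ℕ) : K8) = ((3 : ℕ) : K8) * 2 - 1 := by push_cast; norm_num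
    rw [h5, h3, zero_mul, zero_sub]
    exact neg_ne_zero.2 one_ne_zero⟩
  obtain ⟨w, hw⟩ := HasEnoughRootsOfUnity.exists_primitiveRoot K8 5
  have hw0 : w ≠ 0 := hw.ne_zero (by norm_num)
  obtain ⟨B, hB⟩ := exists_B hw
  refine ⟨p1 K8 B * p2 K8 B, tD w, w, hw, ?_, tD_mem hw0, fun i => cX_tD' hw i⟩
  have h1 : emb e8T.inList (algebraMap (ZMod 3) K8) y0 = p1 K8 (SpecialLinearGroup.map fm Fr) *
      p2 K8 (SpecialLinearGroup.map fm Fr) := by
    rw [y0, map_mul]
    exact congrArg₂ (· * ·) (emb_p1 fm Fr) (emb_p2 fm Fr)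
  have h2 : emb e8T.inList (algebraMap (ZMod 3) K8) y0 * (p1 K8 B * p2 K8 B) = (p1 K8 B * p2 K8 B) * tD w := by
    rw [h1, tD]
    calc p1 K8 (SpecialLinearGroup.map fm Fr) * p2 K8 (SpecialLinearGroup.map fm Fr) * (p1 K8 B * p2 K8 B) =
        p1 K8 (SpecialLinearGroup.map fm Fr) * (p2 K8 (SpecialLinearGroup.map fm Fr) * p1 K8 B) * p2 K8 B := by group
      _ = p1 K8 (SpecialLinearGroup.map fm Fr) * (p1 K8 B * p2 K8 (SpecialLinearGroup.map fm Fr)) * p2 K8 B := by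
        rw [comm_eq]
      _ = p1 K8 (SpecialLinearGroup.map fm Fr * B) * p2 K8 (SpecialLinearGroup.map fm Fr * B) := by
        rw [map_mul, map_mul]; group
      _ = p1 K8 B * (p1 K8 (Dg w) * p2 K8 B) * p2 K8 (Dg w) := by
        rw [hB, map_mul, map_mul]; group
      _ = p1 K8 B * (p2 K8 B * p1 K8 (Dg w)) * p2 K8 (Dg w) := by rw [comm_eq]
      _ = _ := by group
  rw [mul_assoc, h2, inv_mul_cancel_left]

theorem typA_y0 : TypA (p1 (ZMod 3) Fr * p2 (ZMod 3) Fr) := typA_fr torD_y0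

end Cfsg.Agent.H60.E83
end

-- part: H60/E83/Conj
section
/-!
# S5925, gluing: all triples which are not of type `y₂` are conjugate (helper60)

* `typA_ph` : `ph₂(Fr) ph₁(Fr)` has type `A₄A₄`;
* `glue_ph` : the action of `t` on `L^y` determines `t`;
* `conj_e8` : a triple with the relations, not conjugate into `(ph₂ Mo, ph₂ Fr, ·)`, is conjugate to `(x₀, y₀, t₀)`.
-/

set_option autoImplicit false
set_option maxRecDepth 100000

namespace Cfsg.Agent.H60.E83

open Cfsg Cfsg.Lie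
open Cfsg.Agent.ChevalleyStructure Cfsg.Agent.H288.E8L Cfsg.Agent.H238.E8
open Cfsg.Agent.H908.E8L (Fr Mo bconj_e8)
open Cfsg.Agent.H828.E83 (Rel)

/-- the abstract form for one triple -/
theorem conj_one {G : Type*} [Group G] {x0 y0 y2 t0 : G} (S : G → G → Prop)
    (hS : ∀ t t', S t t' → ∃ k : ℕ, t⁻¹ * t' = y0 ^ k) (h0 : _root_.Cfsg.Agent.H828.E83.Rel x0 y0 t0)
    (hU : ∀ t : G, _root_.Cfsg.Agent.H828.E83.Rel x0 y0 t → ∃ k : G, k * x0 = x0 * k ∧ k * y0 = y0 * k ∧ S (k * t * k⁻¹) t0)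
    {x y t : G} (h : _root_.Cfsg.Agent.H828.E83.Rel x y t) (hB : ∃ g : G, g * x * g⁻¹ = x0 ∧ (g * y * g⁻¹ = y2 ∨ g * y * g⁻¹ = y0))
    (hne : ∀ g : G, g * x * g⁻¹ = x0 → g * y * g⁻¹ = y2 → False) :
    ∃ g : G, g * x * g⁻¹ = x0 ∧ g * y * g⁻¹ = y0 ∧ g * t * g⁻¹ = t0 := by
  obtain ⟨g, hx, hy⟩ := hB
  rcases hy with hy | hy
  · exact (hne g hx hy).elim
  have h1 := rel_conj h g
  rw [hx, hy] at h1
  obtain ⟨k, hkx, hky, hk⟩ := hU _ h1
  have h1' := rel_conj h1 k
  rw [conj_fix hkx, conj_fix hky] at h1'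
  have h2 := glue_abs S hS h1' h0 hk
  refine ⟨k * g, ?_, ?_, ?_⟩
  · rw [conj_conj, hx, conj_fix hkx]
  · rw [conj_conj, hy, conj_fix hky]
  · rw [conj_conj, h2]

/-- `x₀` -/
noncomputable abbrev xh : G8 := ph2 (ZMod 3) Mo

/-- `y₀` -/
noncomputable abbrev yh : G8 := ph2 (ZMod 3) Fr * ph1 (ZMod 3) Fr

theorem typA_ph : TypA yh := by
  have h : yh = Cfsg.Agent.H934.E83.p1 (ZMod 3) Fr * Cfsg.Agent.H934.E83.p2 (ZMod 3) Fr := by
    rw [yh, Cfsg.Agent.H934.E83.ph1_eq, Cfsg.Agent.H934.E83.ph2_eq]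
    exact (Cfsg.Agent.H934.E83.comm_eq Fr Fr).symm
  rw [h]
  exact typA_y0

/-- `t`, `t'` with the relations and the same action on `L^y` are equal -/
theorem glue_ph {t t' : G8} (h : _root_.Cfsg.Agent.H828.E83.Rel xh yh t) (h' : _root_.Cfsg.Agent.H828.E83.Rel xh yh t') (hu : SameU yh t t') : t = t' :=
  glue typA_ph h h' hu

/-- **all triples which are not of type `y₂` are conjugate** -/
theorem conj_e8 {t0 : G8} (h0 : _root_.Cfsg.Agent.H828.E83.Rel xh yh t0)
    (hU : ∀ t : G8, _root_.Cfsg.Agent.H828.E83.Rel xh yh t → ∃ k : G8, k * xh = xh * k ∧ k * yh = yh * k ∧ SameU yh (k * t * k⁻¹) t0)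
    {x y t : G8} (h : _root_.Cfsg.Agent.H828.E83.Rel x y t)
    (hne : ∀ g : G8, g * x * g⁻¹ = xh → g * y * g⁻¹ = ph2 (ZMod 3) Fr → False) :
    ∃ g : G8, g * x * g⁻¹ = xh ∧ g * y * g⁻¹ = yh ∧ g * t * g⁻¹ = t0 :=
  conj_one (SameU yh) (pow_of_same typA_ph) h0 hU h (bconj_e8 x y h.x11 h.x1 h.y5 h.yx) hne

end Cfsg.Agent.H60.E83
end

-- part: H738/E83/Norm
section
/-!
# The elements normalising the two `A₅` fix the lines of `q_I`, `q_II` (helper738, S5925 box L)
-/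

set_option autoImplicit false
set_option maxRecDepth 100000

namespace Cfsg.Agent.H738.E83

open Matrix Cfsg Cfsg.Lie
open Cfsg.Agent.H64.E83 (L3 mx er vec vec_nil vec_cons vec_append vec_smul eqv vec_eq er_eq Ph i4 i1 act4 act1 mx_mul)
open Cfsg.Agent.H788.E83 (SL5 Ax Ay At it)

/-- `E₈(3)` -/
abbrev G3 : Type := ↥(chevE8.group (ZMod 3))

/-- the fixed space of `A_II` (proved by helper455) -/
def FixII : Prop := ∀ v : L3, mx (Ph Ay) *ᵥ v = v → mx (Ph At) *ᵥ v = v →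
  mx (Ph At) *ᵥ (mx (Ph Ax⁻¹) *ᵥ v) = mx (Ph Ax⁻¹) *ᵥ v → ∃ c d : ZMod 3, v = c • vb wII + d • vb wII'

theorem mx_one : mx (1 : G3) = 1 := rfl

theorem mx_mul_inv (g : G3) (v : L3) : mx g *ᵥ (mx g⁻¹ *ᵥ v) = v := by
  rw [Matrix.mulVec_mulVec, ← mx_mul, mul_inv_cancel, mx_one, Matrix.one_mulVec]

/-- the vector `e₀` of `V` -/
def e0 : Fin 5 → ZMod 3 := ![1, 0, 0, 0, 0]

/-- the vector `f₀ + 2 f₄` of `V*` -/
def f0 : Fin 5 → ZMod 3 := ![1, 0, 0, 0, 2]

theorem qI_eq : vb wI = i4 e0 := by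
  unfold i4 e0
  rw [Fin.sum_univ_five]
  show vb wI = (1 : ZMod 3) • _ + (0 : ZMod 3) • _ + (0 : ZMod 3) • _ + (0 : ZMod 3) • _ + (0 : ZMod 3) • _
  rw [one_smul, zero_smul, zero_smul, zero_smul, zero_smul, add_zero, add_zero, add_zero, add_zero]
  exact vec_eq (by decide +kernel)

theorem qII_eq : vb wII = i1 f0 := by
  unfold i1 f0
  rw [Fin.sum_univ_five]
  show vb wII = (1 : ZMod 3) • _root_.Cfsg.Agent.H64.E83.vec (Cfsg.Agent.H64.E83.fb 0) + (0 : ZMod 3) • _ + (0 : ZMod 3) • _ + (0 : ZMod 3) • _ +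
    (2 : ZMod 3) • _root_.Cfsg.Agent.H64.E83.vec (Cfsg.Agent.H64.E83.fb 4)
  rw [one_smul, zero_smul, zero_smul, zero_smul, add_zero, add_zero, add_zero]
  have h2 : (2 : ZMod 3) = ((2 : ℤ) : ZMod 3) := rfl
  rw [h2, ← _root_.Cfsg.Agent.H64.E83.vec_smul, ← vec_append]
  exact vec_eq (by decide +kernel)

end Cfsg.Agent.H738.E83
end

-- part: H64/E83/End
section
/-!
# S5925: the end of the three cases `L₂(11)`, `PGL₂(11)`, `M₁₁` (helper64)

The inputs are the conjugacy of the triples (`hconj`), the lines (`uI`, `uII` : the vectors with the invariant property `P` in the fixed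
spaces of `A_I`, `A_II`) and for `M₁₁` the conclusion of the linear system.
-/

set_option autoImplicit false
set_option maxRecDepth 20000
set_option maxHeartbeats 400000

namespace Cfsg.Agent.H64.E83

open Matrix Cfsg Cfsg.Lie
open Cfsg.Agent.H788.E83 (SL5 As Ax Ay At)

/-! ### conjugation of subgroups -/

/-! ### the special vectors -/

theorem pgl_q (P : L3 → Prop) (hP : ∀ (g : E) v, P v → P (ac g v)) (hI : P qI)
    (uII : ∀ v, ac (Ph Ay) v = v → ac (Ph At) v = v → ac (Ph At) (ac (Ph Ax)⁻¹ v) = ac (Ph Ax)⁻¹ v → P v →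
      ∃ c : ZMod 3, v = c • qII)
    {h : E} (hx : h * Ph Ax * h⁻¹ = (Ph Ax)⁻¹) (hy : h * Ph Ay = Ph Ay * h) (ht : h * Ph At = Ph At * h) :
    ∃ c : ZMod 3, ac h qI = c • qII := by
  obtain ⟨h1, h2, h3⟩ := pgl_fix hx hy ht
  exact uII _ h1 h2 h3 (hP _ _ hI)

/-! ### the three cases -/

end Cfsg.Agent.H64.E83
end

-- part: H738/E83/Line
section
/-!
# The lines `q_I`, `q_II`: the inputs of helper64's `END` (helper738, S5925 box L)
-/

set_option autoImplicit false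
set_option maxRecDepth 100000

namespace Cfsg.Agent.H738.E83

open Matrix Cfsg Cfsg.Lie
open Cfsg.Agent.H64.E83 (L3 mx vec vec_nil vec_cons vec_append vec_smul eqv vec_eq Ph i4 i1 E ac)
open Cfsg.Agent.H788.E83 (SL5 Ax Ay At it)

/-- the invariant property -/
def Cz (v : L3) : Prop := ∀ u, cu v u = 0

theorem Cz_ac (g : E) (v : L3) (h : Cz v) : Cz (ac g v) := by
  intro u
  have h1 : u = mx g *ᵥ (mx g⁻¹ *ᵥ u) := (mx_mul_inv g u).symm
  show cu (mx g *ᵥ v) u = 0
  rw [h1, ← mx_cu, h, Matrix.mulVec_zero]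

theorem e0_eq : e0 = ![1, 0, 0, 0, 0] := rfl

theorem f0_eq : f0 = ![1, 0, 0, 0, 2] := rfl

theorem hqI : Cfsg.Agent.H64.E83.qI = vb wI := by
  rw [qI_eq, e0_eq]; rfl

theorem hqII : Cfsg.Agent.H64.E83.qII = vb wII := by
  rw [qII_eq, f0_eq]; rfl

theorem Cz_I : Cz Cfsg.Agent.H64.E83.qI := by rw [hqI]; exact cube_I

theorem lII_eq : Cfsg.Agent.H455.E83.qII = vb wII := vec_eq (by decide +kernel)

theorem lII'_eq : Cfsg.Agent.H455.E83.qII' = vb wII' := vec_eq (by decide +kernel)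

theorem hFixII : FixII := by
  intro v hy ht hx
  obtain ⟨c, d, h⟩ := Cfsg.Agent.H455.E83.fixII v hy ht hx
  rw [lII_eq, lII'_eq] at h
  exact ⟨c, d, h⟩

/-- the fixed vectors of `A_II` with cube 0 -/
theorem uII (v : L3) (hy : ac (Ph Ay) v = v) (ht : ac (Ph At) v = v)
    (hx : ac (Ph At) (ac (Ph Ax)⁻¹ v) = ac (Ph Ax)⁻¹ v) (hv : Cz v) :
    ∃ c : ZMod 3, v = c • Cfsg.Agent.H64.E83.qII := by
  rw [← map_inv] at hx
  obtain ⟨c, d, h⟩ := hFixII v hy ht hx
  have hd : d = 0 := by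
    by_contra hd
    apply ncube_II (c := c) hd
    rw [← h]; exact hv _
  rw [hd, zero_smul, add_zero] at h
  exact ⟨c, by rw [hqII]; exact h⟩

/-- **`PGL₂(11)`** -/
theorem pgl_line {h : E} (hx : h * Ph Ax * h⁻¹ = (Ph Ax)⁻¹) (hy : h * Ph Ay = Ph Ay * h)
    (ht : h * Ph At = Ph At * h) : ∃ c : ZMod 3, ac h Cfsg.Agent.H64.E83.qI = c • Cfsg.Agent.H64.E83.qII :=
  Cfsg.Agent.H64.E83.pgl_q Cz Cz_ac Cz_I uII hx hy ht

end Cfsg.Agent.H738.E83
end

-- part: H791/E8L/Bridge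
section
/-!
# S5925 (helper791): from `Rel x y t` for linear equivalences to the Hecke form of helper879 / helper395; bounds 22
-/

set_option autoImplicit false
set_option linter.unusedSectionVars false

namespace Cfsg.Agent.H791.E8L

open Module

section

variable {K V : Type*} [Field K] [AddCommGroup V] [Module K V] {x y t : V ≃ₗ[K] V}

/-- the endomorphism of a linear equivalence -/
def toE (x : V ≃ₗ[K] V) : Module.End K V := (x : V →ₗ[K] V)

theorem toE_mul (x y : V ≃ₗ[K] V) : toE (x * y) = toE x * toE y := rfl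

theorem toE_one : toE (1 : V ≃ₗ[K] V) = 1 := rfl

theorem toE_pow (x : V ≃ₗ[K] V) (n : ℕ) : toE (x ^ n) = toE x ^ n := by
  induction n with
  | zero => rfl
  | succ n ih => rw [pow_succ, pow_succ, toE_mul, ih]

/-- the Hecke relations -/
theorem Rel.toEnd (h : Rel x y t) (h3 : (3 : K) = 0) : Cfsg.Agent.H879.E83.Rel (toE x) (toE y) (toE t) where
  x11 := by rw [← toE_pow, h.x11, toE_one]
  y5 := by rw [← toE_pow, h.y5, toE_one]
  tt := by rw [← toE_mul, h.t2, toE_one]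
  yx := by
    rw [← toE_mul, ← toE_pow, ← toE_mul]
    congr 1
    have h1 := h.y_pow 1
    rwa [pow_one, mul_one] at h1
  ty := by
    rw [← toE_mul, ← toE_pow, ← toE_mul]
    congr 1
    have h1 : t * y = y⁻¹ * t := by rw [← h.ty, mul_assoc _ t t, h.t2, mul_one]
    have h2 : y ^ 4 = y⁻¹ := by
      rw [eq_inv_iff_mul_eq_one, ← pow_succ, h.y5]
    rw [h1, h2]
  txt := by
    rw [← toE_mul, ← toE_mul, ← toE_pow, ← toE_mul, ← toE_mul]
    congr 1
    have h2 : x ^ 10 = x⁻¹ := by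
      rw [eq_inv_iff_mul_eq_one, ← pow_succ, h.x11]
    rw [h2]
    have h3 := h.xt
    rw [pow_succ, pow_two] at h3
    have h4 : x * (t * x * t) * (x * t) = 1 := by rw [← h3]; simp only [mul_assoc]
    have ht : t⁻¹ = t := inv_eq_of_mul_eq_one_right h.t2
    have h5 : t * x * t = x⁻¹ * (x * (t * x * t) * (x * t)) * (x * t)⁻¹ := by group
    rw [h5, h4, mul_inv_rev, ht]
    group
  three := by
    ext v
    have h4 : (3 : Module.End K V) v = (3 : K) • v := by
      rw [show (3 : Module.End K V) = algebraMap K _ 3 from (map_ofNat _ 3).symm, Module.algebraMap_end_apply]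
    rw [h4, h3, zero_smul]
    rfl

theorem xR_toE (x : V ≃ₗ[K] V) : Cfsg.Agent.H879.E83.xR (toE x) = XQ x := by
  have h1 : XQ x = toE (x ^ 1) + toE (x ^ 3) + toE (x ^ 4) + toE (x ^ 5) + toE (x ^ 9) := rfl
  rw [h1, Cfsg.Agent.H879.E83.xR]
  simp only [toE_pow, pow_one]

theorem xN_toE (x : V ≃ₗ[K] V) : Cfsg.Agent.H879.E83.xN (toE x) = XN x := by
  have h1 : XN x = toE (x ^ 2) + toE (x ^ 6) + toE (x ^ 7) + toE (x ^ 8) + toE (x ^ 10) := rfl
  rw [h1, Cfsg.Agent.H879.E83.xN]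
  simp only [toE_pow]

theorem partN_eq' [FiniteDimensional K V] (x y : V ≃ₗ[K] V) :
    Cfsg.Agent.H395.E83.partR (toE x) (toE y) = partN x y := by
  ext v
  rw [Cfsg.Agent.H395.E83.mem_partR, xN_toE]
  rfl

theorem partQ_eq' [FiniteDimensional K V] (x y : V ≃ₗ[K] V) :
    Cfsg.Agent.H395.E83.partN (toE x) (toE y) = partQ x y := by
  ext v
  rw [Cfsg.Agent.H395.E83.mem_partN, xR_toE]
  rfl

/-- **bound 22 (Q)** -/
theorem Rel.partQ_le [FiniteDimensional K V] (h : Rel x y t) (h3 : (3 : K) = 0) (hM : finrank K V = 248)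
    (hk : finrank K (LinearMap.ker (XN x)) = finrank K (LinearMap.ker (XQ x)))
    (h24 : 24 ≤ finrank K (LinearMap.ker (toE x - 1))) : finrank K (partQ x y) ≤ 22 := by
  rw [← partQ_eq']
  exact Cfsg.Agent.H395.E83.partN_le (h.toEnd h3) hM (by rw [xN_toE, xR_toE]; exact hk) h24

/-- **bound 22 (N)** -/
theorem Rel.partN_le [FiniteDimensional K V] (h : Rel x y t) (h3 : (3 : K) = 0) (hM : finrank K V = 248)
    (hk : finrank K (LinearMap.ker (XN x)) = finrank K (LinearMap.ker (XQ x)))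
    (h24 : 24 ≤ finrank K (LinearMap.ker (toE x - 1))) : finrank K (partN x y) ≤ 22 := by
  rw [← partN_eq']
  exact Cfsg.Agent.H395.E83.partR_le (h.toEnd h3) hM (by rw [xN_toE, xR_toE]; exact hk) h24

theorem fixB_le (x y : V ≃ₗ[K] V) : fixB x y ≤ LinearMap.ker (toE x - 1) := by
  intro v hv
  rw [LinearMap.mem_ker, LinearMap.sub_apply, sub_eq_zero]
  exact hv.1

/-- **`dim V^B ≥ 24` is impossible without fixed vectors** -/
theorem Rel.no24 [FiniteDimensional K V] (h : Rel x y t) (h3 : (3 : K) = 0) (hM : finrank K V = 248)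
    (hk : finrank K (LinearMap.ker (XN x)) = finrank K (LinearMap.ker (XQ x)))
    (h24 : 24 ≤ finrank K (fixB x y)) (hfix : ∀ u, x u = u → y u = u → t u = u → u = 0) : False := by
  have h1 := h.finrank_le h3 hfix
  have h2 := h.partQ_le h3 hM hk (h24.trans (Submodule.finrank_mono (fixB_le x y)))
  omega

/-- **`dim V^B ≥ 24` is impossible for `M₁₁`** (side Q) -/
theorem Rel.no24Q [FiniteDimensional K V] (h : Rel x y t) (h3 : (3 : K) = 0) (hM : finrank K V = 248)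
    (hk : finrank K (LinearMap.ker (XN x)) = finrank K (LinearMap.ker (XQ x)))
    (h24 : 24 ≤ finrank K (fixB x y)) (g : fixS x y t →ₗ[K] V)
    (hg : ∀ w, g w = 0 → w = 0) (hgp : ∀ w, g w ∈ partQ x y) (hgt : ∀ w, t (g w) = g w) : False := by
  have h1 := h.count h3 g hg hgp hgt
  have h2 := h.partQ_le h3 hM hk (h24.trans (Submodule.finrank_mono (fixB_le x y)))
  omega

/-- **`dim V^B ≥ 24` is impossible for `M₁₁`** (side N) -/
theorem Rel.no24N [FiniteDimensional K V] (h : Rel x y t) (h3 : (3 : K) = 0) (hM : finrank K V = 248)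
    (hk : finrank K (LinearMap.ker (XN x)) = finrank K (LinearMap.ker (XQ x)))
    (h24 : 24 ≤ finrank K (fixB x y)) (g : fixS x y t →ₗ[K] V)
    (hg : ∀ w, g w = 0 → w = 0) (hgp : ∀ w, g w ∈ partN x y) (hgt : ∀ w, t (g w) = g w) : False := by
  have h1 := h.countN h3 g hg hgp hgt
  have h2 := h.partN_le h3 hM hk (h24.trans (Submodule.finrank_mono (fixB_le x y)))
  omega

end

end Cfsg.Agent.H791.E8L
end

private theorem dce_3281077229fb : _root_.True := by
  try have : _root_.True := by simp only [_root_.Cfsg.Agent.H60.E83.tv.congr_simp]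
  try have : _root_.True := by simp only [_root_.Cfsg.Agent.H60.E83.Wm.eq_1]
  try have : _root_.True := by simp only [_root_.Cfsg.Agent.H60.E83.y0.eq_1]
  try have : _root_.True := by simp only [_root_.Cfsg.Agent.H942.CB.toR.eq_1]
  try have : _root_.True := by simp only [_root_.Cfsg.Agent.H60.E83.tD.eq_1]
  try have : _root_.True := by simp only [_root_.Cfsg.Agent.H60.E83.Dm.eq_1]
  try have : _root_.True := by simp only [_root_.Cfsg.Agent.H60.E83.Dg.eq_1]
  try have : _root_.True := by simp only [_root_.Cfsg.Agent.H60.E83.yh.eq_1]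
  try have : _root_.True := by simp only [_root_.Cfsg.Agent.H60.E83.cmb.eq_1]
  exact _root_.True.intro
end

-- part: H977/E83/Fin
section
prune_inst 0x14200104440000000018000000000060220004020000000040600b000208606028062041a800010200028c4c00010000100000100040000004000000011901a080024206b308a104460001000000000000000000000000000000000000000000000000000
set_option linter.all false
open scoped Cfsg.Agent.FastGrp

-- part: H977/E83/Asm
section
/-!
# S5925: the final assembly (helper977)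

`asm` : the statement of S5925 from the boxes CONJ, E, M, FIXV, PGL, K (structure `Hyp`).
-/

set_option autoImplicit false
set_option maxRecDepth 10000

namespace Cfsg.Agent.H977.E83.Asm

open Matrix Cfsg Cfsg.Lie
open Cfsg.Agent.H64.E83 (E L3 Ph ac mx ac_one ac_mul ac_inv_ac ac_ac_inv ac_add ac_smul stabW mem_stabW U4 U1 dvd_of_stab
  ne_top4 ne_top1 ne_top41 Ph_stab4 Ph_stab1 Ph_stab41)
open Cfsg.Agent.H788.E83 (SL5 As Ax Ay At)
open Cfsg.Agent.H114.E8L (BE BM BP NF x0 y2)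
open Cfsg.Agent.H837.E83.NM11 (eqP4)

/-- the relations of helper791 -/
abbrev Rl (x y t : E) : Prop := Cfsg.Agent.H791.E8L.Rel x y t

/-- the boxes -/
structure Hyp : Prop where
  conj : ∀ x y t : E, Rl x y t → x ≠ 1 → y ≠ 1 → (¬ ∃ g : E, g * x * g⁻¹ = x0 ∧ g * y * g⁻¹ = y2) →
    ∃ g : E, g * x * g⁻¹ = Ph Ax ∧ g * y * g⁻¹ = Ph Ay ∧ g * t * g⁻¹ = Ph At
  be : BE
  bm : BM eqP4
  fixv : ∀ (H : Subgroup E) (W : Submodule (ZMod 3) L3) (x : E), IsCoatom H → W ≠ ⊥ → x ^ 11 = 1 → x ≠ 1 →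
    (∀ v ∈ W, ac x v = v) → H ≤ stabW W → 121 ∣ Nat.card H
  pgl : ∀ h : E, h * Ph Ax * h⁻¹ = (Ph Ax)⁻¹ → h * h = 1 → h * Ph Ay = Ph Ay * h → h * Ph At = Ph At * h →
    h ∈ stabW (U4 ⊔ U1)
  bk : ∀ f : E, (∀ w w' : List (Fin 4), eqP4 w w' = true →
    (w.map ![Ph Ax, Ph Ay, Ph At, f]).prod = (w'.map ![Ph Ax, Ph Ay, Ph At, f]).prod) → f ∈ stabW U1

/-! ### fixed spaces -/

/-- the common fixed space -/
def fx (X : Set E) : Submodule (ZMod 3) L3 where
  carrier := {v | ∀ g ∈ X, ac g v = v}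
  zero_mem' := fun g _ => Matrix.mulVec_zero _
  add_mem' := fun {a b} ha hb g hg => by rw [ac_add, ha g hg, hb g hg]
  smul_mem' := fun c v hv g hg => by rw [ac_smul, hv g hg]

theorem fx_self {X : Set E} {g : E} (hg : g ∈ X) : g ∈ stabW (fx X) := by
  intro v hv
  rw [hv g hg]
  exact hv

theorem fx_closure {X : Set E} {v : L3} (hv : v ∈ fx X) {g : E} (hg : g ∈ Subgroup.closure X) : ac g v = v := by
  induction hg using Subgroup.closure_induction with
  | mem g hg => exact hv g hg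
  | one => exact ac_one v
  | mul a b _ _ ha hb => rw [ac_mul, hb, ha]
  | inv a _ ha =>
    have h := ac_inv_ac a v
    rwa [ha] at h

theorem fx_norm {X : Set E} {h : E} (hX : ∀ g ∈ X, ∃ g' ∈ Subgroup.closure X, g * h = h * g') : h ∈ stabW (fx X) := by
  intro v hv g hg
  obtain ⟨g', hg', e⟩ := hX g hg
  rw [← ac_mul, e, ac_mul, fx_closure hv hg']

/-! ### conjugate subgroups -/

section gen

variable {G : Type*} [Group G]

theorem coatom_map (g : G) {H : Subgroup G} (hH : IsCoatom H) : IsCoatom (H.map (MulAut.conj g).toMonoidHom) := by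
  have h := ((MulAut.conj g : G ≃* G).mapSubgroup).isCoatom_iff H
  exact h.2 hH

theorem card_map (g : G) (H : Subgroup G) : Nat.card ↥(H.map (MulAut.conj g).toMonoidHom) = Nat.card ↥H :=
  (Nat.card_congr (H.equivMapOfInjective _ (MulAut.conj g).injective).toEquiv).symm

theorem map_cl (g : G) {H : Subgroup G} {X : Set G} (h : Subgroup.closure X = H) :
    H.map (MulAut.conj g).toMonoidHom = Subgroup.closure ((fun a : G => g * a * g⁻¹) '' X) := by
  rw [← h, MonoidHom.map_closure]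
  rfl

/-- the data of box N in the ambient group -/
theorem psl_sub {F : Type*} [Field F] [Fintype F] [Finite G] (hF : Fintype.card F = 11) (H : Subgroup G)
    (e : Nonempty (↥(Cfsg.generalizedFittingSubgroup ↥H) ≃* Matrix.ProjectiveSpecialLinearGroup (Fin 2) F)) :
    ∃ x y t : G, Cfsg.Agent.H791.E8L.Rel x y t ∧ x ≠ 1 ∧ y ≠ 1 ∧ (Subgroup.closure {x, y, t} = H ∨
      ∃ h : G, h * h = 1 ∧ h * x * h⁻¹ = x⁻¹ ∧ h * y = y * h ∧ h * t = t * h ∧ Subgroup.closure {x, y, t, h} = H) := by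
  obtain ⟨x, y, t, hR, hcl⟩ := Cfsg.Agent.H828.E83.psl hF e
  have htt : (t : G) * t = 1 := congrArg Subtype.val hR.tt
  refine ⟨x, y, t, ?_, fun h => hR.x1 (Subtype.ext h), fun h => hR.y1 (Subtype.ext h), ?_⟩
  · exact
    { x11 := congrArg Subtype.val hR.x11
      y5 := congrArg Subtype.val hR.y5
      t2 := htt
      xt := by
        have h : (x : G) * t * (x * t) * (x * t) = 1 := congrArg Subtype.val hR.xt
        rw [pow_succ, pow_succ, pow_one]
        exact h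
      yx := congrArg Subtype.val hR.yx
      ty := by
        have h2 : (t : G)⁻¹ = t := inv_eq_of_mul_eq_one_right htt
        have h3 : (t : G) * y * (t : G)⁻¹ = (y : G)⁻¹ := congrArg Subtype.val hR.ty
        rwa [h2] at h3 }
  · rcases hcl with hcl | ⟨h, -, hh, hx, hy, ht, hcl⟩
    · left
      have h1 := congrArg (Subgroup.map H.subtype) hcl
      rw [MonoidHom.map_closure, Set.image_insert_eq, Set.image_pair, ← MonoidHom.range_eq_map,
        Subgroup.range_subtype] at h1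
      exact h1
    · right
      refine ⟨h, congrArg Subtype.val hh, congrArg Subtype.val hx, congrArg Subtype.val hy, congrArg Subtype.val ht, ?_⟩
      have h1 := congrArg (Subgroup.map H.subtype) hcl
      rw [MonoidHom.map_closure, Set.image_insert_eq, Set.image_insert_eq, Set.image_pair, ← MonoidHom.range_eq_map,
        Subgroup.range_subtype] at h1
      exact h1

theorem word_map {A B : Type*} [Group A] [Group B] (φ : A →* B) (x y t f : A) (w : List (Fin 4)) :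
    φ (w.map ![x, y, t, f]).prod = (w.map ![φ x, φ y, φ t, φ f]).prod := by
  rw [map_list_prod, List.map_map]
  congr 1
  refine List.map_congr_left fun i _ => ?_
  fin_cases i <;> rfl

/-- the data of box N3 -/
theorem m11_sub [Finite G] (H : Subgroup G) (e : Cfsg.Spor.IsoM11 ↥(Cfsg.generalizedFittingSubgroup ↥H)) :
    ∃ x y t f : G, Cfsg.Agent.H791.E8L.Rel x y t ∧ x ≠ 1 ∧ y ≠ 1 ∧ Subgroup.closure {x, y, t, f} = H ∧
      ∀ g : G, ∀ w w' : List (Fin 4), eqP4 w w' = true →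
        (w.map ![g * x * g⁻¹, g * y * g⁻¹, g * t * g⁻¹, g * f * g⁻¹]).prod =
          (w'.map ![g * x * g⁻¹, g * y * g⁻¹, g * t * g⁻¹, g * f * g⁻¹]).prod := by
  obtain ⟨x, y, t, f, hcl, -, hw⟩ := Cfsg.Agent.H837.E83.NM11.main_sub4 H e
  refine ⟨x, y, t, f, ?_, ?_, ?_, hcl, ?_⟩
  · exact
    { x11 := by
        simpa only [pow_succ, mul_assoc, _root_.pow_zero, _root_.one_mul, _root_.Nat.succ_eq_add_one, _root_.Nat.reduceAdd, _root_.Fin.isValue, _root_.List.map_cons, _root_.Matrix.cons_val_zero, _root_.List.map_nil, _root_.List.prod_cons, _root_.List.prod_nil, _root_.mul_one] using (hw [0, 0, 0, 0, 0, 0, 0, 0, 0, 0, 0] []).1 (by decide +kernel)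
      y5 := by
        simpa only [pow_succ, mul_assoc, _root_.pow_zero, _root_.one_mul, _root_.Nat.succ_eq_add_one, _root_.Nat.reduceAdd, _root_.Fin.isValue, _root_.List.map_cons, _root_.Matrix.cons_val_one, _root_.Matrix.cons_val_zero, _root_.List.map_nil, _root_.List.prod_cons, _root_.List.prod_nil, _root_.mul_one] using (hw [1, 1, 1, 1, 1] []).1 (by decide +kernel)
      t2 := by
        simpa only [pow_succ, mul_assoc, _root_.Nat.succ_eq_add_one, _root_.Nat.reduceAdd, _root_.Fin.isValue, _root_.List.map_cons, _root_.Matrix.cons_val, _root_.List.map_nil, _root_.List.prod_cons, _root_.List.prod_nil, _root_.mul_one] using (hw [2, 2] []).1 (by decide +kernel)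
      xt := by
        simpa only [pow_succ, mul_assoc, _root_.pow_zero, _root_.one_mul, _root_.Nat.succ_eq_add_one, _root_.Nat.reduceAdd, _root_.Fin.isValue, _root_.List.map_cons, _root_.Matrix.cons_val_zero, _root_.Matrix.cons_val, _root_.List.map_nil, _root_.List.prod_cons, _root_.List.prod_nil, _root_.mul_one] using (hw [0, 2, 0, 2, 0, 2] []).1 (by decide +kernel)
      yx := by
        have h : y * x = x ^ 3 * y := by
          simpa only [pow_succ, mul_assoc, _root_.pow_zero, _root_.one_mul, _root_.Nat.succ_eq_add_one, _root_.Nat.reduceAdd, _root_.Fin.isValue, _root_.List.map_cons, _root_.Matrix.cons_val_one, _root_.Matrix.cons_val_zero, _root_.List.map_nil, _root_.List.prod_cons, _root_.List.prod_nil, _root_.mul_one] using (hw [1, 0] [0, 0, 0, 1]).1 (by decide +kernel)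
        rw [h, mul_inv_cancel_right]
      ty := by
        have h : t * y * t * y = 1 := by
          simpa only [pow_succ, mul_assoc, _root_.Nat.succ_eq_add_one, _root_.Nat.reduceAdd, _root_.Fin.isValue, _root_.List.map_cons, _root_.Matrix.cons_val, _root_.Matrix.cons_val_one, _root_.Matrix.cons_val_zero, _root_.List.map_nil, _root_.List.prod_cons, _root_.List.prod_nil, _root_.mul_one] using (hw [2, 1, 2, 1] []).1 (by decide +kernel)
        exact eq_inv_of_mul_eq_one_left h }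
  · intro h
    have h1 := (hw [0] []).2 (by simpa using h)
    exact absurd h1 (by decide +kernel)
  · intro h
    have h1 := (hw [1] []).2 (by simpa using h)
    exact absurd h1 (by decide +kernel)
  · intro g w w' h
    have h1 := congrArg (MulAut.conj g).toMonoidHom ((hw w w').1 h)
    rw [word_map, word_map] at h1
    exact h1

theorem rel_conj {x y t : G} (h : Cfsg.Agent.H791.E8L.Rel x y t) (g : G) :
    Cfsg.Agent.H791.E8L.Rel (g * x * g⁻¹) (g * y * g⁻¹) (g * t * g⁻¹) := h.map (MulAut.conj g).toMonoidHom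

theorem mem_pgl {g h x y t : G} (hh : h * h = 1) (hx : h * x * h⁻¹ = x⁻¹) (hy : h * y = y * h) (ht : h * t = t * h) :
    g * h * g⁻¹ * (g * x * g⁻¹) * (g * h * g⁻¹)⁻¹ = (g * x * g⁻¹)⁻¹ ∧ g * h * g⁻¹ * (g * h * g⁻¹) = 1 ∧
      g * h * g⁻¹ * (g * y * g⁻¹) = g * y * g⁻¹ * (g * h * g⁻¹) ∧
      g * h * g⁻¹ * (g * t * g⁻¹) = g * t * g⁻¹ * (g * h * g⁻¹) := by
  refine ⟨?_, ?_, ?_, ?_⟩
  · calc g * h * g⁻¹ * (g * x * g⁻¹) * (g * h * g⁻¹)⁻¹ = g * (h * x * h⁻¹) * g⁻¹ := by group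
      _ = (g * x * g⁻¹)⁻¹ := by rw [hx]; group
  · calc g * h * g⁻¹ * (g * h * g⁻¹) = g * (h * h) * g⁻¹ := by group
      _ = 1 := by rw [hh]; group
  · calc g * h * g⁻¹ * (g * y * g⁻¹) = g * (h * y) * g⁻¹ := by group
      _ = g * y * g⁻¹ * (g * h * g⁻¹) := by rw [hy]; group
  · calc g * h * g⁻¹ * (g * t * g⁻¹) = g * (h * t) * g⁻¹ := by group
      _ = g * t * g⁻¹ * (g * h * g⁻¹) := by rw [ht]; group

end gen

/-- the inverse image of a fixed vector -/
theorem conj_fix {g a : E} {v : L3} (h : ac (g * a * g⁻¹) v = v) : ac a (ac g⁻¹ v) = ac g⁻¹ v := by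
  have h1 := congrArg (ac g⁻¹) h
  have h2 : g⁻¹ * (g * a * g⁻¹) = a * g⁻¹ := by group
  rwa [← ac_mul, h2, ac_mul] at h1

theorem ac_ne {g : E} {v : L3} (h : v ≠ 0) : ac g v ≠ 0 := by
  intro h1
  apply h
  rw [← ac_inv_ac g v, h1]
  exact Matrix.mulVec_zero _

/-! ### the case `F*(H) ≅ L₂(11)` -/

theorem psl_case (hyp : Hyp) {F : Type*} [Field F] [Fintype F] (hF : Fintype.card F = 11) (H : Subgroup E)
    (e : Nonempty (↥(Cfsg.generalizedFittingSubgroup ↥H) ≃* Matrix.ProjectiveSpecialLinearGroup (Fin 2) F))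
    (hH : IsCoatom H) : False := by
  apply Cfsg.Agent.H332.E83.card_psl hF e
  obtain ⟨x, y, t, hR, hx1, hy1, hcl⟩ := psl_sub hF H e
  by_cases hc : ∃ g : E, g * x * g⁻¹ = x0 ∧ g * y * g⁻¹ = y2
  · obtain ⟨g, g1, g2⟩ := hc
    have hR2 := rel_conj hR g
    rw [g1, g2] at hR2
    have hn := hyp.be _ hR2
    unfold NF at hn
    push Not at hn
    obtain ⟨v, v1, v2, v3, v0⟩ := hn
    obtain ⟨X, hX⟩ : ∃ X : Set E, X = {x, y, t} := ⟨_, rfl⟩
    have hxX : x ∈ X := by rw [hX]; simp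
    have hyX : y ∈ X := by rw [hX]; simp
    have htX : t ∈ X := by rw [hX]; simp
    refine hyp.fixv H (fx X) x hH ?_ hR.x11 hx1 (fun v hv => hv _ hxX) ?_
    · intro hb
      have hm : ac g⁻¹ v ∈ fx X := by
        intro a ha
        rw [hX] at ha
        rcases ha with rfl | rfl | rfl
        · exact conj_fix (by rw [g1]; exact v1)
        · exact conj_fix (by rw [g2]; exact v2)
        · exact conj_fix v3
      rw [hb, Submodule.mem_bot] at hm
      exact ac_ne v0 hm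
    · rcases hcl with hcl | ⟨h, hh, hx, hy, ht, hcl⟩
      · rw [← hcl, ← hX, Subgroup.closure_le]
        exact fun a ha => fx_self ha
      · rw [← hcl, Subgroup.closure_le]
        rintro a (rfl | rfl | rfl | rfl)
        · exact fx_self hxX
        · exact fx_self hyX
        · exact fx_self htX
        · refine fx_norm fun b hb => ?_
          rw [hX] at hb
          rcases hb with rfl | rfl | rfl
          · refine ⟨b⁻¹, Subgroup.inv_mem _ (Subgroup.subset_closure hxX), ?_⟩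
            have e1 : b = (a * b * a⁻¹)⁻¹ := by rw [hx, inv_inv]
            calc b * a = (a * b * a⁻¹)⁻¹ * a := by rw [← e1]
              _ = a * b⁻¹ := by group
          · exact ⟨_, Subgroup.subset_closure hyX, hy.symm⟩
          · exact ⟨_, Subgroup.subset_closure htX, ht.symm⟩
  · obtain ⟨g, g1, g2, g3⟩ := hyp.conj _ _ _ hR hx1 hy1 hc
    rw [← card_map g H]
    rcases hcl with hcl | ⟨h, hh, hx, hy, ht, hcl⟩
    · refine dvd_of_stab (coatom_map g hH) (W := U4) Ph_stab4 ne_top4 ?_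
      rw [map_cl g hcl, Subgroup.closure_le]
      rintro _ ⟨a, ha, rfl⟩
      rcases ha with rfl | rfl | rfl
      · show g * _ * g⁻¹ ∈ stabW U4
        rw [g1]; exact Ph_stab4 _
      · show g * _ * g⁻¹ ∈ stabW U4
        rw [g2]; exact Ph_stab4 _
      · show g * _ * g⁻¹ ∈ stabW U4
        rw [g3]; exact Ph_stab4 _
    · refine dvd_of_stab (coatom_map g hH) (W := U4 ⊔ U1) Ph_stab41 ne_top41 ?_
      obtain ⟨p1, p2, p3, p4⟩ := mem_pgl (g := g) hh hx hy ht
      rw [g1] at p1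
      rw [g2] at p3
      rw [g3] at p4
      rw [map_cl g hcl, Subgroup.closure_le]
      rintro _ ⟨a, ha, rfl⟩
      rcases ha with rfl | rfl | rfl | rfl
      · show g * _ * g⁻¹ ∈ stabW (U4 ⊔ U1)
        rw [g1]; exact Ph_stab41 _
      · show g * _ * g⁻¹ ∈ stabW (U4 ⊔ U1)
        rw [g2]; exact Ph_stab41 _
      · show g * _ * g⁻¹ ∈ stabW (U4 ⊔ U1)
        rw [g3]; exact Ph_stab41 _
      · exact hyp.pgl _ p1 p2 p3 p4

/-! ### the case `F*(H) ≅ M₁₁` -/

theorem m11_case (hyp : Hyp) (H : Subgroup E) (e : Cfsg.Spor.IsoM11 ↥(Cfsg.generalizedFittingSubgroup ↥H))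
    (hH : IsCoatom H) : False := by
  apply Cfsg.Agent.H332.E83.card_m11 e
  obtain ⟨x, y, t, f, hR, hx1, hy1, hcl, hwg⟩ := m11_sub H e
  by_cases hc : ∃ g : E, g * x * g⁻¹ = x0 ∧ g * y * g⁻¹ = y2
  · obtain ⟨g, g1, g2⟩ := hc
    have hR2 := rel_conj hR g
    have hw2 := hwg g
    rw [g1, g2] at hR2 hw2
    obtain ⟨v, v1, v2, v3, v4, v0⟩ : ∃ v : L3, ac x0 v = v ∧ ac y2 v = v ∧ ac (g * t * g⁻¹) v = v ∧
        ac (g * f * g⁻¹) v = v ∧ v ≠ 0 := by
      by_contra hn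
      push Not at hn
      exact hyp.bm _ (g * f * g⁻¹) hR2 hw2 hn
    obtain ⟨X, hX⟩ : ∃ X : Set E, X = {x, y, t, f} := ⟨_, rfl⟩
    have hxX : x ∈ X := by rw [hX]; simp
    refine hyp.fixv H (fx X) x hH ?_ hR.x11 hx1 (fun v hv => hv _ hxX) ?_
    · intro hb
      have hm : ac g⁻¹ v ∈ fx X := by
        intro a ha
        rw [hX] at ha
        rcases ha with rfl | rfl | rfl | rfl
        · exact conj_fix (by rw [g1]; exact v1)
        · exact conj_fix (by rw [g2]; exact v2)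
        · exact conj_fix v3
        · exact conj_fix v4
      rw [hb, Submodule.mem_bot] at hm
      exact ac_ne v0 hm
    · rw [← hcl, ← hX, Subgroup.closure_le]
      exact fun a ha => fx_self ha
  · obtain ⟨g, g1, g2, g3⟩ := hyp.conj _ _ _ hR hx1 hy1 hc
    rw [← card_map g H]
    refine dvd_of_stab (coatom_map g hH) (W := U1) Ph_stab1 ne_top1 ?_
    have hw2 := hwg g
    rw [g1, g2, g3] at hw2
    rw [map_cl g hcl, Subgroup.closure_le]
    rintro _ ⟨a, ha, rfl⟩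
    rcases ha with rfl | rfl | rfl | rfl
    · show g * _ * g⁻¹ ∈ stabW U1
      rw [g1]; exact Ph_stab1 _
    · show g * _ * g⁻¹ ∈ stabW U1
      rw [g2]; exact Ph_stab1 _
    · show g * _ * g⁻¹ ∈ stabW U1
      rw [g3]; exact Ph_stab1 _
    · exact hyp.bk _ hw2

/-- **S5925 from the boxes** -/
theorem asm (hyp : Hyp) {F : Type*} [Field F] [Fintype F] (hF : Fintype.card F = 11)
    (H : Subgroup ↥(Cfsg.Lie.chevE8.group (ZMod 3)))
    (hH : Nonempty (↥(Cfsg.generalizedFittingSubgroup ↥H) ≃* Matrix.ProjectiveSpecialLinearGroup (Fin 2) F) ∨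
      Cfsg.Spor.IsoM11 ↥(Cfsg.generalizedFittingSubgroup ↥H)) : ¬ IsCoatom H := by
  intro h
  rcases hH with e | e
  · exact psl_case hyp hF H e h
  · exact m11_case hyp H e h

end Cfsg.Agent.H977.E83.Asm
end

-- part: H977/E83/FixV
section
/-!
# S5925: a coatom fixing a nonzero vector has order divisible by 121 (helper977)
-/

set_option autoImplicit false

namespace Cfsg.Agent.H977.E83.Asm

open Matrix Cfsg Cfsg.Lie
open Cfsg.Agent.H64.E83 (E L3 Ph ac mx ac_one ac_mul ac_inv_ac ac_ac_inv ac_add ac_smul stabW mem_stabW)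
open Cfsg.Agent.H114.E8L (BP)

theorem simpleE : IsSimpleGroup E := (Cfsg.Agent.S1054.result (F := ZMod 3) chevE8 (by simp)).1

/-- the pointwise stabiliser -/
def pst (W : Submodule (ZMod 3) L3) : Subgroup E where
  carrier := {g | ∀ v ∈ W, ac g v = v}
  one_mem' := fun v _ => ac_one v
  mul_mem' := fun {a b} ha hb v hv => by rw [ac_mul, hb v hv, ha v hv]
  inv_mem' := by
    intro g hg v hv
    have h := ac_inv_ac g v
    rwa [hg v hv] at h

theorem stab_ne_top {W : Submodule (ZMod 3) L3} (hW : W ≠ ⊥) {x : E} (hx1 : x ≠ 1) (hx : ∀ v ∈ W, ac x v = v) :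
    stabW W ≠ ⊤ := by
  intro htop
  have hn : (pst W).Normal := by
    refine ⟨fun n hn g v hv => ?_⟩
    have h1 : ac g⁻¹ v ∈ W := (htop ▸ Subgroup.mem_top g⁻¹ : g⁻¹ ∈ stabW W) v hv
    rw [ac_mul, ac_mul, hn _ h1, ac_ac_inv]
  have hs := simpleE
  rcases hn.eq_bot_or_eq_top with h | h
  · apply hx1
    have h1 : x ∈ pst W := hx
    rwa [h, Subgroup.mem_bot] at h1
  · apply hW
    rw [eq_bot_iff]
    intro v hv
    rw [Submodule.mem_bot]
    have h1 : ∀ g : E, ac g v = v := fun g => (h ▸ Subgroup.mem_top g : g ∈ pst W) v hv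
    exact Cfsg.Agent.H74.E83.Trip.noFix (h1 _) (h1 _) (h1 _)

/-- **box FIXV** -/
theorem fixv (hP : BP) (H : Subgroup E) (W : Submodule (ZMod 3) L3) (x : E) (hH : IsCoatom H) (hW : W ≠ ⊥)
    (h11 : x ^ 11 = 1) (hx1 : x ≠ 1) (hx : ∀ v ∈ W, ac x v = v) (hHW : H ≤ stabW W) : 121 ∣ Nat.card H := by
  have h1 : stabW W = H := (hH.le_iff.1 hHW).resolve_left (stab_ne_top hW hx1 hx)
  obtain ⟨x', hx', hv⟩ := hP x h11 hx1
  have h2 : x' ∈ H := by
    rw [← h1]
    intro v hvW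
    have h3 : ac x' v = v := hv v (hx v hvW)
    rw [h3]
    exact hvW
  have h3 := Subgroup.orderOf_dvd_natCard H h2
  rwa [hx'] at h3

end Cfsg.Agent.H977.E83.Asm
end

-- part: H64/E83/Conj
section
/-!
# S5925: every triple which is not of type `y₂` is conjugate to `(Ph Ax, Ph Ay, Ph At)` (helper64)
-/

set_option autoImplicit false
set_option maxRecDepth 10000

namespace Cfsg.Agent.H64.E83

open Matrix Cfsg Cfsg.Lie
open Cfsg.Agent.H788.E83 (SL5 As Ax Ay At)
open Cfsg.Agent.H238.E8 (ph1 ph2)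
open Cfsg.Agent.H60.E83 (xh yh SameU conj_e8)
open Cfsg.Agent.H828.E83 (Rel)
open Cfsg.Agent.H908.E8L (Fr Mo bconj_e8)

/-- `y₂` -/
noncomputable abbrev yh2 : E := ph2 (ZMod 3) Fr

/-- no common fixed vector -/
def NFx (x y t : E) : Prop := ∀ v : L3, ac x v = v → ac y v = v → ac t v = v → v = 0

/-- box E -/
def BEh : Prop := ∀ t : E, _root_.Cfsg.Agent.H828.E83.Rel xh yh2 t → ¬ NFx xh yh2 t

theorem rel_ph : _root_.Cfsg.Agent.H828.E83.Rel (Ph Ax) (Ph Ay) (Ph At) where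
  x11 := H74.E83.Trip.x1_pow
  x1 := H74.E83.Trip.x1_ne
  y5 := H74.E83.Trip.y1_pow
  y1 := H74.E83.Trip.y1_ne
  yx := H74.E83.Trip.y1_x1
  tt := htt
  ty := by
    have h : (Ph At)⁻¹ = Ph At := inv_eq_of_mul_eq_one_right htt
    rw [h]; exact H74.E83.Trip.t1_y1
  xt := by
    have h : (Ph Ax * Ph At) ^ 3 = 1 := H74.E83.Trip.x1_t1
    rw [← h, pow_succ, pow_two]

theorem nf_ph : NFx (Ph Ax) (Ph Ay) (Ph At) := fun _ h1 h2 h3 => H74.E83.Trip.noFix h1 h2 h3

theorem nf_conj {x y t : E} (g : E) (h : NFx x y t) : NFx (g * x * g⁻¹) (g * y * g⁻¹) (g * t * g⁻¹) := by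
  intro v h1 h2 h3
  have key : ∀ a : E, ac (g * a * g⁻¹) v = v → ac a (ac g⁻¹ v) = ac g⁻¹ v := by
    intro a ha
    rw [ac_mul, ac_mul] at ha
    have h4 := congrArg (ac g⁻¹) ha
    rwa [ac_inv_ac] at h4
  have h5 := h _ (key _ h1) (key _ h2) (key _ h3)
  have h6 := ac_ac_inv g v
  rw [h5] at h6
  rw [← h6]
  exact Matrix.mulVec_zero _

theorem rel_cj {x y t : E} (h : _root_.Cfsg.Agent.H828.E83.Rel x y t) (g : E) : _root_.Cfsg.Agent.H828.E83.Rel (g * x * g⁻¹) (g * y * g⁻¹) (g * t * g⁻¹) :=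
  h.map (MulAut.conj g).toMonoidHom (MulAut.conj g).injective

/-- a triple without fixed vectors is not of type `y₂` -/
theorem not_y2 (hE : BEh) {x y t : E} (h : _root_.Cfsg.Agent.H828.E83.Rel x y t) (hN : NFx x y t) (g : E) (hx : g * x * g⁻¹ = xh)
    (hy : g * y * g⁻¹ = yh2) : False := by
  have h1 := rel_cj h g
  have h2 := nf_conj g hN
  rw [hx, hy] at h1 h2
  exact hE _ h1 h2

/-- the third element for the standard pair -/
theorem exists_t0 (hE : BEh) : ∃ g : E, g * Ph Ax * g⁻¹ = xh ∧ g * Ph Ay * g⁻¹ = yh ∧ _root_.Cfsg.Agent.H828.E83.Rel xh yh (g * Ph At * g⁻¹) := by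
  obtain ⟨g, hx, hy⟩ := bconj_e8 (Ph Ax) (Ph Ay) rel_ph.x11 rel_ph.x1 rel_ph.y5 rel_ph.yx
  rcases hy with hy | hy
  · exact (not_y2 hE rel_ph nf_ph g hx hy).elim
  · have h1 := rel_cj rel_ph g
    rw [hx, hy] at h1
    exact ⟨g, hx, hy, h1⟩

/-- **conjugacy to `(Ph Ax, Ph Ay, Ph At)`** -/
theorem conj_ph (hE : BEh)
    (hU : ∀ t0 : E, _root_.Cfsg.Agent.H828.E83.Rel xh yh t0 → ∀ t : E, _root_.Cfsg.Agent.H828.E83.Rel xh yh t →
      ∃ k : E, k * xh = xh * k ∧ k * yh = yh * k ∧ SameU yh (k * t * k⁻¹) t0)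
    {x y t : E} (h : _root_.Cfsg.Agent.H828.E83.Rel x y t) (hne : ∀ g : E, g * x * g⁻¹ = xh → g * y * g⁻¹ = yh2 → False) :
    ∃ g : E, g * x * g⁻¹ = Ph Ax ∧ g * y * g⁻¹ = Ph Ay ∧ g * t * g⁻¹ = Ph At := by
  obtain ⟨g, gx, gy, gt⟩ := exists_t0 hE
  obtain ⟨k, kx, ky, kt⟩ := conj_e8 gt (hU _ gt) h hne
  refine ⟨g⁻¹ * k, ?_, ?_, ?_⟩
  · have e : g⁻¹ * k * x * (g⁻¹ * k)⁻¹ = g⁻¹ * (k * x * k⁻¹) * g := by group
    rw [e, kx, ← gx]; group
  · have e : g⁻¹ * k * y * (g⁻¹ * k)⁻¹ = g⁻¹ * (k * y * k⁻¹) * g := by group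
    rw [e, ky, ← gy]; group
  · have e : g⁻¹ * k * t * (g⁻¹ * k)⁻¹ = g⁻¹ * (k * t * k⁻¹) * g := by group
    rw [e, kt]; group

/-- from the two-variable uniqueness -/
theorem conj_ph' (hE : BEh)
    (hU : ∀ t t' : E, _root_.Cfsg.Agent.H828.E83.Rel xh yh t → _root_.Cfsg.Agent.H828.E83.Rel xh yh t' →
      ∃ k : E, k * xh = xh * k ∧ k * yh = yh * k ∧ k * t * k⁻¹ = t')
    {x y t : E} (h : _root_.Cfsg.Agent.H828.E83.Rel x y t) (hne : ∀ g : E, g * x * g⁻¹ = xh → g * y * g⁻¹ = yh2 → False) :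
    ∃ g : E, g * x * g⁻¹ = Ph Ax ∧ g * y * g⁻¹ = Ph Ay ∧ g * t * g⁻¹ = Ph At := by
  refine conj_ph hE (fun t0 h0 t ht => ?_) h hne
  obtain ⟨k, k1, k2, k3⟩ := hU t t0 ht h0
  exact ⟨k, k1, k2, by rw [k3]; exact fun v hv => rfl⟩

/-! ### the forms of helper114's `Stmt.lean` -/

theorem Mo_eq : H114.E8L.MoS = Mo := Subtype.ext rfl

theorem Fr_eq : H114.E8L.FrS = Fr := Subtype.ext rfl

theorem x0_eq : H114.E8L.x0 = xh := congrArg (ph2 (ZMod 3)) Mo_eq

theorem y2_eq : H114.E8L.y2 = yh2 := congrArg (ph2 (ZMod 3)) Fr_eq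

theorem y0_eq : H114.E8L.y0 = yh := by
  show ph2 (ZMod 3) H114.E8L.FrS * ph1 (ZMod 3) H114.E8L.FrS = _
  rw [Fr_eq]

/-- the relations -/
theorem rel_791 {x y t : E} (h : _root_.Cfsg.Agent.H828.E83.Rel x y t) : H791.E8L.Rel x y t where
  x11 := h.x11
  y5 := h.y5
  t2 := h.tt
  xt := by rw [pow_succ, pow_two]; exact h.xt
  yx := h.yx
  ty := by
    have h1 : t⁻¹ = t := inv_eq_of_mul_eq_one_right h.tt
    rw [← h.ty, h1]

theorem rel_828 {x y t : E} (h : H791.E8L.Rel x y t) (hx : x ≠ 1) (hy : y ≠ 1) : _root_.Cfsg.Agent.H828.E83.Rel x y t where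
  x11 := h.x11
  x1 := hx
  y5 := h.y5
  y1 := hy
  yx := h.yx
  tt := h.t2
  ty := by
    have h1 : t⁻¹ = t := inv_eq_of_mul_eq_one_right h.t2
    rw [h1, h.ty]
  xt := by rw [← h.xt, pow_succ, pow_two]

/-- box E of `Stmt.lean` -/
theorem beh_of (hE : H114.E8L.BE) : BEh := by
  intro t ht hN
  have h1 := rel_791 ht
  rw [← x0_eq, ← y2_eq] at h1
  refine hE t h1 ?_
  rw [x0_eq, y2_eq]
  exact hN

/-- uniqueness of `Stmt.lean` -/
theorem uniq_of (hU : H114.E8L.Uniq0) (t t' : E) (ht : _root_.Cfsg.Agent.H828.E83.Rel xh yh t) (ht' : _root_.Cfsg.Agent.H828.E83.Rel xh yh t') :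
    ∃ k : E, k * xh = xh * k ∧ k * yh = yh * k ∧ k * t * k⁻¹ = t' := by
  have h1 := rel_791 ht
  have h2 := rel_791 ht'
  rw [← x0_eq, ← y0_eq] at h1 h2 ⊢
  exact hU t t' h1 h2

/-- **Conjugacy, in the form of `Stmt.lean`.** -/
theorem conj (hE : H114.E8L.BE) (hU : H114.E8L.Uniq0) (x y t : E) (h : H791.E8L.Rel x y t) (hx : x ≠ 1) (hy : y ≠ 1)
    (hn : ¬ ∃ g : E, g * x * g⁻¹ = H114.E8L.x0 ∧ g * y * g⁻¹ = H114.E8L.y2) :
    ∃ g : E, g * x * g⁻¹ = Ph Ax ∧ g * y * g⁻¹ = Ph Ay ∧ g * t * g⁻¹ = Ph At := by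
  refine conj_ph' (beh_of hE) (uniq_of hU) (rel_828 h hx hy) fun g h1 h2 => hn ⟨g, ?_, ?_⟩
  · rw [x0_eq]; exact h1
  · rw [y2_eq]; exact h2

end Cfsg.Agent.H64.E83
end

-- part: H791/E8L/BE
section
/-!
# S5925, box E (helper791): `BE`
-/

set_option autoImplicit false
set_option maxRecDepth 100000

namespace Cfsg.Agent.H791.E8L

open Module Matrix Cfsg Cfsg.Lie Cfsg.Agent.H238.E8 Cfsg.Agent.H114.E8L
open Cfsg.Agent.ChevalleyStructure Cfsg.Agent.ChevalleyStructure.Elts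
open Cfsg.Agent.H992.E8X
open Cfsg.Agent.H395.E83 (adjR adjR_apply finrank_L finrank_halves)

/-- the relations in a ring of characteristic three -/
theorem Rel.ring {G A : Type*} [Group G] [Ring A] {x y t : G} (h : Rel x y t) (f : G →* A) (h3 : (3 : A) = 0) :
    Cfsg.Agent.H879.E83.Rel (f x) (f y) (f t) where
  x11 := by rw [← map_pow, h.x11, map_one]
  y5 := by rw [← map_pow, h.y5, map_one]
  tt := by rw [← map_mul, h.t2, map_one]
  yx := by
    rw [← map_mul, ← map_pow, ← map_mul]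
    congr 1
    have h1 := h.y_pow 1
    rwa [pow_one, mul_one] at h1
  ty := by
    rw [← map_mul, ← map_pow, ← map_mul]
    congr 1
    have h1 : t * y = y⁻¹ * t := by rw [← h.ty, mul_assoc _ t t, h.t2, mul_one]
    have h2 : y ^ 4 = y⁻¹ := by
      rw [eq_inv_iff_mul_eq_one, ← pow_succ, h.y5]
    rw [h1, h2]
  txt := by
    rw [← map_mul, ← map_mul, ← map_pow, ← map_mul, ← map_mul]
    congr 1
    have h2 : x ^ 10 = x⁻¹ := by
      rw [eq_inv_iff_mul_eq_one, ← pow_succ, h.x11]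
    rw [h2]
    have h3 := h.xt
    rw [pow_succ, pow_two] at h3
    have h4 : x * (t * x * t) * (x * t) = 1 := by rw [← h3]; simp only [mul_assoc]
    have ht : t⁻¹ = t := inv_eq_of_mul_eq_one_right h.t2
    have h5 : t * x * t = x⁻¹ * (x * (t * x * t) * (x * t)) * (x * t)⁻¹ := by group
    rw [h5, h4, _root_.mul_inv_rev, ht]
    group
  three := h3

theorem three_end : (3 : Module.End (ZMod 3) L3) = 0 := by
  refine LinearMap.ext fun v => ?_
  have h4 : (3 : Module.End (ZMod 3) L3) v = (3 : ZMod 3) • v := by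
    rw [show (3 : Module.End (ZMod 3) L3) = algebraMap (ZMod 3) _ 3 from (map_ofNat _ 3).symm,
      Module.algebraMap_end_apply]
  rw [h4, show (3 : ZMod 3) = 0 from rfl, zero_smul]
  rfl

theorem rt2_mem : ∀ i j : Fin 5, i ≠ j → rt2 i j ∈ Cfsg.Agent.H627.E8L.R2 := by decide +kernel

theorem ph2_mem (A : _root_.Matrix.SpecialLinearGroup (Fin 5) (ZMod 3)) :
    ((ph2 (ZMod 3) A : G3) : GL chevE8.Idx (ZMod 3)) ∈ Cfsg.Agent.H627.E8L.E2 (ZMod 3) hE8 := by
  refine tv_ind (fun A => ((ph2 (ZMod 3) A : G3) : GL chevE8.Idx (ZMod 3)) ∈ Cfsg.Agent.H627.E8L.E2 (ZMod 3) hE8)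
    ?_ ?_ A
  · intro i j hij c
    rw [ph2_tv]
    exact Subgroup.subset_closure ⟨_, rt2_mem i j hij, _, rfl⟩
  · intro A B hA hB
    rw [map_mul, Subgroup.coe_mul]
    exact Subgroup.mul_mem _ hA hB

/-- 24 dimensions fixed by `x₀`, `y₂` -/
theorem h24 : 24 ≤ finrank (ZMod 3) ↥(LinearMap.ker (adjR x0 - 1) ⊓ LinearMap.ker (adjR y2 - 1)) :=
  Cfsg.Agent.H627.E8L.h24 (ph2_mem _) (ph2_mem _)

/-- **box E** -/
theorem be : BE := by
  intro t h hNF
  exact Cfsg.Agent.H395.E83.fix_le (x := x0) (y := y2) (t := t) (h.ring adjR three_end) h.x11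
    (fun w h1 h2 h3 => hNF w h1 h2 h3) h24

end Cfsg.Agent.H791.E8L
end

-- part: H377/E8M/Lin
section
/-!
# S5925, box M (helper377): `M₁₁`-relations and vectors fixed by the Borel subgroup of `L₂(11)`
-/

set_option autoImplicit false

namespace Cfsg.Agent.H377.E8M

open Cfsg.Agent.H791.E8L

/-- the relations of `M₁₁`: `⟨x, y, t⟩` is `L₂(11)`, `f` has order 4, normalises `⟨y⟩` and `f² = t` -/
structure RelM {M : Type*} [Group M] (x y t f : M) : Prop where
  rel : _root_.Cfsg.Agent.H791.E8L.Rel x y t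
  f2 : f * f = t
  fy : y * f = f * y ^ 3
  t3 : t * x ^ 3 * f = x ^ 3 * f * (x ^ 4 * y ^ 3 * t * x ^ 7)
  t10 : t * x ^ 10 * f = x ^ 10 * f * (x ^ 7 * y * t * x ^ 4)
  f1 : f * x * f = x ^ 6 * f * (x ^ 4 * t * x ^ 5)

theorem RelM.map {M N : Type*} [Group M] [Group N] {x y t f : M} (h : RelM x y t f) (φ : M →* N) :
    RelM (φ x) (φ y) (φ t) (φ f) where
  rel := h.rel.map φ
  f2 := by rw [← map_mul, h.f2]
  fy := by rw [← map_mul, h.fy, map_mul, map_pow]
  t3 := by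
    have h1 := congrArg φ h.t3
    simpa only [map_mul, map_pow] using h1
  t10 := by
    have h1 := congrArg φ h.t10
    simpa only [map_mul, map_pow] using h1
  f1 := by
    have h1 := congrArg φ h.f1
    simpa only [map_mul, map_pow] using h1

section

variable {K V : Type*} [Field K] [AddCommGroup V] [Module K V] {x y t f : V ≃ₗ[K] V}

/-- the kernel of `v ↦ (1 + X_Q) t v` on the vectors fixed by `x` and `y` -/
theorem t_of_f_eq_zero (h : _root_.Cfsg.Agent.H791.E8L.Rel x y t) (h2 : (2 : K) ≠ 0) {v : V} (hx : x v = v) (hy : y v = v)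
    (hv : fv x t v = 0) : t v = v := by
  rw [fv_apply, XQ_apply] at hv
  have h0 : t ((x ^ 0) (t v)) = v := h.tt v
  have hA0 : (x ^ 0) (t v) + (x ^ 1) (t v) + (x ^ 3) (t v) + (x ^ 4) (t v) + (x ^ 5) (t v) + (x ^ 9) (t v) = 0 := by
    rw [← hv]
    have h1 : (x ^ 0) (t v) = t v := rfl
    rw [h1]
    abel
  have hA2 : (x ^ 2) (t v) + (x ^ 3) (t v) + (x ^ 5) (t v) + (x ^ 6) (t v) + (x ^ 7) (t v) + (x ^ 0) (t v) = 0 := by
    have h1 := congrArg (fun u => (x ^ 2) u) hA0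
    simp only [map_add, map_zero, pow_app] at h1
    norm_num only at h1
    rw [pow_mod' h.x11 11] at h1
    norm_num only at h1
    exact h1
  have hB2 : (x ^ 5) (t v) + (x ^ 7) (t v) + (x ^ 2) (t v) + (x ^ 9) (t v) + (x ^ 3) (t v) + v = 0 := by
    have h1 := congrArg (fun u => t u) hA2
    simp only [map_add, map_zero, h0] at h1
    rw [h.t_pow hx hy (i := 2) (j := 5) (by norm_num), h.t_pow hx hy (i := 3) (j := 7) (by norm_num),
      h.t_pow hx hy (i := 5) (j := 2) (by norm_num), h.t_pow hx hy (i := 6) (j := 9) (by norm_num),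
      h.t_pow hx hy (i := 7) (j := 3) (by norm_num)] at h1
    exact h1
  have hB7 : (x ^ 5) (t v) + (x ^ 6) (t v) + (x ^ 3) (t v) + (x ^ 2) v + (x ^ 1) (t v) + (x ^ 4) (t v) = 0 := by
    have h1 := congrArg (fun u => (x ^ 7) u) hA0
    simp only [map_add, map_zero, pow_app] at h1
    norm_num only at h1
    rw [pow_mod' h.x11 11, pow_mod' h.x11 12, pow_mod' h.x11 16] at h1
    norm_num only at h1
    have h2 := congrArg (fun u => t u) h1
    simp only [map_add, map_zero, h0] at h2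
    rw [h.t_pow hx hy (i := 7) (j := 3) (by norm_num), h.t_pow hx hy (i := 8) (j := 4) (by norm_num),
      h.t_pow hx hy (i := 10) (j := 1) (by norm_num), h.t_pow hx hy (i := 1) (j := 10) (by norm_num),
      h.t_pow hx hy (i := 5) (j := 2) (by norm_num)] at h2
    have h3 := congrArg (fun u => (x ^ 2) u) h2
    simp only [map_add, map_zero, pow_app] at h3
    norm_num only at h3
    rw [pow_mod' h.x11 12] at h3
    norm_num only at h3
    rw [← h3]
  have hv2 : (x ^ 2) v = v := by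
    rw [pow_two]
    change x (x v) = v
    rw [hx, hx]
  rw [hv2] at hB7
  have h5 : (2 : K) • ((x ^ 0) (t v) - v) = 0 := by
    linear_combination (norm := module) hA0 + hA2 - hB2 - hB7
  rcases smul_eq_zero.1 h5 with h6 | h6
  · exact absurd h6 h2
  · exact sub_eq_zero.1 h6

/-- `t f v + f v = s v` -/
theorem t_f_add (h : _root_.Cfsg.Agent.H791.E8L.Rel x y t) {v : V} (hx : x v = v) (hy : y v = v) :
    t (fv x t v) + fv x t v = sv x t v := by
  rw [fv_apply, map_add, h.tt, h.t_XQ hx hy, sv, XQ_apply, XN_apply]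
  simp only [Finset.sum_range_succ, Finset.sum_range_zero, zero_add]
  have h1 : (x ^ 0) (t v) = t v := rfl
  rw [h1]
  abel

theorem pow_fix {g : V ≃ₗ[K] V} {v : V} (hv : g v = v) (n : ℕ) : (g ^ n) v = v := by
  induction n with
  | zero => rfl
  | succ n ih =>
    rw [pow_succ]
    change (g ^ n) (g v) = v
    rw [hv, ih]

/-- facts on the vector `f w`, `w` fixed by `x`, `y`, `t` -/
theorem RelM.t_w0 (h : RelM x y t f) {w : V} (ht : t w = w) : t (f w) = f w := by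
  have h1 : t * f = f * t := by rw [← h.f2]; group
  have h2 : t (f w) = f (t w) := congrArg (fun g : V ≃ₗ[K] V => g w) h1
  rw [h2, ht]

theorem RelM.y_w0 (h : RelM x y t f) {w : V} (hy : y w = w) : y (f w) = f w := by
  have h2 : y (f w) = f ((y ^ 3) w) := congrArg (fun g : V ≃ₗ[K] V => g w) h.fy
  rw [h2, pow_fix hy]

theorem RelM.f_w0 (h : RelM x y t f) {w : V} (ht : t w = w) : f (f w) = w := by
  have h2 : f (f w) = t w := congrArg (fun g : V ≃ₗ[K] V => g w) h.f2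
  rw [h2, ht]

theorem RelM.t3_w0 (h : RelM x y t f) {w : V} (hx : x w = w) (hy : y w = w) (ht : t w = w) :
    t ((x ^ 3) (f w)) = (x ^ 3) (f w) := by
  have h2 : t ((x ^ 3) (f w)) = (x ^ 3) (f ((x ^ 4) ((y ^ 3) (t ((x ^ 7) w))))) :=
    congrArg (fun g : V ≃ₗ[K] V => g w) h.t3
  rw [h2, pow_fix hx, ht, pow_fix hy, pow_fix hx]

theorem RelM.t10_w0 (h : RelM x y t f) {w : V} (hx : x w = w) (hy : y w = w) (ht : t w = w) :
    t ((x ^ 10) (f w)) = (x ^ 10) (f w) := by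
  have h2 : t ((x ^ 10) (f w)) = (x ^ 10) (f ((x ^ 7) (y (t ((x ^ 4) w))))) :=
    congrArg (fun g : V ≃ₗ[K] V => g w) h.t10
  rw [h2, pow_fix hx, ht, hy, pow_fix hx]

theorem RelM.f1_w0 (h : RelM x y t f) {w : V} (hx : x w = w) (ht : t w = w) :
    f (x (f w)) = (x ^ 6) (f w) := by
  have h2 : f (x (f w)) = (x ^ 6) (f ((x ^ 4) (t ((x ^ 5) w)))) :=
    congrArg (fun g : V ≃ₗ[K] V => g w) h.f1
  rw [h2, pow_fix hx, ht, pow_fix hx]

theorem RelM.step' (h : RelM x y t f) {w : V} (hy : y w = w) (ht : t w = w) {i j : ℕ}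
    (hij : t ((x ^ i) (f w)) = (x ^ j) (f w)) :
    t ((x ^ (3 * i % 11)) (f w)) = (x ^ (4 * j % 11)) (f w) := by
  have h1 := h.rel.step (v := f w) (h.y_w0 hy) (i := i) (j := j)
  rw [h.t_w0 ht] at h1
  exact h1 hij

/-- the action of `t` on the eleven vectors `x ^ i f w` -/
theorem RelM.tQ (h : RelM x y t f) {w : V} (hx : x w = w) (hy : y w = w) (ht : t w = w) :
    t ((x ^ 3) (f w)) = (x ^ 3) (f w) ∧ t ((x ^ 9) (f w)) = (x ^ 1) (f w) ∧ t ((x ^ 5) (f w)) = (x ^ 4) (f w) ∧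
      t ((x ^ 4) (f w)) = (x ^ 5) (f w) ∧ t ((x ^ 1) (f w)) = (x ^ 9) (f w) := by
  have a1 := h.t3_w0 hx hy ht
  have a2 := h.step' hy ht a1
  have a3 := h.step' hy ht a2
  have a4 := h.step' hy ht a3
  have a5 := h.step' hy ht a4
  norm_num only at a2 a3 a4 a5
  exact ⟨a1, a2, a3, a4, a5⟩

theorem RelM.tN (h : RelM x y t f) {w : V} (hx : x w = w) (hy : y w = w) (ht : t w = w) :
    t ((x ^ 10) (f w)) = (x ^ 10) (f w) ∧ t ((x ^ 8) (f w)) = (x ^ 7) (f w) ∧ t ((x ^ 2) (f w)) = (x ^ 6) (f w) ∧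
      t ((x ^ 6) (f w)) = (x ^ 2) (f w) ∧ t ((x ^ 7) (f w)) = (x ^ 8) (f w) := by
  have a1 := h.t10_w0 hx hy ht
  have a2 := h.step' hy ht a1
  have a3 := h.step' hy ht a2
  have a4 := h.step' hy ht a3
  have a5 := h.step' hy ht a4
  norm_num only at a2 a3 a4 a5
  exact ⟨a1, a2, a3, a4, a5⟩

/-- the vector `a' = (1 + X_Q) f w` is fixed by `t` -/
theorem RelM.t_psi (h : RelM x y t f) {w : V} (hx : x w = w) (hy : y w = w) (ht : t w = w) :
    t (fv x t (f w)) = fv x t (f w) := by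
  obtain ⟨a1, a2, a3, a4, a5⟩ := h.tQ hx hy ht
  rw [fv_apply, XQ_apply, h.t_w0 ht]
  simp only [map_add]
  rw [a1, a2, a3, a4, a5, h.t_w0 ht]
  abel

/-- if `a' = 0` then `w` is fixed by `f` -/
theorem RelM.psi_ker (h : RelM x y t f) {w : V} (hx : x w = w) (hy : y w = w) (ht : t w = w)
    (h0 : fv x t (f w) = 0) : f w = w := by
  obtain ⟨a1, a2, a3, a4, a5⟩ := h.tQ hx hy ht
  obtain ⟨b1, b2, b3, b4, b5⟩ := h.tN hx hy ht
  have hz : (x ^ 0) (f w) = f w := rfl
  have c0 : (x ^ 0) (f w) + (x ^ 1) (f w) + (x ^ 3) (f w) + (x ^ 4) (f w) + (x ^ 5) (f w) + (x ^ 9) (f w) = 0 := by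
    rw [fv_apply, XQ_apply, h.t_w0 ht] at h0
    rw [hz]
    linear_combination (norm := abel) h0
  have c2 := congrArg (fun u => (x ^ 2) u) c0
  simp only [map_add, map_zero, pow_app] at c2
  norm_num only at c2
  rw [pow_mod' h.rel.x11 11] at c2
  norm_num only at c2
  have c3 := congrArg (fun u => t u) c2
  simp only [map_add, map_zero] at c3
  rw [hz, h.t_w0 ht, b3, a1, a3, b4, b5] at c3
  have c4 := congrArg (fun u => x u) c3
  simp only [map_add, map_zero, app_pow] at c4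
  norm_num only at c4
  have c5 : (x ^ 7) (f w) = f w := by
    have hx1 : x (f w) = (x ^ 1) (f w) := by rw [pow_one]
    rw [hx1] at c4
    rw [hz] at c0
    linear_combination (norm := abel) c4 - c0
  have c6 : x (f w) = f w := by
    have h1 : ∀ n : ℕ, (x ^ (7 * n)) (f w) = f w := by
      intro n
      rw [pow_mul]
      exact pow_fix c5 n
    have h2 := h1 8
    rw [pow_mod' h.rel.x11] at h2
    norm_num only at h2
    rwa [pow_one] at h2
  have c7 := h.f1_w0 hx ht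
  rw [c6, pow_fix c6, h.f_w0 ht] at c7
  exact c7.symm

/-- the vectors fixed by `x`, `y`, `t` -/
def fixW (x y t : V ≃ₗ[K] V) : Submodule K V where
  carrier := {v | x v = v ∧ y v = v ∧ t v = v}
  zero_mem' := ⟨map_zero _, map_zero _, map_zero _⟩
  add_mem' := fun {a b} ha hb =>
    ⟨by rw [map_add, ha.1, hb.1], by rw [map_add, ha.2.1, hb.2.1], by rw [map_add, ha.2.2, hb.2.2]⟩
  smul_mem' := fun c a ha => ⟨by rw [map_smul, ha.1], by rw [map_smul, ha.2.1], by rw [map_smul, ha.2.2]⟩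

open Module in
/-- **box M**: the count for `M₁₁` -/
theorem RelM.finrank_le [FiniteDimensional K V] (h : RelM x y t f) (h3 : (3 : K) = 0)
    (hfix : ∀ u, x u = u → y u = u → t u = u → f u = u → u = 0) :
    finrank K (fixB x y) ≤ finrank K (partQ x y) := by
  have h2 : (2 : K) ≠ 0 := by
    intro h2
    have h4 : (1 : K) = 0 := by linear_combination h3 - h2
    exact one_ne_zero h4
  have h3' : ∀ u : V, (3 : K) • u = 0 := fun u => by rw [h3, zero_smul]
  let A : fixB x y →ₗ[K] partQ x y := (fv x t).restrict fun v hv => ⟨h.rel.f_y hv.2, f_part h3 h.rel.x11 v⟩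
  let B : fixW x y t →ₗ[K] partQ x y := ((fv x t) ∘ₗ (f : V →ₗ[K] V)).restrict fun v hv =>
    ⟨h.rel.f_y (h.y_w0 hv.2.1), f_part h3 h.rel.x11 _⟩
  have hA : ∀ v : fixB x y, ((A v : partQ x y) : V) = fv x t v := fun v => rfl
  have hB : ∀ v : fixW x y t, ((B v : partQ x y) : V) = fv x t (f v) := fun v => rfl
  have hBinj : Function.Injective B := by
    rw [← LinearMap.ker_eq_bot, LinearMap.ker_eq_bot']
    intro w hw
    have h4 : fv x t (f (w : V)) = 0 := by rw [← hB, hw]; rfl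
    obtain ⟨k1, k2, k3⟩ := w.2
    exact Subtype.ext (hfix _ k1 k2 k3 (h.psi_ker k1 k2 k3 h4))
  have hker : finrank K (LinearMap.ker A) ≤ finrank K (fixW x y t) := by
    refine LinearMap.finrank_le_finrank_of_injective
      (f := ((fixB x y).subtype ∘ₗ (LinearMap.ker A).subtype).codRestrict (fixW x y t) ?_) ?_
    · rintro ⟨v, hv⟩
      have h4 : fv x t (v : V) = 0 := by
        rw [← hA, LinearMap.mem_ker.1 hv]; rfl
      exact ⟨v.2.1, v.2.2, t_of_f_eq_zero h.rel h2 v.2.1 v.2.2 h4⟩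
    · intro v w hvw
      have h4 := congrArg Subtype.val hvw
      exact Subtype.ext (Subtype.ext h4)
  have hrank : finrank K (LinearMap.range B) = finrank K (fixW x y t) := LinearMap.finrank_range_of_inj hBinj
  have hdisj : LinearMap.range A ⊓ LinearMap.range B = ⊥ := by
    rw [eq_bot_iff]
    rintro u ⟨⟨v, hv⟩, ⟨w, hw⟩⟩
    have e1 : (u : V) = fv x t (v : V) := by rw [← hv]; rfl
    have e2 : (u : V) = fv x t (f (w : V)) := by rw [← hw]; rfl
    have e3 : t (u : V) = u := by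
      rw [e2]
      exact h.t_psi w.2.1 w.2.2.1 w.2.2.2
    have e4 := t_f_add h.rel v.2.1 v.2.2
    rw [← e1, e3] at e4
    obtain ⟨s1, -, -⟩ := h.rel.s_fix v.2.1 v.2.2
    -- `X_Q` kills `u` and multiplies `s v = 2 u` by five
    have e5 : XQ x (u : V) = 0 := u.2.2
    have e6 : XQ x (sv x t (v : V)) = (5 : K) • sv x t (v : V) := by
      rw [XQ_apply, pow_fix s1, pow_fix s1, pow_fix s1, pow_fix s1, pow_fix s1]
      module
    rw [← e4, map_add, e5, add_zero] at e6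
    have e7 : (u : V) = 0 := by
      linear_combination (norm := module) (-1 : K) • e6 - (3 : K) • h3' (u : V)
    exact (Submodule.mem_bot K).2 (Subtype.ext e7)
  have h5 := LinearMap.finrank_range_add_finrank_ker A
  have h6 := Submodule.finrank_sup_add_finrank_inf_eq (LinearMap.range A) (LinearMap.range B)
  rw [hdisj, finrank_bot, add_zero] at h6
  have h7 := Submodule.finrank_le (LinearMap.range A ⊔ LinearMap.range B)
  omega

end

end Cfsg.Agent.H377.E8M
end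

-- part: H377/E8M/M11
section
/-!
# S5925, box M (helper377): the case `M₁₁`

`H ≅ M₁₁` (letters `v 0 = x`, `v 1 = y`, `v 2 = t`, `v 3 = f` of helper837) acting on a space of dimension 248 in
characteristic three without common fixed vectors: `dim V^⟨x,y⟩ ≥ 24` is impossible.
-/

set_option autoImplicit false

namespace Cfsg.Agent.H377.E8M

open Module Cfsg.Agent.H791.E8L Cfsg.Agent.H837.E83.NM11

variable {K V : Type*} [Field K] [AddCommGroup V] [Module K V]

/-- **box M, first form**: `RelM` without common fixed vectors -/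
theorem RelM.no24 [FiniteDimensional K V] {x y t f : V ≃ₗ[K] V} (h : RelM x y t f) (h3 : (3 : K) = 0)
    (hM : finrank K V = 248) (hk : finrank K (LinearMap.ker (XN x)) = finrank K (LinearMap.ker (XQ x)))
    (h24 : 24 ≤ finrank K (fixB x y)) (hfix : ∀ u, x u = u → y u = u → t u = u → f u = u → u = 0) : False := by
  have h1 := h.finrank_le h3 hfix
  have h2 := h.rel.partQ_le h3 hM hk (h24.trans (Submodule.finrank_mono (fixB_le x y)))
  omega

end Cfsg.Agent.H377.E8M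
end

-- part: H377/E8M/BM
section
/-!
# S5925, box M (helper377): the Prop `BM` of helper114
-/

set_option autoImplicit false
set_option maxRecDepth 100000

namespace Cfsg.Agent.H377.E8M

open Matrix Module Cfsg Cfsg.Lie Cfsg.Agent.H238.E8 Cfsg.Agent.H791.E8L Cfsg.Agent.H114.E8L
open Cfsg.Agent.ChevalleyStructure Cfsg.Agent.ChevalleyStructure.Elts Cfsg.Agent.H837.E83.NM11
open Cfsg.Agent.H992.E8X

/-- `E₈(3)` acting by linear equivalences -/
noncomputable def rh : G3 →* (L3 ≃ₗ[ZMod 3] L3) :=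
  (LinearMap.GeneralLinearGroup.generalLinearEquiv (ZMod 3) L3).toMonoidHom.comp
    (MonoidHom.toHomUnits (Cfsg.Agent.H395.E83.adjR : G3 →* Module.End (ZMod 3) L3))

theorem toE_rh (g : G3) : toE (rh g) = Cfsg.Agent.H395.E83.adjR g := rfl

/-- the two halves have the same dimension -/
theorem halves {x : G3} (hx : x ^ 11 = 1) :
    finrank (ZMod 3) (LinearMap.ker (XN (rh x))) = finrank (ZMod 3) (LinearMap.ker (XQ (rh x))) := by
  rw [← xN_toE, ← xR_toE, toE_rh]
  exact Cfsg.Agent.H395.E83.finrank_halves hx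

theorem rt2_mem : ∀ i j : Fin 5, i ≠ j → rt2 i j ∈ Cfsg.Agent.H627.E8L.R2 := by decide +kernel

/-- the second factor -/
theorem ph2_mem (A : _root_.Matrix.SpecialLinearGroup (Fin 5) (ZMod 3)) :
    ((ph2 (ZMod 3) A : G3) : GL chevE8.Idx (ZMod 3)) ∈ Cfsg.Agent.H627.E8L.E2 (ZMod 3) hE8 := by
  refine tv_ind (fun A => ((ph2 (ZMod 3) A : G3) : GL chevE8.Idx (ZMod 3)) ∈ Cfsg.Agent.H627.E8L.E2 (ZMod 3) hE8) ?_ ?_ A
  · intro i j hij c
    rw [ph2_tv]
    exact Subgroup.subset_closure ⟨rt2 i j, rt2_mem i j hij, _, rfl⟩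
  · intro A B hA hB
    rw [map_mul, Subgroup.coe_mul]
    exact mul_mem hA hB

/-- the fixed space of `⟨x₀, y₂⟩` -/
theorem fix24 : 24 ≤ finrank (ZMod 3) (fixB (rh x0) (rh y2)) := by
  have h := Cfsg.Agent.H627.E8L.h24 (hE := hE8) (x := x0) (y := y2) (ph2_mem _) (ph2_mem _)
  have h1 : LinearMap.ker (Cfsg.Agent.H395.E83.adjR x0 - 1) ⊓ LinearMap.ker (Cfsg.Agent.H395.E83.adjR y2 - 1) =
      fixB (rh x0) (rh y2) := by
    ext v
    rw [Submodule.mem_inf, LinearMap.mem_ker, LinearMap.mem_ker, LinearMap.sub_apply, LinearMap.sub_apply,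
      sub_eq_zero, sub_eq_zero]
    rfl
  rw [← h1]
  exact h

theorem three_zero : (3 : ZMod 3) = 0 := by decide

/-- the relations -/
theorem relM_of_words {x y t f : G3} (h0 : _root_.Cfsg.Agent.H791.E8L.Rel x y t)
    (hw : ∀ w w' : List (Fin 4), eqP4 w w' = true → (w.map ![x, y, t, f]).prod = (w'.map ![x, y, t, f]).prod) :
    RelM x y t f where
  rel := h0
  f2 := by
    simpa only [← mul_assoc, _root_.Nat.succ_eq_add_one, _root_.Nat.reduceAdd, _root_.Fin.isValue, _root_.List.map_cons, _root_.Matrix.cons_val, _root_.List.map_nil, _root_.List.prod_cons, _root_.List.prod_nil, _root_.mul_one] using hw [3, 3] [2] (by decide +kernel)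
  fy := by
    simpa only [← mul_assoc, pow_succ, _root_.pow_zero, _root_.one_mul, _root_.Nat.succ_eq_add_one, _root_.Nat.reduceAdd, _root_.Fin.isValue, _root_.List.map_cons, _root_.Matrix.cons_val_one, _root_.Matrix.cons_val_zero, _root_.Matrix.cons_val, _root_.List.map_nil, _root_.List.prod_cons, _root_.List.prod_nil, _root_.mul_one] using hw [1, 3] [3, 1, 1, 1] (by decide +kernel)
  t3 := by
    simpa only [← mul_assoc, pow_succ, _root_.pow_zero, _root_.one_mul, _root_.Nat.succ_eq_add_one, _root_.Nat.reduceAdd, _root_.Fin.isValue, _root_.List.map_cons, _root_.Matrix.cons_val, _root_.Matrix.cons_val_zero, _root_.List.map_nil, _root_.List.prod_cons, _root_.List.prod_nil, _root_.mul_one, _root_.Matrix.cons_val_one] using hw [2, 0, 0, 0, 3]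
      [0, 0, 0, 3, 0, 0, 0, 0, 1, 1, 1, 2, 0, 0, 0, 0, 0, 0, 0] (by decide +kernel)
  t10 := by
    simpa only [← mul_assoc, pow_succ, _root_.pow_zero, _root_.one_mul, _root_.Nat.succ_eq_add_one, _root_.Nat.reduceAdd, _root_.Fin.isValue, _root_.List.map_cons, _root_.Matrix.cons_val, _root_.Matrix.cons_val_zero, _root_.List.map_nil, _root_.List.prod_cons, _root_.List.prod_nil, _root_.mul_one, _root_.Matrix.cons_val_one] using hw [2, 0, 0, 0, 0, 0, 0, 0, 0, 0, 0, 3]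
      [0, 0, 0, 0, 0, 0, 0, 0, 0, 0, 3, 0, 0, 0, 0, 0, 0, 0, 1, 2, 0, 0, 0, 0] (by decide +kernel)
  f1 := by
    simpa only [← mul_assoc, pow_succ, _root_.pow_zero, _root_.one_mul, _root_.Nat.succ_eq_add_one, _root_.Nat.reduceAdd, _root_.Fin.isValue, _root_.List.map_cons, _root_.Matrix.cons_val, _root_.Matrix.cons_val_zero, _root_.List.map_nil, _root_.List.prod_cons, _root_.List.prod_nil, _root_.mul_one] using hw [3, 0, 3]
      [0, 0, 0, 0, 0, 0, 3, 0, 0, 0, 0, 2, 0, 0, 0, 0, 0] (by decide +kernel)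

/-- **box M** -/
theorem bM : BM eqP4 := by
  intro t f h0 hw hfix
  have h := (relM_of_words h0 hw).map rh
  exact h.no24 three_zero Cfsg.Agent.H395.E83.finrank_L (halves h0.x11) fix24 fun u h1 h2 h3 h4 => hfix u h1 h2 h3 h4

end Cfsg.Agent.H377.E8M
end

-- part: H977/E83/Fin
section
/-!
# S5925 from the open boxes: uniqueness, partners of order 121, box K (helper977)
-/

set_option autoImplicit false

namespace Cfsg.Agent.H977.E83.Asm

open Matrix Cfsg Cfsg.Lie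
open Cfsg.Agent.H64.E83 (E L3 Ph ac stabW U4 U1)
open Cfsg.Agent.H788.E83 (SL5 As Ax Ay At)
open Cfsg.Agent.H114.E8L (BE BM BP Uniq0)
open Cfsg.Agent.H837.E83.NM11 (eqP4)

/-- box K -/
def BKp : Prop := ∀ f : E, (∀ w w' : List (Fin 4), eqP4 w w' = true →
    (w.map ![Ph Ax, Ph Ay, Ph At, f]).prod = (w'.map ![Ph Ax, Ph Ay, Ph At, f]).prod) → f ∈ stabW U1

theorem hyp_of (hP : BP) (hU : Uniq0) (hK : BKp) : Hyp where
  conj := Cfsg.Agent.H64.E83.conj Cfsg.Agent.H791.E8L.be hU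
  be := Cfsg.Agent.H791.E8L.be
  bm := Cfsg.Agent.H377.E8M.bM
  fixv := fixv hP
  pgl := by
    intro h h1 h2 h3 h4
    obtain ⟨c, hc⟩ := Cfsg.Agent.H738.E83.pgl_line h1 h3 h4
    exact Cfsg.Agent.H64.E83.pgl_stab h1 h2 hc
  bk := hK

/-- **S5925 from BP, Uniq0, K** -/
theorem fin (hP : BP) (hU : Uniq0) (hK : BKp) {F : Type*} [Field F] [Fintype F] (hF : Fintype.card F = 11)
    (H : Subgroup ↥(Cfsg.Lie.chevE8.group (ZMod 3)))
    (hH : Nonempty (↥(Cfsg.generalizedFittingSubgroup ↥H) ≃* Matrix.ProjectiveSpecialLinearGroup (Fin 2) F) ∨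
      Cfsg.Spor.IsoM11 ↥(Cfsg.generalizedFittingSubgroup ↥H)) : ¬ IsCoatom H :=
  asm (hyp_of hP hU hK) hF H hH

end Cfsg.Agent.H977.E83.Asm
end
end

-- part: H977/E83/Fin2
section
set_option linter.all false

/-!
# S5925 from the open boxes: uniqueness and box K (helper977)
-/

set_option autoImplicit false

namespace Cfsg.Agent.H977.E83.Asm

open Cfsg.Agent.H114.E8L (Uniq0)

/-- **S5925 from Uniq0, K** -/
theorem fin2 (hU : Uniq0) (hK : BKp) {F : Type*} [Field F] [Fintype F] (hF : Fintype.card F = 11)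
    (H : Subgroup ↥(Cfsg.Lie.chevE8.group (ZMod 3)))
    (hH : Nonempty (↥(Cfsg.generalizedFittingSubgroup ↥H) ≃* Matrix.ProjectiveSpecialLinearGroup (Fin 2) F) ∨
      Cfsg.Spor.IsoM11 ↥(Cfsg.generalizedFittingSubgroup ↥H)) : ¬ IsCoatom H :=
  fin (Cfsg.Agent.H639.E83.bp Cfsg.Agent.H908.E8L.b2) hU hK hF H hH

end Cfsg.Agent.H977.E83.Asm
end

-- part: H60/E83/HU
section
prune_inst 0x140045444422000000180582130020646e00049200630001c1600a400348636028072741b8c01102801a3e5c20098000101001c0403800000a008c00011901a084825000b3080104660001809884000000000000000000000000000000010004000000000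
set_option linter.all false
open scoped Cfsg.Agent.FastGrp

/-!
# S5925, box U / UNIQ0: from the normal form of `q` to the same action on `L^y` (helper60)

* `sameU_of` : descent: the same action on the fixed space of `h` over the closure gives `SameU` over `𝔽₃`;
* `fix_iota` : the fixed space of `h` is the image of `iota g`;
* `sameU_form` : the output of the search and `k(λ)` give the element `κ` with the same action on `L^y`.
-/

set_option autoImplicit false
set_option linter.unusedVariables false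
set_option maxRecDepth 100000

namespace Cfsg.Agent.H60.E83

open Matrix Cfsg Cfsg.Lie Cfsg.Agent.ChevalleyStructure Cfsg.Agent.ChevalleyStructure.Elts
open Cfsg.Agent.H992.E8X hiding e8T
open Cfsg.Agent.H238.E8
open Cfsg.Agent.H576.E8L
open Cfsg.Agent.H879.E83 hiding Rel
open Cfsg.Agent.GpExc.Field (emb coe_emb coe_glMap emb_injective)
open Cfsg.Agent.H288.E8L (G8 GK K8)
open Cfsg.Agent.H908.E8L (Fr Mo)
open Cfsg.Agent.H828.E83 (Rel)

/-! ### descent -/

/-- the matrix over `K` -/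
abbrev mk {K : Type} [Field K] (g : ↥(chevE8.group K)) : Matrix chevE8.Idx chevE8.Idx K := ((g : GL chevE8.Idx K) : Matrix chevE8.Idx chevE8.Idx K)

theorem mk_mul {K : Type} [Field K] (g h : ↥(chevE8.group K)) : mk (g * h) = mk g * mk h := rfl

theorem mk_act {K : Type} [Field K] (g h : ↥(chevE8.group K)) (v : chevE8.Idx → K) :
    mk (g * h) *ᵥ v = mk g *ᵥ (mk h *ᵥ v) := by
  rw [mk_mul, Matrix.mulVec_mulVec]

theorem emb_act {K : Type} [Field K] (f : ZMod 3 →+* K) (g : G8) (v : chevE8.Idx → ZMod 3) (i : chevE8.Idx) :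
    (mk (emb hE8 f g) *ᵥ fun i => f (v i)) i = f ((mk g *ᵥ v) i) := by
  show ((((emb hE8 f g : ↥(chevE8.group K)) : GL chevE8.Idx K) : Matrix chevE8.Idx chevE8.Idx K) *ᵥ fun i => f (v i)) i = _
  rw [coe_emb, coe_glMap]
  exact (RingHom.map_mulVec f (mk g) v i).symm

/-- **descent** -/
theorem sameU_of {K : Type} [Field K] (f : ZMod 3 →+* K) {z k : ↥(chevE8.group K)} {k0 y t t' : G8}
    (hk0 : emb hE8 f k0 = z * k * z⁻¹) (hky : k0 * y = y * k0)
    (h : ∀ v : chevE8.Idx → K, mk (z⁻¹ * emb hE8 f y * z) *ᵥ v = v →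
      mk (k * (z⁻¹ * emb hE8 f t * z)) *ᵥ v = mk ((z⁻¹ * emb hE8 f t' * z) * k) *ᵥ v) :
    SameU y (k0 * t * k0⁻¹) t' := by
  intro v hv
  obtain ⟨w, hw⟩ : ∃ w : chevE8.Idx → K, w = fun i => f (v i) := ⟨_, rfl⟩
  have hyw : mk (emb hE8 f y) *ᵥ w = w := by
    funext i
    rw [hw, emb_act f y v i]
    show f ((my y *ᵥ v) i) = f (v i)
    rw [hv]
  have hk : k = z⁻¹ * emb hE8 f k0 * z := by rw [hk0]; group
  -- the vector
  have h1 : mk (z⁻¹ * emb hE8 f y * z) *ᵥ (mk (k⁻¹ * z⁻¹) *ᵥ w) = mk (k⁻¹ * z⁻¹) *ᵥ w := by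
    rw [← mk_act]
    have e : z⁻¹ * emb hE8 f y * z * (k⁻¹ * z⁻¹) = (k⁻¹ * z⁻¹) * emb hE8 f y := by
      rw [hk]
      have e1 : emb hE8 f k0 * emb hE8 f y = emb hE8 f y * emb hE8 f k0 := by rw [← map_mul, hky, map_mul]
      have e2 : emb hE8 f y * (emb hE8 f k0)⁻¹ = (emb hE8 f k0)⁻¹ * emb hE8 f y := by
        rw [mul_inv_eq_iff_eq_mul, mul_assoc, ← e1, inv_mul_cancel_left]
      calc z⁻¹ * emb hE8 f y * z * ((z⁻¹ * emb hE8 f k0 * z)⁻¹ * z⁻¹) = z⁻¹ * (emb hE8 f y * (emb hE8 f k0)⁻¹) := by group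
        _ = _ := by rw [e2]; group
    rw [e, mk_act, hyw]
  have h2 := h _ h1
  rw [← mk_act, ← mk_act] at h2
  have h3 := congrArg (fun u => mk z *ᵥ u) h2
  simp only [← mk_act] at h3
  have e1 : z * (k * (z⁻¹ * emb hE8 f t * z) * (k⁻¹ * z⁻¹)) = emb hE8 f (k0 * t * k0⁻¹) := by
    rw [map_mul, map_mul, map_inv, hk0]; group
  have e2 : z * ((z⁻¹ * emb hE8 f t' * z) * k * (k⁻¹ * z⁻¹)) = emb hE8 f t' := by group
  rw [e1, e2] at h3
  funext i
  have h4 := congrFun h3 i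
  rw [hw, emb_act, emb_act] at h4
  exact f.injective h4

/-! ### the fixed space -/

theorem fix_iota {K : Type} [Field K] [CharP K 3] {g : K} (hg : g ^ 4 = 1 - g) (v : chevE8.Idx → K)
    (hv : mk (YY (wU g hg) (wU_pow hg)) *ᵥ v = v) :
    ∃ A0 A1 : Mt K, A0.trace = 0 ∧ A1.trace = 0 ∧ iota g (A0, A1) = v := by
  have hv' : Ym (wU g hg) (wU_pow hg) v = v := hv
  obtain ⟨B0, B1, b0, b1, rfl⟩ := (fix_iff (wU_pow hg) (wU_ne hg) v).1 hv'
  have hg0 : g ≠ 0 := g_ne hg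
  have key : ∀ (r : Fin 5 → ℕ) (B : Mt K), cj r g (ddi r g * B * dd r g) = B := by
    intro r B
    rw [cj_eq]
    calc dd r g * (ddi r g * B * dd r g) * ddi r g = (dd r g * ddi r g) * B * (dd r g * ddi r g) := by
          simp only [mul_assoc]
      _ = B := by rw [dd_ddi r hg0, one_mul, mul_one]
  refine ⟨ddi re0 g * B0 * dd re0 g, ddi re1 g * B1 * dd re1 g, ?_, ?_, ?_⟩
  · rw [← cj_trace re0 hg0, key, b0]
  · rw [← cj_trace re1 hg0, key, b1]
  · rw [iota_apply, key, key]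

/-! ### the conclusion for two triples -/

/-- the form of the action of `T` on `L^h` -/
def Form {K : Type} [Field K] (g : K) (T : ↥(chevE8.group K)) (q : Mt K) : Prop :=
  ∀ A0 A1 : Mt K, A0.trace = 0 → A1.trace = 0 →
    ((T : GL chevE8.Idx K) : Matrix chevE8.Idx chevE8.Idx K) *ᵥ iota g (A0, A1) =
      iota g (-(Mh q * A0ᵀ * q), -(Q2 (Mh q) * A1ᵀ * Q2 q))

/-- the output of the search (helper947) -/
def HOut {K : Type} [Field K] (g : K) : Prop := ∃ Q : Mt K, ∀ q : Mt K, PNine g q →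
  ∃ l c : K, l ^ 80 = 1 ∧ c ^ 10 = 1 ∧ ∀ a b, q a b = c * (l ^ ke a * l ^ ke b * Q a b)

/-- **the same action** -/
theorem sameU_form {K : Type} [Field K] [CharP K 3] (f : ZMod 3 →+* K) {g : K} (hg : g ^ 4 = 1 - g)
    {z : ↥(chevE8.group K)} {y t t' : G8} (hy : z⁻¹ * emb hE8 f y * z = YY (wU g hg) (wU_pow hg))
    (hk : ∀ (l : Kˣ) (h : l ^ 80 = 1), ∃ k0 : G8, emb hE8 f k0 = z * kel l h * z⁻¹ ∧ k0 * xh = xh * k0 ∧
      k0 * y = y * k0) (hH : HOut g) {q q' : Mt K} (hq : PNine g q) (hq' : PNine g q')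
    (hT : Form g (z⁻¹ * emb hE8 f t * z) q) (hT' : Form g (z⁻¹ * emb hE8 f t' * z) q') :
    ∃ k0 : G8, k0 * xh = xh * k0 ∧ k0 * y = y * k0 ∧ SameU y (k0 * t * k0⁻¹) t' := by
  obtain ⟨Q, hQ⟩ := hH
  obtain ⟨l, c, hl, hc, h1⟩ := hQ q hq
  obtain ⟨l', c', hl', hc', h1'⟩ := hQ q' hq'
  obtain ⟨e, m, he, hm, h2⟩ := concl_ratio hl hc hl' hc' h1 h1'
  obtain ⟨k0, hk0, hkx, hky⟩ := hk m hm
  refine ⟨k0, hkx, hky, sameU_of f hk0 hky fun v hv => ?_⟩
  rw [hy] at hv
  obtain ⟨A0, A1, a0, a1, rfl⟩ := fix_iota hg v hv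
  exact kel_T m hm hq.herm hq'.herm he h2 hT hT' A0 A1 a0 a1

end Cfsg.Agent.H60.E83
end

-- part: H60/E83/Uniq
section
prune_inst 0x42040446022000008180582130020644e00019200604001e0e00a420b49616088062140ba90100080ceaecc40090000001001d0004000000e000c00011901a080ab5206b338ad04760007800084000000000000000000000000000000010004000000000
set_option linter.all false
open scoped Cfsg.Agent.FastGrp

/-!
# S5925, UNIQ0: two triples with the same `x₀`, `y₀` are conjugate under `C(x₀, y₀)` (helper60)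
-/

set_option autoImplicit false
set_option linter.unusedVariables false
set_option maxRecDepth 100000

namespace Cfsg.Agent.H60.E83

open Matrix Cfsg Cfsg.Lie Cfsg.Agent.ChevalleyStructure Cfsg.Agent.ChevalleyStructure.Elts
open Cfsg.Agent.H992.E8X hiding e8T
open Cfsg.Agent.H238.E8
open Cfsg.Agent.H576.E8L
open Cfsg.Agent.H879.E83 hiding Rel
open Cfsg.Agent.GpExc.Field (emb coe_emb coe_glMap emb_injective)
open Cfsg.Agent.H288.E8L (G8 GK K8)
open Cfsg.Agent.H908.E8L (Fr Mo exists_zed_kap)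
open Cfsg.Agent.H828.E83 (Rel)
open Cfsg.Agent.H138.E8L.Zed (X5M)
open Cfsg.Agent.H183.E8F (NN)
open Cfsg.Agent.BpExc.FamUntw (phi)

/-- the upstairs half (helper238) -/
def Up {g : K8} (hg : g ^ 4 = 1 - g) : Prop :=
  ∀ (z : GK) (X : SpecialLinearGroup (Fin 5) K8), (X : Matrix (Fin 5) (Fin 5) K8) = X5M g →
    z⁻¹ * phi chevE8 K8 3 1 z = NN K8 →
    z⁻¹ * emb hE8 (algebraMap (ZMod 3) K8) (ph2 (ZMod 3) Mo) * z = ph2 K8 X →
    z⁻¹ * emb hE8 (algebraMap (ZMod 3) K8) (ph2 (ZMod 3) Fr * ph1 (ZMod 3) Fr) * z = YY (wU g hg) (wU_pow hg) →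
    ∀ t : G8, Rel xh yh t → ∃ q : Mt K8, PNine g q ∧ Form g (z⁻¹ * emb hE8 (algebraMap (ZMod 3) K8) t * z) q

/-- a root of `X⁴ + X - 1` -/
theorem exists_g : ∃ g : K8, g ^ 4 = 1 - g := by
  have h := IsAlgClosed.exists_root (Polynomial.X ^ 4 + Polynomial.X - Polynomial.C 1 : Polynomial K8) (by
    have : (Polynomial.X ^ 4 + Polynomial.X - Polynomial.C 1 : Polynomial K8).degree = 4 := by compute_degree!
    rw [this]
    norm_num)
  obtain ⟨g, hg⟩ := h
  refine ⟨g, ?_⟩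
  simp only [Polynomial.IsRoot.def, Polynomial.eval_sub, Polynomial.eval_add, Polynomial.eval_pow, Polynomial.eval_X,
    Polynomial.eval_C] at hg
  linear_combination hg

/-- the abstract form -/
theorem uniq_abs {G : Type*} [Group G] {x y : G} (S : G → G → Prop)
    (hg : ∀ t t' : G, Rel x y t → Rel x y t' → S t t' → t = t')
    {t t' : G} (h : Rel x y t) (h' : Rel x y t') (hk : ∃ k : G, k * x = x * k ∧ k * y = y * k ∧ S (k * t * k⁻¹) t') :
    ∃ k : G, k * x = x * k ∧ k * y = y * k ∧ k * t * k⁻¹ = t' := by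
  obtain ⟨k, hkx, hky, hk⟩ := hk
  have h1 := rel_conj h k
  rw [conj_fix hkx, conj_fix hky] at h1
  exact ⟨k, hkx, hky, hg _ _ h1 h' hk⟩

/-- **uniqueness** -/
theorem uniq_of {g : K8} (hg : g ^ 4 = 1 - g) (hUp : Up hg) (hH : HOut g) {t t' : G8} (h : Rel xh yh t)
    (h' : Rel xh yh t') : ∃ k : G8, k * xh = xh * k ∧ k * yh = yh * k ∧ k * t * k⁻¹ = t' := by
  obtain ⟨z, X, hX, hN, hx, -, hy, -, hk⟩ := exists_zed_kap (algebraMap (ZMod 3) K8) hg
  obtain ⟨q, hq, hT⟩ := hUp z X hX hN hx hy t h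
  obtain ⟨q', hq', hT'⟩ := hUp z X hX hN hx hy t' h'
  exact uniq_abs (SameU yh) (fun _ _ a b c => glue_ph a b c) h h'
    (sameU_form (algebraMap (ZMod 3) K8) hg hy hk hH hq hq' hT hT')

/-! ### the form of helper114 -/

theorem moS_eq : Cfsg.Agent.H114.E8L.MoS = Mo := Subtype.ext (by decide +kernel)

theorem frS_eq : Cfsg.Agent.H114.E8L.FrS = Fr := Subtype.ext (by decide +kernel)

theorem x0_eq : Cfsg.Agent.H114.E8L.x0 = xh := by rw [Cfsg.Agent.H114.E8L.x0, moS_eq]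

theorem y0_eq : Cfsg.Agent.H114.E8L.y0 = yh := by rw [Cfsg.Agent.H114.E8L.y0, frS_eq]

theorem rel_of {G : Type*} [Group G] {x y t : G} (h : Cfsg.Agent.H791.E8L.Rel x y t) (hx : x ≠ 1) : Rel x y t where
  x11 := h.x11
  x1 := hx
  y5 := h.y5
  y1 := by
    rintro rfl
    have h1 := h.yx
    rw [one_mul, inv_one, mul_one] at h1
    have h2 : x ^ 2 = 1 := by
      have h3 : x * x ^ 2 = x * 1 := by rw [mul_one, ← pow_succ', ← h1]
      exact mul_left_cancel h3
    apply hx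
    have h4 := h.x11
    rw [show 11 = 2 * 5 + 1 from rfl, pow_succ, pow_mul, h2, one_pow, one_mul] at h4
    exact h4
  yx := h.yx
  tt := h.t2
  ty := by rw [inv_eq_of_mul_eq_one_right h.t2]; exact h.ty
  xt := by rw [← h.xt, pow_succ, pow_two]

/-- **UNIQ0** -/
theorem uniq0 {g : K8} (hg : g ^ 4 = 1 - g) (hUp : Up hg) (hH : HOut g) : Cfsg.Agent.H114.E8L.Uniq0 := by
  intro t t' h h'
  rw [x0_eq, y0_eq] at h h' ⊢
  exact uniq_of hg hUp hH (rel_of h Cfsg.Agent.H908.E8L.ph2_mo_ne) (rel_of h' Cfsg.Agent.H908.E8L.ph2_mo_ne)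

end Cfsg.Agent.H60.E83

private theorem dce_361776309f0a : _root_.True := by
  try have : _root_.True := by simp only [_root_.Cfsg.Agent.H114.E8L.y0.eq_1]
  try have : _root_.True := by simp only [_root_.Cfsg.Agent.H114.E8L.x0.eq_1]
  exact _root_.True.intro
end

-- part: H60/E83/UpQ
section
set_option linter.all false
open scoped Cfsg.Agent.FastGrp

/-!
# S5925, UNIQ0 from `σ = 0` and the search (helper60)
-/

set_option autoImplicit false
set_option linter.unusedVariables false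
set_option maxRecDepth 100000

namespace Cfsg.Agent.H60.E83

open Matrix Cfsg Cfsg.Lie Cfsg.Agent.ChevalleyStructure Cfsg.Agent.ChevalleyStructure.Elts
open Cfsg.Agent.H992.E8X hiding e8T
open Cfsg.Agent.H238.E8
open Cfsg.Agent.H288.E8L (G8 GK K8)
open Cfsg.Agent.H908.E8L (Fr Mo)
open Cfsg.Agent.H828.E83 (Rel)
open Cfsg.Agent.H114.E8L (ac)

/-- the box Q (helper870, helper65) -/
def QBox : Prop := ∀ t : G8, Rel xh yh t → ∀ v : chevE8.Idx → ZMod 3, ac xh v = v → ac yh v = v →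
  v + ∑ i ∈ Finset.range 11, ac (xh ^ i) (ac t v) = 0

theorem rel_791 {G : Type*} [Group G] {x y t : G} (h : Rel x y t) : Cfsg.Agent.H791.E8L.Rel x y t where
  x11 := h.x11
  y5 := h.y5
  t2 := h.tt
  xt := by rw [pow_succ, pow_two]; exact h.xt
  yx := h.yx
  ty := by
    have h1 := h.ty
    rwa [inv_eq_of_mul_eq_one_right h.tt] at h1

theorem up_of {g : K8} (hg : g ^ 4 = 1 - g) (hQ : QBox) : Up hg := by
  intro z X hX hN hx hy t h
  have h3 : CharP K8 3 := charP_of_injective_algebraMap (algebraMap (ZMod 3) K8).injective 3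
  exact Cfsg.Agent.H238.E8.up hg hN hx hy (rel_791 h) (Cfsg.Agent.H671.E83.tbl hg hX) (hQ t h)

/-- **UNIQ0** from the box Q and the search -/
theorem uniq0_q (hQ : QBox) (hH : ∀ g : K8, g ^ 4 = 1 - g → HOut g) : Cfsg.Agent.H114.E8L.Uniq0 := by
  obtain ⟨g, hg⟩ := exists_g
  exact uniq0 hg (up_of hg hQ) (hH g hg)

end Cfsg.Agent.H60.E83
end

-- part: H977/E83/Fin3
section
set_option linter.all false
open scoped Cfsg.Agent.FastGrp

/-!
# S5925 from the search (box H) (helper977)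
-/

set_option autoImplicit false

namespace Cfsg.Agent.H977.E83.Asm

open Cfsg.Agent.H288.E8L (K8)

/-- box K -/
theorem bkp : BKp := fun f h => Cfsg.Agent.H732.E8T.bk f h

/-- box Q in the form of helper60 -/
theorem qbox : Cfsg.Agent.H60.E83.QBox := by
  intro t h v hx hy
  have h' := Cfsg.Agent.H60.E83.rel_791 h
  rw [← Cfsg.Agent.H60.E83.x0_eq] at hx
  rw [← Cfsg.Agent.H60.E83.y0_eq] at hy
  rw [← Cfsg.Agent.H60.E83.x0_eq, ← Cfsg.Agent.H60.E83.y0_eq] at h'
  rw [← Cfsg.Agent.H60.E83.x0_eq]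
  exact Cfsg.Agent.H65.E8L.QBox.sig0 h' hx hy

/-- the statement of the search gives `HOut` -/
theorem hout {g : K8} (hS : Cfsg.Agent.H947.P9.Search K8 g) (hg : g ^ 4 = 1 - g) : Cfsg.Agent.H60.E83.HOut g :=
  ⟨fun a b => g ^ Cfsg.Agent.H947.P9.Q0E a b, fun q hq => hS hg q hq⟩

/-- **S5925 from the search** -/
theorem fin3 (hS : ∀ g : K8, Cfsg.Agent.H947.P9.Search K8 g) {F : Type*} [Field F] [Fintype F]
    (hF : Fintype.card F = 11) (H : Subgroup ↥(Cfsg.Lie.chevE8.group (ZMod 3)))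
    (hH : Nonempty (↥(Cfsg.generalizedFittingSubgroup ↥H) ≃* Matrix.ProjectiveSpecialLinearGroup (Fin 2) F) ∨
      Cfsg.Spor.IsoM11 ↥(Cfsg.generalizedFittingSubgroup ↥H)) : ¬ IsCoatom H :=
  fin2 (Cfsg.Agent.H60.E83.uniq0_q qbox fun g hg => hout (hS g) hg) bkp hF H hH

end Cfsg.Agent.H977.E83.Asm
end

-- part: S5925
section
prune_inst 0x10000000000000
set_option linter.all false
open scoped Cfsg.Agent.FastGrp

-- part: H728/PM/Sound
section
/-!
# The plan machine: soundness (helper728, S5925)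
-/

set_option autoImplicit false

namespace Cfsg.Agent.H728.PM

open Cfsg.Agent.H516.BS Cfsg.Agent.H728.BS

variable {F : Type*} [Field F] [CharP F 3] {g : F} {i : ℕ}

theorem exists_K4 (hg : g ^ 4 = -g + 1) {y : F} (hy : y ^ 81 = y) : ∃ c : K4, y = toF g c := by
  have hg' : g ^ 4 = 1 - g := by rw [hg]; ring
  obtain ⟨a, b, c, d, ha, hb, hc, hd, h⟩ := Cfsg.Agent.H138.E8L.exists_trits hg' hy
  have key : ∀ a : F, Cfsg.Agent.H138.E8L.IsTrit a → ∃ z : ZMod 3, a = io F z := by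
    rintro a (rfl | rfl | rfl)
    · exact ⟨0, by simp⟩
    · exact ⟨1, by simp⟩
    · exact ⟨-1, by simp⟩
  obtain ⟨z0, rfl⟩ := key a ha
  obtain ⟨z1, rfl⟩ := key b hb
  obtain ⟨z2, rfl⟩ := key c hc
  obtain ⟨z3, rfl⟩ := key d hd
  exact ⟨⟨z0, z1, z2, z3⟩, h⟩

theorem yreg_R (hg : g ^ 4 = -g + 1) {N : ℕ} (hi : i < N) {y : F} (hy : y ^ 81 = y) :
    ∃ t < 81, R g (i + N * t) ⟨dgp N 4 0, dgp N 4 1, dgp N 4 2, dgp N 4 3⟩ y ∧ (y ≠ 0 → 0 < t) := by
  obtain ⟨c, rfl⟩ := exists_K4 hg hy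
  obtain ⟨t, ht, hd⟩ := exists_digits (fun j => if j = 0 then c.c0.val else if j = 1 then c.c1.val else
    if j = 2 then c.c2.val else c.c3.val) (fun j => by
      split_ifs <;> exact ZMod.val_lt _) 4
  have h81 : (3 : ℕ) ^ 4 = 81 := by norm_num
  refine ⟨t, by rw [← h81]; exact ht, ⟨c, ⟨?_, ?_, ?_, ?_⟩, rfl⟩, ?_⟩
  · have := dgp_rt hi (show 0 < 4 by norm_num) ht
    rw [hd 0 (by norm_num)] at this
    show T.Rt (i + N * t) (dgp N 4 0) _
    simpa using this
  · have := dgp_rt hi (show 1 < 4 by norm_num) ht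
    rw [hd 1 (by norm_num)] at this
    show T.Rt (i + N * t) (dgp N 4 1) _
    simpa using this
  · have := dgp_rt hi (show 2 < 4 by norm_num) ht
    rw [hd 2 (by norm_num)] at this
    show T.Rt (i + N * t) (dgp N 4 2) _
    simpa using this
  · have := dgp_rt hi (show 3 < 4 by norm_num) ht
    rw [hd 3 (by norm_num)] at this
    show T.Rt (i + N * t) (dgp N 4 3) _
    simpa using this
  · intro hne
    rcases Nat.eq_zero_or_pos t with rfl | h
    · exfalso
      apply hne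
      have e0 := hd 0 (by norm_num)
      have e1 := hd 1 (by norm_num)
      have e2 := hd 2 (by norm_num)
      have e3 := hd 3 (by norm_num)
      have z : ∀ j, dg 0 j = 0 := by
        intro j
        show (0 / 3 ^ j) % 3 = 0
        rw [Nat.zero_div]
      rw [z] at e0 e1 e2 e3
      have f0 : c.c0 = 0 := (ZMod.val_eq_zero _).1 (by simpa using e0.symm)
      have f1 : c.c1 = 0 := (ZMod.val_eq_zero _).1 (by simpa using e1.symm)
      have f2 : c.c2 = 0 := (ZMod.val_eq_zero _).1 (by simpa using e2.symm)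
      have f3 : c.c3 = 0 := (ZMod.val_eq_zero _).1 (by simpa using e3.symm)
      simp [toF, f0, f1, f2, f3]
    · exact h

/-- **Soundness of the checks.** -/
theorem rng_sound (hg : g ^ 4 = -g + 1) {G : Prop} {p : Plan}
    (H : ∀ d < 2187, ∃ M : ℕ, M.testBit d = true ∧ rng p M = true) {ks : List F} (hl : ks.length = 7)
    (ht : ∀ x ∈ ks, x = 0 ∨ x = 1 ∨ x = -1) (hw : p.WP g ks [] G) : G := by
  refine rng_sound' hg (fun y hy => ?_) H hl ht hw
  obtain ⟨t, h1, h2, h3⟩ := yreg_R (i := 0) hg Nat.one_pos hy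
  rw [Nat.one_mul, Nat.zero_add] at h2
  refine ⟨t, h1, ?_, h3⟩
  unfold y0
  rw [wq_q]
  exact h2

end Cfsg.Agent.H728.PM
end

-- part: H780/P9/Final
section
/-!
# S5925, box H: the search from the runs (helper780)
-/

set_option autoImplicit false

namespace Cfsg.Agent.H780.P9
open Cfsg.Agent.H879.E83

/-- **box H** from the run theorems -/
theorem search_of_runs
    (H : ∀ d < 2187, ∃ M : ℕ, M.testBit d = true ∧ Cfsg.Agent.H728.PM.rng Cfsg.Agent.H136.P9.plan M = true)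
    (F : Type*) [Field F] [CharP F 3] (g : F) : Cfsg.Agent.H947.P9.Search F g := fun hg q h =>
  search_of_snd hg (fun _ _ hl ht hw =>
    Cfsg.Agent.H728.PM.rng_sound (hg.trans (by ring)) H hl ht hw) q h

end Cfsg.Agent.H780.P9
end

-- part: H947/P9/Final
section
/-!
# S5925, box H: the kernel search is complete
-/

set_option autoImplicit false

namespace Cfsg.Agent.H947.P9

/-- **Box H.** -/
theorem search.{u} (F : Type u) [Field F] [CharP F 3] (g : F) : Search F g :=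
  Cfsg.Agent.H780.P9.search_of_runs Cfsg.Agent.H908.P9.Run.rng_all F g

end Cfsg.Agent.H947.P9
end

-- part: S5925
section
set_option autoImplicit false
open Cfsg

namespace Cfsg.Agent.S5925

/-- Let G be the Chevalley group of type E₈ over the field with three elements (generated by its root elements in the 248-dimensional adjoint representation; it is the simple group E₈(3)), and let H be a subgroup of G whose generalized Fitting subgroup F*(H) is isomorphic to PSL₂(11) or to the Mathieu group M₁₁. Then H is not a maximal subgroup of G. Here F denotes a field with 11 elements. -/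
theorem result
    {F : Type*} [Field F] [Fintype F] (hF : Fintype.card F = 11) (H : Subgroup ↥(Cfsg.Lie.chevE8.group (ZMod 3)))
    (hH : Nonempty (↥(Cfsg.generalizedFittingSubgroup ↥H) ≃* Matrix.ProjectiveSpecialLinearGroup (Fin 2) F) ∨ Cfsg.Spor.IsoM11 ↥(Cfsg.generalizedFittingSubgroup ↥H)) :
    ¬ IsCoatom H :=
  Cfsg.Agent.H977.E83.Asm.fin3
    (fun g => Cfsg.Agent.H947.P9.search Cfsg.Agent.H288.E8L.K8 g) hF H hH

end Cfsg.Agent.S5925
end

private theorem dce_74cded7c86d4 : _root_.True := by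
  try have : _root_.True := by simp only [_root_.Cfsg.Agent.H728.PM.GoodL.congr_simp]
  exact _root_.True.intro
end
end
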