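import Cfsg.Agent.R2.T1.N7.Grp_m3
import Cfsg.Agent.R2.T1.N7.Sc7_m3
import Mathlib
import Cfsg.Agent.R2.T1.N6T.Ar_m3
import Cfsg.Agent.R2.T1.Five.Lin_m3
import Cfsg.Agent.R2.T1.N6D.Out_m3
import Cfsg.Agent.R2.T1.E5.Tor_m3
import Cfsg.Agent.R2.T1.N6R.Twi_m3
import Cfsg.Agent.H952.F4.Scott_m3
import Cfsg.Agent.H251.E6.Up
import Cfsg.Agent.R2.T1.Odd.T9
import Cfsg.Agent.R2.PX.W.Cl_m3
import Cfsg.Agent.R2.T1.N6B.Main_m3
import Cfsg.Agent.R2.T1.Main.Fin
import Cfsg.Statements.S5929
import Cfsg.Agent.FastGrp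
import Cfsg.Agent.Prune
set_option linter.all false

section
prune_inst 0x7fbebdffabfcbddfffff7e77a6decdfdffb8bfffa4dff9cbffe063ff2bdf7b88c9e5638d8beb10fe1ef7c21410e87b43fbffefffea6bdc7ffffd5ff45ffbffdfedf7bd08519c88b40fbc2ff683f0778e7f3fffffffffffffffffffffffffffbeffbfffffffff

-- part: R2/T2/Two/Main
section
prune_inst 0x410000500040000000000001000000000200000200000000000c00102080000400002000008100000000000804000000001000000420000000a000000000001000000000010000000000000000000000000000000000000000000000000000000000000000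
set_option linter.all false
open scoped Cfsg.Agent.FastGrp

-- part: R2/T2/Two/Orb
section
/-!
# S5929, `n = 6`, `p = 2`: the elements of the Lie algebra invariant modulo the centre (helper4)

* `RR H` : the elements of the adjoint module which are fixed by `H` modulo the centre `Zc F`;
* `orb` : `|S| |G| ≤ |H| |N|` for `S` a set of elements of `RR H` outside the centre, `N` a set containing the orbits;
* `order_two` : the order of the group, characteristic 2;
* `no_sq` : `v ^ 2 ∉ F v + F` for `v` in `RR H` outside the centre.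
-/

set_option autoImplicit false
set_option linter.unusedSectionVars false
set_option maxRecDepth 100000

namespace Cfsg.Agent.R2.T2.Two

open Cfsg Cfsg.Lie Module Matrix
open Cfsg.Agent.R2.T1 Cfsg.Agent.R2.PX Cfsg.Agent.R2.T1.Mu
open Cfsg.Agent.R2.T1.N6D (Zc mem_Zc L_of_mem mem_of_fixed)
open Cfsg.Agent.R2.T2.Alg
open Cfsg.Agent.H943.E7V.Block (D1 rho)

universe u

section
variable {F : Type u} [Field F]

/-- the elements of the adjoint module which are fixed by `H` modulo the centre -/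
noncomputable def RR (H : Subgroup ↥(chevE7.group F)) : Submodule F (chevE7.Idx → F) where
  carrier := {v | ∀ g : Gh F, ad F g ∈ H → L F g v - v ∈ Zc F}
  zero_mem' := fun g _ => by rw [map_zero, sub_zero]; exact Submodule.zero_mem _
  add_mem' := by
    intro v w hv hw g hg
    have e : L F g (v + w) - (v + w) = (L F g v - v) + (L F g w - w) := by rw [map_add]; abel
    rw [e]
    exact Submodule.add_mem _ (hv g hg) (hw g hg)
  smul_mem' := by
    intro c v hv g hg
    have e : L F g (c • v) - c • v = c • (L F g v - v) := by rw [map_smul, smul_sub]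
    rw [e]
    exact Submodule.smul_mem _ _ (hv g hg)

variable {H : Subgroup ↥(chevE7.group F)}

theorem Zc_le_RR : Zc F ≤ RR H := fun v hv g _ => by
  rw [L_of_mem hv, sub_self]
  exact Submodule.zero_mem _

theorem L_sub_mem {g : Gh F} {v : chevE7.Idx → F} (hv : v ∈ Zc F) : L F g v ∈ Zc F := by rwa [L_of_mem hv]

theorem L_mul_apply (g h : Gh F) (v : chevE7.Idx → F) : L F (g * h) v = L F g (L F h v) := by
  rw [map_mul, Module.End.mul_apply]

theorem L_inv_apply (g : Gh F) (v : chevE7.Idx → F) : L F g⁻¹ (L F g v) = v := ρ_inv (L F) g v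

/-- the stabilizer of an element modulo the centre -/
noncomputable def StZ (v : chevE7.Idx → F) : Subgroup (Gh F) where
  carrier := {g | L F g v - v ∈ Zc F}
  one_mem' := by
    show L F 1 v - v ∈ Zc F
    rw [map_one, Module.End.one_apply, sub_self]
    exact Submodule.zero_mem _
  mul_mem' := by
    intro a b ha hb
    have ha' : L F a v - v ∈ Zc F := ha
    have hb' : L F b v - v ∈ Zc F := hb
    show L F (a * b) v - v ∈ Zc F
    have e : L F (a * b) v - v = L F a (L F b v - v) + (L F a v - v) := by rw [L_mul_apply, map_sub]; abel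
    rw [e]
    exact Submodule.add_mem _ (L_sub_mem hb') ha'
  inv_mem' := by
    intro a ha
    have ha' : L F a v - v ∈ Zc F := ha
    show L F a⁻¹ v - v ∈ Zc F
    have e : L F a⁻¹ v - v = -(L F a⁻¹ (L F a v - v)) := by rw [map_sub, L_inv_apply]; abel
    rw [e]
    exact Submodule.neg_mem _ (L_sub_mem ha')

theorem mem_StZ {v : chevE7.Idx → F} {g : Gh F} : g ∈ StZ v ↔ L F g v - v ∈ Zc F := Iff.rfl

/-- **the stabilizer modulo the centre** -/
theorem StZ_eq (h2 : (2 : F) = 0) (hM : IsCoatom H) {v : chevE7.Idx → F} (hv : v ∈ RR H) (hz : v ∉ Zc F) :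
    StZ v = H.comap (ad F) := by
  have h1 : H.comap (ad F) ≤ StZ v := fun g hg => hv g hg
  refine le_antisymm ?_ h1
  by_contra hno
  have h3 : H < (StZ v).map (ad F) := by
    refine lt_of_le_of_ne ?_ ?_
    · intro h hh
      obtain ⟨g, rfl⟩ := ad_surjective h
      exact ⟨g, h1 hh, rfl⟩
    · intro h4
      apply hno
      intro g hg
      rw [Subgroup.mem_comap, h4]
      exact ⟨g, hg, rfl⟩
  have h5 := hM.2 _ h3
  apply hz
  refine mem_of_fixed h2 fun g => ?_
  have h6 : ad F g ∈ (StZ v).map (ad F) := by rw [h5]; trivial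
  obtain ⟨k, hk, hk'⟩ := h6
  have h7 : L F g = L F k := by rw [L_eq, L_eq, hk']
  rw [h7]
  exact hk

/-- conjugate elements -/
theorem mem_of_conj (h2 : (2 : F) = 0) (hM : IsCoatom H) (hH : H ≠ ⊥) {v w : chevE7.Idx → F} (hv : v ∈ RR H)
    (hvz : v ∉ Zc F) (hw : w ∈ RR H) (hwz : w ∉ Zc F) {x : Gh F} (hx : L F x v = w) : ad F x ∈ H := by
  have h3 := StZ_eq h2 hM hv hvz
  have h4 := StZ_eq h2 hM hw hwz
  have key : ∀ g : Gh F, g ∈ StZ v ↔ x * g * x⁻¹ ∈ StZ w := by
    intro g
    rw [mem_StZ, mem_StZ]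
    have h5 : L F x⁻¹ w = v := by rw [← hx, L_inv_apply]
    have e : L F (x * g * x⁻¹) w - w = L F x (L F g v - v) := by
      rw [L_mul_apply, L_mul_apply, h5, map_sub, hx]
    rw [e]
    constructor
    · intro h; exact L_sub_mem h
    · intro h
      have h6 := L_sub_mem (g := x⁻¹) h
      rwa [L_inv_apply] at h6
  rw [← Cfsg.Agent.R2.T2.Orb.normalizer_eq hM hH, Subgroup.mem_normalizer_iff]
  intro h
  obtain ⟨g, rfl⟩ := ad_surjective h
  have h5 := key g
  rw [h3, h4, Subgroup.mem_comap, Subgroup.mem_comap, map_mul, map_mul, map_inv] at h5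
  exact h5

/-- **counting orbits** -/
theorem orb [Finite F] (h2 : (2 : F) = 0) (hM : IsCoatom H) (hH : H ≠ ⊥) (S N : Set (chevE7.Idx → F))
    (hS : ∀ w ∈ S, w ∈ RR H ∧ w ∉ Zc F) (hN : ∀ w ∈ S, ∀ g, L F g w ∈ N) :
    Nat.card S * Nat.card ↥(chevE7.group F) ≤ Nat.card ↥H * Nat.card N := by
  have hcount := Cfsg.Agent.R2.T2.Orb.count_in (ρ := L F) (H.comap (ad F)) S N hN (by
    intro w hw w' hw' x hx
    exact mem_of_conj h2 hM hH (hS w hw).1 (hS w hw).2 (hS w' hw').1 (hS w' hw').2 hx)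
  have e1 := Subgroup.card_mul_index (H.comap (ad F))
  have e2 := Subgroup.card_mul_index H
  rw [Subgroup.index_comap_of_surjective H ad_surjective] at e1
  have hpos : 0 < Nat.card ↥(H.comap (ad F)) := Nat.card_pos
  have h4 : Nat.card S * H.index ≤ Nat.card N := by
    have h5 : Nat.card ↥(H.comap (ad F)) * (Nat.card S * H.index) ≤ Nat.card ↥(H.comap (ad F)) * Nat.card N := by
      calc Nat.card ↥(H.comap (ad F)) * (Nat.card S * H.index) = Nat.card S * (Nat.card ↥(H.comap (ad F)) * H.index) := by ring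
        _ = Nat.card S * Nat.card (Gh F) := by rw [e1]
        _ ≤ Nat.card ↥(H.comap (ad F)) * Nat.card N := hcount
    exact Nat.le_of_mul_le_mul_left h5 hpos
  calc Nat.card S * Nat.card ↥(chevE7.group F) = Nat.card ↥H * (Nat.card S * H.index) := by rw [← e2]; ring
    _ ≤ Nat.card ↥H * Nat.card N := Nat.mul_le_mul_left _ h4

/-- squares of elements fixed modulo the centre -/
theorem sq_RR (h2 : (2 : F) = 0) {v w : chevE7.Idx → F} (hv : v ∈ RR H) (hw : del F w = del F v * del F v) : w ∈ RR H := by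
  intro g hg
  obtain ⟨c, hc⟩ := mem_Zc.1 (hv g hg)
  have h1 : del F (L F g v) = del F v + c • (1 : Matrix D1 D1 F) := by
    rw [map_sub] at hc
    rw [hc]
    abel
  have hcd : rho F g⁻¹ * rho F g = 1 := by rw [← map_mul, inv_mul_cancel, map_one]
  have h3 : del F (L F g w) = del F (L F g v) * del F (L F g v) := by
    rw [del_L', del_L', hw]
    calc rho F g * (del F v * del F v) * rho F g⁻¹ = rho F g * del F v * 1 * del F v * rho F g⁻¹ := by
          simp only [mul_assoc, one_mul]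
      _ = _ := by rw [← hcd]; simp only [mul_assoc]
  refine mem_Zc.2 ⟨c * c, ?_⟩
  rw [map_sub, h3, h1, hw, mul_add, add_mul, add_mul, smul_mul_smul_comm, one_mul, mul_smul_comm, smul_mul_assoc, mul_one,
    one_mul]
  have e : c • del F v + c • del F v = 0 := by rw [← two_smul F, h2, zero_smul]
  calc (c * c) • (1 : Matrix D1 D1 F) = (c • del F v + c • del F v) + (c * c) • (1 : Matrix D1 D1 F) := by rw [e, zero_add]
    _ = _ := by abel

end

/-! ### the order -/

section card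
variable {F : Type u} [Field F] [Finite F]

/-- an even order is a power of two -/
theorem even_card (h2 : (2 : F) = 0) : 2 ∣ Nat.card F := by
  obtain ⟨p, hp⟩ := CharP.exists F
  have hp2 : p = 2 := by
    have h1 : p ∣ 2 := (CharP.cast_eq_zero_iff F p 2).1 (by exact_mod_cast h2)
    rcases (Nat.dvd_prime Nat.prime_two).1 h1 with h | h
    · exfalso
      subst h
      exact CharP.char_ne_one F 1 rfl
    · exact h
  subst hp2
  have := Fintype.ofFinite F
  obtain ⟨n, -, hn⟩ := FiniteField.card F 2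
  rw [Nat.card_eq_fintype_card, hn]
  exact dvd_pow_self 2 n.ne_zero

/-- `0.93 q^133 ≤ |G|` for `q ≥ 4` even -/
theorem order_two (h2 : (2 : F) = 0) (hq : 4 ≤ Nat.card F) : 93 * Nat.card F ^ 133 ≤ 100 * Nat.card ↥(chevE7.group F) := by
  have ho := order (K := F)
  obtain ⟨t, ht⟩ := even_card h2
  set q := Nat.card F with hqdef
  have hg : Nat.gcd 2 (q - 1) = 1 := by
    have h1 : Nat.Coprime 2 (q - 1) := by
      rw [Nat.coprime_two_left]
      exact ⟨t - 1, by omega⟩
    exact h1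
  rw [hg, one_mul] at ho
  have key : ∀ a, 4 ^ a * (q ^ a - 1) ≥ (4 ^ a - 1) * q ^ a := by
    intro a
    have h4 : 4 ^ a ≤ q ^ a := Nat.pow_le_pow_left hq a
    have h5 : 1 ≤ 4 ^ a := Nat.one_le_pow _ _ (by omega)
    rw [Nat.mul_sub, Nat.sub_mul, mul_one, one_mul]
    omega
  have k2 := key 2
  have k6 := key 6
  have k8 := key 8
  have k10 := key 10
  have k12 := key 12
  have k14 := key 14
  have k18 := key 18
  set N := Nat.card ↥(chevE7.group F) with hN
  have h : (4 ^ 2 - 1) * (4 ^ 6 - 1) * (4 ^ 8 - 1) * (4 ^ 10 - 1) * (4 ^ 12 - 1) * (4 ^ 14 - 1) * (4 ^ 18 - 1) * q ^ 133 ≤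
      4 ^ 70 * N := by
    calc (4 ^ 2 - 1) * (4 ^ 6 - 1) * (4 ^ 8 - 1) * (4 ^ 10 - 1) * (4 ^ 12 - 1) * (4 ^ 14 - 1) * (4 ^ 18 - 1) * q ^ 133
        = q ^ 63 * ((4 ^ 2 - 1) * q ^ 2) * ((4 ^ 6 - 1) * q ^ 6) * ((4 ^ 8 - 1) * q ^ 8) *
            ((4 ^ 10 - 1) * q ^ 10) * ((4 ^ 12 - 1) * q ^ 12) * ((4 ^ 14 - 1) * q ^ 14) * ((4 ^ 18 - 1) * q ^ 18) := by ring
      _ ≤ q ^ 63 * (4 ^ 2 * (q ^ 2 - 1)) * (4 ^ 6 * (q ^ 6 - 1)) * (4 ^ 8 * (q ^ 8 - 1)) * (4 ^ 10 * (q ^ 10 - 1)) *
            (4 ^ 12 * (q ^ 12 - 1)) * (4 ^ 14 * (q ^ 14 - 1)) * (4 ^ 18 * (q ^ 18 - 1)) := by gcongr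
      _ = 4 ^ 70 * (q ^ 63 * (q ^ 2 - 1) * (q ^ 6 - 1) * (q ^ 8 - 1) * (q ^ 10 - 1) * (q ^ 12 - 1) * (q ^ 14 - 1) *
            (q ^ 18 - 1)) := by ring
      _ = _ := by rw [← ho]
  norm_num only [] at h
  omega

variable {H : Subgroup ↥(chevE7.group F)}

/-- **no element satisfies a quadratic equation** -/
theorem no_sq (h2 : (2 : F) = 0) (hM : IsCoatom H) (hH : H ≠ ⊥) (hc : Nat.card ↥H ≤ 720) (hq : 4 ≤ Nat.card F)
    {v : chevE7.Idx → F} (hv : v ∈ RR H) (hvz : v ∉ Zc F) {a b : F}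
    (h : del F v * del F v = a • del F v + b • (1 : Matrix D1 D1 F)) : False := by
  have h1 := orb h2 hM hH {v} {z | del F z * del F z = a • del F z + b • (1 : Matrix D1 D1 F)}
    (by rintro w rfl; exact ⟨hv, hvz⟩) (by
      rintro w hw g
      have hw' : w = v := hw
      subst hw'
      have hcd : rho F g⁻¹ * rho F g = 1 := by rw [← map_mul, inv_mul_cancel, map_one]
      have hdc : rho F g * rho F g⁻¹ = 1 := by rw [← map_mul, mul_inv_cancel, map_one]
      show del F (L F g w) * del F (L F g w) = a • del F (L F g w) + b • (1 : Matrix D1 D1 F)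
      rw [del_L']
      calc rho F g * del F w * rho F g⁻¹ * (rho F g * del F w * rho F g⁻¹)
          = rho F g * (del F w * (rho F g⁻¹ * rho F g) * del F w) * rho F g⁻¹ := by simp only [mul_assoc]
        _ = rho F g * (a • del F w + b • (1 : Matrix D1 D1 F)) * rho F g⁻¹ := by rw [hcd, mul_one, h]
        _ = _ := by rw [mul_add, add_mul, mul_smul_comm, smul_mul_assoc, mul_smul_comm, smul_mul_assoc, mul_one, hdc])
  have h3 := Cfsg.Agent.R2.T2.N6K.card_sq (F := F) a b
  have h4 := order_two h2 hq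
  rw [Nat.card_unique, one_mul] at h1
  have h5 : Nat.card ↥(chevE7.group F) ≤ 720 * (27 * Nat.card F ^ 116 + Nat.card F ^ 106) :=
    h1.trans (Nat.mul_le_mul hc h3)
  set q := Nat.card F with hqdef
  have h6 : q ^ 133 = q ^ 17 * q ^ 116 := by rw [← pow_add]
  have h7 : q ^ 106 ≤ q ^ 116 := Nat.pow_le_pow_right (by omega) (by norm_num)
  have h8 : 4 ^ 17 ≤ q ^ 17 := Nat.pow_le_pow_left hq 17
  have h9 : 0 < q ^ 116 := Nat.pow_pos (by omega)
  rw [h6] at h4
  have h10 : 4 ^ 17 * q ^ 116 ≤ q ^ 17 * q ^ 116 := Nat.mul_le_mul_right _ h8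
  norm_num only [] at h10
  omega

/-- the dimension -/
theorem card_RR (h2 : (2 : F) = 0) (hM : IsCoatom H) (hH : H ≠ ⊥) (hc : Nat.card ↥H ≤ 720) (hq : 4 ≤ Nat.card F) :
    93 * (Nat.card F ^ finrank F (RR H) - Nat.card F) ≤ 72000 := by
  have hfin : Finite (chevE7.Idx → F) := Module.finite_of_finite F
  have h1 := orb h2 hM hH ((RR H : Set (chevE7.Idx → F)) \ (Zc F : Set (chevE7.Idx → F))) Set.univ
    (fun w hw => ⟨hw.1, hw.2⟩) (fun _ _ _ => Set.mem_univ _)
  have h3 : Nat.card ((RR H : Set (chevE7.Idx → F)) \ (Zc F : Set (chevE7.Idx → F)) : Set (chevE7.Idx → F)) =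
      Nat.card F ^ finrank F (RR H) - Nat.card F := by
    have e1 := Set.ncard_diff (s := (Zc F : Set (chevE7.Idx → F))) (t := (RR H : Set (chevE7.Idx → F)))
      (fun v hv => Zc_le_RR hv) (Set.toFinite _)
    have e2 : (RR H : Set (chevE7.Idx → F)).ncard = Nat.card F ^ finrank F (RR H) := by
      rw [← Module.natCard_eq_pow_finrank (K := F)]
      rfl
    have e3 : (Zc F : Set (chevE7.Idx → F)).ncard = Nat.card F := by
      have e4 : (Zc F : Set (chevE7.Idx → F)).ncard = Nat.card F ^ finrank F (Zc F) := by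
        rw [← Module.natCard_eq_pow_finrank (K := F)]
        rfl
      rw [e4, Cfsg.Agent.R2.T1.N6D.finrank_Zc h2, pow_one]
    rw [e2, e3] at e1
    exact e1
  have h4 : Nat.card (Set.univ : Set (chevE7.Idx → F)) = Nat.card F ^ 133 := by
    rw [Nat.card_univ, Nat.card_fun, Nat.card_eq_fintype_card (α := chevE7.Idx), card_Idx]
  rw [h3, h4] at h1
  have h5 := order_two h2 hq
  set q := Nat.card F with hqdef
  set A := q ^ finrank F (RR H) - q with hA
  set N := Nat.card ↥(chevE7.group F) with hN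
  have h6 : A * N ≤ 720 * q ^ 133 := h1.trans (Nat.mul_le_mul_right _ hc)
  have h9 : 0 < q ^ 133 := Nat.pow_pos (by omega)
  by_contra hno
  push Not at hno
  have h7 : 72000 * q ^ 133 < 93 * A * q ^ 133 := Nat.mul_lt_mul_of_pos_right hno h9
  have h8 : A * (93 * q ^ 133) ≤ A * (100 * N) := Nat.mul_le_mul_left _ h5
  have e1 : 93 * A * q ^ 133 = A * (93 * q ^ 133) := by ring
  have e2 : A * (100 * N) = 100 * (A * N) := by ring
  omega

end card

end Cfsg.Agent.R2.T2.Two
end

-- part: R2/T2/Two/Abs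
section
/-!
# S5929, `n = 6`, `p = 2`: spaces closed under squares over the field with four elements (helper4)

* `abs` : a space `R` (with `1`, closed under squares, of dimension at most 4) of elements of an algebra over the field with
  four elements, such that no non-scalar element of `R` satisfies a quadratic equation, contains a non-scalar `M` with
  `M f(M) = 0`, `f(0) ≠ 0`, where the degrees of all irreducible factors of `f` are divisible by 3 or all by 7.
-/

set_option autoImplicit false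

namespace Cfsg.Agent.R2.T2.Two

open Polynomial Module

universe u v

section
variable {F : Type u} [Field F] {A : Type v} [Ring A] [Algebra F A]

theorem two_poly (h2 : (2 : F) = 0) : (2 : F[X]) = 0 := by
  rw [← map_ofNat C 2, h2, map_zero]

/-- not a scalar -/
def NS (F : Type u) [Field F] {A : Type v} [Ring A] [Algebra F A] (M : A) : Prop := ∀ c : F, M ≠ algebraMap F A c

/-- the assumptions -/
structure Sq (R : Submodule F A) : Prop where
  two : (2 : F) = 0
  one : (1 : A) ∈ R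
  sq : ∀ M ∈ R, M * M ∈ R
  no : ∀ M ∈ R, NS F M → ∀ a b : F, aeval M (X ^ 2 + C a * X + C b) ≠ 0

variable {R : Submodule F A}

theorem Sq.alg (h : Sq R) (c : F) : algebraMap F A c ∈ R := by
  rw [Algebra.algebraMap_eq_smul_one]
  exact R.smul_mem c h.one

/-- the polynomial `X² + r X` -/
theorem Sq.mem1 (h : Sq R) {M : A} (hM : M ∈ R) (r : F) : aeval M (X ^ 2 + C r * X) ∈ R := by
  rw [map_add, map_mul, map_pow, aeval_X, aeval_C, ← Algebra.smul_def, pow_two]
  exact R.add_mem (h.sq M hM) (R.smul_mem r hM)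

theorem Sq.mem2 (h : Sq R) {M : A} (hM : M ∈ R) (a b : F) : aeval M (X ^ 4 + C a * X ^ 2 + C b * X) ∈ R := by
  rw [map_add, map_add, map_mul, map_mul, map_pow, map_pow, aeval_X, aeval_C, aeval_C, ← Algebra.smul_def,
    ← Algebra.smul_def]
  have e : M ^ 4 = (M * M) * (M * M) := by
    rw [show (4 : ℕ) = 2 + 2 by norm_num, pow_add, pow_two]
  rw [e, pow_two]
  exact R.add_mem (R.add_mem (h.sq _ (h.sq M hM)) (R.smul_mem a (h.sq M hM))) (R.smul_mem b hM)

theorem Sq.ns1 (h : Sq R) {M : A} (hM : M ∈ R) (hn : NS F M) (r : F) : NS F (aeval M (X ^ 2 + C r * X)) := by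
  intro c hc
  apply h.no M hM hn r (-c)
  rw [map_add, hc, aeval_C, map_neg, add_neg_cancel]

/-- no roots, degree 3 -/
theorem Sq.root3 (h : Sq R) {M : A} (hM : M ∈ R) (hn : NS F M) {a b c : F}
    (he : aeval M (X ^ 4 + C a * X ^ 2 + C b * X + C c) = 0) (r : F) : r ^ 3 + a * r + b ≠ 0 := by
  intro hr
  have h2 := two_poly h.two
  apply h.no _ (h.mem1 hM r) (h.ns1 hM hn r) (a + r ^ 2) c
  rw [← aeval_comp, ← he]
  congr 1
  simp only [add_comp, mul_comp, pow_comp, X_comp, C_comp]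
  have hr' : C b = -(C r ^ 3 + C a * C r) := by
    rw [← map_pow, ← map_mul, ← map_add, ← map_neg]
    congr 1
    linear_combination hr
  rw [hr', map_add, map_pow]
  linear_combination (C r * X ^ 3 + C r ^ 2 * X ^ 2 + (C a * C r + C r ^ 3) * X) * h2

/-- no roots, degree 7 -/
theorem Sq.root7 (h : Sq R) {M : A} (hM : M ∈ R) (hn : NS F M)
    (hI : ∀ M ∈ R, NS F M → ∀ a b c : F, aeval M (X ^ 4 + C a * X ^ 2 + C b * X + C c) ≠ 0) {a b c d : F}
    (he : aeval M (X ^ 8 + C a * X ^ 4 + C b * X ^ 2 + C c * X + C d) = 0) (r : F) : r ^ 7 + a * r ^ 3 + b * r + c ≠ 0 := by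
  intro hr
  have h2 := two_poly h.two
  apply hI _ (h.mem1 hM r) (h.ns1 hM hn r) (a + r ^ 4) (b + (a + r ^ 4) * r ^ 2) d
  rw [← aeval_comp, ← he]
  congr 1
  simp only [add_comp, mul_comp, pow_comp, X_comp, C_comp]
  have hr' : C c = -(C r ^ 7 + C a * C r ^ 3 + C b * C r) := by
    rw [← map_pow, ← map_pow, ← map_mul, ← map_mul, ← map_add, ← map_add, ← map_neg]
    congr 1
    linear_combination hr
  rw [hr', map_add, map_pow, map_add, map_mul, map_add, map_pow, map_pow]
  linear_combination (2 * C r * X ^ 7 + 3 * C r ^ 2 * X ^ 6 + 2 * C r ^ 3 * X ^ 5 + C r ^ 4 * X ^ 4 +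
    (C a + C r ^ 4) * C r * X ^ 3 + (C a + C r ^ 4) * C r ^ 2 * X ^ 2 +
    (C a * C r ^ 3 + C b * C r + C r ^ 7) * X) * h2

end

end Cfsg.Agent.R2.T2.Two
end

-- part: R2/T2/Two/Deg
section
/-!
# S5929, `n = 6`, `p = 2`: additive polynomials of degree 8 over the field with four elements (helper4)

* `deg7` : the degrees of the irreducible factors are divisible by 7.
-/

set_option autoImplicit false

namespace Cfsg.Agent.R2.T2.Two

open Polynomial Module

universe u v

theorem card_le_of_roots {K : Type*} [Field K] {p : K[X]} (hp : p ≠ 0) (S : Finset K) (h : ∀ x ∈ S, p.eval x = 0) :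
    S.card ≤ p.natDegree := by
  classical
  refine Polynomial.card_le_degree_of_subset_roots ?_
  intro x hx
  exact (Polynomial.mem_roots hp).2 (h x hx)

theorem fix4 {F K : Type*} [Field F] [Field K] [Algebra F K] [Finite F] (hF : Nat.card F = 4) {x : K} (hx : x ^ 4 = x) :
    ∃ r : F, algebraMap F K r = x := by
  classical
  by_contra hno
  push Not at hno
  have := Fintype.ofFinite F
  have hdeg : (X ^ 4 - X : K[X]).natDegree = 4 := by compute_degree!
  have hne : (X ^ 4 - X : K[X]) ≠ 0 := by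
    intro h0
    rw [h0, natDegree_zero] at hdeg
    omega
  have h1 := card_le_of_roots hne (insert x (Finset.univ.image (algebraMap F K))) (by
    intro y hy
    rw [eval_sub, eval_pow, eval_X, sub_eq_zero]
    rcases Finset.mem_insert.1 hy with h | h
    · rw [h, hx]
    · obtain ⟨r, -, rfl⟩ := Finset.mem_image.1 h
      rw [← map_pow]
      congr 1
      have h3 := FiniteField.pow_card r
      rwa [← Nat.card_eq_fintype_card, hF] at h3)
  rw [Finset.card_insert_of_notMem, Finset.card_image_of_injective _ (algebraMap F K).injective, Finset.card_univ,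
    ← Nat.card_eq_fintype_card, hF, hdeg] at h1
  · omega
  · intro h
    obtain ⟨r, -, hr⟩ := Finset.mem_image.1 h
    exact hno r hr

section
variable {K : Type v} [Field K]

theorem add4 (h2 : (2 : K) = 0) (x y : K) : (x + y) ^ 4 = x ^ 4 + y ^ 4 := by
  linear_combination (2 * x ^ 3 * y + 3 * x ^ 2 * y ^ 2 + 2 * x * y ^ 3) * h2

theorem inj4 (h2 : (2 : K) = 0) {x y : K} (h : x ^ 4 = y ^ 4) : x = y := by
  have h1 : (x + y) ^ 4 = 0 := by
    rw [add4 h2, h]
    linear_combination y ^ 4 * h2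
  have h3 := pow_eq_zero_iff (n := 4) (by norm_num) |>.1 h1
  linear_combination h3 - y * h2

/-- the additive polynomial -/
def ad8 (a b c x : K) : K := x ^ 8 + a * x ^ 4 + b * x ^ 2 + c * x

theorem ad8_add (h2 : (2 : K) = 0) (a b c x y : K) : ad8 a b c (x + y) = ad8 a b c x + ad8 a b c y := by
  have e2 : (x + y) ^ 2 = x ^ 2 + y ^ 2 := by linear_combination (x * y) * h2
  have e4 := add4 h2 x y
  have e8 : (x + y) ^ 8 = x ^ 8 + y ^ 8 := by
    calc (x + y) ^ 8 = ((x + y) ^ 4) ^ 2 := by ring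
      _ = (x ^ 4 + y ^ 4) ^ 2 := by rw [e4]
      _ = _ := by linear_combination (x ^ 4 * y ^ 4) * h2
  unfold ad8
  rw [e2, e4, e8]
  ring

theorem ad8_pow (h2 : (2 : K) = 0) {a b c : K} (ha : a ^ 4 = a) (hb : b ^ 4 = b) (hc : c ^ 4 = c) (x : K) :
    ad8 a b c (x ^ 4) = (ad8 a b c x) ^ 4 := by
  unfold ad8
  rw [add4 h2, add4 h2, add4 h2, mul_pow, mul_pow, mul_pow, ha, hb, hc]
  ring

end

section
variable {F : Type u} [Field F] [Finite F]

/-- **the degrees of the irreducible factors** -/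
theorem deg7 (hF : Nat.card F = 4) (h2 : (2 : F) = 0) {a b c : F} (hroot : ∀ r : F, r ^ 7 + a * r ^ 3 + b * r + c ≠ 0)
    (hC : ∀ a' b' s : F, a = a' ^ 2 + s → b = b' ^ 2 + s * a' → c = s * b' → False)
    {q : F[X]} (hq : Irreducible q) (hd : q ∣ X ^ 7 + C a * X ^ 3 + C b * X + C c) : 7 ∣ q.natDegree := by
  classical
  have : Fact (Irreducible q) := ⟨hq⟩
  obtain ⟨hc, hfin⟩ := Cfsg.Agent.R2.T2.Orb.card_adj hq
  obtain ⟨r, hr⟩ := hd
  have h2K : (2 : AdjoinRoot q) = 0 := by
    rw [← map_ofNat (algebraMap F (AdjoinRoot q)) 2, h2, map_zero]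
  have hpow : ∀ x : F, x ^ 4 = x := by
    intro x
    have := Fintype.ofFinite F
    have h3 := FiniteField.pow_card x
    rwa [← Nat.card_eq_fintype_card, hF] at h3
  set w := AdjoinRoot.root q with hw
  set a1 := algebraMap F (AdjoinRoot q) a with ha1
  set b1 := algebraMap F (AdjoinRoot q) b with hb1
  set c1 := algebraMap F (AdjoinRoot q) c with hc1
  have e0 : w ^ 7 + a1 * w ^ 3 + b1 * w + c1 = 0 := by
    have h3 : aeval w (X ^ 7 + C a * X ^ 3 + C b * X + C c) = 0 := by
      rw [hr, map_mul, aeval_def, AdjoinRoot.algebraMap_eq, AdjoinRoot.eval₂_root, zero_mul]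
    rw [map_add, map_add, map_add, map_mul, map_mul, map_pow, map_pow, aeval_X, aeval_C, aeval_C, aeval_C] at h3
    exact h3
  have ha4 : a1 ^ 4 = a1 := by rw [ha1, ← map_pow, hpow]
  have hb4 : b1 ^ 4 = b1 := by rw [hb1, ← map_pow, hpow]
  have hc4 : c1 ^ 4 = c1 := by rw [hc1, ← map_pow, hpow]
  have hAw : ad8 a1 b1 c1 w = 0 := by unfold ad8; linear_combination w * e0
  -- no rational roots
  have hrat : ∀ x : AdjoinRoot q, x ^ 4 = x → ad8 a1 b1 c1 x = 0 → x = 0 := by
    intro x hx hx0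
    obtain ⟨r, rfl⟩ := fix4 hF hx
    by_contra hne
    have hr0 : r ≠ 0 := by
      rintro rfl
      exact hne (map_zero _)
    apply hroot r
    have h3 : r * (r ^ 7 + a * r ^ 3 + b * r + c) = 0 := by
      apply (algebraMap F (AdjoinRoot q)).injective
      rw [map_zero, ← hx0]
      unfold ad8
      simp only [map_mul, map_add, map_pow]
      ring
    exact (mul_eq_zero.1 h3).resolve_left hr0
  have hw0 : w ≠ 0 := by
    intro h0
    rw [h0] at e0
    apply hroot 0
    apply (algebraMap F (AdjoinRoot q)).injective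
    rw [map_zero, ← e0]
    simp only [map_mul, map_add, map_pow, map_zero]
    rfl
  -- the conjugates
  set w1 := w ^ 4 with hw1
  set w2 := w1 ^ 4 with hw2
  set w3 := w2 ^ 4 with hw3
  have hA1 : ad8 a1 b1 c1 w1 = 0 := by rw [hw1, ad8_pow h2K ha4 hb4 hc4, hAw]; norm_num
  have hA2 : ad8 a1 b1 c1 w2 = 0 := by rw [hw2, ad8_pow h2K ha4 hb4 hc4, hA1]; norm_num
  have hA3 : ad8 a1 b1 c1 w3 = 0 := by rw [hw3, ad8_pow h2K ha4 hb4 hc4, hA2]; norm_num
  have hw10 : w1 ≠ 0 := pow_ne_zero _ hw0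
  have hw20 : w2 ≠ 0 := pow_ne_zero _ hw10
  have hself : ∀ x : AdjoinRoot q, x + x = 0 := fun x => by linear_combination x * h2K
  have eq_of_add : ∀ {x y : AdjoinRoot q}, x + y = 0 → x = y := fun {x y} h => by linear_combination h - y * h2K
  have n1 : w + w1 ≠ 0 := by
    intro h
    exact hw0 (hrat w (eq_of_add h).symm hAw)
  have n2 : w1 + w2 ≠ 0 := by
    intro h
    have h3 : w ^ 4 = w1 ^ 4 := eq_of_add h
    have h4 := inj4 h2K h3
    apply n1
    rw [← h4]
    exact hself w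
  have n3 : w + w2 ≠ 0 := by
    intro h
    apply n1
    refine hrat _ ?_ ?_
    · rw [add4 h2K, ← hw1, ← hw2, ← eq_of_add h, add_comm]
    · rw [ad8_add h2K, hAw, hA1, add_zero]
  have n4 : w + w1 + w2 ≠ 0 := by
    intro h
    have h3 : w + w1 = w2 := eq_of_add h
    have fx : (w ^ 2 + w * w1 + w1 ^ 2) ^ 4 = w ^ 2 + w * w1 + w1 ^ 2 := by
      have e1 : (w ^ 2 + w * w1 + w1 ^ 2) ^ 4 = w1 ^ 2 + w1 * w2 + w2 ^ 2 := by
        rw [add4 h2K, add4 h2K, mul_pow, ← hw2, hw1, hw2]
        ring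
      rw [e1, ← h3]
      linear_combination (w1 ^ 2 + w * w1) * h2K
    have gx : (w * w1 * (w + w1)) ^ 4 = w * w1 * (w + w1) := by
      have e1 : (w * w1 * (w + w1)) ^ 4 = w1 * w2 * (w1 + w2) := by
        rw [mul_pow, mul_pow, add4 h2K, ← hw1, ← hw2]
      rw [e1, ← h3]
      linear_combination (w1 ^ 3 + w * w1 ^ 2) * h2K
    obtain ⟨a', ha'⟩ := fix4 hF fx
    obtain ⟨b', hb'⟩ := fix4 hF gx
    -- `C(w) = C(w1) = 0`
    set s := a - a' ^ 2 with hs
    have hs' : algebraMap F (AdjoinRoot q) s = a1 - (w ^ 2 + w * w1 + w1 ^ 2) ^ 2 := by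
      rw [hs, map_sub, map_pow, ha']
    set U := b1 - (w * w1 * (w + w1)) ^ 2 - algebraMap F (AdjoinRoot q) s * (w ^ 2 + w * w1 + w1 ^ 2) with hU
    set W := c1 - algebraMap F (AdjoinRoot q) s * (w * w1 * (w + w1)) with hW
    have k1 : U * w ^ 2 + W * w = 0 := by
      rw [hU, hW, hs']
      unfold ad8 at hAw
      generalize w1 = y at *
      linear_combination hAw + (-(w ^ 4 + (w ^ 2 + w * y + y ^ 2) * w ^ 2 + (w * y * (w + y)) * w) *
          (w ^ 4 + w ^ 3 * y + w ^ 2 * y ^ 2) + ((w ^ 2 + w * y + y ^ 2) * w ^ 6 + (w * y * (w + y)) * w ^ 5 +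
          (w ^ 2 + w * y + y ^ 2) * (w * y * (w + y)) * w ^ 3) -
          (a1 - (w ^ 2 + w * y + y ^ 2) ^ 2) * (w ^ 4 + w ^ 3 * y + w ^ 2 * y ^ 2)) * h2K
    have k2 : U * w1 ^ 2 + W * w1 = 0 := by
      rw [hU, hW, hs']
      unfold ad8 at hA1
      clear_value w1
      linear_combination hA1 + (-(w1 ^ 4 + (w ^ 2 + w * w1 + w1 ^ 2) * w1 ^ 2 + (w * w1 * (w + w1)) * w1) *
          (w1 ^ 4 + w ^ 2 * w1 ^ 2 + w * w1 ^ 3) + ((w ^ 2 + w * w1 + w1 ^ 2) * w1 ^ 6 + (w * w1 * (w + w1)) * w1 ^ 5 +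
          (w ^ 2 + w * w1 + w1 ^ 2) * (w * w1 * (w + w1)) * w1 ^ 3) -
          (a1 - (w ^ 2 + w * w1 + w1 ^ 2) ^ 2) * (w1 ^ 4 + w ^ 2 * w1 ^ 2 + w * w1 ^ 3)) * h2K
    have k3 : U * w + W = 0 := by
      have : w * (U * w + W) = 0 := by linear_combination k1
      exact (mul_eq_zero.1 this).resolve_left hw0
    have k4 : U * w1 + W = 0 := by
      have : w1 * (U * w1 + W) = 0 := by linear_combination k2
      exact (mul_eq_zero.1 this).resolve_left hw10
    have k5 : U = 0 := by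
      have h5 : U * (w + w1) = 0 := by linear_combination k3 + k4 - W * h2K
      exact (mul_eq_zero.1 h5).resolve_right n1
    have k6 : W = 0 := by rw [k5, zero_mul, zero_add] at k3; exact k3
    refine hC a' b' s (by rw [hs]; ring) ?_ ?_
    · apply (algebraMap F (AdjoinRoot q)).injective
      rw [map_add, map_pow, map_mul, ha', hb']
      rw [hU] at k5
      linear_combination k5
    · apply (algebraMap F (AdjoinRoot q)).injective
      rw [map_mul, hb']
      rw [hW] at k6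
      linear_combination k6
  -- a relation
  let g : Bool × Bool × Bool × Bool → AdjoinRoot q := fun e => (bif e.1 then w else 0) + (bif e.2.1 then w1 else 0) +
    (bif e.2.2.1 then w2 else 0) + (bif e.2.2.2 then w3 else 0)
  have hgA : ∀ e, ad8 a1 b1 c1 (g e) = 0 := by
    have h0 : ad8 a1 b1 c1 (0 : AdjoinRoot q) = 0 := by unfold ad8; ring
    rintro ⟨e0, e1, e2, e3⟩
    show ad8 a1 b1 c1 ((bif e0 then w else 0) + (bif e1 then w1 else 0) + (bif e2 then w2 else 0) +
      (bif e3 then w3 else 0)) = 0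
    rw [ad8_add h2K, ad8_add h2K, ad8_add h2K]
    cases e0 <;> cases e1 <;> cases e2 <;> cases e3 <;>
      simp only [cond_true, cond_false, hAw, hA1, hA2, hA3, h0, add_zero]
  have hrel : ∃ e : Bool × Bool × Bool × Bool, e ≠ (false, false, false, false) ∧ g e = 0 := by
    by_contra hno
    push Not at hno
    have hinj : Function.Injective g := by
      rintro ⟨e0, e1, e2, e3⟩ ⟨d0, d1, d2, d3⟩ he
      by_contra hne
      apply hno (e0 ^^ d0, e1 ^^ d1, e2 ^^ d2, e3 ^^ d3)
      · intro h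
        apply hne
        simpa using h
      · have key : ∀ (x y : Bool) (z : AdjoinRoot q), (bif (x ^^ y) then z else 0) = (bif x then z else 0) + (bif y then z else 0) := by
          intro x y z
          cases x <;> cases y <;> simp [hself]
        show (bif (e0 ^^ d0) then w else 0) + (bif (e1 ^^ d1) then w1 else 0) + (bif (e2 ^^ d2) then w2 else 0) +
          (bif (e3 ^^ d3) then w3 else 0) = 0
        rw [key, key, key, key]
        have he' : (bif e0 then w else 0) + (bif e1 then w1 else 0) + (bif e2 then w2 else 0) + (bif e3 then w3 else 0) =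
          (bif d0 then w else 0) + (bif d1 then w1 else 0) + (bif d2 then w2 else 0) + (bif d3 then w3 else 0) := he
        have h5 := hself ((bif d0 then w else 0) + (bif d1 then w1 else 0) + (bif d2 then w2 else 0) + (bif d3 then w3 else 0))
        linear_combination he' + h5
    have hdeg : (X ^ 8 + C a1 * X ^ 4 + C b1 * X ^ 2 + C c1 * X : (AdjoinRoot q)[X]).natDegree = 8 := by compute_degree!
    have hne : (X ^ 8 + C a1 * X ^ 4 + C b1 * X ^ 2 + C c1 * X : (AdjoinRoot q)[X]) ≠ 0 := by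
      intro h0
      rw [h0, natDegree_zero] at hdeg
      omega
    have h1 := card_le_of_roots hne (Finset.univ.image g) (by
      intro y hy
      obtain ⟨e, -, rfl⟩ := Finset.mem_image.1 hy
      have := hgA e
      unfold ad8 at this
      simpa only [_root_.Polynomial.eval_add, _root_.Polynomial.eval_pow, _root_.Polynomial.eval_X, _root_.Polynomial.eval_mul, _root_.Polynomial.eval_C] using this)
    rw [Finset.card_image_of_injective _ hinj, hdeg] at h1
    have h3 : (Finset.univ : Finset (Bool × Bool × Bool × Bool)).card = 16 := by decide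
    omega
  -- `w` has period 7
  have h7 : ((((((w ^ 4) ^ 4) ^ 4) ^ 4) ^ 4) ^ 4) ^ 4 = w := by
    rw [← hw1, ← hw2, ← hw3]
    obtain ⟨⟨e0, e1, e2, e3⟩, hne, he⟩ := hrel
    have he' : (bif e0 then w else 0) + (bif e1 then w1 else 0) + (bif e2 then w2 else 0) + (bif e3 then w3 else 0) = 0 := he
    have w30 : w3 ≠ 0 := pow_ne_zero _ hw20
    cases e3
    · exfalso
      cases e0 <;> cases e1 <;> cases e2 <;> simp only [cond_true, cond_false, add_zero, zero_add] at he'
      · exact hne rfl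
      · exact hw20 he'
      · exact hw10 he'
      · exact n2 he'
      · exact hw0 he'
      · exact n3 he'
      · exact n1 he'
      · exact n4 he'
    · have hA13 : (w + w1 + w2) ^ 4 = w1 + w2 + w3 := by rw [add4 h2K, add4 h2K]
      cases e0 <;> cases e1 <;> cases e2 <;> simp only [cond_true, cond_false, add_zero, zero_add] at he'
      · exact absurd he' w30
      · exfalso
        have h3 : w1 ^ 4 = w2 ^ 4 := by rw [← hw2, ← hw3]; exact eq_of_add he'
        exact n2 (by rw [inj4 h2K h3]; exact hself _)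
      · exfalso
        have h3 : w ^ 4 = w2 ^ 4 := by rw [← hw1, ← hw3]; exact eq_of_add he'
        exact n3 (by rw [inj4 h2K h3]; exact hself _)
      · exfalso
        rw [← hA13] at he'
        exact n4 (pow_eq_zero_iff (n := 4) (by norm_num) |>.1 he')
      · exfalso
        have h3 : w = w3 := eq_of_add he'
        apply n4
        refine hrat _ ?_ ?_
        · rw [hA13, ← h3]; ring
        · rw [ad8_add h2K, ad8_add h2K, hAw, hA1, hA2, add_zero, add_zero]
      · -- `w3 = w + w2`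
        have h3 : w3 = w + w2 := by linear_combination he' - (w + w2) * h2K
        have h4 : w3 ^ 4 = w + w1 + w2 := by
          rw [h3, add4 h2K, ← hw1, ← hw3, h3]; ring
        have h5 : (w + w1 + w2) ^ 4 = w + w1 := by rw [hA13, h3]; linear_combination w2 * h2K
        have h6 : (w + w1) ^ 4 = w1 + w2 := by rw [add4 h2K]
        have h8 : (w1 + w2) ^ 4 = w := by rw [add4 h2K, ← hw2, ← hw3, h3]; linear_combination w2 * h2K
        rw [h4, h5, h6, h8]
      · -- `w3 = w + w1`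
        have h3 : w3 = w + w1 := by linear_combination he' - (w + w1) * h2K
        have h4 : w3 ^ 4 = w1 + w2 := by rw [h3, add4 h2K]
        have h5 : (w1 + w2) ^ 4 = w + w1 + w2 := by rw [add4 h2K, ← hw2, ← hw3, h3]; ring
        have h6 : (w + w1 + w2) ^ 4 = w + w2 := by rw [hA13, h3]; linear_combination w1 * h2K
        have h8 : (w + w2) ^ 4 = w := by rw [add4 h2K, ← hw1, ← hw3, h3]; linear_combination w1 * h2K
        rw [h4, h5, h6, h8]
      · exfalso
        have h3 : w3 = w + w1 + w2 := by linear_combination he' - (w + w1 + w2) * h2K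
        apply n3
        refine hrat _ ?_ ?_
        · rw [add4 h2K, ← hw1, ← hw3, h3]; linear_combination w1 * h2K
        · rw [ad8_add h2K, hAw, hA2, add_zero]
  -- the degree
  have hit : ∀ n : ℕ, (fun x : AdjoinRoot q => x ^ 4)^[n] w = w ^ 4 ^ n := by
    intro n
    induction n with
    | zero => simp
    | succ n ih =>
      rw [Function.iterate_succ_apply', ih, ← pow_mul, pow_succ]
  have p1 : Function.IsPeriodicPt (fun x : AdjoinRoot q => x ^ 4) 7 w := by
    show (fun x : AdjoinRoot q => x ^ 4)^[7] w = w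
    rw [hit]
    rw [← pow_mul, ← pow_mul, ← pow_mul, ← pow_mul, ← pow_mul, ← pow_mul] at h7
    exact h7
  have p2 : Function.IsPeriodicPt (fun x : AdjoinRoot q => x ^ 4) q.natDegree w := by
    show (fun x : AdjoinRoot q => x ^ 4)^[q.natDegree] w = w
    rw [hit]
    have := Fintype.ofFinite (AdjoinRoot q)
    have h8 := FiniteField.pow_card w
    rwa [← Nat.card_eq_fintype_card, hc, hF] at h8
  by_contra hno
  have h9 : Nat.gcd 7 q.natDegree = 1 := (Nat.Prime.coprime_iff_not_dvd (by norm_num : Nat.Prime 7)).2 hno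
  have p3 := p1.gcd p2
  rw [h9] at p3
  have h10 : w ^ 4 = w := p3
  exact hw0 (hrat w h10 hAw)

end

end Cfsg.Agent.R2.T2.Two
end

-- part: R2/T2/Two/Abs2
section
/-!
# S5929, `n = 6`, `p = 2`: spaces closed under squares over the field with four elements, II (helper4)

* `abs_four` : the element `M` with `M f(M) = 0`.
-/

set_option autoImplicit false

namespace Cfsg.Agent.R2.T2.Two

open Polynomial Module

universe u v

section
variable {F : Type u} [Field F] {A : Type v} [Ring A] [Algebra F A] {R : Submodule F A}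

/-- the conclusion -/
def Concl (R : Submodule F A) : Prop :=
  ∃ M ∈ R, NS F M ∧ ∃ (f : F[X]) (d : ℕ), (d = 3 ∨ d = 7) ∧ f.coeff 0 ≠ 0 ∧ aeval M (X * f) = 0 ∧
    ∀ q : F[X], q.Monic → Irreducible q → q ∣ f → d ∣ q.natDegree

theorem ns_shift {M : A} (hn : NS F M) (s : F) : NS F (aeval M (X + C s)) := by
  intro c hc
  apply hn (c - s)
  rw [map_add, aeval_X, aeval_C] at hc
  rw [map_sub, ← hc, add_sub_cancel_right]

theorem Sq.mem_shift (h : Sq R) {M : A} (hM : M ∈ R) (s : F) : aeval M (X + C s) ∈ R := by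
  rw [map_add, aeval_X, aeval_C]
  exact R.add_mem hM (h.alg s)

/-- degree 3 -/
theorem Sq.case3 [Finite F] (h : Sq R) {M : A} (hM : M ∈ R) (hn : NS F M) {a b c : F}
    (he : aeval M (X ^ 4 + C a * X ^ 2 + C b * X + C c) = 0) : Concl R := by
  have h2 := h.two
  have hroot := h.root3 hM hn he
  have hb : b ≠ 0 := by
    intro h0
    apply hroot 0
    rw [h0]
    ring
  -- the shift
  have hinj : Function.Injective fun x : F => x ^ 4 + a * x ^ 2 + b * x := by
    intro x y hxy
    have hxy' : x ^ 4 + a * x ^ 2 + b * x = y ^ 4 + a * y ^ 2 + b * y := hxy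
    by_contra hne
    have hs : x + y ≠ 0 := by
      intro h0
      apply hne
      linear_combination h0 - y * h2
    apply hroot (x + y)
    have h3 : (x + y) * ((x + y) ^ 3 + a * (x + y) + b) = 0 := by
      linear_combination hxy' + (2 * x ^ 3 * y + 3 * x ^ 2 * y ^ 2 + 2 * x * y ^ 3 + a * x * y + y ^ 4 + a * y ^ 2 + b * y) * h2
    exact (mul_eq_zero.1 h3).resolve_left hs
  obtain ⟨s, hs⟩ := Finite.surjective_of_injective hinj c
  have hs' : s ^ 4 + a * s ^ 2 + b * s = c := hs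
  refine ⟨aeval M (X + C s), h.mem_shift hM s, ns_shift hn s, X ^ 3 + C a * X + C b, 3, Or.inl rfl, ?_, ?_, ?_⟩
  · simpa using hb
  · rw [← aeval_comp, ← he]
    congr 1
    have h2P := two_poly h2
    simp only [add_comp, mul_comp, pow_comp, X_comp, C_comp]
    rw [← hs', map_add, map_add, map_mul, map_mul, map_pow, map_pow]
    linear_combination (2 * X ^ 3 * C s + 3 * X ^ 2 * C s ^ 2 + 2 * X * C s ^ 3 + C a * X * C s) * h2P
  · intro q _ hq hd
    have hdeg : (X ^ 3 + C a * X + C b : F[X]).natDegree = 3 := by compute_degree!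
    have hirr : Irreducible (X ^ 3 + C a * X + C b : F[X]) := by
      refine Polynomial.irreducible_of_degree_le_three_of_not_isRoot (by rw [hdeg]; decide) fun x hx => hroot x ?_
      rw [IsRoot.def] at hx
      simpa only [_root_.Polynomial.eval_add, _root_.Polynomial.eval_pow, _root_.Polynomial.eval_X, _root_.Polynomial.eval_mul, _root_.Polynomial.eval_C] using hx
    have h3 : Associated q (X ^ 3 + C a * X + C b : F[X]) := hq.associated_of_dvd hirr hd
    rw [Polynomial.natDegree_eq_of_degree_eq (Polynomial.degree_eq_degree_of_associated h3), hdeg]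

/-- degree 7 -/
theorem Sq.case7 [Finite F] (hF : Nat.card F = 4) (h : Sq R) {M : A} (hM : M ∈ R) (hn : NS F M)
    (hI : ∀ M ∈ R, NS F M → ∀ a b c : F, aeval M (X ^ 4 + C a * X ^ 2 + C b * X + C c) ≠ 0) {a b c d : F}
    (he : aeval M (X ^ 8 + C a * X ^ 4 + C b * X ^ 2 + C c * X + C d) = 0) : Concl R := by
  have h2 := h.two
  have h2P := two_poly h2
  have hroot := h.root7 hM hn hI he
  have hc : c ≠ 0 := by
    intro h0
    apply hroot 0
    rw [h0]
    ring
  have hinj : Function.Injective fun x : F => ad8 a b c x := by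
    intro x y hxy
    have hxy' : ad8 a b c x = ad8 a b c y := hxy
    by_contra hne
    have hs : x + y ≠ 0 := by
      intro h0
      apply hne
      linear_combination h0 - y * h2
    apply hroot (x + y)
    have h3 : (x + y) * ((x + y) ^ 7 + a * (x + y) ^ 3 + b * (x + y) + c) = 0 := by
      have h4 := ad8_add h2 a b c x y
      rw [hxy'] at h4
      have h5 : ad8 a b c (x + y) = (x + y) * ((x + y) ^ 7 + a * (x + y) ^ 3 + b * (x + y) + c) := by unfold ad8; ring
      rw [← h5, h4]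
      linear_combination ad8 a b c y * h2
    exact (mul_eq_zero.1 h3).resolve_left hs
  obtain ⟨s, hs⟩ := Finite.surjective_of_injective hinj d
  have hs' : ad8 a b c s = d := hs
  refine ⟨aeval M (X + C s), h.mem_shift hM s, ns_shift hn s, X ^ 7 + C a * X ^ 3 + C b * X + C c, 7, Or.inr rfl, ?_, ?_, ?_⟩
  · simpa using hc
  · rw [← aeval_comp, ← he]
    congr 1
    simp only [add_comp, mul_comp, pow_comp, X_comp, C_comp]
    have e1 : (X + C s) * ((X + C s) ^ 7 + C a * (X + C s) ^ 3 + C b * (X + C s) + C c) =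
        (X ^ 8 + C a * X ^ 4 + C b * X ^ 2 + C c * X) + C (ad8 a b c s) := by
      unfold ad8
      simp only [map_add, map_mul, map_pow]
      linear_combination (4 * X ^ 7 * C s + 14 * X ^ 6 * C s ^ 2 + 28 * X ^ 5 * C s ^ 3 + 35 * X ^ 4 * C s ^ 4 +
        28 * X ^ 3 * C s ^ 5 + 14 * X ^ 2 * C s ^ 6 + 4 * X * C s ^ 7 + C a * (2 * X ^ 3 * C s + 3 * X ^ 2 * C s ^ 2 +
        2 * X * C s ^ 3) + C b * X * C s) * h2P
    rw [e1, hs']
  · intro q _ hq hd
    refine deg7 hF h2 hroot ?_ hq hd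
    intro a' b' s' e1 e2 e3
    -- `B = M⁴ + a' M² + b' M` satisfies `B² + s' B + d = 0`
    have hB := h.mem2 hM a' b'
    have hBn : NS F (aeval M (X ^ 4 + C a' * X ^ 2 + C b' * X)) := by
      intro e hee
      apply hI M hM hn a' b' (-e)
      rw [map_add, hee, aeval_C, map_neg, add_neg_cancel]
    apply h.no _ hB hBn s' d
    rw [← aeval_comp, ← he]
    congr 1
    simp only [add_comp, mul_comp, pow_comp, X_comp, C_comp]
    rw [e1, e2, e3]
    simp only [map_add, map_mul, map_pow]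
    linear_combination (C a' * X ^ 6 + C b' * X ^ 5 + C a' * C b' * X ^ 3) * h2P

/-- **the element `M` with `M f(M) = 0`** -/
theorem abs_four [Finite F] (hF : Nat.card F = 4) (h : Sq R) [FiniteDimensional F R] (hR : finrank F R ≤ 4)
    {M : A} (hM : M ∈ R) (hn : NS F M) : Concl R := by
  by_cases hI : ∃ M ∈ R, NS F M ∧ ∃ a b c : F, aeval M (X ^ 4 + C a * X ^ 2 + C b * X + C c) = 0
  · obtain ⟨M, hM, hn, a, b, c, he⟩ := hI
    exact h.case3 hM hn he
  push Not at hI
  have hM2 := h.sq M hM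
  have hM4 := h.sq _ hM2
  have hM8 := h.sq _ hM4
  -- a linear relation
  have hdep : ¬ LinearIndependent F (![⟨M * M * (M * M) * (M * M * (M * M)), hM8⟩, ⟨M * M * (M * M), hM4⟩, ⟨M * M, hM2⟩,
      ⟨M, hM⟩, ⟨1, h.one⟩] : Fin 5 → R) := by
    intro hli
    have := hli.fintype_card_le_finrank
    rw [Fintype.card_fin] at this
    omega
  rw [Fintype.not_linearIndependent_iff] at hdep
  obtain ⟨g, hg, i, hi⟩ := hdep
  have hg' : g 0 • (M * M * (M * M) * (M * M * (M * M))) + g 1 • (M * M * (M * M)) + g 2 • (M * M) + g 3 • M +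
      g 4 • (1 : A) = 0 := by
    have h3 := congrArg (fun x : R => (x : A)) hg
    rw [Fin.sum_univ_five] at h3
    exact h3
  have hpoly : aeval M (C (g 0) * X ^ 8 + C (g 1) * X ^ 4 + C (g 2) * X ^ 2 + C (g 3) * X + C (g 4)) = 0 := by
    rw [← hg']
    simp only [map_add, map_mul, map_pow, aeval_X, aeval_C]
    simp only [Algebra.smul_def]
    have e4 : M * M * (M * M) = M ^ 4 := by noncomm_ring
    have e8 : M ^ 4 * M ^ 4 = M ^ 8 := by rw [← pow_add]
    rw [e4, e8, ← pow_two, mul_one]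
  have h0 : g 0 ≠ 0 := by
    intro h0
    have h1 : g 1 = 0 := by
      by_contra h1
      apply hI M hM hn ((g 1)⁻¹ * g 2) ((g 1)⁻¹ * g 3) ((g 1)⁻¹ * g 4)
      have e : X ^ 4 + C ((g 1)⁻¹ * g 2) * X ^ 2 + C ((g 1)⁻¹ * g 3) * X + C ((g 1)⁻¹ * g 4) =
          C (g 1)⁻¹ * (C (g 0) * X ^ 8 + C (g 1) * X ^ 4 + C (g 2) * X ^ 2 + C (g 3) * X + C (g 4)) := by
        have e1 : C (g 1)⁻¹ * C (g 1) = (1 : F[X]) := by rw [← map_mul, inv_mul_cancel₀ h1, map_one]
        rw [h0, map_zero, zero_mul, zero_add, map_mul, map_mul, map_mul]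
        linear_combination -X ^ 4 * e1
      rw [e, map_mul, hpoly, mul_zero]
    have h22 : g 2 = 0 := by
      by_contra h22
      apply h.no M hM hn ((g 2)⁻¹ * g 3) ((g 2)⁻¹ * g 4)
      have e : X ^ 2 + C ((g 2)⁻¹ * g 3) * X + C ((g 2)⁻¹ * g 4) =
          C (g 2)⁻¹ * (C (g 0) * X ^ 8 + C (g 1) * X ^ 4 + C (g 2) * X ^ 2 + C (g 3) * X + C (g 4)) := by
        have e1 : C (g 2)⁻¹ * C (g 2) = (1 : F[X]) := by rw [← map_mul, inv_mul_cancel₀ h22, map_one]
        rw [h0, h1, map_zero, zero_mul, zero_mul, zero_add, zero_add, map_mul, map_mul]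
        linear_combination -X ^ 2 * e1
      rw [e, map_mul, hpoly, mul_zero]
    have h3 : g 3 = 0 := by
      by_contra h3
      apply hn (-((g 3)⁻¹ * g 4))
      have e : aeval M (X + C ((g 3)⁻¹ * g 4)) = 0 := by
        have e : X + C ((g 3)⁻¹ * g 4) =
            C (g 3)⁻¹ * (C (g 0) * X ^ 8 + C (g 1) * X ^ 4 + C (g 2) * X ^ 2 + C (g 3) * X + C (g 4)) := by
          have e1 : C (g 3)⁻¹ * C (g 3) = (1 : F[X]) := by rw [← map_mul, inv_mul_cancel₀ h3, map_one]
          rw [h0, h1, h22, map_zero, zero_mul, zero_mul, zero_mul, zero_add, zero_add, zero_add, map_mul]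
          linear_combination -X * e1
        rw [e, map_mul, hpoly, mul_zero]
      rw [map_add, aeval_X, aeval_C] at e
      rw [map_neg]
      exact eq_neg_of_add_eq_zero_left e
    have h4 : g 4 = 0 := by
      rw [h0, h1, h22, h3] at hg'
      simp only [zero_smul, zero_add] at hg'
      by_contra h4
      have h5 : (1 : A) = 0 := (smul_eq_zero.1 hg').resolve_left h4
      apply hn 0
      rw [map_zero]
      calc M = M * 1 := (mul_one M).symm
        _ = 0 := by rw [h5, mul_zero]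
    apply hi
    fin_cases i
    · exact h0
    · exact h1
    · exact h22
    · exact h3
    · exact h4
  refine h.case7 hF hM hn hI (a := (g 0)⁻¹ * g 1) (b := (g 0)⁻¹ * g 2) (c := (g 0)⁻¹ * g 3) (d := (g 0)⁻¹ * g 4) ?_
  have e : X ^ 8 + C ((g 0)⁻¹ * g 1) * X ^ 4 + C ((g 0)⁻¹ * g 2) * X ^ 2 + C ((g 0)⁻¹ * g 3) * X + C ((g 0)⁻¹ * g 4) =
      C (g 0)⁻¹ * (C (g 0) * X ^ 8 + C (g 1) * X ^ 4 + C (g 2) * X ^ 2 + C (g 3) * X + C (g 4)) := by
    have e1 : C (g 0)⁻¹ * C (g 0) = (1 : F[X]) := by rw [← map_mul, inv_mul_cancel₀ h0, map_one]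
    rw [map_mul, map_mul, map_mul, map_mul]
    linear_combination -X ^ 8 * e1
  rw [e, map_mul, hpoly, mul_zero]

end

end Cfsg.Agent.R2.T2.Two
end

-- part: R2/T2/Two/Main
section
/-!
# S5929, `n = 6`, `p = 2`: the element of the Lie algebra (helper4)

* `no_inv_two` : if the Lie algebra modulo its centre has an element fixed by `H`, then `|F| = 4` and there is an
  endomorphism `T ≠ 0` of the 56-dimensional module, commuting with the alternating group, with `T f(T) = 0`, `f(0) ≠ 0`,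
  all irreducible factors of `f` of degree divisible by 3 (or all by 7) and `dim ker T < 32`.
-/

set_option autoImplicit false
set_option linter.unusedSectionVars false
set_option maxRecDepth 100000

namespace Cfsg.Agent.R2.T2.Two

open Cfsg Cfsg.Lie Module Matrix Polynomial
open Cfsg.Agent.R2.T1 Cfsg.Agent.R2.PX Cfsg.Agent.R2.T1.Mu
open Cfsg.Agent.R2.T1.N6D (Zc mem_Zc L_of_mem mem_of_fixed zv del_zv zv_mem)
open Cfsg.Agent.R2.T2.Alg
open Cfsg.Agent.H943.E7V.Block (D1 rho)
open Cfsg.Agent.H952.F4 (ev es matRep MaxAlt)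

universe u
variable {F : Type u} [Field F]

/-- the matrices of the elements invariant modulo the centre -/
noncomputable def RM (H : Subgroup ↥(chevE7.group F)) : Submodule F (Matrix D1 D1 F) := (RR H).map (del F)

variable {H : Subgroup ↥(chevE7.group F)}

theorem mem_RM {M : Matrix D1 D1 F} : M ∈ RM H ↔ ∃ v ∈ RR H, del F v = M := Submodule.mem_map

theorem finrank_RM : finrank F (RM H) = finrank F (RR H) :=
  (LinearEquiv.finrank_eq (Submodule.equivMapOfInjective (del F) Mu.del_injective (RR H))).symm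

theorem not_mem_Zc {v : chevE7.Idx → F} (hn : NS F (del F v)) : v ∉ Zc F := by
  intro hv
  obtain ⟨c, hc⟩ := mem_Zc.1 hv
  apply hn c
  rw [Algebra.algebraMap_eq_smul_one, hc]

theorem ns_of {v : chevE7.Idx → F} (hv : v ∉ Zc F) : NS F (del F v) := by
  intro c hc
  apply hv
  refine mem_Zc.2 ⟨c, ?_⟩
  rw [hc, Algebra.algebraMap_eq_smul_one]

theorem sq_RM [Finite F] (h2 : (2 : F) = 0) (hM : IsCoatom H) (hH : H ≠ ⊥) (hc : Nat.card ↥H ≤ 720)
    (hq : 4 ≤ Nat.card F) : Sq (RM H) where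
  two := h2
  one := mem_RM.2 ⟨zv F, Zc_le_RR (zv_mem h2), del_zv h2⟩
  sq := by
    intro M hM'
    obtain ⟨v, hv, rfl⟩ := mem_RM.1 hM'
    obtain ⟨w, hw⟩ := exists_sq h2 v
    exact mem_RM.2 ⟨w, sq_RR h2 hv hw, hw⟩
  no := by
    intro M hM' hn a b he
    obtain ⟨v, hv, rfl⟩ := mem_RM.1 hM'
    refine no_sq h2 hM hH hc hq hv (not_mem_Zc hn) (a := a) (b := b) ?_
    rw [map_add, map_add, map_mul, map_pow, aeval_X, aeval_C, aeval_C, ← Algebra.smul_def, pow_two,
      Algebra.algebraMap_eq_smul_one] at he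
    have e : a • del F v + b • (1 : Matrix D1 D1 F) + (a • del F v + b • (1 : Matrix D1 D1 F)) = 0 := by
      rw [← two_smul F, h2, zero_smul]
    calc del F v * del F v = (del F v * del F v + a • del F v + b • (1 : Matrix D1 D1 F)) -
          (a • del F v + b • (1 : Matrix D1 D1 F)) := by abel
      _ = (a • del F v + b • (1 : Matrix D1 D1 F) + (a • del F v + b • (1 : Matrix D1 D1 F))) -
          (a • del F v + b • (1 : Matrix D1 D1 F)) := by rw [he, e]
      _ = _ := by abel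

/-- `1`, `M`, `M²` are linearly independent -/
theorem three_le {A : Type*} [Ring A] [Algebra F A] {R : Submodule F A} (h : Sq R) [FiniteDimensional F R] {M : A}
    (hM : M ∈ R) (hn : NS F M) : 3 ≤ finrank F R := by
  have hli : LinearIndependent F (![⟨M * M, h.sq M hM⟩, ⟨M, hM⟩, ⟨1, h.one⟩] : Fin 3 → R) := by
    rw [Fintype.linearIndependent_iff]
    intro g hg
    have hg' : g 0 • (M * M) + g 1 • M + g 2 • (1 : A) = 0 := by
      have h3 := congrArg (fun x : R => (x : A)) hg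
      rw [Fin.sum_univ_three] at h3
      exact h3
    have hpoly : aeval M (C (g 0) * X ^ 2 + C (g 1) * X + C (g 2)) = 0 := by
      rw [← hg']
      simp only [map_add, map_mul, map_pow, aeval_X, aeval_C]
      simp only [Algebra.smul_def]
      rw [← pow_two, mul_one]
    have h0 : g 0 = 0 := by
      by_contra h0
      apply h.no M hM hn ((g 0)⁻¹ * g 1) ((g 0)⁻¹ * g 2)
      have e : X ^ 2 + C ((g 0)⁻¹ * g 1) * X + C ((g 0)⁻¹ * g 2) =
          C (g 0)⁻¹ * (C (g 0) * X ^ 2 + C (g 1) * X + C (g 2)) := by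
        have e1 : C (g 0)⁻¹ * C (g 0) = (1 : F[X]) := by rw [← map_mul, inv_mul_cancel₀ h0, map_one]
        rw [map_mul, map_mul]
        linear_combination -X ^ 2 * e1
      rw [e, map_mul, hpoly, mul_zero]
    have h3 : g 1 = 0 := by
      by_contra h3
      apply hn (-((g 1)⁻¹ * g 2))
      have e : aeval M (X + C ((g 1)⁻¹ * g 2)) = 0 := by
        have e : X + C ((g 1)⁻¹ * g 2) =
            C (g 1)⁻¹ * (C (g 0) * X ^ 2 + C (g 1) * X + C (g 2)) := by
          have e1 : C (g 1)⁻¹ * C (g 1) = (1 : F[X]) := by rw [← map_mul, inv_mul_cancel₀ h3, map_one]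
          rw [h0, map_zero, zero_mul, zero_add, map_mul]
          linear_combination -X * e1
        rw [e, map_mul, hpoly, mul_zero]
      rw [map_add, aeval_X, aeval_C] at e
      rw [map_neg]
      exact eq_neg_of_add_eq_zero_left e
    have h4 : g 2 = 0 := by
      rw [h0, h3] at hg'
      simp only [zero_smul, zero_add] at hg'
      by_contra h4
      have h5 : (1 : A) = 0 := (smul_eq_zero.1 hg').resolve_left h4
      apply hn 0
      rw [map_zero]
      calc M = M * 1 := (mul_one M).symm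
        _ = 0 := by rw [h5, mul_zero]
    intro i
    fin_cases i
    · exact h0
    · exact h3
    · exact h4
  have := hli.fintype_card_le_finrank
  rwa [Fintype.card_fin] at this

/-! ### the kernel -/

theorem ker_conj (g : Gh F) (M : Matrix D1 D1 F) : finrank F (LinearMap.ker (Matrix.toLin' M)) ≤
    finrank F (LinearMap.ker (Matrix.toLin' (rho F g * M * rho F g⁻¹))) := by
  have hinj : Function.Injective (V F g) := by
    intro a b hab
    rw [← ρ_inv (V F) g a, hab, ρ_inv]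
  rw [LinearEquiv.finrank_eq (Submodule.equivMapOfInjective (V F g) hinj (LinearMap.ker (Matrix.toLin' M)))]
  apply Submodule.finrank_mono
  rintro _ ⟨x, hx, rfl⟩
  have hx' : M *ᵥ x = 0 := by
    rw [SetLike.mem_coe, LinearMap.mem_ker, Matrix.toLin'_apply] at hx
    exact hx
  rw [LinearMap.mem_ker, Matrix.toLin'_apply, V_apply, Matrix.mulVec_mulVec, mul_assoc, ← map_mul, inv_mul_cancel, map_one,
    mul_one, ← Matrix.mulVec_mulVec, hx', Matrix.mulVec_zero]

/-- **the kernel is small** -/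
theorem ker_small [Finite F] (h2 : (2 : F) = 0) (hM : IsCoatom H) (hH : H ≠ ⊥) (hc : Nat.card ↥H ≤ 720)
    (hq : Nat.card F = 4) {M : Matrix D1 D1 F} (hMR : M ∈ RM H) (hn : NS F M) :
    finrank F (LinearMap.ker (Matrix.toLin' M)) < 32 := by
  by_contra hno
  push Not at hno
  have hsq := sq_RM h2 hM hH hc (by rw [hq])
  obtain ⟨v, hv, rfl⟩ := mem_RM.1 hMR
  obtain ⟨w, hw⟩ := exists_sq h2 v
  have hwR := sq_RR h2 hv hw
  have hfin : Finite (chevE7.Idx → F) := Module.finite_of_finite F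
  -- the elements
  have hns : ∀ a b : F, (a, b) ≠ (0, 0) → NS F (del F (a • v + b • w)) := by
    intro a b hab c hc'
    rw [map_add, map_smul, map_smul, hw] at hc'
    have hc2 : aeval (del F v) (C b * X ^ 2 + C a * X + C c) = 0 := by
      simp only [map_add, map_mul, map_pow, aeval_X, aeval_C]
      rw [← Algebra.smul_def, ← Algebra.smul_def, pow_two, add_comm (b • _), hc', ← map_add]
      have : c + c = 0 := by linear_combination c * h2
      rw [this, map_zero]
    by_cases hb : b = 0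
    · have ha : a ≠ 0 := by
        rintro rfl
        exact hab (by rw [hb])
      apply hn (a⁻¹ * c)
      rw [hb, zero_smul, add_zero] at hc'
      rw [map_mul, ← hc', ← Algebra.smul_def, smul_smul, inv_mul_cancel₀ ha, one_smul]
    · apply hsq.no _ hMR hn (b⁻¹ * a) (b⁻¹ * c)
      have e : X ^ 2 + C (b⁻¹ * a) * X + C (b⁻¹ * c) = C b⁻¹ * (C b * X ^ 2 + C a * X + C c) := by
        have e1 : C b⁻¹ * C b = (1 : F[X]) := by rw [← map_mul, inv_mul_cancel₀ hb, map_one]
        rw [map_mul, map_mul]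
        linear_combination -X ^ 2 * e1
      rw [e, map_mul, hc2, mul_zero]
  set f : {p : F × F // p ≠ (0, 0)} → (chevE7.Idx → F) := fun p => p.1.1 • v + p.1.2 • w with hf
  have hinj : Function.Injective f := by
    rintro ⟨⟨a, b⟩, h⟩ ⟨⟨a', b'⟩, h'⟩ he
    have he' : a • v + b • w = a' • v + b' • w := he
    by_contra hne
    have hne' : (a - a', b - b') ≠ (0, 0) := by
      intro h3
      apply hne
      rw [Prod.mk.injEq, sub_eq_zero, sub_eq_zero] at h3
      apply Subtype.ext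
      exact Prod.ext h3.1 h3.2
    apply hns _ _ hne' 0
    have e : (a - a') • v + (b - b') • w = (a • v + b • w) - (a' • v + b' • w) := by rw [sub_smul, sub_smul]; abel
    rw [e, he', sub_self, map_zero, map_zero]
  have h1 := orb h2 hM hH (Set.range f) {z | 32 ≤ finrank F (LinearMap.ker (Matrix.toLin' (del F z)))} (by
    rintro _ ⟨⟨⟨a, b⟩, h⟩, rfl⟩
    exact ⟨Submodule.add_mem _ (Submodule.smul_mem _ _ hv) (Submodule.smul_mem _ _ hwR), not_mem_Zc (hns a b h)⟩) (by
    rintro _ ⟨⟨⟨a, b⟩, h⟩, rfl⟩ g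
    show 32 ≤ finrank F (LinearMap.ker (Matrix.toLin' (del F (L F g (a • v + b • w)))))
    rw [del_L']
    refine le_trans (le_trans hno ?_) (ker_conj g _)
    apply Submodule.finrank_mono
    intro x hx
    rw [LinearMap.mem_ker, Matrix.toLin'_apply] at hx ⊢
    rw [map_add, map_smul, map_smul, hw, Matrix.add_mulVec, Matrix.smul_mulVec, Matrix.smul_mulVec, ← Matrix.mulVec_mulVec,
      hx, Matrix.mulVec_zero, smul_zero, smul_zero, add_zero])
  have h3 : Nat.card (Set.range f) = 15 := by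
    rw [Nat.card_range_of_injective hinj]
    have e1 : Nat.card {p : F × F // p ≠ (0, 0)} = (({(0, 0)} : Set (F × F))ᶜ).ncard := rfl
    have e2 : Nat.card (F × F) = 16 := by rw [Nat.card_prod, hq]
    rw [e1, Set.ncard_compl, e2, Set.ncard_singleton]
  have h4 := card_ker (F := F)
  have h5 := order_two h2 (by rw [hq] : 4 ≤ Nat.card F)
  rw [h3] at h1
  rw [hq] at h4 h5
  set N := Nat.card {z : chevE7.Idx → F // 32 ≤ finrank F (LinearMap.ker (Matrix.toLin' (del F z)))} with hN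
  have h6 : 15 * Nat.card ↥(chevE7.group F) ≤ 720 * N := h1.trans (Nat.mul_le_mul_right _ hc)
  norm_num only [] at h4 h5
  omega

/-- **the element of the Lie algebra** -/
theorem no_inv_two [Finite F] {φ : ↥(alternatingGroup (Fin 6)) →* ↥(chevE7.group F)}
    {ψ : ↥(alternatingGroup (Fin 6)) →* Gh F} (hM : MaxAlt H 6 φ) (hψ : Lift φ ψ) (h2 : (2 : F) = 0)
    (hq3 : Nat.card F % 3 = 1) (hc : Nat.card ↥H ≤ 720) {v : chevE7.Idx → F} (hv : v ∉ Zc F)
    (hinv : ∀ g : Gh F, ad F g ∈ H → L F g v - v ∈ Zc F) :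
    Nat.card F = 4 ∧ ∃ (T : Module.End F (D1 → F)) (f : F[X]) (d : ℕ), (d = 3 ∨ d = 7) ∧
      (∀ a x, V F (ψ a) (T x) = T (V F (ψ a) x)) ∧ T ≠ 0 ∧ f.coeff 0 ≠ 0 ∧ aeval T (X * f) = 0 ∧
      (∀ q : F[X], q.Monic → Irreducible q → q ∣ f → d ∣ q.natDegree) ∧ finrank F (LinearMap.ker T) < 32 := by
  have hco := hM.coatom
  have hH : H ≠ ⊥ := by
    rintro rfl
    have h5 : Nontrivial ↥(alternatingGroup (Fin 6)) :=
      alternatingGroup.nontrivial_of_three_le_card (by rw [Nat.card_eq_fintype_card, Fintype.card_fin]; omega)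
    obtain ⟨a, ha⟩ := exists_ne (1 : ↥(alternatingGroup (Fin 6)))
    apply ha
    apply hM.inj
    have h6 : φ a ∈ (⊥ : Subgroup ↥(chevE7.group F)) := hM.le ⟨a, rfl⟩
    rw [Subgroup.mem_bot] at h6
    rw [h6, map_one]
  have hev := even_card h2
  have hpos : 0 < Nat.card F := Nat.card_pos
  have hq4 : 4 ≤ Nat.card F := by omega
  have hsq := sq_RM h2 hco hH hc hq4
  have hvR : del F v ∈ RM H := mem_RM.2 ⟨v, hinv, rfl⟩
  have hvn := ns_of hv
  have h3 := three_le hsq hvR hvn
  have h4 := card_RR h2 hco hH hc hq4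
  rw [← finrank_RM] at h4
  set k := finrank F (RM H) with hk
  set q := Nat.card F with hqdef
  have hq : q = 4 := by
    have h5 : q ≤ 9 := by
      by_contra h5
      have h6 : q ^ 3 ≤ q ^ k := Nat.pow_le_pow_right hpos h3
      have h7 : 100 * q ≤ q ^ 3 := by
        have : 10 * 10 ≤ q * q := Nat.mul_le_mul (by omega) (by omega)
        calc 100 * q ≤ (q * q) * q := Nat.mul_le_mul_right _ (by omega)
          _ = q ^ 3 := by ring
      (clear * - h4 h5 h6 h7; omega)
    omega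
  rw [hq] at h4
  have hk4 : k ≤ 4 := by
    by_contra h5
    have h6 : 4 ^ 5 ≤ 4 ^ k := Nat.pow_le_pow_right (by norm_num) (by omega)
    omega
  refine ⟨hq, ?_⟩
  obtain ⟨M, hMR, hMn, f, d, hd, hf0, hMf, hfq⟩ := abs_four (A := Matrix D1 D1 F) hq hsq hk4 hvR hvn
  have hT : ∀ p : F[X], aeval (Matrix.toLin' M) p = Matrix.toLin' (aeval M p) := fun p =>
    Polynomial.aeval_algHom_apply (Matrix.toLinAlgEquiv' : Matrix D1 D1 F ≃ₐ[F] ((D1 → F) →ₗ[F] (D1 → F))).toAlgHom M p
  refine ⟨Matrix.toLin' M, f, d, hd, ?_, ?_, hf0, ?_, hfq, ker_small h2 hco hH hc hq hMR hMn⟩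
  · -- the alternating group commutes with `M`
    obtain ⟨w, hw, rfl⟩ := mem_RM.1 hMR
    have key : ∀ a : ↥(alternatingGroup (Fin 6)), ∃ c : F, rho F (ψ a) * del F w * rho F (ψ a)⁻¹ =
        del F w + c • (1 : Matrix D1 D1 F) := by
      intro a
      obtain ⟨c, hc'⟩ := mem_Zc.1 (hw (ψ a) (by rw [hψ a]; exact hM.le ⟨a, rfl⟩))
      refine ⟨c, ?_⟩
      rw [map_sub, del_L'] at hc'
      rw [hc']
      abel
    let K : Subgroup ↥(alternatingGroup (Fin 6)) :=
      { carrier := {a | rho F (ψ a) * del F w = del F w * rho F (ψ a)}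
        one_mem' := by
          show rho F (ψ 1) * del F w = del F w * rho F (ψ 1)
          rw [map_one, map_one, one_mul, mul_one]
        mul_mem' := by
          intro a b ha hb
          have ha' : rho F (ψ a) * del F w = del F w * rho F (ψ a) := ha
          have hb' : rho F (ψ b) * del F w = del F w * rho F (ψ b) := hb
          show rho F (ψ (a * b)) * del F w = del F w * rho F (ψ (a * b))
          rw [map_mul, map_mul, mul_assoc, hb', ← mul_assoc, ha', mul_assoc]
        inv_mem' := by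
          intro a ha
          have ha' : rho F (ψ a) * del F w = del F w * rho F (ψ a) := ha
          show rho F (ψ a⁻¹) * del F w = del F w * rho F (ψ a⁻¹)
          have h5 : rho F (ψ a⁻¹) * rho F (ψ a) = 1 := by rw [← map_mul, ← map_mul, inv_mul_cancel, map_one, map_one]
          have h6 : rho F (ψ a) * rho F (ψ a⁻¹) = 1 := by rw [← map_mul, ← map_mul, mul_inv_cancel, map_one, map_one]
          calc rho F (ψ a⁻¹) * del F w = rho F (ψ a⁻¹) * (del F w * (rho F (ψ a) * rho F (ψ a⁻¹))) := by rw [h6, mul_one]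
            _ = rho F (ψ a⁻¹) * (del F w * rho F (ψ a)) * rho F (ψ a⁻¹) := by simp only [mul_assoc]
            _ = rho F (ψ a⁻¹) * (rho F (ψ a) * del F w) * rho F (ψ a⁻¹) := by rw [ha']
            _ = (rho F (ψ a⁻¹) * rho F (ψ a)) * del F w * rho F (ψ a⁻¹) := by simp only [mul_assoc]
            _ = _ := by rw [h5, one_mul] }
    have hK : K = ⊤ := by
      rw [eq_top_iff, ← alt_perfect (n := 6) (by norm_num), commutator_def, Subgroup.commutator_le]
      intro a _ b _
      show rho F (ψ (a * b * a⁻¹ * b⁻¹)) * del F w = del F w * rho F (ψ (a * b * a⁻¹ * b⁻¹))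
      obtain ⟨c, hca⟩ := key a
      obtain ⟨e, heb⟩ := key b
      have ha : rho F (ψ a) * del F w = (del F w + c • (1 : Matrix D1 D1 F)) * rho F (ψ a) := by
        rw [← hca, mul_assoc, ← map_mul, inv_mul_cancel, map_one, mul_one]
      have hb : rho F (ψ b) * del F w = (del F w + e • (1 : Matrix D1 D1 F)) * rho F (ψ b) := by
        rw [← heb, mul_assoc, ← map_mul, inv_mul_cancel, map_one, mul_one]
      have hab : rho F (ψ (a * b)) * del F w = (del F w + (c + e) • (1 : Matrix D1 D1 F)) * rho F (ψ (a * b)) := by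
        rw [map_mul, map_mul, mul_assoc, hb, ← mul_assoc, mul_add, ha, mul_smul_comm, mul_one]
        rw [add_mul (del F w) (c • (1 : Matrix D1 D1 F)) (rho F (ψ a)), smul_mul_assoc, one_mul, add_assoc, ← add_smul,
          add_mul, smul_mul_assoc, mul_assoc, add_mul, smul_mul_assoc, one_mul]
      have hba : rho F (ψ (b * a)) * del F w = (del F w + (c + e) • (1 : Matrix D1 D1 F)) * rho F (ψ (b * a)) := by
        rw [map_mul, map_mul, mul_assoc, ha, ← mul_assoc, mul_add, hb, mul_smul_comm, mul_one]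
        rw [add_mul (del F w) (e • (1 : Matrix D1 D1 F)) (rho F (ψ b)), smul_mul_assoc, one_mul, add_assoc, ← add_smul,
          add_mul, smul_mul_assoc, mul_assoc, add_mul, smul_mul_assoc, one_mul, add_comm e c]
      have hcomm : ψ (a * b) = ψ (a * b * a⁻¹ * b⁻¹) * ψ (b * a) := by
        rw [← map_mul]
        congr 1
        group
      set g1 := ψ (b * a) with hg1
      set g2 := ψ (a * b * a⁻¹ * b⁻¹) with hg2
      rw [hcomm, map_mul, mul_assoc, hba] at hab
      have h5 : rho F g1 * rho F g1⁻¹ = 1 := by rw [← map_mul, mul_inv_cancel, map_one]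
      have h6 : rho F g2 * (del F w + (c + e) • (1 : Matrix D1 D1 F)) =
          (del F w + (c + e) • (1 : Matrix D1 D1 F)) * rho F g2 := by
        calc rho F g2 * (del F w + (c + e) • (1 : Matrix D1 D1 F))
            = rho F g2 * ((del F w + (c + e) • (1 : Matrix D1 D1 F)) * rho F g1) * rho F g1⁻¹ := by
              rw [mul_assoc (rho F g2), mul_assoc (_ + _) (rho F g1), h5, mul_one]
          _ = (del F w + (c + e) • (1 : Matrix D1 D1 F)) * (rho F g2 * rho F g1) * rho F g1⁻¹ := by rw [hab]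
          _ = _ := by rw [mul_assoc, mul_assoc (rho F g2), h5, mul_one]
      rw [mul_add, add_mul, mul_smul_comm, smul_mul_assoc, mul_one, one_mul] at h6
      exact add_right_cancel h6
    intro a x
    have ha : a ∈ K := by rw [hK]; trivial
    have ha' : rho F (ψ a) * del F w = del F w * rho F (ψ a) := ha
    rw [Matrix.toLin'_apply, Matrix.toLin'_apply, V_apply, V_apply, Matrix.mulVec_mulVec, Matrix.mulVec_mulVec, ha']
  · intro h0
    apply hMn 0
    rw [map_zero]
    exact (LinearEquiv.map_eq_zero_iff (Matrix.toLin' (R := F) (m := D1) (n := D1))).1 h0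
  · rw [hT, hMf, map_zero]

end Cfsg.Agent.R2.T2.Two
end
end

-- part: R2/T1/N6T/Last
section
prune_inst 0x4142001003422000000008592130000007000002200030000a180010208012040894206410e300000008a1c8060080040000000000000000000000000000201000001100400400100200086000000000000000000000000000000000000000004000000000
set_option linter.all false
open scoped Cfsg.Agent.FastGrp

-- part: R2/T1/N6T/Dec
section
/-!
# S5929, `n = 6`, `p = 2`: decomposition by a commuting endomorphism (helper26)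

* `split` : `dim P = dim (P ∩ ker f(T)) + dim (P ∩ ker T)` for stable subspaces `P`;
* `sub_inv`, `sub_dual` : a direct summand has no invariants, no coinvariants;
* `ev_sub`, `qd_sub`, `U_sub` : the dimensions attached to a subrepresentation.
-/

set_option autoImplicit false

namespace Cfsg.Agent.R2.T1.N6T

open Module Polynomial
open Cfsg.Agent.H952.F4 (ev)
open Cfsg.Agent.R2.T1

universe u v w

section
variable {F : Type u} [Field F] {E : Type v} [AddCommGroup E] [Module F E]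

theorem aeval_mem {T : Module.End F E} {P : Submodule F E} (hP : ∀ p ∈ P, T p ∈ P) (q : F[X]) {p : E} (hp : p ∈ P) :
    aeval T q p ∈ P := by
  have hpow : ∀ n : ℕ, (T ^ n) p ∈ P := by
    intro n
    induction n with
    | zero => exact hp
    | succ n ih =>
      rw [pow_succ', Module.End.mul_apply]
      exact hP _ ih
  induction q using Polynomial.induction_on' with
  | add a b ha hb =>
    rw [map_add, LinearMap.add_apply]
    exact P.add_mem ha hb
  | monomial n a =>
    rw [aeval_monomial, Module.End.mul_apply, Module.algebraMap_end_apply]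
    exact P.smul_mem a (hpow n)

theorem aeval_comm' {T S : Module.End F E} (h : ∀ x, S (T x) = T (S x)) (q : F[X]) (x : E) :
    S (aeval T q x) = aeval T q (S x) := Cfsg.Agent.R2.T2.Orb.aeval_comm h q x

theorem coprime_X {f : F[X]} (hf : f.coeff 0 ≠ 0) : IsCoprime (X : F[X]) f := by
  refine ⟨-(C (f.coeff 0)⁻¹ * f.divX), C (f.coeff 0)⁻¹, ?_⟩
  have h1 : f.divX * X + C (f.coeff 0) = f := Polynomial.divX_mul_X_add f
  have h2 : (C (f.coeff 0)⁻¹ : F[X]) * C (f.coeff 0) = 1 := by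
    rw [← C_mul, inv_mul_cancel₀ hf, C_1]
  calc -(C (f.coeff 0)⁻¹ * f.divX) * X + C (f.coeff 0)⁻¹ * f
      = -(C (f.coeff 0)⁻¹ * f.divX) * X + C (f.coeff 0)⁻¹ * (f.divX * X + C (f.coeff 0)) := by rw [h1]
    _ = C (f.coeff 0)⁻¹ * C (f.coeff 0) := by ring
    _ = 1 := h2

/-- the two projections -/
theorem exists_proj {T : Module.End F E} {f : F[X]} (hf : f.coeff 0 ≠ 0) (hT : aeval T (X * f) = 0) :
    ∃ a b : F[X], (∀ x, aeval T a x + aeval T b x = x) ∧ (∀ x, aeval T f (aeval T a x) = 0) ∧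
      (∀ x, T (aeval T b x) = 0) ∧ (∀ x, T x = 0 → aeval T a x = 0) ∧ (∀ x, aeval T f x = 0 → aeval T b x = 0) := by
  obtain ⟨a, b, hab⟩ := coprime_X hf
  have hXf : ∀ x, aeval T f (T x) = 0 := by
    intro x
    have h := LinearMap.congr_fun hT x
    rw [mul_comm, map_mul, aeval_X, Module.End.mul_apply, LinearMap.zero_apply] at h
    exact h
  have hXf' : ∀ x, T (aeval T f x) = 0 := by
    intro x
    have h := LinearMap.congr_fun hT x
    rw [map_mul, aeval_X, Module.End.mul_apply, LinearMap.zero_apply] at h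
    exact h
  have e1 : ∀ x, aeval T (a * X) x = aeval T a (T x) := fun x => by
    rw [map_mul, aeval_X, Module.End.mul_apply]
  have e2 : ∀ x, aeval T (b * f) x = aeval T b (aeval T f x) := fun x => by
    rw [map_mul, Module.End.mul_apply]
  refine ⟨a * X, b * f, ?_, ?_, ?_, ?_, ?_⟩
  · intro x
    rw [← LinearMap.add_apply, ← map_add, hab, map_one, Module.End.one_apply]
  · intro x
    rw [e1, ← Module.End.mul_apply, ← map_mul, mul_comm f a, map_mul, Module.End.mul_apply, hXf, map_zero]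
  · intro x
    rw [e2, aeval_comm' (S := T) (fun x => rfl), hXf', map_zero]
  · intro x hx
    rw [e1, hx, map_zero]
  · intro x hx
    rw [e2, hx, map_zero]

/-- **the decomposition of a stable subspace** -/
theorem split [FiniteDimensional F E] {T : Module.End F E} {f : F[X]} (hf : f.coeff 0 ≠ 0) (hT : aeval T (X * f) = 0)
    {P : Submodule F E} (hP : ∀ p ∈ P, T p ∈ P) :
    finrank F ↥P = finrank F ↥(P ⊓ LinearMap.ker (aeval T f)) + finrank F ↥(P ⊓ LinearMap.ker T) := by
  obtain ⟨a, b, h1, h2, h3, h4, h5⟩ := exists_proj hf hT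
  have hsup : (P ⊓ LinearMap.ker (aeval T f)) ⊔ (P ⊓ LinearMap.ker T) = P := by
    refine le_antisymm (sup_le inf_le_left inf_le_left) ?_
    intro p hp
    rw [← h1 p]
    exact Submodule.add_mem_sup ⟨aeval_mem hP a hp, LinearMap.mem_ker.2 (h2 p)⟩
      ⟨aeval_mem hP b hp, LinearMap.mem_ker.2 (h3 p)⟩
  have hinf : (P ⊓ LinearMap.ker (aeval T f)) ⊓ (P ⊓ LinearMap.ker T) = ⊥ := by
    rw [eq_bot_iff]
    rintro x ⟨⟨-, hx1⟩, ⟨-, hx2⟩⟩
    rw [Submodule.mem_bot, ← h1 x, h4 x (LinearMap.mem_ker.1 hx2), h5 x (LinearMap.mem_ker.1 hx1), add_zero]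
  have h := Submodule.finrank_sup_add_finrank_inf_eq (P ⊓ LinearMap.ker (aeval T f)) (P ⊓ LinearMap.ker T)
  rw [hsup, hinf, finrank_bot, add_zero] at h
  exact h

theorem dvd_part [FiniteDimensional F E] {T : Module.End F E} {f : F[X]} {d : ℕ}
    (hd : ∀ q : F[X], q.Monic → Irreducible q → q ∣ f → d ∣ q.natDegree) {P : Submodule F E} (hP : ∀ p ∈ P, T p ∈ P) :
    d ∣ finrank F ↥(P ⊓ LinearMap.ker (aeval T f)) := by
  refine Cfsg.Agent.R2.T2.Orb.dvd_sub hd (T := T) ?_ ?_
  · rintro w ⟨hw1, hw2⟩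
    refine ⟨hP _ hw1, ?_⟩
    show aeval T f (T w) = 0
    rw [← aeval_comm' (S := T) (fun x => rfl), LinearMap.mem_ker.1 hw2, map_zero]
  · rintro w ⟨-, hw2⟩
    exact LinearMap.mem_ker.1 hw2

end

section
variable {F : Type u} [Field F] {E : Type v} [AddCommGroup E] [Module F E] {G : Type w} [Group G]
  (ρ : Representation F G E) {W : Submodule F E} (hW : ∀ g, W ≤ W.comap (ρ g))

theorem sub_apply (g : G) (x : ↥W) : ((ρ.subrepresentation W hW g x : ↥W) : E) = ρ g x := rfl

theorem sub_inv (h : ρ.invariants = ⊥) : (ρ.subrepresentation W hW).invariants = ⊥ := by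
  rw [eq_bot_iff]
  intro x hx
  rw [Representation.mem_invariants] at hx
  have h1 : (x : E) ∈ ρ.invariants := by
    rw [Representation.mem_invariants]
    intro g
    exact congrArg Subtype.val (hx g)
  rw [h, Submodule.mem_bot] at h1
  exact (Submodule.mem_bot F).2 (Subtype.ext h1)

theorem sub_dual (h : ∀ f : Module.Dual F E, (∀ g m, f (ρ g m) = f m) → f = 0) {π : Module.End F E}
    (hπ : ∀ x, π x ∈ W) (hπ' : ∀ x ∈ W, π x = x) (hc : ∀ g x, π (ρ g x) = ρ g (π x)) (f : Module.Dual F ↥W)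
    (hf : ∀ g m, f (ρ.subrepresentation W hW g m) = f m) : f = 0 := by
  have h1 := h (f ∘ₗ π.codRestrict W hπ) (by
    intro g m
    have h2 := hf g (π.codRestrict W hπ m)
    rw [LinearMap.comp_apply, LinearMap.comp_apply, ← h2]
    congr 1
    exact Subtype.ext (hc g m))
  refine LinearMap.ext fun x => ?_
  have h2 := LinearMap.congr_fun h1 (x : E)
  rw [LinearMap.comp_apply, LinearMap.zero_apply] at h2
  rw [LinearMap.zero_apply, ← h2]
  congr 1
  exact Subtype.ext (hπ' x x.2).symm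

theorem finrank_comap' [FiniteDimensional F E] (Q : Submodule F E) :
    finrank F ↥(Q.comap W.subtype) = finrank F ↥(Q ⊓ W) := by
  have h1 : (Q.comap W.subtype).map W.subtype = Q ⊓ W := by
    rw [Submodule.map_comap_subtype, inf_comm]
  rw [← h1, Submodule.finrank_map_subtype_eq]

theorem ev_sub [FiniteDimensional F E] (g : G) :
    ev (ρ.subrepresentation W hW g) 1 = finrank F ↥(Module.End.eigenspace (ρ g) 1 ⊓ W) := by
  have h : Module.End.eigenspace (ρ.subrepresentation W hW g) 1 = (Module.End.eigenspace (ρ g) 1).comap W.subtype := by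
    ext x
    rw [Submodule.mem_comap, Module.End.mem_eigenspace_iff, Module.End.mem_eigenspace_iff, one_smul, one_smul,
      Subtype.ext_iff, sub_apply, Submodule.subtype_apply]
  rw [ev, ← finrank_comap', h]

theorem qd_sub [FiniteDimensional F E] (t : F) (g : G) :
    finrank F ↥(LinearMap.ker (Five.qd t (ρ.subrepresentation W hW g))) =
      finrank F ↥(LinearMap.ker (Five.qd t (ρ g)) ⊓ W) := by
  have h : LinearMap.ker (Five.qd t (ρ.subrepresentation W hW g)) =
      (LinearMap.ker (Five.qd t (ρ g))).comap W.subtype := by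
    ext x
    rw [Submodule.mem_comap, Five.mem_ker_qd, Five.mem_ker_qd, Subtype.ext_iff]
    rfl
  rw [← finrank_comap', h]

/-- the common fixed space of two elements -/
def U (a a' : G) : Submodule F E := Module.End.eigenspace (ρ a) 1 ⊓ Module.End.eigenspace (ρ a') 1

theorem U_sub [FiniteDimensional F E] (a a' : G) :
    finrank F ↥(U (ρ.subrepresentation W hW) a a') = finrank F ↥(U ρ a a' ⊓ W) := by
  have h : U (ρ.subrepresentation W hW) a a' = (U ρ a a').comap W.subtype := by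
    ext x
    simp only [U, Submodule.mem_comap, Submodule.mem_inf, Module.End.mem_eigenspace_iff, one_smul, Subtype.ext_iff,
      sub_apply, Submodule.subtype_apply]
  rw [← finrank_comap', h]

theorem fix_stable {T : Module.End F E} (hT : ∀ g x, ρ g (T x) = T (ρ g x)) (g : G) :
    ∀ p ∈ Module.End.eigenspace (ρ g) 1, T p ∈ Module.End.eigenspace (ρ g) 1 := by
  intro p hp
  rw [Module.End.mem_eigenspace_iff, one_smul] at hp ⊢
  rw [hT, hp]

theorem U_stable {T : Module.End F E} (hT : ∀ g x, ρ g (T x) = T (ρ g x)) (a a' : G) :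
    ∀ p ∈ U ρ a a', T p ∈ U ρ a a' := by
  rintro p ⟨h1, h2⟩
  exact ⟨fix_stable ρ hT a p h1, fix_stable ρ hT a' p h2⟩

theorem qd_stable {T : Module.End F E} (hT : ∀ g x, ρ g (T x) = T (ρ g x)) (t : F) (g : G) :
    ∀ p ∈ LinearMap.ker (Five.qd t (ρ g)), T p ∈ LinearMap.ker (Five.qd t (ρ g)) := by
  intro p hp
  rw [Five.mem_ker_qd] at hp ⊢
  rw [hT, hT, hp, map_sub, map_smul]

end

end Cfsg.Agent.R2.T1.N6T
end

-- part: R2/T1/N6T/Last
section
/-!
# S5929, `n = 6`, `p = 2`: the last step (helper26)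

* `OkAll` : the relations between the dimensions attached to all modules of `A₆` without invariants and coinvariants;
* `last` : the contradiction.
-/

set_option autoImplicit false

namespace Cfsg.Agent.R2.T1.N6T

open Cfsg Cfsg.Lie Module Polynomial
open Cfsg.Agent.H943.E7V.Block (D1 rho)
open Cfsg.Agent.H952.F4 (ev MaxAlt)
open Cfsg.Agent.R2.T1
open Cfsg.Agent.R2.T1.N6D (Ineq Low z5)

universe u

/-- the relations for all modules -/
def OkAll (F : Type u) [Field F] (a a' b : ↥(alternatingGroup (Fin 6))) : Prop :=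
  ∀ τ : F, τ * τ + τ - 1 = 0 → ∀ (M : Type u) [AddCommGroup M] [Module F M] [FiniteDimensional F M]
    (ρ : Representation F ↥(alternatingGroup (Fin 6)) M), ρ.invariants = ⊥ →
    (∀ f : Module.Dual F M, (∀ g m, f (ρ g m) = f m) → f = 0) →
    Ok (finrank F M) (ev (ρ a) 1) (ev (ρ b) 1) (ev (ρ z5) 1) (finrank F ↥(LinearMap.ker (Five.qd τ (ρ z5))))
      (finrank F ↥(LinearMap.ker (Five.qd (-1 - τ) (ρ z5)))) (finrank F ↥(U ρ a a'))

variable {F : Type u} [Field F] [Finite F] {H : Subgroup ↥(chevE7.group F)}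
  {φ : ↥(alternatingGroup (Fin 6)) →* ↥(chevE7.group F)} {ψ : ↥(alternatingGroup (Fin 6)) →* Gh F}

theorem last (hM : MaxAlt H 6 φ) (hψ : Lift φ ψ) (h2 : (2 : F) = 0) {a a' b : ↥(alternatingGroup (Fin 6))}
    (ha : a ^ 3 = 1) (hb : b ^ 3 = 1) (ha1 : a ≠ 1) (hb1 : b ≠ 1) (hI : Ineq F a b z5) (hl : Low F a b)
    (hO : Nat.card F = 4 → OkAll F a a' b) : False := by
  obtain ⟨hq3, hc, v, hv, hinv⟩ := N6D.exists_fix hM hψ h2 ha hb ha1 hb1 hI hl
  obtain ⟨h4, T, f, d, hd, hcomm, hT0, hf0, hTf, hdeg, hlt⟩ :=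
    Cfsg.Agent.R2.T2.Two.no_inv_two hM hψ h2 hq3 hc hv hinv
  obtain ⟨dA, dB, d5, m1, m2, τ, eA, eB, eD, mA, mB, m5, hτ, ex, ey, -, -⟩ :=
    N6D.dataV hM hψ h2 ha hb ha1 hb1 hI hl
  have h0 := no_fixed hM (by norm_num) (by norm_num) hψ
  have hdual := N6D.dualV h0
  set ρ : Representation F ↥(alternatingGroup (Fin 6)) (D1 → F) := MonoidHom.comp (V F) ψ with hρ
  have hT : ∀ g x, ρ g (T x) = T (ρ g x) := hcomm
  have hO := hO h4 τ hτ
  set N := LinearMap.ker (aeval T f) with hN
  set K := LinearMap.ker T with hK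
  have hWN : ∀ g, N ≤ N.comap (ρ g) := by
    intro g x hx
    rw [Submodule.mem_comap, hN, LinearMap.mem_ker, ← aeval_comm' (S := ρ g) (hT g), LinearMap.mem_ker.1 hx, map_zero]
  have hWK : ∀ g, K ≤ K.comap (ρ g) := by
    intro g x hx
    rw [Submodule.mem_comap, hK, LinearMap.mem_ker, ← hT, LinearMap.mem_ker.1 hx, map_zero]
  obtain ⟨p, q, h1, h3, h5, h6, h7⟩ := exists_proj hf0 hTf
  have hp : ∀ g x, aeval T p (ρ g x) = ρ g (aeval T p x) := fun g x => (aeval_comm' (S := ρ g) (hT g) p x).symm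
  have hq : ∀ g x, aeval T q (ρ g x) = ρ g (aeval T q x) := fun g x => (aeval_comm' (S := ρ g) (hT g) q x).symm
  have okV := hO (D1 → F) ρ h0 hdual
  have okN := hO ↥N (ρ.subrepresentation N hWN) (sub_inv ρ hWN h0) (sub_dual ρ hWN hdual (π := aeval T p)
    (fun x => LinearMap.mem_ker.2 (h3 x)) (fun x hx => by
      have := h1 x
      rw [h7 x (LinearMap.mem_ker.1 hx), add_zero] at this
      exact this) hp)
  have okK := hO ↥K (ρ.subrepresentation K hWK) (sub_inv ρ hWK h0) (sub_dual ρ hWK hdual (π := aeval T q)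
    (fun x => LinearMap.mem_ker.2 (h5 x)) (fun x hx => by
      have := h1 x
      rw [h6 x (LinearMap.mem_ker.1 hx), zero_add] at this
      exact this) hq)
  rw [ev_sub, ev_sub, ev_sub, qd_sub, qd_sub, U_sub] at okN okK
  -- the dimensions
  have sn := split hf0 hTf (P := ⊤) (fun _ _ => Submodule.mem_top)
  rw [top_inf_eq, top_inf_eq, finrank_top, finrank_V, ← hN, ← hK] at sn
  have sA := split hf0 hTf (fix_stable ρ hT a)
  have sB := split hf0 hTf (fix_stable ρ hT b)
  have sD := split hf0 hTf (fix_stable ρ hT z5)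
  have sx := split hf0 hTf (qd_stable ρ hT τ z5)
  have sy := split hf0 hTf (qd_stable ρ hT (-1 - τ) z5)
  have su := split hf0 hTf (U_stable ρ hT a a')
  have tn := dvd_part (T := T) hdeg (P := ⊤) (fun _ _ => Submodule.mem_top)
  rw [top_inf_eq] at tn
  have tA := dvd_part hdeg (fix_stable ρ hT a)
  have tB := dvd_part hdeg (fix_stable ρ hT b)
  have tD := dvd_part hdeg (fix_stable ρ hT z5)
  have tx := dvd_part hdeg (qd_stable ρ hT τ z5)
  have ty := dvd_part hdeg (qd_stable ρ hT (-1 - τ) z5)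
  have tu := dvd_part hdeg (U_stable ρ hT a a')
  have eA' : finrank F ↥(Module.End.eigenspace (ρ a) 1) = dA := eA
  have eB' : finrank F ↥(Module.End.eigenspace (ρ b) 1) = dB := eB
  have eD' : finrank F ↥(Module.End.eigenspace (ρ z5) 1) = d5 := eD
  have ex' : finrank F ↥(LinearMap.ker (Five.qd τ (ρ z5))) = 2 * m1 := ex
  have ey' : finrank F ↥(LinearMap.ker (Five.qd (-1 - τ) (ρ z5))) = 2 * m2 := ey
  have okV' : Ok 56 dA dB d5 (2 * m1) (2 * m2) (finrank F ↥(U ρ a a')) := by
    have h := okV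
    rw [finrank_V] at h
    rw [ev, ev, ev, eA', eB', eD', ex', ey'] at h
    exact h
  rw [eA'] at sA
  rw [eB'] at sB
  rw [eD'] at sD
  rw [ex'] at sx
  rw [ey'] at sy
  obtain ⟨r1, r2⟩ := rows mA mB m5 okV'
  rcases hd with rfl | rfl
  · have h := fin3 r1 r2 okV' okN okK sn sA sB sD sx sy su tn tA tB tD tx ty tu
    omega
  · have h := fin7 r1 r2 okN okK sA sB sD tn tA tB tD tx ty tu
    apply hT0
    have h8 : finrank F ↥K = 56 := by omega
    have h9 : K = ⊤ := Submodule.eq_top_of_finrank_eq (by rw [h8, finrank_V])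
    exact LinearMap.ker_eq_top.1 h9

end Cfsg.Agent.R2.T1.N6T
end

private theorem dce_803cc75b4d00 : _root_.True := by
  try have : _root_.True := by simp only [_root_.Cfsg.Agent.R2.T1.N6T.U.eq_1]
  try have : _root_.True := by simp only [_root_.Representation.subrepresentation.congr_simp]
  exact _root_.True.intro
end

-- part: R2/T1/N6T/Main
section
prune_inst 0x4142005403422000000008592130000047000010200400000a8c0090208012040890200410eb00010808e10805000004001000100420000000a003000000201208001500412400104240087800080000000000000000000000000000000000004000000000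
set_option linter.all false
open scoped Cfsg.Agent.FastGrp

-- part: R2/T1/N6T/Even
section
/-!
# S5929, `n = 6`, `p = 2`: the kernels of `T² - τ T + 1` over the field with four elements (helper26)
-/

set_option autoImplicit false

namespace Cfsg.Agent.R2.T1.N6T

open Module Polynomial
open Cfsg.Agent.R2.T1

universe u v

variable {F : Type u} [Field F]

theorem no_root [Finite F] (h4 : Nat.card F = 4) (h2 : (2 : F) = 0) {τ : F} (hτ : τ * τ + τ - 1 = 0) (r : F)
    (hr : r * r - τ * r + 1 = 0) : False := by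
  have hr0 : r ≠ 0 := by
    rintro rfl
    apply one_ne_zero (α := F)
    linear_combination hr
  have h3 : r ^ 3 = 1 := by
    have h := Cfsg.Agent.R2.T2.Orb.pow_card_sub hr0
    rw [h4] at h
    exact h
  have h5 : r ^ 5 = 1 := by
    linear_combination (r ^ 3 + τ * r ^ 2 + (τ ^ 2 - 1) * r + τ ^ 3 - 2 * τ) * hr +
      ((τ * τ - τ - 1) * r - τ + 1) * hτ
  have h6 : r * r = 1 := by
    have : r ^ 5 = r ^ 3 * (r * r) := by ring
    rw [h5, h3, one_mul] at this
    exact this.symm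
  have h7 : τ * r = 0 := by linear_combination h6 - hr + h2
  rcases mul_eq_zero.1 h7 with h | h
  · rw [h] at hτ
    apply one_ne_zero (α := F)
    linear_combination -hτ
  · exact hr0 h

theorem even_q [Finite F] (h4 : Nat.card F = 4) (h2 : (2 : F) = 0) {τ : F} (hτ : τ * τ + τ - 1 = 0) {M : Type v}
    [AddCommGroup M] [Module F M] [FiniteDimensional F M] (T : Module.End F M) :
    2 ∣ finrank F ↥(LinearMap.ker (Five.qd τ T)) := by
  have hp : (X ^ 2 - C τ * X + 1 : F[X]).natDegree = 2 := by compute_degree!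
  refine Cfsg.Agent.R2.T2.Orb.dvd_sub (p := X ^ 2 - C τ * X + 1) ?_ (T := T) ?_ ?_
  · intro q hq1 hq2 hq3
    have h5 : q.natDegree ≤ 2 := by
      rw [← hp]
      refine Polynomial.natDegree_le_of_dvd hq3 ?_
      intro h0
      rw [h0, natDegree_zero] at hp
      omega
    have h6 := hq2.natDegree_pos
    have h7 : q.natDegree ≠ 1 := by
      intro h
      have h8 : q = X + C (q.coeff 0) := by
        have := Polynomial.eq_X_add_C_of_natDegree_le_one (p := q) (by omega)
        have h9 : q.coeff 1 = 1 := by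
          have := hq1.leadingCoeff
          rwa [leadingCoeff, h] at this
        rw [h9, C_1, one_mul] at this
        exact this
      obtain ⟨s, hs⟩ := hq3
      have h9 : eval (-(q.coeff 0)) (X ^ 2 - C τ * X + 1 : F[X]) = 0 := by
        rw [hs, eval_mul]
        have : eval (-(q.coeff 0)) q = 0 := by
          conv_lhs => rw [h8]
          rw [eval_add, eval_X, eval_C]
          simp
        rw [this, zero_mul]
      simp only [eval_add, eval_sub, eval_mul, eval_pow, eval_X, eval_C, eval_one] at h9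
      exact no_root h4 h2 hτ (-(q.coeff 0)) (by linear_combination h9)
    have h8 : q.natDegree = 2 := by omega
    rw [h8]
  · intro w hw
    rw [Five.mem_ker_qd] at hw ⊢
    rw [hw, map_sub, map_smul, hw]
  · intro w hw
    rw [Five.mem_ker_qd] at hw
    rw [map_add, map_sub, map_mul, map_pow, aeval_X, aeval_C, map_one, LinearMap.add_apply, LinearMap.sub_apply,
      pow_two, Module.End.mul_apply, Module.End.mul_apply, Module.algebraMap_end_apply, Module.End.one_apply, hw]
    abel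

end Cfsg.Agent.R2.T1.N6T
end

-- part: R2/T1/N6T/Main
section
/-!
# S5929, `n = 6`, `p = 2` (helper26)

* `six2` : no maximal subgroup with generalized Fitting subgroup `A₆` in characteristic 2.
-/

set_option autoImplicit false

namespace Cfsg.Agent.R2.T1.N6T

open Cfsg Cfsg.Lie Module Equiv Equiv.Perm
open Cfsg.Agent.H943.E7V.Block (D1 rho)
open Cfsg.Agent.H952.F4 (ev MaxAlt)
open Cfsg.Agent.R2.T1
open Cfsg.Agent.R2.T1.N6D (Ineq Low z5)
open Cfsg.Agent.R2.T1.N6D.I2 (pa pa')

universe u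

theorem ord_pa : orderOf pa = 3 := orderOf_eq_prime (by decide +kernel) (by decide +kernel)

theorem ord_pb : orderOf (pa * pa') = 3 := orderOf_eq_prime (by decide +kernel) (by decide +kernel)

theorem ord_z5 : orderOf z5 = 5 := orderOf_eq_prime (by decide +kernel) (by decide +kernel)

theorem okAll {F : Type u} [Field F] [Finite F] (h2 : (2 : F) = 0) (h4 : Nat.card F = 4) :
    OkAll F pa pa' (pa * pa') := by
  intro τ hτ M _ _ _ ρ hinv hdual
  have hτ' : (-1 - τ) * (-1 - τ) + (-1 - τ) - 1 = 0 := by linear_combination hτ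
  have e1 := N6D.I2.dimE ρ h2
  refine ⟨N6D.I2.sum5 ρ h2 hτ, N6D.pos h2 ρ ord_pa ord_z5, N6D.pos h2 ρ ord_pb ord_z5, N6D.I2.even_A ρ h2, N6D.I2.even_B ρ h2,
    ?_, N6D.I2.ineq6 h2 M ρ hinv hdual, N6D.two_mul_le h2 hτ ρ, N6D.two_mul_le h2 hτ' ρ, even_q h4 h2 hτ _,
    even_q h4 h2 hτ' _⟩
  rw [← e1]
  rfl

theorem six2 {F : Type u} [Field F] [Finite F] {H : Subgroup ↥(chevE7.group F)}
    {φ : ↥(alternatingGroup (Fin 6)) →* ↥(chevE7.group F)} {ψ : ↥(alternatingGroup (Fin 6)) →* Gh F}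
    (hM : MaxAlt H 6 φ) (hψ : Lift φ ψ) (h2 : (2 : F) = 0) : False := by
  refine last hM hψ h2 (a := pa) (a' := pa') (b := pa * pa') ?_ ?_ ?_ ?_ (N6D.I2.ineq6 h2) (N6D.I2.low6 h2)
    (okAll h2)
  · rw [← ord_pa, pow_orderOf_eq_one]
  · rw [← ord_pb, pow_orderOf_eq_one]
  · intro h
    have := ord_pa
    rw [h, orderOf_one] at this
    omega
  · intro h
    have := ord_pb
    rw [h, orderOf_one] at this
    omega

end Cfsg.Agent.R2.T1.N6T
end
end

-- part: R2/T1/N7/Three0
section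
prune_inst 0x14200500202200000000859213202000540004b200200001c8c00840000121200980214006a01010820aae012009004001000110420000000a00000000000000000052063340a104240090800084000000000000000000000000000000000004000000000
set_option linter.all false
open scoped Cfsg.Agent.FastGrp

-- part: R2/T1/N7/Row3
section
/-!
# S5929, `n = 7`, `p = 3`: the rows of the tables (helper11)

* `five_le_four` : `dim M^x ≤ dim M^y` for a module of `A₆` in characteristic 3, `x` of order 5, `y` of order 4;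
* `conj7` : conjugacy in `A₇`;
* `row2`, `row5`, `row7`, `row4` : the rows of elements of `A₇` in a lift;
* `scott247`, `scott247L` : Scott's lemma.
-/

set_option autoImplicit false
set_option maxRecDepth 100000

namespace Cfsg.Agent.R2.T1.N7

open Equiv Equiv.Perm Module Cfsg Cfsg.Lie
open Cfsg.Agent.H943.E7V.Block (D1)
open Cfsg.Agent.H952.F4 (ev MaxAlt GenT)
open Cfsg.Agent.H944.E6T (ev_conj)
open Cfsg.Agent.R2.T1.Odd (ev_rat emb_rat emb_pow_one)
open Cfsg.Agent.R2.T1.N6L

universe u v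

/-- **`A₆` in characteristic 3** -/
theorem five_le_four {K : Type u} [Field K] [IsAlgClosed K] [CharP K 3] {M : Type v} [AddCommGroup M] [Module K M]
    [FiniteDimensional K M] (ρ : Representation K ↥(alternatingGroup (Fin 6)) M) {x y : ↥(alternatingGroup (Fin 6))}
    (hx : orderOf x = 5) (hy : orderOf y = 4) : ev (ρ x) 1 ≤ ev (ρ y) 1 := by
  classical
  obtain ⟨π, hs, hk⟩ := exists_pi card_F9
  obtain ⟨ι⟩ := exists_iota K
  obtain ⟨g, ζ, -, -, hζ⟩ := lift5 ι card_F9 hs hk hx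
  obtain ⟨n, na, nb, m, l, h⟩ := exists_muK (golden hζ) hx ρ
  rw [h.five x hx, h.four y hy]
  omega

/-- conjugacy in `A₇`, if an odd permutation commutes with the representative -/
theorem conj7 {r g : A7} (hct : (r : Perm (Fin 7)).cycleType = (g : Perm (Fin 7)).cycleType)
    {κ : Perm (Fin 7)} (hκ : sign κ = -1) (hc : κ * r = r * κ) : IsConj r g := by
  obtain ⟨σ, hσ⟩ := isConj_iff.1 (isConj_iff_cycleType_eq.2 hct)
  rcases Int.units_eq_one_or (sign σ) with h3 | h3
  · exact isConj_iff.2 ⟨⟨σ, h3⟩, Subtype.ext hσ⟩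
  · refine isConj_iff.2 ⟨⟨σ * κ, ?_⟩, Subtype.ext ?_⟩
    · rw [mem_alternatingGroup, map_mul, h3, hκ]; rfl
    · change σ * κ * (r : Perm (Fin 7)) * (σ * κ)⁻¹ = g
      rw [← hσ]
      calc σ * κ * (r : Perm (Fin 7)) * (σ * κ)⁻¹ = σ * (κ * r) * κ⁻¹ * σ⁻¹ := by group
        _ = σ * (r * κ) * κ⁻¹ * σ⁻¹ := by rw [hc]
        _ = _ := by group

/-- rationality: `z` is conjugate to `z ^ a` in `A_n` if this holds for a permutation of the same type -/
theorem rat7 {r g : A7} {z : A7} {a : ℕ} (hct : (r : Perm (Fin 7)).cycleType = (z : Perm (Fin 7)).cycleType)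
    (hg : g * r * g⁻¹ = r ^ a) : ∃ k : A7, k * z * k⁻¹ = z ^ a := by
  obtain ⟨σ, hσ⟩ := isConj_iff.1 (isConj_iff_cycleType_eq.2 hct)
  refine ⟨⟨σ * g * σ⁻¹, ?_⟩, Subtype.ext ?_⟩
  · rw [mem_alternatingGroup, map_mul, map_mul, map_inv, mem_alternatingGroup.1 g.2, mul_one, mul_inv_cancel]
  · show σ * (g : Perm (Fin 7)) * σ⁻¹ * (z : Perm (Fin 7)) * (σ * (g : Perm (Fin 7)) * σ⁻¹)⁻¹ = (z : Perm (Fin 7)) ^ a
    have h1 : (g : Perm (Fin 7)) * r * (g : Perm (Fin 7))⁻¹ = (r : Perm (Fin 7)) ^ a := congrArg Subtype.val hg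
    rw [← hσ, conj_pow, ← h1]
    group

/-- elements of `A₇` -/
def mk7 (g : Perm (Fin 7)) (h : sign g = 1) : A7 := ⟨g, mem_alternatingGroup.2 h⟩

theorem ord7 (t : A7) : orderOf t = (t : Perm (Fin 7)).cycleType.lcm := by
  rw [lcm_cycleType, Subgroup.orderOf_coe]

section rows
variable {F : Type u} [Field F] {ψ : A7 →* Gh F}

theorem evV_conj {r g : A7} (h : IsConj r g) : ev (V F (ψ g)) 1 = ev (V F (ψ r)) 1 := by
  obtain ⟨c, rfl⟩ := isConj_iff.1 h
  rw [show ψ (c * r * c⁻¹) = ψ c * ψ r * (ψ c)⁻¹ by rw [← map_inv, ← map_mul, ← map_mul]]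
  exact ev_conj (V F) (ψ c) (ψ r) 1

variable [Finite F] (hψ : ∀ a, ad F (ψ a) = 1 → a = 1)

include hψ in
theorem psi_ne {a : A7} (ha : a ≠ 1) : ψ a ≠ 1 := fun h => ha (hψ a (by rw [h, map_one]))

include hψ in
/-- involutions -/
theorem row2 (h2 : (2 : F) ≠ 0) {x : A7} (hx : orderOf x = 2) :
    (ev (V F (ψ x)) 1 = 32 ∨ ev (V F (ψ x)) 1 = 24) ∧ ev (L F (ψ x)) 1 = 69 := by
  refine two h2 (by rw [← map_mul, ← pow_two, ← hx, pow_orderOf_eq_one, map_one]) fun h => ?_
  rw [hψ x h, orderOf_one] at hx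
  omega

include hψ in
/-- elements of order 5 -/
theorem row5 (h5 : (5 : F) ≠ 0) {x : A7} (hx : (x : Perm (Fin 7)).cycleType = {5}) :
    ev (V F (ψ x)) 1 = 16 ∧ ev (L F (ψ x)) 1 = 33 := by
  have ho : orderOf x = 5 := by rw [ord7, hx]; decide
  obtain ⟨k, hk⟩ := rat7 (r := mk7 (swap (0 : Fin 7) 1 * swap (1 : Fin 7) 2 * (swap (2 : Fin 7) 3 * swap (3 : Fin 7) 4)) (by decide))
    (g := mk7 (swap (1 : Fin 7) 2 * swap (2 : Fin 7) 4 * swap (4 : Fin 7) 3 * swap (5 : Fin 7) 6) (by decide)) (z := x) (a := 2) (by rw [hx]; decide +kernel)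
    (by decide)
  have hx5 : ψ x ^ 5 = 1 := by rw [← map_pow, ← ho, pow_orderOf_eq_one, map_one]
  have hx1 : ψ x ≠ 1 := psi_ne hψ fun h => by
    rw [h, orderOf_one] at ho
    omega
  have hg : ψ k * ψ x * (ψ k)⁻¹ = ψ x ^ 2 := by rw [← map_inv, ← map_mul, ← map_mul, hk, map_pow]
  have h5' : ((5 : ℕ) : F) ≠ 0 := by exact_mod_cast h5
  obtain ⟨p, hpp, hp, hcop⟩ := exists_char h5'
  obtain ⟨ζ, hζ, P, hP, h1⟩ := pat chk5 (by norm_num) p hcop hx5
  have e1 := ev_rat (V (AlgebraicClosure F)) (N := 5) (a := 2) (b := 3) (emb_pow_one (algebraMap F _) hx5)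
    hζ.pow_eq_one (by norm_num) (by norm_num) (emb_rat _ hg) 1
  have h2 := (h1 1 (by norm_num)).1
  have h3 := (h1 3 (by norm_num)).1
  have h0 := (h1 0 (by norm_num)).1
  have l0 := (h1 0 (by norm_num)).2
  rw [pow_zero, ev_V_one] at h0
  rw [pow_zero, ev_L_one] at l0
  rw [h2, one_mul, h3] at e1
  have key : ∀ P ∈ T5, P.1.getD 0 0 = 56 ∨ (P.1.getD 0 0 = 16 ∧ P.2.getD 0 0 = 33) ∨ P.1.getD 1 0 ≠ P.1.getD 3 0 := by
    decide
  rcases key P hP with h | h | h
  · exact absurd (eq_one_of_ev (h0.trans h)) hx1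
  · exact ⟨h0.trans h.1, l0.trans h.2⟩
  · exact absurd e1 h

include hψ in
/-- elements of order 7 -/
theorem row7 (h7 : (7 : F) ≠ 0) {x : A7} (hx : (x : Perm (Fin 7)).cycleType = {7}) :
    (ev (V F (ψ x)) 1 = 2 ∧ ev (L F (ψ x)) 1 = 31) ∨ (ev (V F (ψ x)) 1 = 8 ∧ ev (L F (ψ x)) 1 = 19) ∨
      (ev (V F (ψ x)) 1 = 20 ∧ ev (L F (ψ x)) 1 = 37) := by
  have ho : orderOf x = 7 := by rw [ord7, hx]; decide
  obtain ⟨k, hk⟩ := rat7 (r := mk7 (swap (0 : Fin 7) 1 * swap (1 : Fin 7) 2 * (swap (2 : Fin 7) 3 * swap (3 : Fin 7) 4) * (swap (4 : Fin 7) 5 * swap (5 : Fin 7) 6)) (by decide))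
    (g := mk7 (swap (1 : Fin 7) 2 * swap (2 : Fin 7) 4 * (swap (3 : Fin 7) 6 * swap (6 : Fin 7) 5)) (by decide)) (z := x) (a := 2) (by rw [hx]; decide +kernel)
    (by decide +kernel)
  have hx5 : ψ x ^ 7 = 1 := by
    have h0 := pow_orderOf_eq_one x
    rw [ho] at h0
    rw [← map_pow, h0, map_one]
  have hx1 : ψ x ≠ 1 := psi_ne hψ fun h => by
    rw [h, orderOf_one] at ho
    omega
  have hg : ψ k * ψ x * (ψ k)⁻¹ = ψ x ^ 2 := by rw [← map_inv, ← map_mul, ← map_mul, hk, map_pow]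
  have h5' : ((7 : ℕ) : F) ≠ 0 := by exact_mod_cast h7
  obtain ⟨p, hpp, hp, hcop⟩ := exists_char h5'
  obtain ⟨ζ, hζ, P, hP, h1⟩ := pat chk7 (by norm_num) p hcop hx5
  have e := fun k => ev_rat (V (AlgebraicClosure F)) (N := 7) (a := 2) (b := 4) (emb_pow_one (algebraMap F _) hx5)
    hζ.pow_eq_one (by norm_num) (by norm_num) (emb_rat _ hg) k
  have e1 := e 1
  have e4 := e 4
  rw [one_mul, (h1 1 (by norm_num)).1, (h1 4 (by norm_num)).1] at e1
  rw [pow_mod_eq hζ (4 * 4), show 4 * 4 % 7 = 2 by norm_num, (h1 4 (by norm_num)).1, (h1 2 (by norm_num)).1] at e4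
  have h0 := (h1 0 (by norm_num)).1
  have l0 := (h1 0 (by norm_num)).2
  rw [pow_zero, ev_V_one] at h0
  rw [pow_zero, ev_L_one] at l0
  have key : ∀ P ∈ T7, P.1.getD 1 0 ≠ P.1.getD 4 0 ∨ P.1.getD 4 0 ≠ P.1.getD 2 0 ∨ P.1.getD 0 0 = 56 ∨
      (P.1.getD 0 0 = 2 ∧ P.2.getD 0 0 = 31) ∨ (P.1.getD 0 0 = 8 ∧ P.2.getD 0 0 = 19) ∨
      (P.1.getD 0 0 = 20 ∧ P.2.getD 0 0 = 37) := by decide +kernel
  rcases key P hP with h | h | h | h | h | h
  · exact absurd e1 h
  · exact absurd e4 h
  · exact absurd (eq_one_of_ev (h0.trans h)) hx1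
  · exact Or.inl ⟨h0.trans h.1, l0.trans h.2⟩
  · exact Or.inr (Or.inl ⟨h0.trans h.1, l0.trans h.2⟩)
  · exact Or.inr (Or.inr ⟨h0.trans h.1, l0.trans h.2⟩)

include hψ in
/-- elements of order 4, characteristic 3 -/
theorem row4 (h3 : (3 : F) = 0) {x : A7} (hx : (x : Perm (Fin 7)).cycleType = {4, 2}) :
    ev (L F (ψ x)) 1 = 67 ∨ ev (L F (ψ x)) 1 = 49 ∨
      (ev (V F (ψ x)) 1 = 20 ∧ ev (L F (ψ x)) 1 = 39 ∧ ev (V F (ψ (x * x))) 1 = 32) ∨
      (ev (V F (ψ x)) 1 = 16 ∧ ev (L F (ψ x)) 1 = 35 ∧ ev (V F (ψ (x * x))) 1 = 32) := by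
  have h2 : (2 : F) ≠ 0 := by
    intro h2
    have h1 : (1 : F) = 0 := by linear_combination h3 - h2
    exact one_ne_zero h1
  have h5 : (5 : F) ≠ 0 := by
    intro h5
    have h1 : (1 : F) = 0 := by linear_combination 2 * h3 - h5
    exact one_ne_zero h1
  have h4 : ((4 : ℕ) : F) ≠ 0 := by
    have : ((4 : ℕ) : F) = 2 * 2 := by norm_num
    rw [this]
    exact mul_ne_zero h2 h2
  have hF3 := charP_three h3
  have hK3 : CharP (AlgebraicClosure F) 3 :=
    charP_of_injective_algebraMap (algebraMap F (AlgebraicClosure F)).injective 3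
  -- the inequality
  have hle : 16 ≤ ev (V F (ψ x)) 1 := by
    have e5 : (H251.E6.up N6R.r5 : Perm (Fin 7)).cycleType = {5} := by
      rw [H251.E6.type_up]
      decide +kernel
    have e4 : (H251.E6.up N6R.r4 : Perm (Fin 7)).cycleType = {4, 2} := by
      rw [H251.E6.type_up]
      decide +kernel
    have h1 := five_le_four (K := AlgebraicClosure F)
      (MonoidHom.comp (V (AlgebraicClosure F)) ((emb (algebraMap F (AlgebraicClosure F))).comp (ψ.comp H251.E6.up)))
      (x := N6R.r5) (y := N6R.r4) (by rw [N6R.ord6]; decide +kernel) (by rw [N6R.ord6]; decide +kernel)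
    change ev (V (AlgebraicClosure F) (emb (algebraMap F (AlgebraicClosure F)) (ψ (H251.E6.up N6R.r5)))) 1 ≤
      ev (V (AlgebraicClosure F) (emb (algebraMap F (AlgebraicClosure F)) (ψ (H251.E6.up N6R.r4)))) 1 at h1
    rw [ev_V_one, ev_V_one, (row5 hψ h5 e5).1] at h1
    have c1 := evV_conj (ψ := ψ) (conj7 (r := mk7 (swap (0 : Fin 7) 1 * swap (1 : Fin 7) 2 * swap (2 : Fin 7) 3 * swap (4 : Fin 7) 5) (by decide))
      (g := H251.E6.up N6R.r4) (κ := swap (4 : Fin 7) 5) (by rw [e4]; decide +kernel) (by decide) (by decide))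
    have c2 := evV_conj (ψ := ψ) (conj7 (r := mk7 (swap (0 : Fin 7) 1 * swap (1 : Fin 7) 2 * swap (2 : Fin 7) 3 * swap (4 : Fin 7) 5) (by decide))
      (g := x) (κ := swap (4 : Fin 7) 5) (by rw [hx]; decide +kernel) (by decide) (by decide))
    rw [c2, ← c1]
    exact h1
  -- the table
  have ho : orderOf x = 4 := by rw [ord7, hx]; decide
  have hx4 : ψ x ^ 4 = 1 := by
    have h0 := pow_orderOf_eq_one x
    rw [ho] at h0
    rw [← map_pow, h0, map_one]
  have ho2 : orderOf (x * x) = 2 := by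
    rw [← pow_two, orderOf_pow, ho]
    decide
  have hd2 := row2 hψ h2 ho2
  obtain ⟨ζ, hζ, P, hP, h1⟩ := pat chk4 (by norm_num) 3 (by norm_num) hx4
  have e0 := (h1 0 (by norm_num)).1
  have l0 := (h1 0 (by norm_num)).2
  have e2 := (h1 2 (by norm_num)).1
  have l2 := (h1 2 (by norm_num)).2
  have hζ2 : ζ ^ 2 = -1 := by
    have h5 : (ζ ^ 2 - 1) * (ζ ^ 2 + 1) = 0 := by
      have h6 := hζ.pow_eq_one
      linear_combination h6
    rcases mul_eq_zero.1 h5 with h6 | h6
    · exfalso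
      have h7 := hζ.pow_ne_one_of_pos_of_lt (l := 2) (by norm_num) (by norm_num)
      exact h7 (sub_eq_zero.1 h6)
    · exact eq_neg_of_add_eq_zero_left h6
  have h2K : (2 : AlgebraicClosure F) ≠ 0 := by
    have h1 : ((2 : ℕ) : AlgebraicClosure F) ≠ 0 := by
      rw [Ne, CharP.cast_eq_zero_iff (AlgebraicClosure F) 3]
      norm_num
    exact_mod_cast h1
  have hsq := E5.ev_sq h2K (V (AlgebraicClosure F) (emb (algebraMap F (AlgebraicClosure F)) (ψ x)))
  have hsq' : ev (V F (ψ (x * x))) 1 = P.1.getD 0 0 + P.1.getD 2 0 := by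
    rw [← e0, ← e2, pow_zero, hζ2, ← hsq, ← ev_V_one (algebraMap F (AlgebraicClosure F)), map_mul, map_mul, map_mul, pow_two]
  rw [pow_zero, ev_V_one] at e0
  rw [pow_zero, ev_L_one] at l0
  rw [hsq'] at hd2
  have key : ∀ P ∈ T4, P.1.getD 0 0 < 16 ∨ (P.1.getD 0 0 + P.1.getD 2 0 ≠ 32 ∧ P.1.getD 0 0 + P.1.getD 2 0 ≠ 24) ∨
      P.2.getD 0 0 = 67 ∨ P.2.getD 0 0 = 49 ∨
      (P.1.getD 0 0 = 20 ∧ P.2.getD 0 0 = 39 ∧ P.1.getD 0 0 + P.1.getD 2 0 = 32) ∨
      (P.1.getD 0 0 = 16 ∧ P.2.getD 0 0 = 35 ∧ P.1.getD 0 0 + P.1.getD 2 0 = 32) := by decide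
  rw [hsq', e0, l0]
  rw [e0] at hle
  have hd2' := hd2.1
  have := key P hP
  (clear * - hle hd2' this; omega)

/-- Scott's lemma on the module of degree 56 and on the adjoint module -/
theorem scott247 (h2 : (2 : F) ≠ 0) (hV : Representation.invariants (MonoidHom.comp (V F) ψ) = ⊥)
    (hinv : Representation.invariants (MonoidHom.comp (L F) ψ) = ⊥) :
    ∃ x y z : A7, (x : Perm (Fin 7)).cycleType = {2, 2} ∧ (y : Perm (Fin 7)).cycleType = {4, 2} ∧
      (z : Perm (Fin 7)).cycleType = {7} ∧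
      ev (V F (ψ x)) 1 + ev (V F (ψ y)) 1 + ev (V F (ψ z)) 1 ≤ 56 ∧
      ev (L F (ψ x)) 1 + ev (L F (ψ y)) 1 + ev (L F (ψ z)) 1 ≤ 133 := by
  obtain ⟨x, y, h, hx, hy, hxy⟩ := H251.E6.gen247
  refine ⟨x, y, x * y, hx, hy, hxy, ?_, ?_⟩
  · have h := Cfsg.Agent.H952.F4.Scott.scott_form (MonoidHom.comp (V F) ψ) (x := x) (y := y) h (sf F)
      (fun v hv => sf_nondeg' hv) (fun g v w => sf_V _ v w)
    rw [finrank_V, hV, finrank_bot, mul_zero, add_zero] at h
    exact h
  · have h := Cfsg.Agent.H952.F4.Scott.scott_form (MonoidHom.comp (L F) ψ) (x := x) (y := y) h (kf F)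
      (fun v hv => kf_nondeg h2 fun w => by rw [kf_comm]; exact hv w) (fun g v w => kf_L _ v w)
    rw [finrank_L, hinv, finrank_bot, mul_zero, add_zero] at h
    exact h

end rows

end Cfsg.Agent.R2.T1.N7
end

-- part: R2/T1/N7/Three0
section
/-!
# S5929, `n = 7`, `p = 3`, lift: reduction to the pattern B (helper11)
-/

set_option autoImplicit false
set_option maxRecDepth 100000

namespace Cfsg.Agent.R2.T1.N7

open Equiv Equiv.Perm Module Cfsg Cfsg.Lie
open Cfsg.Agent.H943.E7V.Block (D1)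
open Cfsg.Agent.H952.F4 (ev MaxAlt GenT)

universe u

/-- **reduction to the pattern B** -/
theorem sev3_of {F : Type u} [Field F] [Finite F] {H : Subgroup ↥(chevE7.group F)}
    {φ : ↥(alternatingGroup (Fin 7)) →* ↥(chevE7.group F)} {ψ : ↥(alternatingGroup (Fin 7)) →* Gh F}
    (hM : MaxAlt H 7 φ) (hL : Lift φ ψ) (h3 : (3 : F) = 0)
    (hinv : Representation.invariants (MonoidHom.comp (L F) ψ) = ⊥)
    (hB : ∀ t y x : A7, orderOf t = 2 → orderOf y = 7 → orderOf x = 5 →
      ¬ (ev (V F (ψ t)) 1 = 32 ∧ ev (V F (ψ y)) 1 = 8 ∧ ev (V F (ψ x)) 1 = 16)) : False := by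
  have hψ := Odd.lift_inj' hM hL
  have h2 : (2 : F) ≠ 0 := by
    intro h2
    have h1 : (1 : F) = 0 := by linear_combination h3 - h2
    exact one_ne_zero h1
  have h5 : (5 : F) ≠ 0 := by
    intro h5
    have h1 : (1 : F) = 0 := by linear_combination 2 * h3 - h5
    exact one_ne_zero h1
  have h7 : (7 : F) ≠ 0 := by
    intro h7
    have h1 : (1 : F) = 0 := by linear_combination h7 - 2 * h3
    exact one_ne_zero h1
  obtain ⟨x, y, z, hx, hy, hz, hV, hLL⟩ := scott247 (ψ := ψ) h2 (no_fixed hM (by norm_num) (by norm_num) hL) hinv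
  have ox : orderOf x = 2 := by rw [ord7, hx]; decide
  have oy : orderOf y = 4 := by rw [ord7, hy]; decide
  have oz : orderOf z = 7 := by rw [ord7, hz]; decide
  have oyy : orderOf (y * y) = 2 := by
    rw [← pow_two, orderOf_pow, oy]
    decide
  have r2 := row2 hψ h2 ox
  have r4 := row4 hψ h3 hy
  have r7 := row7 hψ h7 hz
  -- the square
  have hyy : ((y * y : A7) : Perm (Fin 7)).cycleType = {2, 2} := by
    obtain ⟨σ, hσ⟩ := isConj_iff.1 (isConj_iff_cycleType_eq.2 (show
      (swap (0 : Fin 7) 1 * swap (1 : Fin 7) 2 * swap (2 : Fin 7) 3 * swap (4 : Fin 7) 5 : Perm (Fin 7)).cycleType = (y : Perm (Fin 7)).cycleType by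
        rw [hy]; decide +kernel))
    rw [Subgroup.coe_mul, ← hσ, show σ * (swap (0 : Fin 7) 1 * swap (1 : Fin 7) 2 * swap (2 : Fin 7) 3 * swap (4 : Fin 7) 5) * σ⁻¹ *
      (σ * (swap (0 : Fin 7) 1 * swap (1 : Fin 7) 2 * swap (2 : Fin 7) 3 * swap (4 : Fin 7) 5) * σ⁻¹) =
      σ * ((swap (0 : Fin 7) 1 * swap (1 : Fin 7) 2 * swap (2 : Fin 7) 3 * swap (4 : Fin 7) 5) * (swap (0 : Fin 7) 1 * swap (1 : Fin 7) 2 * swap (2 : Fin 7) 3 * swap (4 : Fin 7) 5)) * σ⁻¹ by group,
      cycleType_conj]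
    decide +kernel
  have c1 := evV_conj (ψ := ψ) (conj7 (r := mk7 (swap (0 : Fin 7) 1 * swap (2 : Fin 7) 3) (by decide))
    (g := x) (κ := swap (4 : Fin 7) 5) (by rw [hx]; decide +kernel) (by decide) (by decide))
  have c2 := evV_conj (ψ := ψ) (conj7 (r := mk7 (swap (0 : Fin 7) 1 * swap (2 : Fin 7) 3) (by decide))
    (g := y * y) (κ := swap (4 : Fin 7) 5) (by rw [hyy]; decide +kernel) (by decide) (by decide))
  rw [← c1] at c2
  rw [c2] at r4
  rcases r4 with h | h | ⟨h4, h4', h4''⟩ | ⟨h4, h4', h4''⟩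
  · omega
  · omega
  · omega
  · have e8 : ev (V F (ψ z)) 1 = 8 := by omega
    have e5 : (mk7 (swap (0 : Fin 7) 1 * swap (1 : Fin 7) 2 * (swap (2 : Fin 7) 3 * swap (3 : Fin 7) 4)) (by decide) : Perm (Fin 7)).cycleType = {5} := by
      decide +kernel
    exact hB x z (mk7 (swap (0 : Fin 7) 1 * swap (1 : Fin 7) 2 * (swap (2 : Fin 7) 3 * swap (3 : Fin 7) 4)) (by decide)) ox oz (by rw [ord7, e5]; decide)
      ⟨h4'', e8, (row5 hψ h5 e5).1⟩

end Cfsg.Agent.R2.T1.N7
end
end

-- part: R2/T1/N7/Three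
section
set_option linter.all false
open scoped Cfsg.Agent.FastGrp

-- part: R2/T1/N7/PatB
section
/-!
# S5929, `n = 7`, `p = 3`, lift: pattern B is impossible (helper7)
-/

set_option autoImplicit false

namespace Cfsg.Agent.R2.T1.N7

open Cfsg Cfsg.Lie Module
open Cfsg.Agent.H943.E7V.Block (D1 rho)
open Cfsg.Agent.H952.F4 (ev es MaxAlt)
open Cfsg.Agent.R2.T1

universe u

variable {F : Type u} [Field F] {H : Subgroup ↥(chevE7.group F)}
  {φ : ↥(alternatingGroup (Fin 7)) →* ↥(chevE7.group F)} {ψ : ↥(alternatingGroup (Fin 7)) →* Gh F}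

/-- **pattern B** -/
theorem patB [Finite F] (hM : MaxAlt H 7 φ) (hL : Lift φ ψ) (h3 : (3 : F) = 0)
    {t y x : ↥(alternatingGroup (Fin 7))} (ht : orderOf t = 2) (hy : orderOf y = 7) (hx : orderOf x = 5)
    (h2 : ev (V F (ψ t)) 1 = 32) (h7 : ev (V F (ψ y)) 1 = 8) (h5 : ev (V F (ψ x)) 1 = 16) : False := by
  have hprime : Fact (Nat.Prime 3) := ⟨Nat.prime_three⟩
  have hchar : CharP F 3 := by
    obtain ⟨p, hp⟩ := CharP.exists F
    have h1 : p ∣ 3 := (CharP.cast_eq_zero_iff F p 3).1 (by exact_mod_cast h3)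
    have h4 : p = 3 := ((Nat.dvd_prime Nat.prime_three).1 h1).resolve_left (CharP.char_ne_one F p)
    rwa [← h4]
  let ρ : Representation F ↥(alternatingGroup (Fin 7)) (D1 → F) := MonoidHom.comp (V F) ψ
  have h0 : Representation.invariants ρ = ⊥ := no_fixed hM (by norm_num) (by norm_num) hL
  have hB : ∀ v : D1 → F, (∀ w, sf F v w = 0) → v = 0 := fun v hv => sf_nondeg' hv
  have hG : ∀ g v w, sf F (ρ g v) (ρ g w) = sf F v w := fun g v w => sf_V _ v w
  have e2 : ev (ρ PB.s2) 1 = 32 := by rw [← PB.ev_isConj ρ (PB.cls2 ht)]; exact h2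
  have e5 : ev (ρ PB.a7) 1 = 16 := by rw [← PB.ev_isConj ρ (PB.cls5 hx)]; exact h5
  have e7 : ev (ρ (PB.s2 * PB.s3)) 1 = 8 := by
    rcases PB.cls7 hy with h | h
    · rw [← PB.ev_isConj ρ h]; exact h7
    · rw [← PB.ev_inv, ← PB.ev_isConj ρ h]; exact h7
  have e3 : 19 ≤ ev (ρ PB.s3) 1 := by
    have h := Five.ev_ge (p := 3) (T := ρ PB.s3) (by rw [← map_pow, PB.s3_pow, map_one])
    rw [finrank_V] at h
    omega
  have h6 := PB.fx_ge ρ hB hG
  rw [finrank_V, e2, e7] at h6
  have h8 := PB.final h3 h0 hB hG (by omega)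
  rw [finrank_V, e5] at h8
  omega

end Cfsg.Agent.R2.T1.N7
end

-- part: R2/T1/N7/Three
section
/-!
# S5929, `n = 7`, `p = 3`, lift (helper11; pattern B: helper7, adjoint module: helper19)
-/

set_option autoImplicit false

namespace Cfsg.Agent.R2.T1.N7

open Cfsg Cfsg.Lie Module
open Cfsg.Agent.H943.E7V.Block (D1)
open Cfsg.Agent.H952.F4 (ev MaxAlt)

universe u

/-- **`n = 7`, `p = 3`, lift** -/
theorem sev3 {F : Type u} [Field F] [Finite F] {H : Subgroup ↥(chevE7.group F)}
    {φ : ↥(alternatingGroup (Fin 7)) →* ↥(chevE7.group F)} {ψ : ↥(alternatingGroup (Fin 7)) →* Gh F}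
    (hM : MaxAlt H 7 φ) (hL : Lift φ ψ) (h3 : (3 : F) = 0) : False :=
  sev3_of hM hL h3 (Tau.no_inv7 h3 hM hL) fun _ _ _ ht hy hx h => patB hM hL h3 ht hy hx h.1 h.2.1 h.2.2

example {F : Type u} [Field F] [Finite F] : ∀ (H : Subgroup ↥(chevE7.group F))
    (φ : ↥(alternatingGroup (Fin 7)) →* ↥(chevE7.group F)) (ψ : ↥(alternatingGroup (Fin 7)) →* Gh F),
    MaxAlt H 7 φ → Lift φ ψ → (3 : F) = 0 → False := fun _ _ _ hM hL h3 => sev3 hM hL h3

end Cfsg.Agent.R2.T1.N7
end
end

-- part: R2/T1/N7C/Three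
section
set_option linter.all false
open scoped Cfsg.Agent.FastGrp

-- part: R2/T1/N7C/Inv
section
/-!
# S5929, box sev3c: no fixed vector on the adjoint module, cover (helper5)

`no_inv7c` : a transposition of `S₇` anticommutes with an element of order 8 of `2.A₇` : excluded by `no_neg`.
-/

set_option autoImplicit false
set_option maxRecDepth 100000

universe u v

namespace Cfsg.Agent.R2.T1.N7C

open Equiv Equiv.Perm Cfsg Cfsg.Lie Module
open Cfsg.Agent.H943.E7V.Block (D1 rho)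
open Cfsg.Agent.H952.F4 (ev es MaxAlt)
open Cfsg.Agent.R2.T1

/-- `(0 1)(2 3)` -/
def p1 : Perm (Fin 7) := swap (0 : Fin 7) 1 * swap (2 : Fin 7) 3
/-- `(3 4 5)` -/
def p2 : Perm (Fin 7) := swap (3 : Fin 7) 4 * swap (4 : Fin 7) 5
/-- `(0 2)(1 3)` -/
def p3 : Perm (Fin 7) := swap (0 : Fin 7) 2 * swap (1 : Fin 7) 3

theorem p1_sign : sign p1 = 1 := by decide
theorem p2_sign : sign p2 = 1 := by decide
theorem p3_sign : sign p3 = 1 := by decide
theorem p1_type : p1.cycleType = {2, 2} := by decide +kernel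
theorem p12_type : (p1 * p2 * (p1 * p2)).cycleType = {2, 2} := by decide +kernel
theorem p2_cube : p2 ^ 3 = 1 := by decide
theorem p1_comm : p1 = swap (0 : Fin 7) 1 * p1 * (swap (0 : Fin 7) 1)⁻¹ := by decide
theorem p2_comm : p2 = swap (0 : Fin 7) 1 * p2 * (swap (0 : Fin 7) 1)⁻¹ := by decide
theorem p3_conj : p3 * swap (0 : Fin 7) 1 * p3⁻¹ = swap (0 : Fin 7) 1 * p1 := by decide

variable {F : Type u} [Field F] [Finite F] {H : Subgroup ↥(chevE7.group F)}
  {φ : ↥(alternatingGroup (Fin 7)) →* ↥(chevE7.group F)}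

/-- **the adjoint module has no fixed vector** -/
theorem no_inv7c (h2 : (2 : F) ≠ 0) (h5 : (5 : F) ≠ 0) (hM : MaxAlt H 7 φ) (hc : Cover φ) :
    Representation.invariants (MonoidHom.comp (LK F) φ) = ⊥ := by
  by_contra hne
  obtain ⟨h, hh, hconj⟩ := N7.Tau.exists_swap h2 h5 hM hne
  have hφ := hM.inj
  obtain ⟨z, hz1, hz, hzad, -⟩ := id hc
  have hzV : V F z = -1 := neg_of hz
  obtain ⟨T, hT⟩ := ad_surjective h
  let q1 : ↥(alternatingGroup (Fin 7)) := ⟨p1, mem_alternatingGroup.2 p1_sign⟩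
  let q2 : ↥(alternatingGroup (Fin 7)) := ⟨p2, mem_alternatingGroup.2 p2_sign⟩
  let q3 : ↥(alternatingGroup (Fin 7)) := ⟨p3, mem_alternatingGroup.2 p3_sign⟩
  obtain ⟨A, hA⟩ := ad_surjective (φ q1)
  obtain ⟨G, hG⟩ := ad_surjective (φ q3)
  obtain ⟨R, hR, hR3⟩ := odd_lift (k := 3) (g := φ q2) (by decide)
    (by rw [← map_pow, show q2 ^ 3 = 1 from Subtype.ext p2_cube, map_one])
  have hA2 : V F (A * A) = -1 := hc.sq (by norm_num) hφ (a := q1) p1_type hA
  have hAz : A * A = z := V_injective (hA2.trans hzV.symm)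
  have e1 : h * φ q1 * h⁻¹ = φ q1 := hconj q1 q1 p1_comm
  have e2 : h * φ q2 * h⁻¹ = φ q2 := hconj q2 q2 p2_comm
  -- `T` commutes with `R`
  have hTR : T * R * T⁻¹ = R := odd_unique (k := 3) (by decide) (by rw [map_mul, map_mul, map_inv, hT, hR, e2])
    (by rw [conj_pow, hR3, mul_one, mul_inv_cancel]) hR3
  have hw : ad F (T * A * T⁻¹ * A⁻¹) = 1 := by
    rw [map_mul, map_mul, map_mul, map_inv, map_inv, hT, hA, e1, mul_inv_cancel]
  rcases ker_cases hzV hw with hw | hw
  · -- `T` commutes with `A` : impossible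
    have hTA : T * A = A * T := by
      rw [mul_inv_eq_one, mul_inv_eq_iff_eq_mul] at hw
      exact hw
    -- `h * h = 1`
    have hcen : ∀ g : ↥(chevE7.group F), (∀ c : ↥(alternatingGroup (Fin 7)), g * φ c = φ c * g) → g ∈ H → g = 1 := by
      intro g hg _
      exact centralizer_eq hM (by norm_num) fun c => (hg c).symm
    have hh1 : h * h = 1 := by
      refine hcen _ (fun c => ?_) (H.mul_mem hh hh)
      have hmem : swap (0 : Fin 7) 1 * (c : Perm (Fin 7)) * (swap (0 : Fin 7) 1)⁻¹ ∈ alternatingGroup (Fin 7) := N7.Tau.conj_mem c.2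
      have f1 := hconj c ⟨_, hmem⟩ rfl
      have f2 := hconj ⟨_, hmem⟩ c (by
        show (c : Perm (Fin 7)) = swap (0 : Fin 7) 1 * (swap (0 : Fin 7) 1 * (c : Perm (Fin 7)) * (swap (0 : Fin 7) 1)⁻¹) * (swap (0 : Fin 7) 1)⁻¹
        rw [swap_inv]
        have : swap (0 : Fin 7) 1 * (swap (0 : Fin 7) 1 * (c : Perm (Fin 7)) * swap (0 : Fin 7) 1) * swap (0 : Fin 7) 1 =
            (swap (0 : Fin 7) 1 * swap (0 : Fin 7) 1) * (c : Perm (Fin 7)) * (swap (0 : Fin 7) 1 * swap (0 : Fin 7) 1) := by group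
        rw [this, swap_mul_self, one_mul, mul_one])
      rw [← f1] at f2
      rw [← mul_inv_eq_iff_eq_mul]
      conv_rhs => rw [← f2]
      group
    -- the conjugate of `h` by `(0 2)(1 3)` is `h (0 1)(2 3)`
    have hu : (h * φ q1)⁻¹ * (φ q3 * h * (φ q3)⁻¹) = 1 := by
      refine hcen _ (fun c => ?_) ?_
      · have hmem : swap (0 : Fin 7) 1 * p1 * (c : Perm (Fin 7)) * (swap (0 : Fin 7) 1 * p1)⁻¹ ∈ alternatingGroup (Fin 7) :=
          N7.Tau.conj_mem c.2
        have hmem1 : p1 * (c : Perm (Fin 7)) * p1⁻¹ ∈ alternatingGroup (Fin 7) := N7.Tau.conj_mem c.2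
        have f1 := hconj ⟨_, hmem1⟩ ⟨_, hmem⟩ (by
          show swap (0 : Fin 7) 1 * p1 * (c : Perm (Fin 7)) * (swap (0 : Fin 7) 1 * p1)⁻¹ =
            swap (0 : Fin 7) 1 * (p1 * (c : Perm (Fin 7)) * p1⁻¹) * (swap (0 : Fin 7) 1)⁻¹
          group)
        have g1 : φ ⟨_, hmem1⟩ = φ q1 * φ c * (φ q1)⁻¹ := by
          rw [← map_inv, ← map_mul, ← map_mul]
          rfl
        have hmem3 : p3⁻¹ * (c : Perm (Fin 7)) * p3⁻¹⁻¹ ∈ alternatingGroup (Fin 7) := N7.Tau.conj_mem c.2
        have hmem4 : p3⁻¹ * (swap (0 : Fin 7) 1 * p1 * (c : Perm (Fin 7)) * (swap (0 : Fin 7) 1 * p1)⁻¹) * p3⁻¹⁻¹ ∈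
            alternatingGroup (Fin 7) := N7.Tau.conj_mem hmem
        have f2 := hconj ⟨_, hmem3⟩ ⟨_, hmem4⟩ (by
          show p3⁻¹ * (swap (0 : Fin 7) 1 * p1 * (c : Perm (Fin 7)) * (swap (0 : Fin 7) 1 * p1)⁻¹) * p3⁻¹⁻¹ =
            swap (0 : Fin 7) 1 * (p3⁻¹ * (c : Perm (Fin 7)) * p3⁻¹⁻¹) * (swap (0 : Fin 7) 1)⁻¹
          rw [← p3_conj]
          group)
        have g3 : φ ⟨_, hmem3⟩ = (φ q3)⁻¹ * φ c * φ q3 := by
          rw [← map_inv, ← map_mul, ← map_mul]
          congr 1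
        have g4 : φ ⟨_, hmem4⟩ = (φ q3)⁻¹ * φ ⟨_, hmem⟩ * φ q3 := by
          rw [← map_inv, ← map_mul, ← map_mul]
          congr 1
        rw [g1] at f1
        rw [g3, g4] at f2
        have k1 : (h * φ q1) * φ c * (h * φ q1)⁻¹ = φ ⟨_, hmem⟩ := by
          rw [← f1]
          group
        have k2 : (φ q3 * h * (φ q3)⁻¹) * φ c * (φ q3 * h * (φ q3)⁻¹)⁻¹ = φ ⟨_, hmem⟩ := by
          have : (φ q3 * h * (φ q3)⁻¹) * φ c * (φ q3 * h * (φ q3)⁻¹)⁻¹ =
              φ q3 * (h * ((φ q3)⁻¹ * φ c * φ q3) * h⁻¹) * (φ q3)⁻¹ := by group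
          rw [this, f2]
          group
        have k3 : (h * φ q1) * φ c * (h * φ q1)⁻¹ =
            (φ q3 * h * (φ q3)⁻¹) * φ c * (φ q3 * h * (φ q3)⁻¹)⁻¹ := k1.trans k2.symm
        generalize h * φ q1 = a at k3 ⊢
        generalize φ q3 * h * (φ q3)⁻¹ = b at k3 ⊢
        have k4 : φ c = a⁻¹ * (a * φ c * a⁻¹) * a := by group
        have k5 : a⁻¹ * b * φ c = a⁻¹ * (b * φ c * b⁻¹) * b := by group
        rw [k5, ← k3]
        group
      · exact H.mul_mem (H.inv_mem (H.mul_mem hh (hM.le ⟨q1, rfl⟩)))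
          (H.mul_mem (H.mul_mem (hM.le ⟨q3, rfl⟩) hh) (H.inv_mem (hM.le ⟨q3, rfl⟩)))
    have hw' : ad F ((T * A)⁻¹ * (G * T * G⁻¹)) = 1 := by
      rw [map_mul, map_inv, map_mul, map_mul, map_mul, map_inv, hT, hA, hG]
      exact hu
    set w := (T * A)⁻¹ * (G * T * G⁻¹) with hwdef
    have hw2 := ker_sq hw'
    have hwc := ker_comm hw'
    have hGT : G * T * G⁻¹ = T * A * w := by rw [hwdef, mul_inv_cancel_left]
    have hT2 : ad F (T * T) = 1 := by rw [map_mul, hT, hh1]
    have hT2c := ker_comm hT2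
    have k1 : G * (T * T) * G⁻¹ = T * T := by
      rw [hT2c G, mul_inv_cancel_right]
    have k2 : G * (T * T) * G⁻¹ = T * T * z := by
      calc G * (T * T) * G⁻¹ = (G * T * G⁻¹) * (G * T * G⁻¹) := by group
        _ = T * A * w * (T * A * w) := by rw [hGT]
        _ = T * A * (w * (T * A)) * w := by group
        _ = T * A * (T * A * w) * w := by rw [hwc (T * A)]
        _ = T * (A * T) * A * (w * w) := by group
        _ = T * (T * A) * A := by rw [hw2, mul_one, hTA]
        _ = T * T * (A * A) := by group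
        _ = T * T * z := by rw [hAz]
    apply hz1
    have k3 : T * T * z = T * T := k2.symm.trans k1
    exact mul_eq_left.1 k3
  · -- `T` inverts the sign of `A R`
    have hTA : T * A * T⁻¹ = z * A := by
      rw [← hw, inv_mul_cancel_right]
    have hY : T * (A * R) * T⁻¹ = z * (A * R) := by
      calc T * (A * R) * T⁻¹ = (T * A * T⁻¹) * (T * R * T⁻¹) := by group
        _ = z * A * R := by rw [hTA, hTR]
        _ = z * (A * R) := mul_assoc _ _ _
    have hY4 : V F ((A * R) ^ 4) = -1 := by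
      have f1 := hc.sq (by norm_num) hφ (a := q1 * q2 * (q1 * q2)) p12_type (x := A * R * (A * R))
        (by rw [map_mul, map_mul, hA, hR, map_mul, map_mul])
      have f2 : (A * R) ^ 4 = A * R * (A * R) * (A * R * (A * R)) := by
        simp only [pow_succ, pow_zero, one_mul, mul_assoc]
      rw [f2]
      exact f1
    refine N6B.no_neg h2 (k := A * R) (g := T) hY4 ?_
    rw [hY, map_mul, hzV]
    refine LinearMap.ext fun v => ?_
    rfl

end Cfsg.Agent.R2.T1.N7C
end

-- part: R2/T1/N7C/Three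
section
/-!
# S5929, box sev3c: `n = 7`, cover, characteristic 3 (helper5; theorem H: helper23)
-/

set_option autoImplicit false
set_option maxRecDepth 100000

universe u

namespace Cfsg.Agent.R2.T1.N7C

open Equiv Equiv.Perm Cfsg Cfsg.Lie Module
open Cfsg.Agent.H943.E7V.Block (D1 rho)
open Cfsg.Agent.H952.F4 (ev es MaxAlt)
open Cfsg.Agent.R2.T1

/-- **sev3c** -/
theorem sev3c {F : Type u} [Field F] [Finite F] (H : Subgroup ↥(chevE7.group F))
    (φ : ↥(alternatingGroup (Fin 7)) →* ↥(chevE7.group F)) (hM : MaxAlt H 7 φ) (hc : Cover φ) (h3 : (3 : F) = 0) :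
    False := by
  have h2 : (2 : F) ≠ 0 := by
    intro h2
    have h1 : (1 : F) = 0 := by linear_combination h3 - h2
    exact one_ne_zero h1
  have h5 : (5 : F) ≠ 0 := by
    intro h5
    have h1 : (1 : F) = 0 := by linear_combination 2 * h3 - h5
    exact one_ne_zero h1
  have hinv := no_inv7c h2 h5 hM hc
  refine sev3c_of hM.inj hc h3 hinv fun x y z hx hy hz h45 h133 => ?_
  refine N7H.main (ρ := MonoidHom.comp (LK F) φ) h3 (kf F)
    (fun v hv => kf_nondeg h2 fun w => by rw [kf_comm]; exact hv w) (fun g v w => ?_) hx hy hz h45 ?_ hinv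
  · obtain ⟨g', hg'⟩ := ad_surjective (φ g)
    have := kf_L g' v w
    rw [L_eq, hg'] at this
    exact this
  · rw [finrank_L]
    exact h133

end Cfsg.Agent.R2.T1.N7C
end
end

-- part: R2/T1/Main29/Part
section
set_option linter.all false

-- part: R2/T1/Main29/Skel
section
/-!
# S5929: the assembly (helper24)

`Boxes F` : the statements which are to be supplied; `of_boxes : Boxes F → S5929 for F`.
-/

set_option autoImplicit false

namespace Cfsg.Agent.R2.T1.Main29

open Cfsg Cfsg.Lie Module Equiv Equiv.Perm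
open Cfsg.Agent.H943.E7V.Block (D1 rho)
open Cfsg.Agent.H952.F4 (ev es MaxAlt)
open Cfsg.Agent.R2.T1

universe u

variable {F : Type u} [Field F]

/-- the missing statements -/
structure Boxes (F : Type u) [Field F] : Prop where
  /-- `n = 6`, `p = 2` -/
  six2 : ∀ (H : Subgroup ↥(chevE7.group F)) (φ : ↥(alternatingGroup (Fin 6)) →* ↥(chevE7.group F))
    (ψ : ↥(alternatingGroup (Fin 6)) →* Gh F), MaxAlt H 6 φ → Lift φ ψ → (2 : F) = 0 → False
  /-- `n = 6`, `p = 3`, lift -/
  six3 : ∀ (H : Subgroup ↥(chevE7.group F)) (φ : ↥(alternatingGroup (Fin 6)) →* ↥(chevE7.group F))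
    (ψ : ↥(alternatingGroup (Fin 6)) →* Gh F), MaxAlt H 6 φ → Lift φ ψ → (3 : F) = 0 → False
  /-- `n = 6`, `p = 3`, cover (box B) -/
  six3c : ∀ (H : Subgroup ↥(chevE7.group F)) (φ : ↥(alternatingGroup (Fin 6)) →* ↥(chevE7.group F)),
    MaxAlt H 6 φ → Cover φ → (3 : F) = 0 → False
  /-- `n = 7`, `p = 2` -/
  sev2 : ∀ (H : Subgroup ↥(chevE7.group F)) (φ : ↥(alternatingGroup (Fin 7)) →* ↥(chevE7.group F))
    (ψ : ↥(alternatingGroup (Fin 7)) →* Gh F), MaxAlt H 7 φ → Lift φ ψ → (2 : F) = 0 → False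
  /-- `n = 7`, `p = 3`, lift -/
  sev3 : ∀ (H : Subgroup ↥(chevE7.group F)) (φ : ↥(alternatingGroup (Fin 7)) →* ↥(chevE7.group F))
    (ψ : ↥(alternatingGroup (Fin 7)) →* Gh F), MaxAlt H 7 φ → Lift φ ψ → (3 : F) = 0 → False
  /-- `n = 7`, `p = 7`, lift -/
  sev7 : ∀ (H : Subgroup ↥(chevE7.group F)) (φ : ↥(alternatingGroup (Fin 7)) →* ↥(chevE7.group F))
    (ψ : ↥(alternatingGroup (Fin 7)) →* Gh F), MaxAlt H 7 φ → Lift φ ψ → (7 : F) = 0 → False
  /-- `n = 7`, `p ≥ 11`, lift -/
  sev11 : ∀ (H : Subgroup ↥(chevE7.group F)) (φ : ↥(alternatingGroup (Fin 7)) →* ↥(chevE7.group F))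
    (ψ : ↥(alternatingGroup (Fin 7)) →* Gh F), MaxAlt H 7 φ → Lift φ ψ →
    (2 : F) ≠ 0 → (3 : F) ≠ 0 → (5 : F) ≠ 0 → (7 : F) ≠ 0 → False
  /-- `n = 7`, `p = 3`, cover -/
  sev3c : ∀ (H : Subgroup ↥(chevE7.group F)) (φ : ↥(alternatingGroup (Fin 7)) →* ↥(chevE7.group F)),
    MaxAlt H 7 φ → Cover φ → (3 : F) = 0 → False
  /-- `n = 7`, `p ≥ 7`, cover -/
  sev7c : ∀ (H : Subgroup ↥(chevE7.group F)) (φ : ↥(alternatingGroup (Fin 7)) →* ↥(chevE7.group F)),
    MaxAlt H 7 φ → Cover φ → (2 : F) ≠ 0 → (3 : F) ≠ 0 → (5 : F) ≠ 0 → False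

theorem of_boxes [Fintype F] (hB : Boxes F) (p : ℕ) [Fact p.Prime] [CharP F p]
    (H : Subgroup ↥(Cfsg.Lie.chevE7.group F)) (hH : IsCoatom H) (n : ℕ) (hn : 5 ≤ n)
    (hA : Nonempty (↥(Cfsg.generalizedFittingSubgroup ↥H) ≃* ↥(alternatingGroup (Fin n)))) :
    5 ≤ p ∧ (n = 7 → p = 5) := by
  have hsimple : IsSimpleGroup ↥(chevE7.group F) := (S1054.result chevE7 (by simp)).1
  have : Finite ↥(chevE7.group F) := inferInstance
  have hpp : p.Prime := Fact.out
  have hdvd : ∀ m : ℕ, m.Prime → p ≠ m → (m : F) ≠ 0 := by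
    intro m hm hne h0
    exact hne ((Nat.prime_dvd_prime_iff_eq hpp hm).1 ((CharP.cast_eq_zero_iff F p m).1 h0))
  obtain ⟨φ, hM⟩ := Cfsg.Agent.H952.F4.MaxA.exists_maxAlt hH hn hA
  have hex := exists_lift hn hM.inj
  rcases Main.final H hH n hn hA with rfl | rfl
  · refine ⟨?_, by norm_num⟩
    by_contra hlt
    have hp23 : p = 2 ∨ p = 3 := by
      have h2 := hpp.two_le
      have h4 : p ≠ 4 := by
        rintro rfl
        exact absurd hpp (by decide)
      omega
    rcases hp23 with rfl | rfl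
    · have h2 : (2 : F) = 0 := by exact_mod_cast CharP.cast_eq_zero F 2
      rcases hex with ⟨ψ, hL⟩ | ⟨h2', -⟩
      · exact hB.six2 H φ ψ hM hL h2
      · exact h2' h2
    · have h3 : (3 : F) = 0 := by exact_mod_cast CharP.cast_eq_zero F 3
      rcases hex with ⟨ψ, hL⟩ | ⟨-, hc⟩
      · exact hB.six3 H φ ψ hM hL h3
      · exact hB.six3c H φ hM hc h3
  · suffices hp5 : p = 5 by
      subst hp5
      exact ⟨le_rfl, fun _ => rfl⟩
    by_contra hp5
    have h5 : (5 : F) ≠ 0 := by exact_mod_cast hdvd 5 (by norm_num) hp5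
    by_cases hp2 : p = 2
    · subst hp2
      have h2 : (2 : F) = 0 := by exact_mod_cast CharP.cast_eq_zero F 2
      rcases hex with ⟨ψ, hL⟩ | ⟨h2', -⟩
      · exact hB.sev2 H φ ψ hM hL h2
      · exact h2' h2
    have h2 : (2 : F) ≠ 0 := by exact_mod_cast hdvd 2 (by norm_num) hp2
    by_cases hp3 : p = 3
    · subst hp3
      have h3 : (3 : F) = 0 := by exact_mod_cast CharP.cast_eq_zero F 3
      rcases hex with ⟨ψ, hL⟩ | ⟨-, hc⟩
      · exact hB.sev3 H φ ψ hM hL h3
      · exact hB.sev3c H φ hM hc h3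
    have h3 : (3 : F) ≠ 0 := by exact_mod_cast hdvd 3 (by norm_num) hp3
    rcases hex with ⟨ψ, hL⟩ | ⟨-, hc⟩
    · by_cases hp7 : p = 7
      · subst hp7
        exact hB.sev7 H φ ψ hM hL (by exact_mod_cast CharP.cast_eq_zero F 7)
      · exact hB.sev11 H φ ψ hM hL h2 h3 h5 (by exact_mod_cast hdvd 7 (by norm_num) hp7)
    · exact hB.sev7c H φ hM hc h2 h3 h5

end Cfsg.Agent.R2.T1.Main29
end

-- part: R2/T1/Main29/Part
section
/-!
# S5929: the closed boxes (helper24)
-/

set_option autoImplicit false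

namespace Cfsg.Agent.R2.T1.Main29

open Cfsg Cfsg.Lie Module Equiv Equiv.Perm
open Cfsg.Agent.H943.E7V.Block (D1 rho)
open Cfsg.Agent.H952.F4 (ev es MaxAlt)
open Cfsg.Agent.R2.T1

universe u

/-- the boxes which are still open -/
structure Open (F : Type u) [Field F] : Prop where
  six2 : ∀ (H : Subgroup ↥(chevE7.group F)) (φ : ↥(alternatingGroup (Fin 6)) →* ↥(chevE7.group F))
    (ψ : ↥(alternatingGroup (Fin 6)) →* Gh F), MaxAlt H 6 φ → Lift φ ψ → (2 : F) = 0 → False
  six3 : ∀ (H : Subgroup ↥(chevE7.group F)) (φ : ↥(alternatingGroup (Fin 6)) →* ↥(chevE7.group F))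
    (ψ : ↥(alternatingGroup (Fin 6)) →* Gh F), MaxAlt H 6 φ → Lift φ ψ → (3 : F) = 0 → False
  sev2 : ∀ (H : Subgroup ↥(chevE7.group F)) (φ : ↥(alternatingGroup (Fin 7)) →* ↥(chevE7.group F))
    (ψ : ↥(alternatingGroup (Fin 7)) →* Gh F), MaxAlt H 7 φ → Lift φ ψ → (2 : F) = 0 → False
  sev3 : ∀ (H : Subgroup ↥(chevE7.group F)) (φ : ↥(alternatingGroup (Fin 7)) →* ↥(chevE7.group F))
    (ψ : ↥(alternatingGroup (Fin 7)) →* Gh F), MaxAlt H 7 φ → Lift φ ψ → (3 : F) = 0 → False
  sev3c : ∀ (H : Subgroup ↥(chevE7.group F)) (φ : ↥(alternatingGroup (Fin 7)) →* ↥(chevE7.group F)),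
    MaxAlt H 7 φ → Cover φ → (3 : F) = 0 → False

theorem boxes_of {F : Type u} [Field F] [Finite F] (hO : Open F) : Boxes F where
  six2 := hO.six2
  six3 := hO.six3
  six3c _ _ hM hc h3 := N6B.six3c hM hc h3
  sev2 := hO.sev2
  sev3 := hO.sev3
  sev7 _ _ _ hM hL h7 := N7.sev7 hM hL h7
  sev11 _ _ _ hM hL h2 h3 h5 h7 := N7.sev11 hM hL h2 h3 h5 h7
  sev3c := hO.sev3c
  sev7c H φ hM hc h2 h3 h5 := N7C.sev7c H φ hM hc h2 h3 h5

end Cfsg.Agent.R2.T1.Main29
end
end
end

-- part: S5929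
section
set_option linter.all false

-- part: R2/T1/Main29/Fin
section
/-!
# S5929: all boxes (helper24)
-/

set_option autoImplicit false

namespace Cfsg.Agent.R2.T1.Main29

open Cfsg Cfsg.Lie Module Equiv Equiv.Perm
open Cfsg.Agent.R2.T1

universe u

theorem open_all {F : Type u} [Field F] [Finite F] : Open F where
  six2 _ _ _ hM hL h2 := N6T.six2 hM hL h2
  six3 _ _ _ hM hL h3 := N6L.six3 hM hL h3
  sev2 _ _ _ hM hL h2 := N7.sev2 hM hL h2
  sev3 _ _ _ hM hL h3 := N7.sev3 hM hL h3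
  sev3c H φ hM hc h3 := N7C.sev3c H φ hM hc h3

theorem final {F : Type u} [Field F] [Fintype F] (p : ℕ) [Fact p.Prime] [CharP F p]
    (H : Subgroup ↥(Cfsg.Lie.chevE7.group F)) (hH : IsCoatom H) (n : ℕ) (hn : 5 ≤ n)
    (hA : Nonempty (↥(Cfsg.generalizedFittingSubgroup ↥H) ≃* ↥(alternatingGroup (Fin n)))) :
    5 ≤ p ∧ (n = 7 → p = 5) :=
  of_boxes (boxes_of open_all) p H hH n hn hA

end Cfsg.Agent.R2.T1.Main29
end

-- part: S5929
section
set_option autoImplicit false
open Cfsg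

namespace Cfsg.Agent.S5929

/-- Let F be a finite field of characteristic p and let G be the Chevalley group of type E₇ over F (generated by its root elements in the adjoint representation; the simple group E₇(q)). If H is a maximal subgroup of G whose generalized Fitting subgroup is isomorphic to an alternating group of degree n ≥ 5, then p ≥ 5, and if n = 7 then p = 5. -/
theorem result
    {F : Type*} [Field F] [Fintype F] (p : ℕ) [Fact p.Prime] [CharP F p] (H : Subgroup ↥(Cfsg.Lie.chevE7.group F)) (hH : IsCoatom H)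
    (n : ℕ) (hn : 5 ≤ n) (hA : Nonempty (↥(Cfsg.generalizedFittingSubgroup ↥H) ≃* ↥(alternatingGroup (Fin n)))) :
    5 ≤ p ∧ (n = 7 → p = 5) :=
  Cfsg.Agent.R2.T1.Main29.final p H hH n hn hA

end Cfsg.Agent.S5929
end
end
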