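import Cfsg.Agent.R2.H1.F4.AlphaG_m3
import Cfsg.Agent.R2.F4N.CaseD_mg_m3
import Cfsg.Agent.R2.H27.F4Th.Nn_m3
import Cfsg.Agent.R2.F4N.Q13f_m3
import Cfsg.Agent.R2.H27.F4Th.Main
import Cfsg.Agent.R2.H27.F4Th.Exc_m3
import Cfsg.Agent.R2.H27.F4Th.SqY_m3
import Cfsg.Agent.R2.H22.Q7
import Cfsg.Agent.R2.H22.P11_m3
import Cfsg.Agent.R2.F4L.N22
import Cfsg.Agent.R2.F4P.Mn7_m3
import Cfsg.Statements.S5931
import Cfsg.Agent.Prune
set_option linter.all false

section
prune_inst 0x7fffffffbbfcfddfdfff7e7fffdedffc39931fffe6dff94bffe86bff0b3f13984de5fbad0de0b0fe0fd6e09410b87843f97eeeffeb6bdc7ffffd5ff41ffbee7ff5f7b50951f78c340fbc0fff03f0778e7f3fffffffffffffffffffffffffffaeffbfffffffff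

-- part: R2/F4T/Asm
section
prune_inst 0x302202000018000012003c62ce000002002b000079400b0c0ec63901a0410f21f4700b0210f6b8c470394068110000000210000000003400411800a0808742008218ad0434000f808884000000000000000000000000000000051004000000000
set_option linter.all false
open scoped Cfsg.Agent.FastGrp

/-!
# S5931: assembly for `p ≥ 5` (helper6)

* `cx` : the context `Cx` for `Rk`; `em0` : `Em` for `R0`; `prd0` : the product on `J₀`;
* `exists_tb` : the table; `fin5` : the conclusion from the table.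
-/

set_option autoImplicit false
set_option linter.unusedSectionVars false

namespace Cfsg.Agent.R2.F4T

open Cfsg Cfsg.Lie Module Matrix
open Cfsg.Agent.ChevalleyStructure.E6Min.Basic
open Cfsg.Agent.H952.F4 Cfsg.Agent.H952.F4.Jord
open Cfsg.Agent.H952.F4.FixV (W0 mem_W0 finrank_W0 u0_ne_zero)
open Cfsg.Agent.R2.F4M
open Cfsg.Agent.R2.H9.E6
open Cfsg.Agent.GpExc.Field (emb)
open Cfsg.Agent.R2.H28.SL2 Cfsg.Agent.H943.RepAdd
open Cfsg.Agent.R2.SL2 (typ tyl coe_tyl typ_step typ_zero tyl_eq_nil mem_typ listF4)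
open Cfsg.Agent.R2.GEO (tfB tfB_apply)
open Cfsg.Agent.R2.F4L (Cx Em stV j_stV stV_comm stV_eqv)

universe u v

section bridge

variable {F : Type u} [Field F] [Fintype F] {K : Type v} [Field K]
variable (φ : ProjectiveSpecialLinearGroup (Fin 2) K →* ↥(chevF4.group F)) {k : Type u} [Field k] [Algebra F k]

/-- the two forms of the action of `L` on `J` over `k` -/
theorem V_psik (g : _root_.Matrix.SpecialLinearGroup (Fin 2) K) (x : I27 → k) :
    Cfsg.Agent.H163.E6.V k (F4N.ψk k φ (pq g)) x = Rk (algebraMap F k) φ g x := by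
  have h : Cfsg.Agent.H163.E6.V k (F4N.ψk k φ (pq g)) = Rk (algebraMap F k) φ g := by
    refine LinearMap.pi_ext' fun i => LinearMap.ext_ring ?_
    have e : (LinearMap.single k (fun _ : I27 => k) i) 1 = fun j => algebraMap F k ((Pi.single i (1 : F) : I27 → F) j) := by
      funext j
      rw [LinearMap.single_apply]
      by_cases hij : j = i
      · subst hij
        rw [Pi.single_eq_same, Pi.single_eq_same, map_one]
      · rw [Pi.single_eq_of_ne hij, Pi.single_eq_of_ne hij, map_zero]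
    rw [LinearMap.comp_apply, LinearMap.comp_apply, e, Rk_map]
    have h1 := Cfsg.Agent.H65.E6Emb.V_emb (algebraMap F k) (zt F (φ (pq g))) (Pi.single i (1 : F))
    rw [V_zt] at h1
    exact h1
  rw [h]

end bridge

section cfg

variable {F : Type u} [Field F] [Fintype F] {K : Type v} [Field K] [Fintype K] {p a b : ℕ}
variable {H : Subgroup ↥(chevF4.group F)} {φ : ProjectiveSpecialLinearGroup (Fin 2) K →* ↥(chevF4.group F)}
variable {k : Type u} [Field k] [DecidableEq k] [DecidableEq K] [IsAlgClosed k]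
variable [Fact p.Prime] [CharP k p] [CharP K p] {ι : K →+* k}

/-- the context -/
theorem cx [Algebra F k] [Algebra.IsAlgebraic F k] (h : _root_.Cfsg.Agent.R2.F4M.Cfg p a b H φ) (hp5 : 5 ≤ p) :
    Cx ι p a (Rk (algebraMap F k) φ) where
  act := ⟨fun a x => (Rk_sh _ _ a x).symm, fun a => Rk_u0 _ _ a⟩
  hp5 := hp5
  card := h.cardK
  seven := h.seven
  fix y hy := h.nofix_rk _ hy
  white W hst hW := F4N.white h (by omega) (h.fixU k) hW fun t x hx => by
    obtain ⟨g, rfl⟩ := pq_surjective t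
    rw [V_psik]
    exact hst g x hx

variable (f : F →+* k)

/-- `J₀` -/
theorem em0 : Em (Rk f φ) (R0 f φ) (W0 k).subtype where
  inj := (W0 k).injective_subtype
  tr x := (mem_W0 _).1 x.2
  sur y hy := ⟨⟨y, (mem_W0 _).2 hy⟩, rfl⟩
  eqv _ _ := rfl

/-- the product on `J₀` -/
theorem prd0 (C : Cx ι p a (Rk f φ)) : Prd (R0 f φ) (tf0 k) (stV (em0 (φ := φ) f) C.three) where
  comm := stV_comm _ _
  eqv := stV_eqv _ C.act _
  four x y z t := by
    have h := (H1.F4.four C.two C.three (x := (x : I27 → k)) (y := (y : I27 → k)) (z := (z : I27 → k)) (w := (t : I27 → k))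
      ((mem_W0 _).1 x.2) ((mem_W0 _).1 y.2) ((mem_W0 _).1 z.2) ((mem_W0 _).1 t.2) :)
    simp only [tf0_apply]
    have e : ∀ x y : ↥(W0 k), ((stV (em0 (φ := φ) f) C.three x y : ↥(W0 k)) : I27 → k) = H1.F4.st (x : I27 → k) y :=
      fun x y => j_stV (em0 (φ := φ) f) C.three x y
    rw [e, e, e, e, e, e]
    exact h
  white X hX h := C.white_bot (em0 (φ := φ) f) hX fun x hx => H1.F4.sh_of_sq C.two C.three ((mem_W0 _).1 x.2) (by
    have h1 := j_stV (em0 (φ := φ) f) C.three x x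
    rw [h x hx, map_zero] at h1
    exact h1.symm)

/-- **the table** -/
theorem exists_tb (h : _root_.Cfsg.Agent.R2.F4M.Cfg p a b H φ) (C : Cx ι p a (Rk f φ)) (R : Rl ι p a (R0 f φ) (tf0 k)) :
    Tb ι p a (R0 f φ) (tf0 k) := by
  obtain ⟨W, hW, hw⟩ := h.pat5 (ι := ι) f C.hp5
  exact table h.cardK hw (H27.F4Th.sd_R0 C.three) R (prd0 f C) C.hp5 (by rw [← h.cardK]; exact h.seven) finrank_W0
    (fun x hx => h.fix0 f C.three hx) hW

/-- **the conclusion** -/
theorem fin5 (h : _root_.Cfsg.Agent.R2.F4M.Cfg p a b H φ) (C : Cx ι p a (Rk f φ)) (T : Tb ι p a (R0 f φ) (tf0 k))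
    (hA : p = 7 → ∀ r < a, ∀ (Y M T X : Submodule k ↥(W0 k)) (_ : ∀ g, ∀ x ∈ Y, R0 f φ g x ∈ Y)
      (hM : ∀ g, ∀ x ∈ M, R0 f φ g x ∈ M) (hT : ∀ g, ∀ x ∈ T, R0 f φ g x ∈ T) (hX : ∀ g, ∀ x ∈ X, R0 f φ g x ∈ X),
      Nd (tf0 k) Y → Nd (tf0 k) M → Nd (tf0 k) T → (∀ x ∈ Y, ∀ y ∈ M, tf0 k x y = 0) →
      (∀ x ∈ Y, ∀ y ∈ T, tf0 k x y = 0) → (∀ x ∈ M, ∀ y ∈ T, tf0 k x y = 0) → Y ⊔ M ⊔ T = ⊤ →
      IsV (V := ↥M) ι p ((subRep (R0 f φ) M hM :)) (4 * p ^ r) → IsV (V := ↥T) ι p ((subRep (R0 f φ) T hT :)) (6 * p ^ r) →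
      X ≤ Y → IsV (V := ↥X) ι p ((subRep (R0 f φ) X hX :)) (4 * p ^ r) → Iso (tf0 k) X →
      (∀ (Z : Submodule k ↥(W0 k)) (hZ : ∀ g, ∀ x ∈ Z, R0 f φ g x ∈ Z) (c : ℕ),
        IsV (V := ↥Z) ι p ((subRep (R0 f φ) Z hZ :)) c → Z ≤ Y → Z = X) → Module.finrank k Y = 14 →
      (cf (Sy.{u, u, v} ι p) (R0 f φ)).count (4 * p ^ r) = 3 →
      (cf (Sy.{u, u, v} ι p) (R0 f φ)).count (6 * p ^ r) = 1 →
      (∀ c, c ≠ 4 * p ^ r → (cf (Sy.{u, u, v} ι p) (R0 f φ)).count c ≤ 1) → False) : 13 ≤ p ∧ a = b := by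
  have S := H27.F4Th.sd_R0 (f := f) (φ := φ) C.three
  cases T with
  | alpha hp r hr A B M M' hA hB hM hM' hAV hBV hMV hMV' hsup =>
    refine (H1.F4.no_alpha h hp ?_ (σ := R0 f φ) (j := (W0 k).subtype) (fun g x => rfl) (em0 (φ := φ) f).tr (em0 (φ := φ) f).sur hAV hBV hMV hMV' hsup).elim
    rw [h.cardK]
    exact Nat.le_self_pow (by have := h.ha; omega) p
  | theta hp r hr c ht hcf hnd => exact (H27.F4Th.no_thetaB h C hp hr ht hcf hnd).elim
  | e hp r hr s hs hcf hnd =>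
    have h1 := S.all_soc (ι := ι) (p := p) hnd
    exact ⟨by omega, F4N.caseE (f := f) ι h hp hr hs hcf (h1 _ (by rw [hcf]; exact Multiset.mem_cons_self _ _))
      (h1 _ (by rw [hcf]; exact Multiset.mem_cons_of_mem (Multiset.mem_singleton_self _)))⟩
  | c hp ha r hr hcf X hX hV hu =>
    exact ⟨by omega, F4N.caseC (f := f) ι h hp ha hr hcf hV fun Y hY c hc => hu Y hY hc.irr⟩
  | d hp ha hcf X hX hV hu => exact ⟨by omega, F4N.caseD (f := f) ι h hp ha hcf hV hu C.white⟩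
  | theta7 hp ha r hr Y hY hO hYn hYc c ht hV => exact (H27.F4Th.no_thetaF h C hp ha hr ht hY hYn hYc hV).elim
  | alpha7 hp r hr Y M T X hY hM hT hX hYn hMn hTn hYM hYT hMT hsup hMV hTV hXY hXV hXi hu hd h4 h6 hc1 =>
    exact (hA hp r hr Y M T X hY hM hT hX hYn hMn hTn hYM hYT hMT hsup hMV hTV hXY hXV hXi hu hd h4 h6 hc1).elim

end cfg

end Cfsg.Agent.R2.F4T

private theorem dce_71c4cca2cbe6 : _root_.True := by
  try have : _root_.True := by simp only [_root_.Cfsg.Agent.R2.F4L.stV.congr_simp]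
  exact _root_.True.intro
end

-- part: R2/F4T/Asm_mg
section

end

-- part: R2/F4L/N7a
section
prune_inst 0x440302200000000000012001c66ca0000000008000028000f0c0e802a0080400820a4b0050210a680840831006811100000420000000a00000001180080000102000010ac001a0000000084000000000000000000000000000000010004000000000
set_option linter.all false
open scoped Cfsg.Agent.FastGrp

/-!
# `p = 7` : the Weyl module of highest weight `8` (helper2, S5931)

* `top_mem` : a submodule containing `β(x_1, x_1)` contains `β(x_4, x_4)`;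
* `Yt`, `ts_Yt` : the submodule of type `(4, i)`;
* `cf_top8` : the quotient has type `p^i + p^(i+1)`.
-/

set_option autoImplicit false
set_option linter.unusedSectionVars false
set_option linter.unusedVariables false

namespace Cfsg.Agent.R2.F4L

open Cfsg.Lie
open Cfsg.Agent.ChevalleyStructure.E6Min.Tables Cfsg.Agent.ChevalleyStructure.E6Min.Basic
open Cfsg.Agent.H952.F4 (sh cr tf tr1 u0)
open Cfsg.Agent.H952.F4.Jord
open Cfsg.Agent.H943.SL2Rel Cfsg.Agent.H943.SL2Mod Cfsg.Agent.R2.H28.SL2 Cfsg.Agent.H943.RepAdd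
open Cfsg.Agent.R2.F4T (Iso Nd SD)

universe u v w

variable {k : Type u} [Field k] [DecidableEq k] {K : Type w} [Field K] [Fintype K] [DecidableEq K] {ι : K →+* k}
variable {p : ℕ} [Fact p.Prime] [CharP k p] [CharP K p] {a : ℕ}

section Sq

variable {V : Type v} [AddCommGroup V] [Module k V] {σ : Representation k (Matrix.SpecialLinearGroup (Fin 2) K) V}
variable {V' : Type*} [AddCommGroup V'] [Module k V'] {τ : Representation k (Matrix.SpecialLinearGroup (Fin 2) K) V'}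
variable {i : ℕ} {x : ℕ → V}
variable {β : V →ₗ[k] V →ₗ[k] V'} (hs : ∀ x y, β x y = β y x) (hβ : ∀ g x y, β (σ g x) (σ g y) = τ g (β x y))

include hs hβ in
/-- **the trick** -/
theorem top_mem (hQ : 7 ≤ Fintype.card K) (hx : TS ι p σ 4 i x) {M : Submodule k V'} (hM : ∀ g, ∀ z ∈ M, τ g z ∈ M)
    (h : β (x 1) (x 1) ∈ M) : β (x 4) (x 4) ∈ M := by
  refine poly_mem (ι := ι) (p := p) (N := 7) hQ i (c := fun s => match s with
    | 0 => β (x 1) (x 1)
    | 1 => (6 : k) • β (x 1) (x 2)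
    | 2 => (9 : k) • β (x 2) (x 2) + (6 : k) • β (x 1) (x 3)
    | 3 => (18 : k) • β (x 2) (x 3) + (2 : k) • β (x 1) (x 4)
    | 4 => (9 : k) • β (x 3) (x 3) + (6 : k) • β (x 2) (x 4)
    | 5 => (6 : k) • β (x 3) (x 4)
    | 6 => β (x 4) (x 4)
    | _ => 0) (fun t => ?_) 6 (by norm_num)
  have h1 := hM (u t) _ h
  rw [← hβ, ts4_u1 hx] at h1
  simp only [map_add, map_smul, LinearMap.add_apply, LinearMap.smul_apply] at h1
  rw [hs (x 2) (x 1), hs (x 3) (x 1), hs (x 4) (x 1), hs (x 3) (x 2), hs (x 4) (x 2), hs (x 4) (x 3)] at h1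
  simp only [Finset.sum_range_succ, Finset.sum_range_zero, zero_add]
  convert h1 using 1
  module

end Sq

section Y

variable {V : Type v} [AddCommGroup V] [Module k V] {σ : Representation k (Matrix.SpecialLinearGroup (Fin 2) K) V}
variable {i : ℕ} {D : ℕ → V}

/-- the submodule of type `(4, i)` -/
def Yt (D : ℕ → V) : ℕ → V := fun s => match s with
  | 0 => D 2
  | 1 => -D 3
  | 2 => D 4
  | 3 => -D 5
  | 4 => D 6
  | _ => 0

theorem ts_Yt (hp : p = 7) (hD : WT ι p σ 8 i D) : TS ι p σ 4 i (Yt D) := by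
  have h7 : (7 : k) = 0 := by
    have := CharP.cast_eq_zero k p
    rw [hp] at this
    exact_mod_cast this
  refine ts_of_bot (by omega) (fun s hs' => ?_) (fun t => ?_) (fun b => ?_) (fun s hs' => ?_)
  · match s with
    | 0 | 1 | 2 | 3 | 4 => omega
    | s + 5 => rfl
  · show σ (u t) (D 2) = _
    rw [hD.u 2 (by norm_num)]
    simp only [show 8 - 2 + 1 = 7 by norm_num, Finset.sum_range_succ, Finset.sum_range_zero, zero_add, Yt]
    have e : ∀ n m c : ℕ, n.choose m = c → (n.choose m : k) = (c : k) := fun n m c h => by rw [h]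
    rw [e (2 + 0) 2 1 (by decide), e (2 + 1) 2 3 (by decide), e (2 + 2) 2 6 (by decide), e (2 + 3) 2 10 (by decide),
      e (2 + 4) 2 15 (by decide), e (2 + 5) 2 21 (by decide), e (2 + 6) 2 28 (by decide), e 4 0 1 (by decide),
      e 4 1 4 (by decide), e 4 3 4 (by decide), e 4 4 1 (by decide)]
    push_cast
    generalize ι t ^ p ^ i = r
    match_scalars <;> first
      | ring1
      | linear_combination r * h7
      | linear_combination (2 * r ^ 3) * h7
      | linear_combination (2 * r ^ 4) * h7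
      | linear_combination (3 * r ^ 5) * h7
      | linear_combination (4 * r ^ 6) * h7
  · show σ (h b) (D 2) = ((ι b ^ p ^ i)⁻¹) ^ 4 • D 2
    have hb0 : ι (b : K) ^ p ^ i ≠ 0 := pow_ne_zero _ ((map_ne_zero ι).2 b.ne_zero)
    rw [hD.h 2 (by norm_num)]
    congr 1
    norm_num
    field_simp
  · have hs'' : s = 0 ∨ s = 1 ∨ s = 2 ∨ s = 3 ∨ s = 4 := by omega
    rcases hs'' with rfl | rfl | rfl | rfl | rfl
    all_goals
      simp only [Yt, map_neg]
      rw [hD.w _ (by norm_num)]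
      norm_num

theorem Yt_mem (D : ℕ → V) (s : ℕ) : Yt D s ∈ Submodule.span k (Set.range D) := by
  match s with
  | 0 => exact Submodule.subset_span ⟨2, rfl⟩
  | 1 => exact Submodule.neg_mem _ (Submodule.subset_span ⟨3, rfl⟩)
  | 2 => exact Submodule.subset_span ⟨4, rfl⟩
  | 3 => exact Submodule.neg_mem _ (Submodule.subset_span ⟨5, rfl⟩)
  | 4 => exact Submodule.subset_span ⟨6, rfl⟩
  | s + 5 => exact Submodule.zero_mem _

theorem mem_Yt (D : ℕ → V) {s : ℕ} (h1 : 2 ≤ s) (h2 : s ≤ 6) : D s ∈ Submodule.span k (Set.range (Yt D)) := by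
  have h : ∀ s, Yt D s ∈ Submodule.span k (Set.range (Yt D)) := fun s => Submodule.subset_span ⟨s, rfl⟩
  interval_cases s
  · exact h 0
  · have := Submodule.neg_mem _ (h 1)
    simpa [Yt] using this
  · exact h 2
  · have := Submodule.neg_mem _ (h 3)
    simpa [Yt] using this
  · exact h 4

end Y

section Top

variable [IsAlgClosed k]
variable {V : Type v} [AddCommGroup V] [Module k V] [FiniteDimensional k V]
  {σ : Representation k (Matrix.SpecialLinearGroup (Fin 2) K) V} {i : ℕ}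

/-- `c ^ (8 p^i) = c ^ (p^i + p^(i+1))` -/
theorem pow_eight (hp : p = 7) (hF : Fintype.card K = p ^ a) (hi : i < a) (c : K) :
    ι c ^ (8 * p ^ i) = ι c ^ (p ^ i + p ^ ((i + 1) % a)) := by
  have h1 : ι c ^ (p ^ (i + 1)) = ι c ^ p ^ ((i + 1) % a) := by
    rcases Nat.lt_or_ge (i + 1) a with h | h
    · rw [Nat.mod_eq_of_lt h]
    · have : i + 1 = a := by omega
      rw [this, Nat.mod_self, pow_zero, pow_one, ← hF, ← map_pow, FiniteField.pow_card]
  rw [pow_add (ι c) (p ^ i), ← h1, ← pow_add]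
  congr 1
  rw [pow_succ, hp]
  ring

theorem lab_lt (hp : p = 7) (ha : 2 ≤ a) (hi : i < a) : p ^ i + p ^ ((i + 1) % a) + 1 < p ^ a := by
  have h1 : (i + 1) % a < a := Nat.mod_lt _ (by omega)
  have h2 : p ^ i ≤ p ^ (a - 1) := Nat.pow_le_pow_right (by omega) (by omega)
  have h3 : p ^ ((i + 1) % a) ≤ p ^ (a - 1) := Nat.pow_le_pow_right (by omega) (by omega)
  have h4 : p ^ a = p ^ (a - 1) * 7 := by
    rw [← hp, ← pow_succ]
    congr 1
    omega
  have h5 : 0 < p ^ (a - 1) := Nat.pow_pos (by omega)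
  omega

theorem lab_ne (ha : 2 ≤ a) (hi : i < a) : i ≠ (i + 1) % a := by
  rcases Nat.lt_or_ge (i + 1) a with h | h
  · rw [Nat.mod_eq_of_lt h]
    omega
  · have : i + 1 = a := by omega
    rw [this, Nat.mod_self]
    omega

theorem card_lab (ι : K →+* k) (hp : p = 7) (hF : Fintype.card K = p ^ a) (ha : 2 ≤ a) (hi : i < a) :
    (Bf k (p ^ i + p ^ ((i + 1) % a))).card = 4 := by
  have h0 := lab_lt hp ha hi
  have hV : IsV ι p (RB (k := k) ι p (b := p ^ i + p ^ ((i + 1) % a)) (by rw [hF]; omega)) (p ^ i + p ^ ((i + 1) % a)) := isV_RB _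
  have h1 : IsV ι p (RB (k := k) ι p (b := p ^ i + p ^ ((i + 1) % a)) (by rw [hF]; omega)) (1 * p ^ i + 1 * p ^ ((i + 1) % a)) := by
    rw [one_mul, one_mul]
    exact hV
  obtain ⟨-, -, -, -, -, -, h5, -⟩ := IsV.hw2 ι p hV
  rw [← h5, h1.dim_pair ι hF (by omega) (by omega) (lab_ne ha hi) hi (Nat.mod_lt _ (by omega))]

theorem Bf_pos (k : Type u) [Field k] [DecidableEq k] (b : ℕ) : 0 < (Bf k b).card :=
  Finset.card_pos.2 ⟨0, by rw [mem_Bf]; exact ⟨Nat.zero_le _, by rw [Nat.choose_zero_right, Nat.cast_one]; exact one_ne_zero⟩⟩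

/-- **the top factor of the Weyl module** -/
theorem cf_top8 (hp : p = 7) (hF : Fintype.card K = p ^ a) (ha : 2 ≤ a) (hi : i < a) {z : ℕ → V} (hz : WT ι p σ 8 i z)
    (h26 : ∀ s, 2 ≤ s → s ≤ 6 → z s = 0) (hsp : ⊤ ≤ Submodule.span k (Set.range z)) (h8 : z 8 ≠ 0) :
    cf (Sy.{u, v, w} ι p) σ = {p ^ i + p ^ ((i + 1) % a)} := by
  classical
  have hlt := lab_lt hp ha hi
  obtain ⟨b', hb', he⟩ := hw_mem_cf (ι := ι) (p := p) (ρ := σ) h8 (c := 8 * p ^ i) hz.u_top (fun b => by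
    rw [hz.h 8 le_rfl b]
    congr 1
    norm_num
    rw [← pow_mul, mul_comm])
  have h1 : b' = p ^ i + p ^ ((i + 1) % a) := by
    refine label_eq ι (by rw [hF]; exact cf_lt ι p hF σ b' hb') (by rw [hF]; omega) ?_ (by rw [hF]; omega) (fun b => ?_)
    · have := Nat.pow_pos (n := i) (Fact.out : p.Prime).pos
      omega
    · rw [he b, pow_eight hp hF hi]
  rw [h1] at hb'
  obtain ⟨t, ht⟩ := Multiset.exists_cons_of_mem hb'
  have h2 := finrank_cf ι p _ _ σ le_rfl
  rw [ht, Multiset.map_cons, Multiset.sum_cons, card_lab ι hp hF ha hi] at h2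
  have h3 : Module.finrank k V ≤ 4 := by
    have h4 : (⊤ : Submodule k V) ≤ Submodule.span k ((({z 0, z 1, z 7, z 8} : Finset V) : Set V)) := by
      refine hsp.trans (Submodule.span_le.2 ?_)
      rintro _ ⟨s, rfl⟩
      by_cases hs : s ≤ 8
      · by_cases hs2 : 2 ≤ s ∧ s ≤ 6
        · rw [h26 s hs2.1 hs2.2]
          exact Submodule.zero_mem _
        · refine Submodule.subset_span ?_
          have : s = 0 ∨ s = 1 ∨ s = 7 ∨ s = 8 := by omega
          rcases this with rfl | rfl | rfl | rfl <;> simp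
      · rw [hz.zero s (by omega)]
        exact Submodule.zero_mem _
    have h5 := finrank_span_finset_le_card (R := k) ({z 0, z 1, z 7, z 8} : Finset V)
    have h6 : ({z 0, z 1, z 7, z 8} : Finset V).card ≤ 4 := Finset.card_le_four
    have h7 := Submodule.finrank_mono h4
    rw [finrank_top] at h7
    exact h7.trans (h5.trans h6)
  have h4 : t = 0 := by
    by_contra h0
    obtain ⟨c, hc⟩ := Multiset.exists_mem_of_ne_zero h0
    obtain ⟨t', ht'⟩ := Multiset.exists_cons_of_mem hc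
    have := Bf_pos k c
    rw [ht', Multiset.map_cons, Multiset.sum_cons] at h2
    omega
  rw [ht, h4]
  rfl

end Top

end Cfsg.Agent.R2.F4L

private theorem dce_6714a5532ecb : _root_.True := by
  try have : _root_.True := by simp only [_root_.Cfsg.Agent.R2.F4L.Yt.eq_1]
  try have : _root_.True := by simp only [_root_.Cfsg.Agent.R2.F4L.Yt.eq_4]
  try have : _root_.True := by simp only [_root_.Cfsg.Agent.R2.F4L.Yt.eq_6]
  try have : _root_.True := by simp only [_root_.Cfsg.Agent.R2.F4L.Yt.eq_5]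
  try have : _root_.True := by simp only [_root_.Cfsg.Agent.R2.F4L.Yt.eq_2]
  try have : _root_.True := by simp only [_root_.Cfsg.Agent.R2.F4L.Yt.eq_3]
  exact _root_.True.intro
end

-- part: R2/F4L/N7
section
prune_inst 0x40300002000000000012000020480000020000000068400f040a4020208040080000200502102200800801000000100000000000000000040000000000008100008008010000000e000000000000000000000000000000000000010000000000000
set_option linter.all false
open scoped Cfsg.Agent.FastGrp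

/-!
# `p = 7` : the rule for `V_{4 p^i}` (helper2, S5931)
-/

set_option autoImplicit false
set_option linter.unusedSectionVars false
set_option linter.unusedVariables false

namespace Cfsg.Agent.R2.F4L

open Cfsg.Lie
open Cfsg.Agent.ChevalleyStructure.E6Min.Tables Cfsg.Agent.ChevalleyStructure.E6Min.Basic
open Cfsg.Agent.H952.F4 (sh cr tf tr1 u0)
open Cfsg.Agent.H952.F4.Jord
open Cfsg.Agent.H943.SL2Rel Cfsg.Agent.H943.SL2Mod Cfsg.Agent.R2.H28.SL2 Cfsg.Agent.H943.RepAdd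
open Cfsg.Agent.R2.F4T (Iso Nd SD)
open scoped TensorProduct

universe u v w

variable {k : Type u} [Field k] [DecidableEq k] {K : Type w} [Field K] [Fintype K] [DecidableEq K] {ι : K →+* k}
variable {p : ℕ} [Fact p.Prime] [CharP k p] [CharP K p] {a : ℕ}
variable {ρ : Representation k (Matrix.SpecialLinearGroup (Fin 2) K) (I27 → k)}
variable {V : Type v} [AddCommGroup V] [Module k V] {σ : Representation k (Matrix.SpecialLinearGroup (Fin 2) K) V}
variable {j : V →ₗ[k] (I27 → k)} {i : ℕ}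

theorem Em.sd (E : Em ρ σ j) (H : Act ρ) (h3 : (3 : k) ≠ 0) : SD σ (Pj j) :=
  ⟨E.dul H h3, fun x y => by rw [Pj_apply, Pj_apply, tf_comm]⟩

/-- the factors of the square, `p = 7` -/
theorem sqs7 (ha : 2 ≤ a) : sqs 7 a i 4 = {7 ^ i + 7 ^ ((i + 1) % a), 4 * 7 ^ i, 4 * 7 ^ i, 0} := by
  show one 7 a i 8 + (one 7 a i 4 + {0}) = _
  have h1 : one 7 a i 8 = {7 ^ i + 7 ^ ((i + 1) % a), 4 * 7 ^ i} := by
    unfold Cfsg.Agent.R2.H28.SL2.one ov
    rw [if_neg (by norm_num), if_neg (by omega)]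
    norm_num
  have h2 : one 7 a i 4 = {4 * 7 ^ i} := by
    unfold Cfsg.Agent.R2.H28.SL2.one
    rw [if_pos (by norm_num)]
  rw [h1, h2]
  rfl

variable [IsAlgClosed k] [FiniteDimensional k V]

/-- the span of the products -/
theorem exists_I (C : Cx ι p a ρ) (E : Em ρ σ j) (hi : i < a) {X : Submodule k V} {hX : ∀ g, ∀ x ∈ X, σ g x ∈ X}
    (hVX : IsV ι p (subRep σ X hX) (4 * p ^ i)) :
    ∃ (I : Submodule k V) (hI : ∀ g, ∀ x ∈ I, σ g x ∈ I), (∀ m ∈ X, ∀ n ∈ X, stV E C.three m n ∈ I) ∧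
      cf (Sy.{u, v, w} ι p) (subRep σ I hI) ≤ sqs p a i 4 := by
  have hp5 := C.hp5
  obtain ⟨T, hT1, hT2, -⟩ := exists_sqL (σ := subRep σ X hX) (ρ := σ) ((stV E C.three).compl₁₂ X.subtype X.subtype)
    (fun x y => stV_comm E C.three _ _) (fun g x y => stV_eqv E C.act C.three g _ _)
  obtain ⟨hk, hr, h1, -⟩ := cf_exact (Sy.{u, v, w} ι p) (Sq (subRep σ X hX)) σ T hT2
  refine ⟨LinearMap.range T, hr, fun m hm n hn => ⟨_, hT1 ⟨m, hm⟩ ⟨n, hn⟩⟩, ?_⟩
  rw [← cf_sq_single ι p C.card (by omega : 4 < p) hi hVX, h1]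
  exact Multiset.le_add_left _ _

/-- **`p = 7`** -/
theorem n47_core (C : Cx ι p a ρ) (E : Em ρ σ j) (hp : p = 7) (ha : 2 ≤ a) (hi : i < a)
    (h0 : 0 ∉ cf (Sy.{u, v, w} ι p) σ)
    (hb1 : InSoc ι p σ (p ^ i + p ^ ((i + 1) % a)) → (cf (Sy.{u, v, w} ι p) σ).count (p ^ i + p ^ ((i + 1) % a)) ≤ 1)
    (hb2 : (cf (Sy.{u, v, w} ι p) σ).count (p ^ i + p ^ ((i + 1) % a)) ≤ 1 ∨
      (cf (Sy.{u, v, w} ι p) σ).count (4 * p ^ i) ≤ 2)
    {x : ℕ → V} (hx : TS ι p σ 4 i x) (hx4 : stV E C.three (x 4) (x 4) ≠ 0) :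
    ∃ (Y : Submodule k V) (hY : ∀ g, ∀ x ∈ Y, σ g x ∈ Y), Nd (Pj j) Y ∧
      cf (Sy.{u, v, w} ι p) (subRep σ Y hY) = {4 * p ^ i, 4 * p ^ i, p ^ i + p ^ ((i + 1) % a)} := by
  have hp5 := C.hp5
  have hpr : p.Prime := Fact.out
  have hb := C.lt_card (n := 4) (i := i) (by omega) hi
  have S := E.sd C.act C.three
  have hinv : ∀ g x y, Pj j (σ g x) (σ g y) = Pj j x y := S.dul.1
  have hQ : 49 ≤ Fintype.card K := by
    rw [C.card, hp]
    calc 49 = 7 ^ 2 := by norm_num
      _ ≤ 7 ^ a := Nat.pow_le_pow_right (by norm_num) ha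
  set β := stV E C.three with hβd
  have hs : ∀ x y, β x y = β y x := stV_comm E C.three
  have hβ : ∀ g x y, β (σ g x) (σ g y) = σ g (β x y) := fun g x y => stV_eqv E C.act C.three g x y
  have hD := wt_Ds hs hβ (by omega) hx
  set D := Ds β x with hDd
  have hD8 : D 8 ≠ 0 := hx4
  set B := p ^ i + p ^ ((i + 1) % a) with hB
  have hBF : B ≠ 4 * p ^ i := by
    intro h
    have h1 := card_lab ι hp C.card ha hi
    rw [← hB, h, card_Bf_single' (by omega) C hi] at h1
    omega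
  set W := Submodule.span k (Set.range D) with hWd
  have hW : ∀ g, ∀ x ∈ W, σ g x ∈ W := hD.span_st
  have mD : ∀ s, D s ∈ W := fun s => Submodule.subset_span ⟨s, rfl⟩
  -- the weights
  obtain ⟨lam, hlam⟩ := exists_prim (k := k) ι i p
  set μ := ι (lam : K) ^ p ^ i with hμ
  have hμ0 : μ ≠ 0 := pow_ne_zero _ ((map_ne_zero ι).2 lam.ne_zero)
  have hTD : ∀ s ≤ 8, σ (h lam) (D s) = μ ^ (2 * (s : ℤ) - 8) • D s := fun s hs' => by
    have := hD.h' hs' lam
    exact_mod_cast this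
  have hT11 : σ (h lam) (β (x 1) (x 1)) = μ ^ (-4 : ℤ) • β (x 1) (x 1) := by
    rw [← hβ, ts4_h hx (by norm_num), map_smul, map_smul, LinearMap.smul_apply, smul_smul, ← zpow_add₀ hμ0]
    norm_num
  have hT88 : σ (h lam) (D 8) = μ ^ (8 : ℤ) • D 8 := by
    have := hTD 8 le_rfl
    rwa [show (2 * ((8 : ℕ) : ℤ) - 8) = 8 by norm_num] at this
  have hn8 : μ ^ (8 : ℤ) ∉ Sx μ 8 := not_mem_Sx hlam (by omega) (by norm_num) (by norm_num)
  have hn4 : μ ^ (-4 : ℤ) ∉ Sx μ (-4) := not_mem_Sx hlam (by omega) (by norm_num) (by norm_num)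
  have tw : ∀ {r : ℕ → V}, TS ι p σ 4 i r → ∀ s, ∃ m : ℤ, -4 ≤ m ∧ m ≤ 4 ∧ σ (h lam) (r s) = μ ^ m • r s := by
    intro r hr s
    by_cases hs4 : s ≤ 4
    · exact ⟨2 * (s : ℤ) - 4, by omega, by omega, ts4_h hr hs4 lam⟩
    · exact ⟨0, by norm_num, by norm_num, by rw [hr.zero s (by omega), map_zero, smul_zero]⟩
  have F1 : ∀ G : Set V, (∀ g ∈ G, ∃ m : ℤ, -4 ≤ m ∧ m ≤ 4 ∧ σ (h lam) g = μ ^ m • g) → D 8 ∉ Submodule.span k G := by
    intro G hG h8
    have h1 := wt_mem (T := σ (h lam)) (M := ⊥) hn8 (fun g hg => by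
      obtain ⟨m, h1, h2, h3⟩ := hG g hg
      exact Or.inr ⟨_, mem_Sx (by omega) (by omega) (by omega), h3⟩) h8 hT88
    exact hD8 ((Submodule.mem_bot k).1 h1)
  have hy := ts_Yt hp hD
  set y := Yt D with hyd
  set X' := Submodule.span k (Set.range y) with hX'd
  have my : ∀ s, y s ∈ X' := fun s => Submodule.subset_span ⟨s, rfl⟩
  have hX'W : X' ≤ W := by
    rw [hX'd, Submodule.span_le]
    rintro _ ⟨s, rfl⟩
    exact Yt_mem D s
  have hD8X : D 8 ∉ X' := F1 _ (by
    rintro _ ⟨s, rfl⟩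
    exact tw hy s)
  -- the vectors of weight `-4`
  have F2 : ∀ {M : Submodule k V}, D 2 ∈ M → ∀ {z : V}, z ∈ W → σ (h lam) z = μ ^ (-4 : ℤ) • z → z ∈ M := by
    intro M hM z hz hTz
    refine wt_mem (T := σ (h lam)) (M := M) hn4 (fun g hg => ?_) hz hTz
    obtain ⟨s, rfl⟩ := hg
    by_cases hs8 : s ≤ 8
    · by_cases hs2 : s = 2
      · left
        subst hs2
        have := hTD 2 (by norm_num)
        rw [show (2 * ((2 : ℕ) : ℤ) - 8) = -4 by norm_num] at this
        exact ⟨this, hM⟩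
      · right
        exact ⟨_, mem_Sx (by omega) (by omega) (by omega), hTD s hs8⟩
    · left
      rw [hD.zero s (by omega)]
      exact ⟨by rw [map_zero, smul_zero], M.zero_mem⟩
  have trick : ∀ {M : Submodule k V}, (∀ g, ∀ z ∈ M, σ g z ∈ M) → β (x 1) (x 1) ∈ M → D 8 ∈ M := fun hM h =>
    top_mem hs hβ (by omega) hx hM h
  -- `y ≠ 0`
  have hy0 : y ≠ 0 := by
    intro hy0
    have hz26 : ∀ s, 2 ≤ s → s ≤ 6 → D s = 0 := by
      intro s h2 h6
      have h1 := mem_Yt (k := k) D h2 h6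
      rw [← hyd, hy0] at h1
      have h3 : Submodule.span k (Set.range (0 : ℕ → V)) = ⊥ := by
        rw [Submodule.span_eq_bot]
        rintro _ ⟨s, rfl⟩
        rfl
      rw [h3, Submodule.mem_bot] at h1
      exact h1
    let z : ℕ → W := fun s => ⟨D s, mD s⟩
    have hz : WT ι p (subRep σ W hW) 8 i z := WT.comap (ρ' := σ) W.subtype (fun _ _ => rfl) W.injective_subtype hD
    have hcf := cf_top8 hp C.card ha hi hz (fun s h2 h6 => Subtype.ext (hz26 s h2 h6)) (by
      rintro ⟨m, hm⟩ -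
      have h1 : m ∈ (Submodule.span k (Set.range z)).map W.subtype := by
        rw [Submodule.map_span]
        refine Submodule.span_mono ?_ hm
        rintro _ ⟨s, rfl⟩
        exact ⟨z s, ⟨s, rfl⟩, rfl⟩
      obtain ⟨m', hm', he⟩ := h1
      have : (⟨m, hm⟩ : W) = m' := Subtype.ext he.symm
      rw [this]
      exact hm') (fun h => hD8 (congrArg Subtype.val h))
    have hVW : IsV ι p (subRep σ W hW) B := irr_of_cf _ hcf
    have hcB := hb1 ⟨W, hW, hVW⟩
    rcases S.nd_or_iso hVW with hnd | hiso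
    · have hcomp := S.compl hW hnd
      have h1 : β (x 1) (x 1) ∈ W ⊔ orth (Pj j) W := by
        rw [hcomp.sup_eq_top]
        trivial
      obtain ⟨w1, hw1, w2, hw2, he⟩ := Submodule.mem_sup.1 h1
      have hTw : σ (h lam) w1 = μ ^ (-4 : ℤ) • w1 := by
        have h2 := hT11
        rw [← he, map_add, smul_add] at h2
        have h3 : σ (h lam) w1 - μ ^ (-4 : ℤ) • w1 = μ ^ (-4 : ℤ) • w2 - σ (h lam) w2 := by
          rw [sub_eq_sub_iff_add_eq_add, h2, add_comm]
        have h4 : σ (h lam) w1 - μ ^ (-4 : ℤ) • w1 ∈ W ⊓ orth (Pj j) W := by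
          refine ⟨W.sub_mem (hW _ _ hw1) (W.smul_mem _ hw1), ?_⟩
          rw [h3]
          exact Submodule.sub_mem _ (Submodule.smul_mem _ _ hw2) (S.orth_inv hW _ _ hw2)
        rw [hcomp.inf_eq_bot, Submodule.mem_bot] at h4
        exact sub_eq_zero.1 h4
      have hw10 : w1 = 0 := (Submodule.mem_bot k).1 (F2 (M := ⊥) (by
        rw [hz26 2 le_rfl (by norm_num)]
        exact Submodule.zero_mem _) hw1 hTw)
      rw [hw10, zero_add] at he
      have h5 := trick (S.orth_inv hW) (by rw [← he]; exact hw2)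
      have h6 : D 8 ∈ W ⊓ orth (Pj j) W := ⟨mD 8, h5⟩
      rw [hcomp.inf_eq_bot, Submodule.mem_bot] at h6
      exact hD8 h6
    · have := count_one S.dul hVW hiso
      omega
  obtain ⟨hX', hVX'⟩ := hy.isV (by omega) hb hy0
  have hcX' := cf_irr (Sy.{u, v, w} ι p) hVX'
  -- the factors of `W`
  have hcW : cf (Sy.{u, v, w} ι p) (subRep σ W hW) = {4 * p ^ i, B} := by
    let X'' : Submodule k W := X'.comap W.subtype
    have hX'' : ∀ g, ∀ x ∈ X'', subRep σ W hW g x ∈ X'' := fun g x hx => hX' g _ hx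
    have h1 : cf (Sy.{u, v, w} ι p) (subRep (subRep σ W hW) X'' hX'') = cf (Sy.{u, v, w} ι p) (subRep σ X' hX') :=
      cf_iso _ ⟨Submodule.comapSubtypeEquivOfLe hX'W, fun g x => rfl⟩
    let z : ℕ → W := fun s => ⟨D s, mD s⟩
    have hz : WT ι p (subRep σ W hW) 8 i z := WT.comap (ρ' := σ) W.subtype (fun _ _ => rfl) W.injective_subtype hD
    have hz' : WT ι p (quotRep (subRep σ W hW) X'' hX'') 8 i (fun s => X''.mkQ (z s)) := hz.map X''.mkQ (fun g x => rfl)
    have h2 := cf_top8 hp C.card ha hi hz' (fun s h2 h6 => by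
      rw [Submodule.mkQ_apply, Submodule.Quotient.mk_eq_zero]
      exact mem_Yt D h2 h6) (by
      intro q _
      obtain ⟨⟨m, hm⟩, rfl⟩ := X''.mkQ_surjective q
      have h1 : m ∈ (Submodule.span k (Set.range z)).map W.subtype := by
        rw [Submodule.map_span]
        refine Submodule.span_mono ?_ hm
        rintro _ ⟨s, rfl⟩
        exact ⟨z s, ⟨s, rfl⟩, rfl⟩
      obtain ⟨m', hm', he⟩ := h1
      have h3 : (⟨m, hm⟩ : W) = m' := Subtype.ext he.symm
      rw [h3]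
      have h4 := Submodule.mem_map_of_mem (f := X''.mkQ) hm'
      rw [Submodule.map_span] at h4
      refine Submodule.span_mono ?_ h4
      rintro _ ⟨_, ⟨s, rfl⟩, rfl⟩
      exact ⟨s, rfl⟩) (fun h => hD8X ((Submodule.Quotient.mk_eq_zero X'').1 h))
    rw [cf_add _ (subRep σ W hW) X'' hX'', h1, hcX', h2]
    rfl
  -- the span of the products
  have hx0 : x ≠ 0 := by
    rintro rfl
    apply hx4
    show β 0 0 = 0
    rw [map_zero]
  obtain ⟨hX, hVX⟩ := hx.isV (by omega) hb hx0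
  obtain ⟨I, hI, hprod, hcI⟩ := exists_I C E hi hVX
  have hpI : ∀ s t, β (x s) (x t) ∈ I := fun s t =>
    hprod _ (Submodule.subset_span ⟨s, rfl⟩) _ (Submodule.subset_span ⟨t, rfl⟩)
  have hWI : W ≤ I := by
    rw [hWd, Submodule.span_le]
    rintro _ ⟨s, rfl⟩
    match s with
    | 0 => exact hpI 0 0
    | 1 => exact I.smul_mem _ (hpI _ _)
    | 2 => exact I.add_mem (I.smul_mem _ (hpI _ _)) (I.smul_mem _ (hpI _ _))
    | 3 => exact I.add_mem (I.smul_mem _ (hpI _ _)) (I.smul_mem _ (hpI _ _))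
    | 4 => exact I.add_mem (I.add_mem (I.smul_mem _ (hpI _ _)) (I.smul_mem _ (hpI _ _))) (I.smul_mem _ (hpI _ _))
    | 5 => exact I.add_mem (I.smul_mem _ (hpI _ _)) (I.smul_mem _ (hpI _ _))
    | 6 => exact I.add_mem (I.smul_mem _ (hpI _ _)) (I.smul_mem _ (hpI _ _))
    | 7 => exact I.smul_mem _ (hpI _ _)
    | 8 => exact hpI 4 4
    | s + 9 => exact I.zero_mem
  have hsq : sqs p a i 4 = {B, 4 * p ^ i, 4 * p ^ i, 0} := by
    rw [hB, hp]
    exact sqs7 ha
  rw [hsq] at hcI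
  have hF0 : 4 * p ^ i ≠ 0 := by
    have := Nat.pow_pos (n := i) hpr.pos
    omega
  have hB0 : B ≠ 0 := by
    have := Nat.pow_pos (n := i) hpr.pos
    omega
  have h0I : 0 ∉ cf (Sy.{u, v, w} ι p) (subRep σ I hI) := fun h => h0 (Multiset.mem_of_le (cf_sub_le _ _ _ _) h)
  have hcount := Multiset.le_iff_count.1 hcI
  have hIF : (cf (Sy.{u, v, w} ι p) (subRep σ I hI)).count (4 * p ^ i) ≤ 2 := by
    refine (hcount _).trans ?_
    simp [Multiset.count_cons, Multiset.count_singleton, hBF, hBF.symm, hF0, hF0.symm]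
  have hIB : (cf (Sy.{u, v, w} ι p) (subRep σ I hI)).count B ≤ 1 := by
    refine (hcount _).trans ?_
    simp [Multiset.count_cons, Multiset.count_singleton, hBF, hBF.symm, hB0, hB0.symm]
  have hIall : ∀ c ∈ cf (Sy.{u, v, w} ι p) (subRep σ I hI), c = 4 * p ^ i ∨ c = B := by
    intro c hc
    have h1 := Multiset.mem_of_le hcI hc
    simp only [Multiset.insert_eq_cons, Multiset.mem_cons, Multiset.mem_singleton] at h1
    rcases h1 with h1 | h1 | h1 | h1
    · exact Or.inr h1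
    · exact Or.inl h1
    · exact Or.inl h1
    · rw [h1] at hc
      exact absurd hc h0I
  have hIW : ¬ I ≤ W := fun hle => hD8X (trick hX' (F2 (mem_Yt D le_rfl (by norm_num)) (hle (hpI 1 1)) hT11))
  obtain ⟨n1, hn1, hn1'⟩ := cf_pair (ι := ι) (p := p) hW hI hWI
  have hWF : (cf (Sy.{u, v, w} ι p) (subRep σ W hW)).count (4 * p ^ i) = 1 := by
    rw [hcW]
    simp [Multiset.count_cons, Multiset.count_singleton, hBF, hBF.symm]
  have hWB : (cf (Sy.{u, v, w} ι p) (subRep σ W hW)).count B = 1 := by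
    rw [hcW]
    simp [Multiset.count_cons, Multiset.count_singleton, hBF, hBF.symm]
  have hn1F : n1 = {4 * p ^ i} := by
    have h1 : n1 ≠ 0 := fun h => hIW (hn1' h)
    have h2 : ∀ c ∈ n1, c = 4 * p ^ i := by
      intro c hc
      rcases hIall c (by rw [hn1]; exact Multiset.mem_add.2 (Or.inr hc)) with h3 | h3
      · exact h3
      · exfalso
        have h4 := Multiset.one_le_count_iff_mem.2 hc
        rw [h3] at h4
        rw [hn1, Multiset.count_add] at hIB
        omega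
    have h3 := Multiset.eq_replicate_of_mem h2
    have h4 : Multiset.card n1 = 1 := by
      have h5 : n1.count (4 * p ^ i) = Multiset.card n1 := by
        conv_lhs => rw [h3]
        rw [Multiset.count_replicate_self]
      rw [hn1, Multiset.count_add] at hIF
      have h6 : 0 < Multiset.card n1 := Multiset.card_pos.2 h1
      omega
    rw [h3, h4]
    rfl
  have hcI2 : cf (Sy.{u, v, w} ι p) (subRep σ I hI) = {4 * p ^ i, 4 * p ^ i, B} := by
    rw [hn1, hcW, hn1F]
    simp only [Multiset.insert_eq_cons, Multiset.cons_add, Multiset.singleton_add]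
    congr 1
    exact Multiset.cons_swap B (4 * p ^ i) 0
  refine ⟨I, hI, ?_, hcI2⟩
  have hμ1 : ∀ m : ℤ, -16 ≤ m → m ≤ 16 → μ ^ m = 1 → m = 0 := by
    intro m h1 h2 h3
    obtain ⟨c, hc⟩ := (hlam.zpow_eq_one_iff_dvd _).1 h3
    have h5 : c = 0 := by
      by_contra h5
      have h6 : (1 : ℤ) ≤ |c| := Int.one_le_abs h5
      have h7 : |m| = ((Fintype.card K - 1 : ℕ) : ℤ) * |c| := by rw [hc, abs_mul, Nat.abs_cast]
      have h8 : ((Fintype.card K - 1 : ℕ) : ℤ) ≤ |m| := by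
        rw [h7]
        nlinarith only [h6]
      have h9 : |m| ≤ 16 := by
        rw [abs_le]
        constructor <;> omega
      omega
    rw [hc, h5, mul_zero]
  rcases IsV.inf_or_le ι p hVX' (S.orth_inv hI) with hnd | hle
  · -- `X'` is not orthogonal to `I`
    set R := I ⊓ orth (Pj j) I with hRd
    have hR : ∀ g, ∀ x ∈ R, σ g x ∈ R := inf_st hI (S.orth_inv hI)
    have hRiso : ∀ m ∈ R, ∀ n ∈ R, Pj j m n = 0 := fun m hm n hn => hn.2 m hm.1
    have hRW : R ⊓ W = ⊥ := by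
      by_contra hne
      have hU : ∀ g, ∀ x ∈ R ⊓ W, σ g x ∈ R ⊓ W := inf_st hR hW
      have hd : (R ⊓ W) ⊓ X' = ⊥ := by
        rw [eq_bot_iff, ← hnd]
        exact fun z hz => ⟨hz.2, hz.1.1.2⟩
      obtain ⟨n, h1, -⟩ := cf_disj (ι := ι) (p := p) hU hX' hW hd inf_le_right hX'W
      rw [hcW, hcX'] at h1
      have h2 : ({B} : Multiset ℕ) = cf (Sy.{u, v, w} ι p) (subRep σ (R ⊓ W) hU) + n := by
        have h3 : ({4 * p ^ i} : Multiset ℕ) + {B} = {4 * p ^ i} +
            (cf (Sy.{u, v, w} ι p) (subRep σ (R ⊓ W) hU) + n) := by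
          rw [← add_assoc, add_comm ({4 * p ^ i} : Multiset ℕ) (cf _ _), ← h1]
          rfl
        exact add_left_cancel h3
      have h3 : cf (Sy.{u, v, w} ι p) (subRep σ (R ⊓ W) hU) = {B} :=
        (Multiset.le_singleton.1 (by rw [h2]; exact Multiset.le_add_right _ _)).resolve_left (cf_ne_zero hU hne)
      have hVU : IsV ι p (subRep σ (R ⊓ W) hU) B := irr_of_cf _ h3
      have h4 := hb1 ⟨_, hU, hVU⟩
      have h5 := count_one S.dul hVU (fun m hm n hn => hRiso m hm.1 n hn.1)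
      omega
    show R = ⊥
    by_contra hR0
    obtain ⟨n, h1, h1'⟩ := cf_disj (ι := ι) (p := p) hR hW hI hRW inf_le_left hWI
    rw [hn1, hn1F] at h1
    have h2 : ({4 * p ^ i} : Multiset ℕ) = cf (Sy.{u, v, w} ι p) (subRep σ R hR) + n := by
      have h3 : cf (Sy.{u, v, w} ι p) (subRep σ W hW) + {4 * p ^ i} = cf (Sy.{u, v, w} ι p) (subRep σ W hW) +
          (cf (Sy.{u, v, w} ι p) (subRep σ R hR) + n) := by
        rw [h1]
        abel
      exact add_left_cancel h3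
    have h3 : cf (Sy.{u, v, w} ι p) (subRep σ R hR) = {4 * p ^ i} :=
      (Multiset.le_singleton.1 (by rw [h2]; exact Multiset.le_add_right _ _)).resolve_left (cf_ne_zero hR hR0)
    have hn0 : n = 0 := by
      rw [h3] at h2
      exact add_eq_left.1 h2.symm
    have hIRW := h1' hn0
    have hVR : IsV ι p (subRep σ R hR) (4 * p ^ i) := irr_of_cf _ h3
    obtain ⟨r, hr, -, hrR, hRr, -⟩ := ts_of_isV E (by omega : 4 < p) hVR
    have h4 : β (x 1) (x 1) ∈ X' ⊔ R := by
      have h5 : β (x 1) (x 1) ∈ Submodule.span k (Set.range r ∪ Set.range D) := by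
        rw [Submodule.span_union, ← hRr]
        exact hIRW (hpI 1 1)
      refine wt_mem (T := σ (h lam)) hn4 (fun g hg => ?_) h5 hT11
      rcases hg with ⟨s, rfl⟩ | ⟨s, rfl⟩
      · obtain ⟨m, hm1, hm2, hm⟩ := tw hr s
        by_cases hm4 : m = -4
        · left
          rw [hm4] at hm
          exact ⟨hm, Submodule.mem_sup_right (hrR s)⟩
        · right
          exact ⟨_, mem_Sx (by omega) (by omega) hm4, hm⟩
      · by_cases hs8 : s ≤ 8
        · by_cases hs2 : s = 2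
          · left
            subst hs2
            have := hTD 2 (by norm_num)
            rw [show (2 * ((2 : ℕ) : ℤ) - 8) = -4 by norm_num] at this
            exact ⟨this, Submodule.mem_sup_left (mem_Yt D le_rfl (by norm_num))⟩
          · right
            exact ⟨_, mem_Sx (by omega) (by omega) (by omega), hTD s hs8⟩
        · left
          rw [hD.zero s (by omega)]
          exact ⟨by rw [map_zero, smul_zero], Submodule.zero_mem _⟩
    have h5 := trick (sup_st hX' hR) h4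
    refine F1 (Set.range y ∪ Set.range r) ?_ (by rw [Submodule.span_union, ← hRr]; exact h5)
    rintro g (⟨s, rfl⟩ | ⟨s, rfl⟩)
    · exact tw hy s
    · exact tw hr s
  · -- `X'` is orthogonal to `I`
    exfalso
    have h11 : β (x 1) (x 1) ∈ orth (Pj j) W := by
      intro z hz
      rw [hWd] at hz
      induction hz using Submodule.span_induction with
      | mem z hz =>
        obtain ⟨s, rfl⟩ := hz
        by_cases hs8 : s ≤ 8
        · by_cases hs6 : s = 6
          · subst hs6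
            rw [S.symm]
            exact hle (mem_Yt D (by norm_num) le_rfl) _ (hpI 1 1)
          · have h1 := hinv (h lam) (D s) (β (x 1) (x 1))
            rw [hTD s hs8, hT11, map_smul, map_smul, LinearMap.smul_apply, smul_eq_mul, smul_eq_mul, ← mul_assoc,
              ← zpow_add₀ hμ0] at h1
            have h2 : (μ ^ (-4 + (2 * (s : ℤ) - 8)) - 1) * Pj j (D s) (β (x 1) (x 1)) = 0 := by linear_combination h1
            refine (mul_eq_zero.1 h2).resolve_left (sub_ne_zero.2 fun h3 => ?_)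
            have := hμ1 _ (by omega) (by omega) h3
            omega
        · rw [hD.zero s (by omega), map_zero]
          rfl
      | zero => rw [map_zero]; rfl
      | add a b _ _ ha hb => rw [map_add, LinearMap.add_apply, ha, hb, add_zero]
      | smul c a _ ha => rw [map_smul, LinearMap.smul_apply, ha, smul_zero]
    have h8 := trick (S.orth_inv hW) h11
    have hgen := hD.gen (by omega) (S.orth_inv hW) h8
    have hWW : W ≤ orth (Pj j) W := by
      rw [hWd, Submodule.span_le]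
      rintro _ ⟨s, rfl⟩
      exact hgen s
    have hdual : ∀ {Z : Submodule k V} (hZ : ∀ g, ∀ x ∈ Z, σ g x ∈ Z) (c : ℕ),
        (cf (Sy.{u, v, w} ι p) σ).count c = (cf (Sy.{u, v, w} ι p) (subRep σ (orth (Pj j) Z) (S.orth_inv hZ))).count c +
          (cf (Sy.{u, v, w} ι p) (subRep σ Z hZ)).count c := by
      intro Z hZ c
      obtain ⟨B', D', -⟩ := S.dul.sub hZ
      have h2 := cf_dual ι p D'
      have h3 := cf_add (Sy.{u, v, w} ι p) σ (orth (Pj j) Z) (S.orth_inv hZ)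
      rw [h3, Multiset.count_add, h2]
    have hmono : ∀ {Z Z' : Submodule k V} (hZ : ∀ g, ∀ x ∈ Z, σ g x ∈ Z) (hZ' : ∀ g, ∀ x ∈ Z', σ g x ∈ Z') (c : ℕ),
        Z ≤ Z' → (cf (Sy.{u, v, w} ι p) (subRep σ Z hZ)).count c ≤ (cf (Sy.{u, v, w} ι p) (subRep σ Z' hZ')).count c := by
      intro Z Z' hZ hZ' c hle
      exact Multiset.le_iff_count.1 (cf_le_of_inj (Submodule.inclusion hle) (fun _ _ => rfl)
        (Submodule.inclusion_injective hle)) c
    have e1 := hdual hW B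
    have e2 := hmono hW (S.orth_inv hW) B hWW
    have e3 := hdual hX' (4 * p ^ i)
    have e4 := hmono hI (S.orth_inv hX') (4 * p ^ i) (fun z hz m hm => by
      rw [S.symm]
      exact hle hm z hz)
    rw [hcX', Multiset.count_singleton_self] at e3
    have e6 : (cf (Sy.{u, v, w} ι p) (subRep σ I hI)).count (4 * p ^ i) = 2 := by
      rw [hcI2]
      simp [Multiset.count_cons, Multiset.count_singleton, hBF, hBF.symm]
    omega

end Cfsg.Agent.R2.F4L
end

-- part: R2/F4L/Fin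
section
prune_inst 0x10000000000000
set_option linter.all false
open scoped Cfsg.Agent.FastGrp

/-!
# The rules (helper2, S5931)

* `cx_of` : the context; `rl` : the rules.
-/

set_option autoImplicit false
set_option linter.unusedSectionVars false
set_option linter.unusedVariables false

namespace Cfsg.Agent.R2.F4L

open Cfsg Cfsg.Lie Module Matrix
open Cfsg.Agent.ChevalleyStructure.E6Min.Basic
open Cfsg.Agent.H952.F4 (sh cr tf tr1 u0 hF4)
open Cfsg.Agent.H952.F4.Jord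
open Cfsg.Agent.H952.F4.FixV (W0 mem_W0 finrank_W0 u0_ne_zero tr1_eq)
open Cfsg.Agent.R2.H9.E6
open Cfsg.Agent.GpExc.Field (emb)
open Cfsg.Agent.H943.SL2Rel Cfsg.Agent.H943.SL2Mod
open Cfsg.Agent.R2.H28.SL2 Cfsg.Agent.H943.RepAdd
open Cfsg.Agent.R2.F4M Cfsg.Agent.R2.F4N
open Cfsg.Agent.R2.F4T (Rl Nd Iso)
open Cfsg.Agent.R2.SL2

universe u v w

section Ctx

variable {F : Type u} [Field F] [Fintype F] {K : Type v} [Field K] [Fintype K] [DecidableEq K] {p a b : ℕ}
variable {H : Subgroup ↥(chevF4.group F)} {φ : ProjectiveSpecialLinearGroup (Fin 2) K →* ↥(chevF4.group F)}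
variable {k : Type u} [Field k] [DecidableEq k] [Algebra F k] [Algebra.IsAlgebraic F k] {ι : K →+* k} [Fact p.Prime]
variable [CharP k p] [CharP K p]

end Ctx

variable {F : Type u} [Field F] [Fintype F] {K : Type v} [Field K] [Fintype K] [DecidableEq K] {p a b : ℕ}
variable {H : Subgroup ↥(chevF4.group F)} {φ : ProjectiveSpecialLinearGroup (Fin 2) K →* ↥(chevF4.group F)}
variable {k : Type u} [Field k] [DecidableEq k] {f : F →+* k} {ι : K →+* k} [Fact p.Prime] [CharP k p] [CharP K p]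
variable [IsAlgClosed k]

/-- **`p = 7`** -/
theorem rule47 (hc : Cfg p a b H φ) (C : Cx ι p a (Rk f φ)) (hp : p = 7) (ha : 2 ≤ a)
    (h0 : 0 ∉ cf (Sy.{u, u, v} ι p) (R0 f φ)) {i : ℕ} (hi : i < a)
    (hcount : (cf (Sy.{u, u, v} ι p) (R0 f φ)).count (4 * p ^ i) ≤ 3)
    (hb1 : InSoc ι p (R0 f φ) (p ^ i + p ^ ((i + 1) % a)) →
      (cf (Sy.{u, u, v} ι p) (R0 f φ)).count (p ^ i + p ^ ((i + 1) % a)) ≤ 1)
    (hb2 : (cf (Sy.{u, u, v} ι p) (R0 f φ)).count (p ^ i + p ^ ((i + 1) % a)) ≤ 1 ∨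
      (cf (Sy.{u, u, v} ι p) (R0 f φ)).count (4 * p ^ i) ≤ 2) (hsoc : InSoc ι p (R0 f φ) (4 * p ^ i)) :
    ∃ (Y : Submodule k ↥(W0 k)) (hY : ∀ g, ∀ x ∈ Y, R0 f φ g x ∈ Y), Nd (Pj (W0 k).subtype) Y ∧
      cf (V := ↥Y) (Sy.{u, u, v} ι p) (subRep (R0 f φ) Y hY) = {4 * p ^ i, 4 * p ^ i, p ^ i + p ^ ((i + 1) % a)} := by
  have hp5 := C.hp5
  by_cases hv : ∀ y, TS ι p (Rk f φ) 4 i y → sh (y 4) = 0
  · exact absurd hsoc (no4 hc C (C.hQ (Or.inr ha) (Or.inr ha)) hi hv hcount)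
  · push Not at hv
    obtain ⟨y, hy, hy4⟩ := hv
    have hb := C.lt_card (n := 4) (i := i) (by omega) hi
    have E : Em (Rk f φ) (R0 f φ) (W0 k).subtype := emW
    obtain ⟨x, hx, ex⟩ := E.lift C.act (by omega) (by norm_num) hb hy
    refine n47_core C E hp ha hi h0 hb1 hb2 hx fun h11 => hy4 ?_
    have h12 := congrArg (W0 k).subtype h11
    rw [j_stV, map_zero, ex] at h12
    refine R2.H1.F4.sh_of_sq C.two C.three ?_ h12
    rw [← ex]
    exact E.tr _

/-- **the rules** -/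
theorem rl (hc : Cfg p a b H φ) (C : Cx ι p a (Rk f φ)) : Rl ι p a (R0 f φ) (tf0 k) where
  sS := fun X hX hX0 => C.ruleS emW hX hX0
  n2 := fun i hi => no2 hc C hi
  n4 := fun hp i hi hcount h => rule4 hc C hp hi hcount h
  i4 := fun hp i hi hcount h hiso => C.i4 emW hp hi hcount h hiso
  n45 := fun hp h0 i hi hcount => rule45 hc C hp h0 hi hcount
  n47 := fun hp ha h0 i hi hcount hb1 hb2 hsoc => rule47 hc C hp ha h0 hi hcount hb1 hb2 hsoc
  n22 := fun i hi l hl hil _ h4i h4l h44 => C.n22 emW hi hl hil h4i h4l h44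

end Cfsg.Agent.R2.F4L
end

-- part: R2/F4L/A7Dat
section
prune_inst 0x302202000000000212001c628200000200480000284007080ec0682080402821b030150010a0908458390068111000000200000000003400011800a0808102008108a10020000f000000000000000000000000000000000000010004000000000
set_option linter.all false
open scoped Cfsg.Agent.FastGrp

/-!
# Module theory of the case `T(8) + 4 + 6` (helper2, S5931)

`exists_dat` : the strings `x`, `m`, `v` and the structure `H1.A7.Dat` from the submodules of the table.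
-/

set_option autoImplicit false
set_option linter.unusedSectionVars false

namespace Cfsg.Agent.R2.F4L.A7

open Cfsg Cfsg.Lie Module Cfsg.Agent.H952.F4 Cfsg.Agent.H952.F4.Jord
open Cfsg.Agent.ChevalleyStructure.E6Min.Tables Cfsg.Agent.ChevalleyStructure.E6Min.Basic
open Cfsg.Agent.R2.F4N (Str)
open Cfsg.Agent.R2.F4L (Act Cx Em)
open Cfsg.Agent.R2.H1.F4 Cfsg.Agent.R2.H1.A7
open Cfsg.Agent.H943.RepAdd Cfsg.Agent.R2.H28.SL2 Cfsg.Agent.R2.F4T
open Finset

universe u v w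

section str

variable {k : Type u} [Field k] {K : Type w} [Field K] [Fintype K] {κ : K →+* k}
variable {ρ : Representation k (Matrix.SpecialLinearGroup (Fin 2) K) (I27 → k)}
variable {p : ℕ} [Fact p.Prime] [CharP k p] (hpK : p ≤ Fintype.card K)

include hpK

theorem str_top_zero {n : ℕ} {x : ℕ → (I27 → k)} (hx : Str κ ρ n x) (hn : n < p) (h : x n = 0) : ∀ a ≤ n, x a = 0 := by
  intro a ha
  have h1 := str_all_mem hpK hx hn (S := ⊥) (fun g v hv => by
    rw [Submodule.mem_bot] at hv ⊢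
    rw [hv, map_zero]) ((Submodule.mem_bot k).2 h) a ha
  exact (Submodule.mem_bot k).1 h1

theorem str_zero {n : ℕ} {x : ℕ → (I27 → k)} (hx : Str κ ρ n x) (hn : n < p) (h : x 0 = 0) : ∀ a ≤ n, x a = 0 := by
  refine str_top_zero hpK hx hn ?_
  have h1 := hx.w 0 (Nat.zero_le n)
  rw [h, map_zero, pow_zero, one_smul, Nat.sub_zero] at h1
  exact h1.symm

/-- the fixed vectors of the unipotent group in the span of a string -/
theorem fix_top {n : ℕ} {x : ℕ → (I27 → k)} (hx : Str κ ρ n x) (hn : n < p) (hn0 : 1 ≤ n) (h0 : x 0 ≠ 0) {c : ℕ → k}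
    (h : ∀ t, ρ (Cfsg.Agent.H943.SL2Rel.u t) (∑ b ∈ range (n + 1), c b • x b) = ∑ b ∈ range (n + 1), c b • x b) :
    ∀ b < n, c b = 0 := by
  have h1 := coef_mem κ (S := (⊥ : Submodule k (I27 → k))) (d := n + 1) (by omega)
    (c := fun j => (∑ b ∈ range (n + 1), (c b * ((n - b).choose j : k)) • x (b + j)) -
      if j = 0 then ∑ b ∈ range (n + 1), c b • x b else 0) (fun t => by
    have h2 := h t
    rw [Submodule.mem_bot]
    have h3 : ∑ j ∈ range (n + 1), κ t ^ j • ∑ b ∈ range (n + 1), (c b * ((n - b).choose j : k)) • x (b + j) =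
        ρ (Cfsg.Agent.H943.SL2Rel.u t) (∑ b ∈ range (n + 1), c b • x b) := by
      rw [map_sum]
      simp only [smul_sum]
      rw [sum_comm]
      refine sum_congr rfl fun b hb => ?_
      rw [mem_range] at hb
      rw [map_smul, hx.u' (d := n + 1) (by omega) (by omega), smul_sum]
      refine sum_congr rfl fun j _ => ?_
      rw [smul_smul, smul_smul]
      congr 1
      ring
    simp only [smul_sub, sum_sub_distrib]
    rw [h3, h2, sub_eq_zero]
    symm
    rw [sum_eq_single 0]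
    · rw [pow_zero, one_smul, if_pos rfl]
    · intro j _ hj
      rw [if_neg hj, smul_zero]
    · intro h
      exact absurd (mem_range.2 (by omega)) h) 1 (by omega)
  rw [Submodule.mem_bot] at h1
  simp only [one_ne_zero, if_false, sub_zero] at h1
  have h4 : ∑ a ∈ range (n + 1), (if a = 0 then 0 else c (a - 1) * ((n - (a - 1)).choose 1 : k)) • x a = 0 := by
    rw [sum_range_succ']
    rw [sum_range_succ] at h1
    rw [Nat.sub_self, Nat.choose_zero_succ, Nat.cast_zero, mul_zero, zero_smul, add_zero] at h1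
    rw [if_pos rfl, zero_smul, add_zero, ← h1]
    refine sum_congr rfl fun a _ => ?_
    rw [if_neg (Nat.succ_ne_zero a), Nat.add_sub_cancel]
  intro b hb
  have h5 := str_li hx (by omega) h0 h4 (b + 1) hb
  rw [if_neg (Nat.succ_ne_zero b), Nat.add_sub_cancel] at h5
  exact (mul_eq_zero.1 h5).resolve_right (R2.F4N.choose_ne (p := p) (by omega) (by omega))

/-- strings in the span of a string -/
theorem str_uniq {n : ℕ} {x s : ℕ → (I27 → k)} (hx : Str κ ρ n x) (hs : Str κ ρ n s) (hn : n < p) (hn0 : 1 ≤ n)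
    (h0 : x 0 ≠ 0) (h : s n ∈ spx n x) : ∃ α : k, ∀ a ≤ n, s a = α • x a := by
  obtain ⟨c, hc⟩ := spx_coord h
  have h1 := fix_top hpK hx hn hn0 h0 (c := c) (fun t => by rw [← hc]; exact hs.top t)
  refine ⟨c n, ?_⟩
  have h2 : s n = c n • x n := by
    rw [hc, sum_eq_single n]
    · intro b hb hbn
      rw [mem_range] at hb
      rw [h1 b (by omega), zero_smul]
    · intro h
      exact absurd (mem_range.2 (by omega)) h
  have h3 : Str κ ρ n (fun a => s a + (-c n) • x a) := str_add hs (str_smul hx _)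
  intro a ha
  have h4 := str_top_zero hpK h3 hn (by
    show s n + (-c n) • x n = 0
    rw [h2, neg_smul, add_neg_cancel]) a ha
  have h5 : s a + (-c n) • x a = 0 := h4
  rw [neg_smul, ← sub_eq_add_neg] at h5
  exact sub_eq_zero.1 h5

theorem tf_all (H : Act ρ) (h3 : (3 : k) ≠ 0) {i l : ℕ} {x z : ℕ → (I27 → k)} (hx : Str κ ρ i x) (hz : Str κ ρ l z)
    (hi : i < p) (hl : l < p) (h : i = l → tf (x 0) (z l) = 0) : ∀ a ≤ i, ∀ c ≤ l, tf (x a) (z c) = 0 := by
  intro a ha c hc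
  have h1 := tf_str_val hpK H h3 hx hz hi hl ha hc
  have h2 : (i.choose a : k) ≠ 0 := R2.F4N.choose_ne (p := p) hi ha
  refine (mul_eq_zero.1 ?_).resolve_left h2
  rw [h1]
  split_ifs with h4
  · rw [h h4.1, mul_zero]
  · rfl

end str

theorem spx_orth {k : Type u} [Field k] {n : ℕ} {x : ℕ → (I27 → k)} {w : I27 → k} (h : ∀ a ≤ n, tf (x a) w = 0) :
    ∀ z ∈ spx n x, tf z w = 0 := by
  intro z hz
  induction hz using Submodule.span_induction with
  | mem z hz =>
    obtain ⟨a, ha, rfl⟩ := hz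
    exact h a ha
  | zero =>
    have := tf_smul_left (0 : k) (0 : I27 → k) w
    rwa [zero_smul, zero_mul] at this
  | add z z' _ _ ih ih' => rw [tf_add_left, ih, ih', add_zero]
  | smul r z _ ih => rw [tf_smul_left, ih, mul_zero]

theorem spx_st {k : Type u} [Field k] {n : ℕ} {x : ℕ → (I27 → k)} (h : ∀ a ≤ n, ∀ b ≤ n, st (x a) (x b) = 0) :
    ∀ y ∈ spx n x, ∀ z ∈ spx n x, st y z = 0 := by
  have h1 : ∀ y ∈ spx n x, ∀ b ≤ n, st y (x b) = 0 := by
    intro y hy b hb
    induction hy using Submodule.span_induction with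
    | mem z hz =>
      obtain ⟨a, ha, rfl⟩ := hz
      exact h a ha b hb
    | zero =>
      have := st_smul_left (0 : k) (0 : I27 → k) (x b)
      rwa [zero_smul, zero_smul] at this
    | add z z' _ _ ih ih' => rw [st_add_left, ih, ih', add_zero]
    | smul r z _ ih => rw [st_smul_left, ih, smul_zero]
  intro y hy z hz
  induction hz using Submodule.span_induction with
  | mem z hz =>
    obtain ⟨a, ha, rfl⟩ := hz
    exact h1 y hy a ha
  | zero =>
    have := st_smul_right (0 : k) y (0 : I27 → k)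
    rwa [zero_smul, zero_smul] at this
  | add z z' _ _ ih ih' => rw [st_add_right, ih, ih', add_zero]
  | smul r z _ ih => rw [st_smul_right, ih, smul_zero]

section mod

variable {k : Type u} [Field k] [DecidableEq k] {K : Type w} [Field K] [Fintype K] [DecidableEq K] {ι : K →+* k}
variable {p : ℕ} [Fact p.Prime] [CharP k p] [CharP K p] [IsAlgClosed k] {a : ℕ}
variable {V : Type v} [AddCommGroup V] [Module k V] [FiniteDimensional k V]
  {σ : Representation k (Matrix.SpecialLinearGroup (Fin 2) K) V} {P : V →ₗ[k] V →ₗ[k] k}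

/-- an irreducible submodule -/
theorem exists_irr_le {Z : Submodule k V} (hZ : ∀ g, ∀ x ∈ Z, σ g x ∈ Z) (h0 : Z ≠ ⊥) :
    ∃ (R : Submodule k V) (hR : ∀ g, ∀ x ∈ R, σ g x ∈ R) (c : ℕ), R ≤ Z ∧ IsV ι p (subRep σ R hR) c := by
  obtain ⟨c, ⟨R', hR', hRc⟩, -⟩ := exists_inSoc_sub ι p hZ h0
  obtain ⟨hR1, hRb⟩ := isV_map' hRc
  refine ⟨_, hR1, c, ?_, hRb⟩
  rintro _ ⟨y, -, rfl⟩
  exact y.2

/-- the labels of paired irreducible submodules -/
theorem lab_eq (S : SD σ P) {R M : Submodule k V} {hR : ∀ g, ∀ x ∈ R, σ g x ∈ R} {hM : ∀ g, ∀ x ∈ M, σ g x ∈ M} {c d : ℕ}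
    (hc : IsV ι p (subRep σ R hR) c) (hd : IsV ι p (subRep σ M hM) d) (h : ∃ x ∈ R, ∃ y ∈ M, P y x ≠ 0) : c = d := by
  obtain ⟨x, hx, y, hy, hxy⟩ := h
  have h1 : R ⊓ orth P M = ⊥ := by
    rcases IsV.inf_or_le ι p hc (S.orth_inv hM) with h1 | h1
    · exact h1
    · exact absurd (h1 hx y hy) hxy
  have h2 : M ⊓ orth P R = ⊥ := by
    rcases IsV.inf_or_le ι p hd (S.orth_inv hR) with h2 | h2
    · exact h2
    · exact absurd (by rw [S.symm]; exact h2 hy x hx) hxy
  have D : Dul (subRep σ R hR) (subRep σ M hM) (P.compl₁₂ R.subtype M.subtype) := by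
    refine ⟨fun g x y => S.dul.inv g x y, fun x hx => Subtype.ext ?_, fun y hy => Subtype.ext ?_⟩
    · have h3 : (x : V) ∈ R ⊓ orth P M := ⟨x.2, fun y hy => by
        rw [S.symm]
        exact hx ⟨y, hy⟩⟩
      rwa [h1, Submodule.mem_bot] at h3
    · have h3 : (y : V) ∈ M ⊓ orth P R := ⟨y.2, fun x hx => hy ⟨x, hx⟩⟩
      rwa [h2, Submodule.mem_bot] at h3
  have h3 := IsV.dual ι p hc D
  have h4 := cf_irr (Sy.{u, v, w} ι p) h3
  have h5 := cf_irr (Sy.{u, v, w} ι p) hd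
  rw [h4] at h5
  exact Multiset.singleton_inj.1 h5

/-- elements orthogonal to `M` and `T` -/
theorem mem_of_orth (S : SD σ P) {Y M T : Submodule k V} (hMn : Nd P M) (hTn : Nd P T)
    (hYM : ∀ x ∈ Y, ∀ y ∈ M, P x y = 0) (hYT : ∀ x ∈ Y, ∀ y ∈ T, P x y = 0) (hMT : ∀ x ∈ M, ∀ y ∈ T, P x y = 0)
    (hsup : Y ⊔ M ⊔ T = ⊤) {y : V} (h1 : ∀ z ∈ M, P z y = 0) (h2 : ∀ z ∈ T, P z y = 0) : y ∈ Y := by
  obtain ⟨y12, h12, y3, h3, e⟩ := Submodule.mem_sup.1 (show y ∈ Y ⊔ M ⊔ T by rw [hsup]; trivial)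
  obtain ⟨y1, hy1, y2, hy2, e'⟩ := Submodule.mem_sup.1 h12
  subst e'
  have e2 : y2 = 0 := hMn.eq_zero hy2 fun z hz => by
    have h4 := h1 z hz
    rw [← e, map_add, map_add, S.symm z y1, hYM y1 hy1 z hz, hMT z hz y3 h3, zero_add, add_zero] at h4
    exact h4
  have e3 : y3 = 0 := hTn.eq_zero h3 fun z hz => by
    have h4 := h2 z hz
    rw [← e, map_add, map_add, S.symm z y1, hYT y1 hy1 z hz, S.symm z y2, hMT y2 hy2 z hz, zero_add, zero_add] at h4
    exact h4
  rw [← e, e2, e3, add_zero, add_zero]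
  exact hy1

end mod

section main

variable {k : Type u} [Field k] [DecidableEq k] {K : Type w} [Field K] [Fintype K] [DecidableEq K] {ι : K →+* k}
variable {p : ℕ} [Fact p.Prime] [CharP k p] [CharP K p] [IsAlgClosed k] {a : ℕ}
variable {ρ : Representation k (Matrix.SpecialLinearGroup (Fin 2) K) (I27 → k)}
variable {V : Type v} [AddCommGroup V] [Module k V] [FiniteDimensional k V]
  {σ : Representation k (Matrix.SpecialLinearGroup (Fin 2) K) V} {P : V →ₗ[k] V →ₗ[k] k} {j : V →ₗ[k] (I27 → k)}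

/-- **the data of the case `T(8) + 4 + 6`** -/
theorem exists_dat (C : Cx ι p a ρ) (E : Em ρ σ j) (S : SD σ P) (hP : ∀ x y, P x y = tf (j x) (j y)) (hp : 6 < p)
    (hpK : p ≤ Fintype.card K) {r : ℕ} {Y M T X : Submodule k V} (hM : ∀ g, ∀ x ∈ M, σ g x ∈ M)
    (hT : ∀ g, ∀ x ∈ T, σ g x ∈ T) (hX : ∀ g, ∀ x ∈ X, σ g x ∈ X)
    (hMn : Nd P M) (hTn : Nd P T) (hYM : ∀ x ∈ Y, ∀ y ∈ M, P x y = 0) (hYT : ∀ x ∈ Y, ∀ y ∈ T, P x y = 0)
    (hMT : ∀ x ∈ M, ∀ y ∈ T, P x y = 0) (hsup : Y ⊔ M ⊔ T = ⊤) (hMV : IsV ι p (subRep σ M hM) (4 * p ^ r))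
    (hTV : IsV ι p (subRep σ T hT) (6 * p ^ r)) (hXY : X ≤ Y) (hXV : IsV ι p (subRep σ X hX) (4 * p ^ r))
    (hXi : Iso P X)
    (hu : ∀ (Z : Submodule k V) (hZ : ∀ g, ∀ x ∈ Z, σ g x ∈ Z) (c : ℕ), IsV ι p (subRep σ Z hZ) c → Z ≤ Y → Z = X)
    (h4 : (cf (Sy.{u, v, w} ι p) σ).count (4 * p ^ r) = 3)
    (hc1 : ∀ c, c ≠ 4 * p ^ r → (cf (Sy.{u, v, w} ι p) σ).count c ≤ 1) :
    ∃ x m v, Dat ((iterateFrobenius k p r).comp ι) ρ x m v := by
  have H := C.act
  have h2' := C.two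
  have h3' := C.three
  obtain ⟨x, sx, jx, spX⟩ := exists_str (ρ := ρ) E.eqv (by omega) hXV
  obtain ⟨m, sm, jm, spM⟩ := exists_str (ρ := ρ) E.eqv (by omega) hMV
  obtain ⟨v, sv, jv, spT⟩ := exists_str (ρ := ρ) E.eqv (by omega) hTV
  -- nonzero strings
  have ne0 : ∀ {n : ℕ} {A : Submodule k V} {hA : ∀ g, ∀ x ∈ A, σ g x ∈ A} {c : ℕ} {s : ℕ → (I27 → k)},
      n < p → IsV ι p (subRep σ A hA) c → Str ((iterateFrobenius k p r).comp ι) ρ n s →
      (∀ y ∈ A, j y ∈ Submodule.span k {w | ∃ a, a ≤ n ∧ w = s a}) → s 0 ≠ 0 := by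
    intro n A hA c s hn hV hs hsp h0
    have h1 := str_zero hpK hs hn h0
    obtain ⟨y, hy⟩ := @exists_ne _ hV.irr.1 0
    apply hy
    apply Subtype.ext
    apply E.inj
    have h2 := hsp y y.2
    have h3 : Submodule.span k {w | ∃ a, a ≤ n ∧ w = s a} ≤ ⊥ := by
      rw [Submodule.span_le]
      rintro w ⟨b, hb, rfl⟩
      exact h1 b hb
    rw [(Submodule.mem_bot k).1 (h3 h2)]
    exact (map_zero j).symm
  have x0 := ne0 (by omega) hXV sx spX
  have m0 := ne0 (by omega) hMV sm spM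
  have v0 := ne0 (by omega) hTV sv spT
  have tx : ∀ c, tr1 (x c) = 0 := fun c => by
    obtain ⟨y, -, hy⟩ := jx c
    rw [hy]; exact E.tr y
  have tm : ∀ c, tr1 (m c) = 0 := fun c => by
    obtain ⟨y, -, hy⟩ := jm c
    rw [hy]; exact E.tr y
  have tv : ∀ c, tr1 (v c) = 0 := fun c => by
    obtain ⟨y, -, hy⟩ := jv c
    rw [hy]; exact E.tr y
  have xx : ∀ a b, tf (x a) (x b) = 0 := fun a b => by
    obtain ⟨y, h, hy⟩ := jx a
    obtain ⟨z, h', hz⟩ := jx b
    rw [hy, hz, ← hP]; exact hXi y h z h'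
  have xm : ∀ a b, tf (x a) (m b) = 0 := fun a b => by
    obtain ⟨y, h, hy⟩ := jx a
    obtain ⟨z, h', hz⟩ := jm b
    rw [hy, hz, ← hP]; exact hYM y (hXY h) z h'
  have xv : ∀ a b, tf (x a) (v b) = 0 := fun a b => by
    obtain ⟨y, h, hy⟩ := jx a
    obtain ⟨z, h', hz⟩ := jv b
    rw [hy, hz, ← hP]; exact hYT y (hXY h) z h'
  have mv : ∀ a b, tf (m a) (v b) = 0 := fun a b => by
    obtain ⟨y, h, hy⟩ := jm a
    obtain ⟨z, h', hz⟩ := jv b
    rw [hy, hz, ← hP]; exact hMT y h z h'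
  -- nondegeneracy
  have nd : ∀ {n : ℕ} {A : Submodule k V} {s : ℕ → (I27 → k)}, n < p → Nd P A →
      Str ((iterateFrobenius k p r).comp ι) ρ n s → (∀ c, ∃ y ∈ A, s c = j y) →
      (∀ y ∈ A, j y ∈ Submodule.span k {w | ∃ a, a ≤ n ∧ w = s a}) → s 0 ≠ 0 → tf (s 0) (s n) ≠ 0 := by
    intro n A s hn hA hs hj hsp hs0 h0
    apply hs0
    obtain ⟨y, hy, e⟩ := hj 0
    have h1 := tf_all hpK H h3' hs hs hn hn fun _ => h0
    have h2 : y = 0 := hA.eq_zero hy fun z hz => by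
      rw [hP, ← e]
      exact spx_orth (fun c hc => h1 c hc 0 (Nat.zero_le n)) _ (hsp z hz)
    rw [e, h2, map_zero]
  have mm := nd (by omega) hMn sm jm spM m0
  have vv := nd (by omega) hTn sv jv spT v0
  -- the comap of a stable subspace
  have stab : ∀ {Z : Submodule k (I27 → k)}, (∀ g, ∀ y ∈ Z, ρ g y ∈ Z) → ∀ g, ∀ y ∈ Z.comap j, σ g y ∈ Z.comap j := by
    intro Z hZ g y hy
    show j (σ g y) ∈ Z
    rw [E.eqv]
    exact hZ g _ hy
  -- a string orthogonal to `m` and `v` is in the span of `x`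
  have key : ∀ {n : ℕ} {s : ℕ → (I27 → k)}, n < p → Str ((iterateFrobenius k p r).comp ι) ρ n s →
      (∀ c ≤ n, tr1 (s c) = 0) → (∀ c ≤ n, ∀ b ≤ 4, tf (s c) (m b) = 0) → (∀ c ≤ n, ∀ b ≤ 6, tf (s c) (v b) = 0) →
      ∀ c ≤ n, s c ∈ spx 4 x := by
    intro n s hn hs ht hsm hsv
    by_cases hs0 : s 0 = 0
    · intro c hc
      rw [str_zero hpK hs hn hs0 c hc]
      exact Submodule.zero_mem _
    have htr : ∀ y ∈ spx n s, tr1 y = 0 := by
      intro y hy
      induction hy using Submodule.span_induction with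
      | mem z hz =>
        obtain ⟨b, hb, rfl⟩ := hz
        exact ht b hb
      | zero =>
        have := tr1_smul (0 : k) (0 : I27 → k)
        rwa [zero_smul, zero_mul] at this
      | add z z' _ _ ih ih' => rw [tr1_add, ih, ih', add_zero]
      | smul r z _ ih => rw [tr1_smul, ih, mul_zero]
    have hZ := stab (str_stable hs)
    have hZY : (spx n s).comap j ≤ Y := by
      intro y hy
      refine mem_of_orth S hMn hTn hYM hYT hMT hsup (fun z hz => ?_) fun z hz => ?_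
      · rw [hP]
        refine spx_orth (fun b hb => ?_) _ (spM z hz)
        rw [tf_comm]
        exact spx_orth (fun c hc => hsm c hc b hb) _ hy
      · rw [hP]
        refine spx_orth (fun b hb => ?_) _ (spT z hz)
        rw [tf_comm]
        exact spx_orth (fun c hc => hsv c hc b hb) _ hy
    have hne : (spx n s).comap j ≠ ⊥ := by
      intro h0
      have h1 : s 0 ∈ spx n s := Submodule.subset_span ⟨0, Nat.zero_le n, rfl⟩
      obtain ⟨y, hy⟩ := E.sur (s 0) (htr _ h1)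
      have h2 : y ∈ (spx n s).comap j := by
        show j y ∈ spx n s
        rw [hy]; exact h1
      rw [h0, Submodule.mem_bot] at h2
      rw [h2, map_zero] at hy
      exact hs0 hy.symm
    obtain ⟨R, hR, c, hRZ, hRV⟩ := exists_irr_le (ι := ι) (p := p) hZ hne
    have hRX := hu R hR c hRV (hRZ.trans hZY)
    obtain ⟨y, hy, e⟩ := jx 0
    have h1 : x 0 ∈ spx n s := by
      rw [e]
      exact hRZ (hRX ▸ hy)
    exact str_mem_of hpK hs hn (str_stable sx) (v := x 0) (Submodule.subset_span ⟨0, Nat.zero_le 4, rfl⟩) x0 h1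
  have s4 : ∀ s, Str ((iterateFrobenius k p r).comp ι) ρ 4 s → (∀ c ≤ 4, tr1 (s c) = 0) →
      ∃ α β : k, ∀ c ≤ 4, s c = α • x c + β • m c := by
    intro s hs ht
    obtain ⟨β, hβ⟩ : ∃ β : k, tf (s 0) (m 4) = β * tf (m 0) (m 4) := ⟨tf (s 0) (m 4) / tf (m 0) (m 4), by
      rw [div_mul_cancel₀ _ mm]⟩
    have hs' : Str ((iterateFrobenius k p r).comp ι) ρ 4 (fun c => s c + (-β) • m c) := str_add hs (str_smul sm _)
    have h1 := key (by omega) hs' (fun c hc => by rw [tr1_add, tr1_smul, ht c hc, tm, mul_zero, add_zero])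
      (tf_all hpK H h3' hs' sm (by omega) (by omega) fun _ => by
        rw [tf_add_left, tf_smul_left, hβ]; ring)
      (tf_all hpK H h3' hs' sv (by omega) (by omega) fun h => by omega)
    obtain ⟨α, hα⟩ := str_uniq hpK sx hs' (by omega) (by norm_num) x0 (h1 4 le_rfl)
    refine ⟨α, β, fun c hc => ?_⟩
    rw [← hα c hc, neg_smul, neg_add_cancel_right]
  have s6 : ∀ s, Str ((iterateFrobenius k p r).comp ι) ρ 6 s → (∀ c ≤ 6, tr1 (s c) = 0) →
      ∃ γ : k, ∀ c ≤ 6, s c = γ • v c := by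
    intro s hs ht
    obtain ⟨β, hβ⟩ : ∃ β : k, tf (s 0) (v 6) = β * tf (v 0) (v 6) := ⟨tf (s 0) (v 6) / tf (v 0) (v 6), by
      rw [div_mul_cancel₀ _ vv]⟩
    have hs' : Str ((iterateFrobenius k p r).comp ι) ρ 6 (fun c => s c + (-β) • v c) := str_add hs (str_smul sv _)
    have h1 := key (by omega) hs' (fun c hc => by rw [tr1_add, tr1_smul, ht c hc, tv, mul_zero, add_zero])
      (tf_all hpK H h3' hs' sm (by omega) (by omega) fun h => by omega)
      (tf_all hpK H h3' hs' sv (by omega) (by omega) fun _ => by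
        rw [tf_add_left, tf_smul_left, hβ]; ring)
    have h2 : (fun c => s c + (-β) • v c) 0 = 0 := by
      by_contra h0
      set s' : ℕ → (I27 → k) := fun c => s c + (-β) • v c
      have li : LinearIndependent k (fun c : Fin 7 => s' c) := by
        rw [Fintype.linearIndependent_iff]
        intro g hg i
        have h3 := str_li hs' (by omega) h0 (c := fun c => if h : c < 7 then g ⟨c, h⟩ else 0) (by
          rw [Finset.sum_range]
          rw [← hg]
          refine Finset.sum_congr rfl fun c _ => ?_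
          rw [dif_pos c.2]) i (by omega)
        rw [dif_pos i.2] at h3
        exact h3
      have h3 : Submodule.span k (Set.range fun c : Fin 7 => s' c) ≤ spx 4 x := by
        rw [Submodule.span_le]
        rintro _ ⟨c, rfl⟩
        exact h1 c (by omega)
      have h4 : spx 4 x ≤ Submodule.span k (Set.range fun c : Fin 5 => x c) := by
        unfold spx
        rw [Submodule.span_le]
        rintro _ ⟨c, hc, rfl⟩
        exact Submodule.subset_span ⟨⟨c, by omega⟩, rfl⟩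
      have h5 := Submodule.finrank_mono (h3.trans h4)
      rw [finrank_span_eq_card li, Fintype.card_fin] at h5
      have h6 := finrank_range_le_card (R := k) (fun c : Fin 5 => x c)
      rw [Fintype.card_fin] at h6
      have h7 : Set.finrank k (Set.range fun c : Fin 5 => x c) =
        Module.finrank k (Submodule.span k (Set.range fun c : Fin 5 => x c)) := rfl
      omega
    refine ⟨β, fun c hc => ?_⟩
    have h3 := str_zero hpK hs' (by omega) h2 c hc
    have h4 : s c + (-β) • v c = 0 := h3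
    rw [neg_smul, ← sub_eq_add_neg] at h4
    exact sub_eq_zero.1 h4
  refine ⟨x, m, v, ⟨H, sx, sm, sv, fun c _ => tx c, fun c _ => tm c, fun c _ => tv c, x0, fun a _ b _ => xx a b,
    fun a _ b _ => xm a b, fun a _ b _ => xv a b, fun a _ b _ => mv a b, mm, vv, s4, s6, ?_, ?_,
    fun y hy h => C.fix0 hy h, ?_⟩⟩
  · -- socle
    intro Z hZ hZt hZ0
    have hZ' := stab hZ
    have hne : Z.comap j ≠ ⊥ := by
      intro h0
      apply hZ0
      rw [eq_bot_iff]
      intro y hy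
      obtain ⟨y', rfl⟩ := E.sur y (hZt y hy)
      have h2 : y' ∈ Z.comap j := hy
      rw [h0, Submodule.mem_bot] at h2
      rw [h2, map_zero]
      exact Submodule.zero_mem _
    obtain ⟨R, hR, c, hRZ, hRV⟩ := exists_irr_le (ι := ι) (p := p) hZ' hne
    have hc : c = 4 * p ^ r ∨ c = 6 * p ^ r := by
      by_cases h1 : ∃ x ∈ R, ∃ y ∈ M, P y x ≠ 0
      · exact Or.inl (lab_eq S hRV hMV h1)
      by_cases h2 : ∃ x ∈ R, ∃ y ∈ T, P y x ≠ 0
      · exact Or.inr (lab_eq S hRV hTV h2)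
      push Not at h1 h2
      left
      have h3 : R ≤ Y := fun y hy => mem_of_orth S hMn hTn hYM hYT hMT hsup (h1 y hy) (h2 y hy)
      have h4 := hu R hR c hRV h3
      subst h4
      have h5 := cf_irr (Sy.{u, v, w} ι p) hRV
      rw [cf_irr (Sy.{u, v, w} ι p) hXV] at h5
      exact (Multiset.singleton_inj.1 h5).symm
    have fin : ∀ n, n < p → IsV ι p (subRep σ R hR) (n * p ^ r) →
        ∃ s, Str ((iterateFrobenius k p r).comp ι) ρ n s ∧ (∀ c ≤ n, s c ∈ Z) ∧ s 0 ≠ 0 := by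
      intro n hn hV
      obtain ⟨s, hs, js, sps⟩ := exists_str (ρ := ρ) E.eqv hn hV
      refine ⟨s, hs, fun c _ => ?_, ne0 hn hV hs sps⟩
      obtain ⟨y, hy, e⟩ := js c
      rw [e]
      exact hRZ hy
    rcases hc with rfl | rfl
    · exact ⟨4, Or.inl rfl, fin 4 (by omega) hRV⟩
    · exact ⟨6, Or.inr rfl, fin 6 (by omega) hRV⟩
  · -- isotropic subspaces
    intro Z hZ hZt hZi
    have hZ' := stab hZ
    have hiso : Iso P (Z.comap j) := fun y hy z hz => by rw [hP]; exact hZi _ hy _ hz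
    intro y hy
    obtain ⟨y', rfl⟩ := E.sur y (hZt y hy)
    by_cases hy0 : y' = 0
    · rw [hy0, map_zero]
      exact Submodule.zero_mem _
    have hne : Z.comap j ≠ ⊥ := by
      intro h0
      have h2 : y' ∈ Z.comap j := hy
      rw [h0, Submodule.mem_bot] at h2
      exact hy0 h2
    have hcnt := S.iso_count (ι := ι) (p := p) hZ' hiso
    have h1 : cf (Sy.{u, v, w} ι p) (subRep σ (Z.comap j) hZ') = {4 * p ^ r} := by
      obtain ⟨c, hc⟩ := Multiset.exists_mem_of_ne_zero (cf_ne_zero (ι := ι) (p := p) hZ' hne)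
      have h2 : ∀ c, c ≠ 4 * p ^ r → (cf (Sy.{u, v, w} ι p) (subRep σ (Z.comap j) hZ')).count c = 0 := by
        intro c hc
        have h3 := Multiset.count_le_of_le c hcnt
        rw [Multiset.count_add] at h3
        have := hc1 c hc
        omega
      have h3 := Multiset.count_le_of_le (4 * p ^ r) hcnt
      rw [Multiset.count_add, h4] at h3
      have h5 : c = 4 * p ^ r := by
        by_contra h6
        have h7 := Multiset.one_le_count_iff_mem.2 hc
        rw [h2 c h6] at h7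
        omega
      have h6 := Multiset.one_le_count_iff_mem.2 hc
      rw [h5] at h6
      ext d
      rw [Multiset.count_singleton]
      split_ifs with hd
      · rw [hd]; omega
      · exact h2 d hd
    have h2 : IsV ι p (subRep σ (Z.comap j) hZ') (4 * p ^ r) := irr_of_cf (Sy.{u, v, w} ι p) h1
    obtain ⟨s, hs, js, sps⟩ := exists_str (ρ := ρ) E.eqv (by omega) h2
    have sZ : ∀ c, s c ∈ Z := fun c => by
      obtain ⟨z, hz, e⟩ := js c
      rw [e]; exact hz
    obtain ⟨α, β, hαβ⟩ := s4 s hs fun c _ => hZt _ (sZ c)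
    have h5 := hZi _ (sZ 0) _ (sZ 4)
    rw [hαβ 0 (by norm_num), hαβ 4 le_rfl, tf_add_left, tf_smul_left, tf_smul_left, tf_add_right, tf_add_right,
      tf_smul_right, tf_smul_right, tf_smul_right, tf_smul_right, xx, xm, tf_comm (m 0) (x 4), xm] at h5
    have h6 : β = 0 := by
      by_contra hβ
      apply mm
      have : β * (β * tf (m 0) (m 4)) = 0 := by linear_combination h5
      exact ((mul_eq_zero.1 this).resolve_left hβ |> mul_eq_zero.1).resolve_left hβ
    have h7 : spx 4 s ≤ spx 4 x := by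
      unfold spx
      rw [Submodule.span_le]
      rintro _ ⟨c, hc, rfl⟩
      rw [hαβ c hc, h6, zero_smul, add_zero]
      exact Submodule.smul_mem _ _ (Submodule.subset_span ⟨c, hc, rfl⟩)
    exact h7 (sps y' hy)
  · -- the square of `X`
    by_contra h0
    push Not at h0
    have h1 := spx_st (n := 4) (x := x) h0
    have htr : ∀ y ∈ spx 4 x, tr1 y = 0 := by
      intro y hy
      induction hy using Submodule.span_induction with
      | mem z hz =>
        obtain ⟨b, hb, rfl⟩ := hz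
        exact tx b
      | zero =>
        have := tr1_smul (0 : k) (0 : I27 → k)
        rwa [zero_smul, zero_mul] at this
      | add z z' _ _ ih ih' => rw [tr1_add, ih, ih', add_zero]
      | smul r z _ ih => rw [tr1_smul, ih, mul_zero]
    have h2 := C.white (spx 4 x) (str_stable sx) fun y hy => sh_of_sq h2' h3' (htr y hy) (h1 y hy y hy)
    have h3 : x 0 ∈ spx 4 x := Submodule.subset_span ⟨0, Nat.zero_le 4, rfl⟩
    rw [h2, Submodule.mem_bot] at h3
    exact x0 h3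

end main

end Cfsg.Agent.R2.F4L.A7
end

-- part: R2/F4L/A7Dat0
section
set_option linter.all false
open scoped Cfsg.Agent.FastGrp

/-!
# The data of the case `T(8) + 4 + 6` for `R0` (helper2, S5931)
-/

set_option autoImplicit false
set_option linter.unusedSectionVars false

namespace Cfsg.Agent.R2.F4L.A7

open Cfsg Cfsg.Lie Module Matrix
open Cfsg.Agent.ChevalleyStructure.E6Min.Basic
open Cfsg.Agent.H952.F4 Cfsg.Agent.H952.F4.Jord
open Cfsg.Agent.H952.F4.FixV (W0 mem_W0 finrank_W0 u0_ne_zero)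
open Cfsg.Agent.R2.F4M
open Cfsg.Agent.R2.H28.SL2 Cfsg.Agent.H943.RepAdd
open Cfsg.Agent.R2.F4L (Cx Em)
open Cfsg.Agent.R2.F4T Cfsg.Agent.R2.H1.A7

universe u v

variable {F : Type u} [Field F] [Fintype F] {K : Type v} [Field K] [Fintype K] {p a b : ℕ}
variable {H : Subgroup ↥(chevF4.group F)} {φ : ProjectiveSpecialLinearGroup (Fin 2) K →* ↥(chevF4.group F)}
variable {k : Type u} [Field k] [DecidableEq k] [DecidableEq K] [IsAlgClosed k]
variable [Fact p.Prime] [CharP k p] [CharP K p] {ι : K →+* k} (f : F →+* k)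

/-- **the data from the hypotheses of `Tb.alpha7`** (hypothesis `hA` of `F4T.fin5`) -/
theorem dat0 (h : Cfg p a b H φ) (C : Cx ι p a (Rk f φ)) (hp : p = 7) (r : ℕ) (Y M T X : Submodule k ↥(W0 k))
    (hM : ∀ g, ∀ x ∈ M, R0 f φ g x ∈ M) (hT : ∀ g, ∀ x ∈ T, R0 f φ g x ∈ T) (hX : ∀ g, ∀ x ∈ X, R0 f φ g x ∈ X)
    (hMn : Nd (tf0 k) M) (hTn : Nd (tf0 k) T) (hYM : ∀ x ∈ Y, ∀ y ∈ M, tf0 k x y = 0)
    (hYT : ∀ x ∈ Y, ∀ y ∈ T, tf0 k x y = 0) (hMT : ∀ x ∈ M, ∀ y ∈ T, tf0 k x y = 0) (hsup : Y ⊔ M ⊔ T = ⊤)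
    (hMV : IsV (V := ↥M) ι p (subRep (R0 f φ) M hM) (4 * p ^ r))
    (hTV : IsV (V := ↥T) ι p (subRep (R0 f φ) T hT) (6 * p ^ r)) (hXY : X ≤ Y)
    (hXV : IsV (V := ↥X) ι p (subRep (R0 f φ) X hX) (4 * p ^ r)) (hXi : Iso (tf0 k) X)
    (hu : ∀ (Z : Submodule k ↥(W0 k)) (hZ : ∀ g, ∀ x ∈ Z, R0 f φ g x ∈ Z) (c : ℕ),
      IsV (V := ↥Z) ι p (subRep (R0 f φ) Z hZ) c → Z ≤ Y → Z = X)
    (h4 : (cf (Sy.{u, u, v} ι p) (R0 f φ)).count (4 * p ^ r) = 3)
    (hc1 : ∀ c, c ≠ 4 * p ^ r → (cf (Sy.{u, u, v} ι p) (R0 f φ)).count c ≤ 1) :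
    ∃ x m v, Dat ((iterateFrobenius k p r).comp ι) (Rk f φ) x m v := by
  have hK : p ≤ Fintype.card K := by
    rw [h.cardK]
    exact Nat.le_self_pow (by have := h.ha; omega) p
  exact exists_dat (σ := R0 f φ) (P := tf0 k) (j := (W0 k).subtype) C (em0 (φ := φ) f)
    (H27.F4Th.sd_R0 (f := f) (φ := φ) C.three) (fun x y => tf0_apply x y) (by omega) hK hM hT hX hMn hTn hYM hYT hMT
    hsup hMV hTV hXY hXV hXi hu h4 hc1

end Cfsg.Agent.R2.F4L.A7
end

-- part: R2/H1/A7/Fin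
section
set_option linter.all false
open scoped Cfsg.Agent.FastGrp

/-!
# `p = 7`: the case `T(8) + 4 + 6` does not occur (helper1, S5931)

* `no_dat` : no data `Dat`;
* `no_alpha7` : the hypothesis `hA` of `F4T.fin5`.
-/

set_option autoImplicit false
set_option linter.unusedSectionVars false

namespace Cfsg.Agent.R2.H1.A7

open Cfsg Cfsg.Lie Module Matrix
open Cfsg.Agent.ChevalleyStructure.E6Min.Basic
open Cfsg.Agent.H952.F4 Cfsg.Agent.H952.F4.Jord
open Cfsg.Agent.H952.F4.FixV (W0 mem_W0 finrank_W0 u0_ne_zero)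
open Cfsg.Agent.R2.F4M
open Cfsg.Agent.R2.H28.SL2 Cfsg.Agent.H943.RepAdd
open Cfsg.Agent.R2.F4L (Cx Em)
open Cfsg.Agent.R2.F4T

universe u v

variable {F : Type u} [Field F] [Fintype F] {K : Type v} [Field K] [Fintype K]

/-- **no data** -/
theorem no_dat {a b : ℕ} {H : Subgroup ↥(chevF4.group F)}
    {φ : ProjectiveSpecialLinearGroup (Fin 2) K →* ↥(chevF4.group F)} {k : Type u} [Field k] [IsAlgClosed k]
    [Fact (Nat.Prime 7)] [CharP k 7] {f : F →+* k} (h : Cfg 7 a b H φ) {κ : K →+* k} {x m v : ℕ → (I27 → k)}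
    (D : Dat κ (Rk f φ) x m v) : False := by
  have hK : 7 ≤ Fintype.card K := by
    rw [h.cardK]
    exact Nat.le_self_pow (by have := h.ha; omega) 7
  have hsq : ∀ c : k, ∃ r, r * r = c := by
    intro c
    obtain ⟨r, hr⟩ := IsAlgClosed.exists_pow_nat_eq c (n := 2) (by norm_num)
    exact ⟨r, by rw [← hr]; ring⟩
  obtain ⟨m', v', D2⟩ := D.exists_dat2 hK hsq
  obtain ⟨h4, h5, h6, h7⟩ := H5.U7.u7 D2 hK
  exact no_dat2 h hK D2 (H5.U7.xu' D2) h4 h5 h6 h7

variable {p a b : ℕ}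
variable {H : Subgroup ↥(chevF4.group F)} {φ : ProjectiveSpecialLinearGroup (Fin 2) K →* ↥(chevF4.group F)}
variable {k : Type u} [Field k] [DecidableEq k] [DecidableEq K] [IsAlgClosed k]
variable [Fact p.Prime] [CharP k p] [CharP K p] {ι : K →+* k} (f : F →+* k)

/-- **the case does not occur** (hypothesis `hA` of `F4T.fin5`) -/
theorem no_alpha7 (h : Cfg p a b H φ) (C : Cx ι p a (Rk f φ)) : p = 7 → ∀ r < a, ∀ (Y M T X : Submodule k ↥(W0 k)) (_ : ∀ g, ∀ x ∈ Y, R0 f φ g x ∈ Y)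
      (hM : ∀ g, ∀ x ∈ M, R0 f φ g x ∈ M) (hT : ∀ g, ∀ x ∈ T, R0 f φ g x ∈ T) (hX : ∀ g, ∀ x ∈ X, R0 f φ g x ∈ X),
      Nd (tf0 k) Y → Nd (tf0 k) M → Nd (tf0 k) T → (∀ x ∈ Y, ∀ y ∈ M, tf0 k x y = 0) →
      (∀ x ∈ Y, ∀ y ∈ T, tf0 k x y = 0) → (∀ x ∈ M, ∀ y ∈ T, tf0 k x y = 0) → Y ⊔ M ⊔ T = ⊤ →
      IsV (V := ↥M) ι p (subRep (R0 f φ) M hM) (4 * p ^ r) → IsV (V := ↥T) ι p (subRep (R0 f φ) T hT) (6 * p ^ r) →
      X ≤ Y → IsV (V := ↥X) ι p (subRep (R0 f φ) X hX) (4 * p ^ r) → Iso (tf0 k) X →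
      (∀ (Z : Submodule k ↥(W0 k)) (hZ : ∀ g, ∀ x ∈ Z, R0 f φ g x ∈ Z) (c : ℕ),
        IsV (V := ↥Z) ι p (subRep (R0 f φ) Z hZ) c → Z ≤ Y → Z = X) → Module.finrank k Y = 14 →
      (cf (Sy.{u, u, v} ι p) (R0 f φ)).count (4 * p ^ r) = 3 →
      (cf (Sy.{u, u, v} ι p) (R0 f φ)).count (6 * p ^ r) = 1 →
      (∀ c, c ≠ 4 * p ^ r → (cf (Sy.{u, u, v} ι p) (R0 f φ)).count c ≤ 1) → False := by
  intro hp r _ Y M T X _ hM hT hX _ hMn hTn hYM hYT hMT hsup hMV hTV hXY hXV hXi hu _ h4 _ hc1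
  obtain ⟨x, m, v, D⟩ := R2.F4L.A7.dat0 f h C hp r Y M T X hM hT hX hMn hTn hYM hYT hMT hsup hMV hTV hXY hXV hXi hu h4 hc1
  subst hp
  exact no_dat h D

end Cfsg.Agent.R2.H1.A7
end

-- part: R2/F4T/Core5
section
set_option linter.all false

/-!
# S5931: `p ≥ 5` (helper6)
-/

set_option autoImplicit false

namespace Cfsg.Agent.R2.F4T

open Cfsg Cfsg.Lie Module Matrix
open Cfsg.Agent.ChevalleyStructure.E6Min.Basic
open Cfsg.Agent.H952.F4 Cfsg.Agent.H952.F4.Jord
open Cfsg.Agent.R2.F4M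
open Cfsg.Agent.R2.F4L (Cx)

universe u v

theorem core5 {F : Type u} [Field F] [Fintype F] {K : Type v} [Field K] [Fintype K] {p a b : ℕ}
    {H : Subgroup ↥(chevF4.group F)} {φ : ProjectiveSpecialLinearGroup (Fin 2) K →* ↥(chevF4.group F)}
    (h : Cfg p a b H φ) (hp5 : 5 ≤ p) : 13 ≤ p ∧ a = b := by
  classical
  have hfp : Fact p.Prime := ⟨h.prime⟩
  have hcF := h.charF
  have hcK := h.charK
  have hck : CharP (AlgebraicClosure F) p :=
    charP_of_injective_algebraMap (algebraMap F (AlgebraicClosure F)).injective p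
  obtain ⟨ι⟩ := exists_iota p K (AlgebraicClosure F)
  have C : Cx ι p a (Rk (algebraMap F (AlgebraicClosure F)) φ) := cx h hp5
  exact fin5 _ h C (exists_tb _ h C (F4L.rl h C)) (R2.H1.A7.no_alpha7 _ h C)

end Cfsg.Agent.R2.F4T
end

-- part: S5931
section
prune_inst 0x1c4282000002004800000040000c04c0080000000020a0000002008080040030006000000000000000000000000001180080000002008008a000020000000000000000000000000000000000000000000000000000000
set_option linter.all false
open scoped Cfsg.Agent.FastGrp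

-- part: R2/F4P/Th/Y9g
section
/-!
# The submodules `V_{2 3^i + 2 3^j}`, VII (helper20, S5931)

* `YC.usp_iff` : the canonical description of the span of the adjoints; `YC.nonzero` : the case `c ≠ 0`; `y9`.
-/

set_option autoImplicit false
set_option linter.unusedSectionVars false
set_option linter.unusedVariables false

namespace Cfsg.Agent.R2.F4P.Th

open Cfsg Cfsg.Lie Module Matrix
open Cfsg.Agent.ChevalleyStructure.E6Min.Tables Cfsg.Agent.ChevalleyStructure.E6Min.Basic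
open Cfsg.Agent.H952.F4 (sh cr tf tr1 u0 hF4)
open Cfsg.Agent.H952.F4.Jord
open Cfsg.Agent.H952.F4.FixV (W0 mem_W0 finrank_W0 u0_ne_zero tr1_eq)
open Cfsg.Agent.R2.H9.E6
open Cfsg.Agent.GpExc.Field (emb)
open Cfsg.Agent.H943.SL2Rel Cfsg.Agent.H943.SL2Mod Cfsg.Agent.R2.H28.SL2 Cfsg.Agent.H943.RepAdd
open Cfsg.Agent.R2.F4M Cfsg.Agent.R2.F4N Cfsg.Agent.R2.F4L

universe u v w

section Gen

variable {k : Type u} [Field k] [DecidableEq k] {K : Type w} [Field K] [Fintype K] [DecidableEq K] {ι : K →+* k}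
variable [CharP k 3] [CharP K 3] {a : ℕ}

omit [DecidableEq k] [CharP k 3] in
theorem cr_mem_of {S : Set (I27 → k)} {T : Submodule k (I27 → k)} (h : ∀ x ∈ S, ∀ y ∈ S, cr x y ∈ T) {x y : I27 → k}
    (hx : x ∈ Submodule.span k S) (hy : y ∈ Submodule.span k S) : cr x y ∈ T := by
  induction hx using Submodule.span_induction with
  | mem x hx =>
    induction hy using Submodule.span_induction with
    | mem y hy => exact h x hx y hy
    | zero => rw [cr_zero_right]; exact T.zero_mem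
    | add a b _ _ ha hb => rw [cr_add_right]; exact T.add_mem ha hb
    | smul c a _ ha => rw [cr_smul_right]; exact T.smul_mem _ ha
  | zero => rw [cr_zero_left]; exact T.zero_mem
  | add a b _ _ ha hb => rw [cr_add_left]; exact T.add_mem ha hb
  | smul c a _ ha => rw [cr_smul_left]; exact T.smul_mem _ ha

variable {ρ : Representation k (Matrix.SpecialLinearGroup (Fin 2) K) (I27 → k)} {i j : ℕ} {y : ℕ → ℕ → I27 → k}

theorem Ys_eq (hy : TP ι 3 ρ 2 i 2 j y) : Ys y = Submodule.span k {v | ∃ p0 p1 p2 r0 r1 r2 : k, v = mm y p0 p1 p2 r0 r1 r2} := by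
  obtain ⟨e00, e01, e02, e10, e11, e12, e20, e21, e22⟩ := mm_y y
  apply le_antisymm
  · refine Submodule.span_le.2 ?_
    rintro _ ⟨⟨s, s'⟩, rfl⟩
    show y s s' ∈ Submodule.span k _
    by_cases hs : 2 < s ∨ 2 < s'
    · rw [hy.zero s s' hs]
      exact Submodule.zero_mem _
    · have h1 : s = 0 ∨ s = 1 ∨ s = 2 := by omega
      have h2 : s' = 0 ∨ s' = 1 ∨ s' = 2 := by omega
      rcases h1 with rfl | rfl | rfl <;> rcases h2 with rfl | rfl | rfl
      · exact Submodule.subset_span ⟨_, _, _, _, _, _, e00⟩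
      · exact Submodule.subset_span ⟨_, _, _, _, _, _, e01⟩
      · exact Submodule.subset_span ⟨_, _, _, _, _, _, e02⟩
      · exact Submodule.subset_span ⟨_, _, _, _, _, _, e10⟩
      · exact Submodule.subset_span ⟨_, _, _, _, _, _, e11⟩
      · exact Submodule.subset_span ⟨_, _, _, _, _, _, e12⟩
      · exact Submodule.subset_span ⟨_, _, _, _, _, _, e20⟩
      · exact Submodule.subset_span ⟨_, _, _, _, _, _, e21⟩
      · exact Submodule.subset_span ⟨_, _, _, _, _, _, e22⟩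
  · refine Submodule.span_le.2 ?_
    rintro _ ⟨p0, p1, p2, r0, r1, r2, rfl⟩
    exact mm_mem y _ _ _ _ _ _

theorem OY.ys {v : I27 → k} (hy : TP ι 3 ρ 2 i 2 j y) (hv : OY y v) {w : I27 → k} (hw : w ∈ Ys y) : tf v w = 0 := by
  rw [Ys_eq hy] at hw
  induction hw using Submodule.span_induction with
  | mem w hw =>
    obtain ⟨p0, p1, p2, r0, r1, r2, rfl⟩ := hw
    exact hv _ _ _ _ _ _
  | zero => rw [tf_comm, tf_zero_left]
  | add a b _ _ ha hb => rw [tf_add_right, ha, hb, add_zero]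
  | smul c a _ ha => rw [tf_smul_right, ha, mul_zero]

theorem comb_mm (y : ℕ → ℕ → I27 → k) (α β γ : k) : α • y 0 1 + β • y 1 1 + γ • y 2 1 = mm y α β γ 0 1 0 := by
  unfold mm col
  module

/-- **the canonical description** -/
theorem YC.usp_iff (h : YC ι a ρ i j y) [IsAlgClosed k] (hy0 : y ≠ 0) {c0 : k} (hc0 : c0 ≠ 0)
    (hc : cr (y 0 1) (y 2 1) + (4 : k) • sh (y 1 1) = c0 • u0 k) (hu : ∃ c : k, zz y = c • y) {v : I27 → k} :
    v ∈ Usp (y 0 1) (y 1 1) (y 2 1) ↔ v ∈ Bcr (Ys y) ∧ ∀ w ∈ Ys y, tf v w = 0 := by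
  have h2 := two3 k
  have hle1 : Usp (y 0 1) (y 1 1) (y 2 1) ≤ Bcr (Ys y) := by
    refine Submodule.span_le.2 ?_
    rintro _ ⟨α, β, γ, rfl⟩
    rw [comb_mm]
    have h3 : cr (mm y α β γ 0 1 0) (mm y α β γ 0 1 0) ∈ Bcr (Ys y) := cr_mem_Bcr (mm_mem y _ _ _ _ _ _) (mm_mem y _ _ _ _ _ _)
    rw [cr_self] at h3
    have := (Bcr (Ys y)).smul_mem (2 : k)⁻¹ h3
    rwa [smul_smul, inv_mul_cancel₀ h2, one_smul] at this
  have hort : ∀ v ∈ Usp (y 0 1) (y 1 1) (y 2 1), ∀ w ∈ Ys y, tf v w = 0 := by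
    intro v hv w hw
    unfold Usp at hv
    induction hv using Submodule.span_induction with
    | mem v hv =>
      obtain ⟨α, β, γ, rfl⟩ := hv
      rw [comb_mm]
      exact (h.oy _ _ _ _ _ _).ys h.tp hw
    | zero => exact tf_zero_left w
    | add a b _ _ ha hb => rw [tf_add_left, ha, hb, add_zero]
    | smul c a _ ha => rw [tf_smul_left, ha, mul_zero]
  refine ⟨fun hv => ⟨hle1 hv, hort v hv⟩, fun hv => ?_⟩
  have hle2 : Bcr (Ys y) ≤ Usp (y 0 1) (y 1 1) (y 2 1) ⊔ Ys (zz y) := by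
    refine Bcr_le fun m hm m' hm' => ?_
    rw [Ys_eq h.tp] at hm hm'
    refine cr_mem_of ?_ hm hm'
    rintro _ ⟨p0, p1, p2, r0, r1, r2, rfl⟩ _ ⟨q0, q1, q2, s0, s1, s2, rfl⟩
    have Q1 : ∀ r0 r1 r2 : k, cr (mm y p0 p1 p2 r0 r1 r2) (mm y q0 q1 q2 r0 r1 r2) =
        (r1 ^ 2 - r0 * r2) • cr (mm y p0 p1 p2 0 1 0) (mm y q0 q1 q2 0 1 0) := by
      intro r0 r1 r2
      have e : ∀ r0 r1 r2 : k, mm y (p0 + q0) (p1 + q1) (p2 + q2) r0 r1 r2 = mm y p0 p1 p2 r0 r1 r2 + mm y q0 q1 q2 r0 r1 r2 := by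
        intro r0 r1 r2
        unfold mm
        module
      have h1 := h.sh_pure hc0 hc (p0 + q0) (p1 + q1) (p2 + q2) r0 r1 r2
      rw [e, e, sh_add, sh_add, h.sh_pure hc0 hc p0 p1 p2 r0 r1 r2, h.sh_pure hc0 hc q0 q1 q2 r0 r1 r2, smul_add,
        smul_add] at h1
      exact add_left_cancel h1
    have Q3 : cr (mm y p0 p1 p2 r0 r1 r2) (mm y q0 q1 q2 s0 s1 s2) + cr (mm y p0 p1 p2 s0 s1 s2) (mm y q0 q1 q2 r0 r1 r2) =
        (2 * r1 * s1 - r0 * s2 - s0 * r2) • cr (mm y p0 p1 p2 0 1 0) (mm y q0 q1 q2 0 1 0) := by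
      have h1 := Q1 (r0 + s0) (r1 + s1) (r2 + s2)
      have e : ∀ p0 p1 p2 : k, mm y p0 p1 p2 (r0 + s0) (r1 + s1) (r2 + s2) = mm y p0 p1 p2 r0 r1 r2 + mm y p0 p1 p2 s0 s1 s2 := by
        intro p0 p1 p2
        unfold mm col
        module
      rw [e, e, cr_add_left, cr_add_right, cr_add_right, Q1 r0 r1 r2, Q1 s0 s1 s2] at h1
      rw [← sub_eq_zero] at h1 ⊢
      rw [← h1]
      module
    have hB := BB_eq h2 y p0 p1 p2 q0 q1 q2 r0 r1 r2 s0 s1 s2
    unfold BB at hB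
    have e : cr (mm y p0 p1 p2 r0 r1 r2) (mm y q0 q1 q2 s0 s1 s2) = (2 : k)⁻¹ •
        ((cr (mm y p0 p1 p2 r0 r1 r2) (mm y q0 q1 q2 s0 s1 s2) + cr (mm y p0 p1 p2 s0 s1 s2) (mm y q0 q1 q2 r0 r1 r2)) +
        (cr (mm y p0 p1 p2 r0 r1 r2) (mm y q0 q1 q2 s0 s1 s2) - cr (mm y p0 p1 p2 s0 s1 s2) (mm y q0 q1 q2 r0 r1 r2))) := by
      rw [add_add_sub_cancel, ← two_smul k, smul_smul, inv_mul_cancel₀ h2, one_smul]
    rw [e, hB, Q3]
    refine Submodule.smul_mem _ _ (Submodule.add_mem _ (Submodule.smul_mem _ _ (Submodule.mem_sup_left ?_))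
      (Submodule.smul_mem _ _ (Submodule.mem_sup_right (mm_mem (zz y) _ _ _ _ _ _))))
    have e3 : cr (mm y p0 p1 p2 0 1 0) (mm y q0 q1 q2 0 1 0) = sh ((p0 + q0) • y 0 1 + (p1 + q1) • y 1 1 + (p2 + q2) • y 2 1) -
        sh (p0 • y 0 1 + p1 • y 1 1 + p2 • y 2 1) - sh (q0 • y 0 1 + q1 • y 1 1 + q2 • y 2 1) := by
      have e5 : (p0 + q0) • y 0 1 + (p1 + q1) • y 1 1 + (p2 + q2) • y 2 1 = mm y p0 p1 p2 0 1 0 + mm y q0 q1 q2 0 1 0 := by
        unfold mm col
        module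
      rw [e5, comb_mm, comb_mm, sh_add]
      module
    rw [e3]
    exact Submodule.sub_mem _ (Submodule.sub_mem _ (mem_Usp _ _ _ _ _ _) (mem_Usp _ _ _ _ _ _)) (mem_Usp _ _ _ _ _ _)
  obtain ⟨m, hm, z', hz', rfl⟩ := Submodule.mem_sup.1 (hle2 hv.1)
  obtain ⟨γ, hγ⟩ := hu
  have hz'Y : z' ∈ Ys y := by
    have hle3 : Ys (zz y) ≤ Ys y := by
      refine Submodule.span_le.2 ?_
      rintro _ ⟨⟨s, s'⟩, rfl⟩
      show zz y s s' ∈ Ys y
      rw [hγ]
      exact Submodule.smul_mem _ _ (mem_Ys y s s')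
    exact hle3 hz'
  have hz'0 : z' = 0 := by
    refine h.nd hy0 (h.tf11 hc0 hc) hz'Y fun w hw => ?_
    have h1 := hv.2 w hw
    rwa [tf_add_left, hort m hm w hw, zero_add] at h1
  rw [hz'0, add_zero]
  exact hm

end Gen

section cfg

variable {F : Type u} [Field F] [Fintype F] {K : Type v} [Field K] [Fintype K] [DecidableEq K] {a b : ℕ}
variable {H : Subgroup ↥(chevF4.group F)} {φ : ProjectiveSpecialLinearGroup (Fin 2) K →* ↥(chevF4.group F)}
variable {k : Type u} [Field k] [DecidableEq k] {f : F →+* k} {ι : K →+* k} [CharP k 3] [CharP K 3]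
variable [IsAlgClosed k] {i j : ℕ} {y : ℕ → ℕ → I27 → k}

/-- **the span is the only irreducible submodule of its dimension** -/
theorem YC.uq (hc : _root_.Cfsg.Agent.R2.F4M.Cfg 3 a b H φ) (h : YC ι a (Rk f φ) i j y) (hy0 : y ≠ 0)
    (huniq : ∀ i' j' z, i' < a → j' < a → i' ≠ j' → TP ι 3 (Rk f φ) 2 i' 2 j' z → ∀ s s', z s s' ∈ Ys y) :
    Uq f φ (Ys y) := by
  obtain ⟨hX, hV⟩ := h.tp.isVb (a := a) h.C.card (by norm_num) (by norm_num) h.hij h.hi h.hj hy0
  have hir : Ir f φ (Ys y) := by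
    refine ⟨?_, hX, ?_, fun Z hZ hZs => ?_⟩
    · rw [Ys_eq h.tp]
      refine Submodule.span_le.2 ?_
      rintro _ ⟨p0, p1, p2, r0, r1, r2, rfl⟩
      exact (mem_W0 _).2 (h.tr _ _ _ _ _ _)
    · intro h0
      have h1 := mem_Ys y 0 0
      rw [h0] at h1
      exact h.tp.ne_of (a := a) h.C.card (by norm_num) (by norm_num) h.hij h.hi h.hj hy0 (by norm_num) (by norm_num)
        ((Submodule.mem_bot k).1 h1)
    · exact h.tp.sub (a := a) h.C.card (by norm_num) (by norm_num) h.hij h.hi h.hj hy0 hZ hZs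
  refine ⟨hir, fun Z hZ hdim => ?_⟩
  have h9 : finrank k (Ys y) = 9 := by
    obtain ⟨v, hv⟩ := IsV.basP ι 3 h.C.card (by norm_num) (by norm_num) h.hij h.hi h.hj hV
    have := Module.finrank_eq_card_basis (Module.Basis.mk hv.li hv.sp)
    rw [Fintype.card_prod, Fintype.card_fin] at this
    exact this
  obtain ⟨c, hcV, hcd⟩ := isV_of_ir (p := 3) (ι := ι) hc hZ
  rw [hdim, h9] at hcd
  obtain ⟨i', j', hij', rfl⟩ := card9 c hcd.symm
  have hlt : 2 * 3 ^ i' + 2 * 3 ^ j' ≤ Fintype.card K - 1 := hcV.choose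
  have hi' : i' < a := pos_lt hc (n := 2) (by norm_num) (by omega)
  have hj' : j' < a := pos_lt hc (n := 2) (by norm_num) (by omega)
  obtain ⟨v, hv⟩ := IsV.basP ι 3 h.C.card (by norm_num) (by norm_num) hij' hi' hj' hcV
  have hz := BasP.tp hv
  have hle : Z ≤ Ys y := by
    intro z hz'
    have h2 : (⟨z, hz'⟩ : Z) ∈ Submodule.span k (Set.range fun q : Fin (2 + 1) × Fin (2 + 1) => v q.1 q.2) := hv.sp trivial
    have h3 := Submodule.mem_map_of_mem (f := Z.subtype) h2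
    rw [Submodule.map_span] at h3
    have h4 : Submodule.span k (Z.subtype '' Set.range fun q : Fin (2 + 1) × Fin (2 + 1) => v q.1 q.2) ≤ Ys y := by
      refine Submodule.span_le.2 ?_
      rintro _ ⟨_, ⟨q, rfl⟩, rfl⟩
      exact huniq i' j' _ hi' hj' hij' hz q.1 q.2
    exact h4 h3
  rcases hir.ir Z hle hZ.st with h5 | h5
  · exact absurd h5 hZ.ne
  · exact h5

/-- **the case of a nonvanishing constant** -/
theorem YC.nonzero (hc : _root_.Cfsg.Agent.R2.F4M.Cfg 3 a b H φ) (h : YC ι a (Rk f φ) i j y) (hy0 : y ≠ 0)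
    (huniq : ∀ i' j' z, i' < a → j' < a → i' ≠ j' → TP ι 3 (Rk f φ) 2 i' 2 j' z → ∀ s s', z s s' ∈ Ys y)
    {c0 : k} (hc0 : c0 ≠ 0) (hcc : cr (y 0 1) (y 2 1) + (4 : k) • sh (y 1 1) = c0 • u0 k) : False := by
  have hU := h.uq hc hy0 huniq
  have hz : ∃ c : k, zz y = c • y := by
    have htp := tp_zz h.C.act h.tp
    exact h.tp.schurb (a := a) h.C.card (by norm_num) (by norm_num) h.hij h.hi h.hj hy0 htp
      (huniq i j _ h.hi h.hj h.hij htp)
  have T := h.tri hc0 hcc (r0 := 0) (r1 := 1) (r2 := 0) (by ring)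
  rw [col1, col1, col1] at T
  have iff := fun v => h.usp_iff hy0 hc0 hcc hz (v := v)
  refine sub6 (f := f) hc (by norm_num) (i := i) (ι := ι) (x0 := y 0 1) (x1 := y 1 1) (x2 := y 2 1)
    ⟨fun t α β γ => ?_, fun α β γ => ?_⟩ T (fun g hg v hv => ?_) (fun s hs hsur v hv => ?_)
  · rw [h.C.act.sh, comb_mm, tp_u h.tp, h.sh_pure hc0 hcc, comb_mm]
    have e : (2 * (ι t ^ 3 ^ j) * 0 + 1) ^ 2 - 0 * ((ι t ^ 3 ^ j) ^ 2 * 0 + (ι t ^ 3 ^ j) * 1 + 0) = (1 : k) := by ring
    rw [e, one_smul]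
    congr 2 <;> ring
  · rw [h.C.act.sh, comb_mm, tp_w h.tp, h.sh_pure hc0 hcc, comb_mm]
    have e : (-1 : k) ^ 2 - 0 * 0 = 1 := by ring
    rw [e, one_smul]
  · rw [iff] at hv ⊢
    refine ⟨?_, fun w hw => ?_⟩
    · have h5 : Bcr (Ys y) ≤ (Bcr (Ys y)).comap (Jr k (emb hF4 f g)) := by
        refine Bcr_le fun m hm m' hm' => ?_
        show Jr k (emb hF4 f g) (cr m m') ∈ Bcr (Ys y)
        rw [← Jr_cr]
        exact cr_mem_Bcr (hU.mem hc hg hm) (hU.mem hc hg hm')
      exact h5 hv.1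
    · have h6 : w = Jr k (emb hF4 f g) (Jr k (emb hF4 f g⁻¹) w) := by
        rw [← Jr_mul, ← map_mul, mul_inv_cancel, map_one, Jr_one]
      rw [h6, Jr_tf]
      exact hv.2 _ (hU.mem hc (inv_mem hg) hw)
  · rw [iff] at hv ⊢
    refine ⟨?_, fun w hw => ?_⟩
    · have hv1 := hv.1
      clear hv
      unfold Bcr at hv1 ⊢
      induction hv1 using Submodule.span_induction with
      | mem v hv =>
        obtain ⟨m, hm, m', hm', rfl⟩ := hv
        have e : sm s (cr m m') = cr (sm s m) (sm s m') := (map_cr s m m').symm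
        rw [e]
        exact Submodule.subset_span ⟨_, hU.sm_mem hs hsur hm, _, hU.sm_mem hs hsur hm', rfl⟩
      | zero =>
        rw [sm_zero]
        exact Submodule.zero_mem _
      | add v w _ _ hv hw =>
        rw [sm_add]
        exact Submodule.add_mem _ hv hw
      | smul c v _ hv =>
        rw [sm_smul]
        exact Submodule.smul_mem _ _ hv
    · have h1 := hU.uq _ (hU.toIr.smS hs hsur) (finrank_smS s hsur (Ys y))
      rw [← h1] at hw
      obtain ⟨w', hw', rfl⟩ := hw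
      have e : tf (sm s v) (sm s w') = s (tf v w') := map_tf s v w'
      rw [e, hv.2 w' hw', map_zero]

/-- **the submodules `V_{2 3^i + 2 3^j}` with (H)** -/
theorem y9 (hc : _root_.Cfsg.Agent.R2.F4M.Cfg 3 a b H φ) (C : Cx3 K a (Rk f φ)) (hi : i < a) (hj : j < a) (hij : i ≠ j)
    (hy : TP ι 3 (Rk f φ) 2 i 2 j y) (hy0 : y ≠ 0) (hH : ∀ σ τ : k, sh (yy y σ τ) = 0)
    (huniq : ∀ i' j' z, i' < a → j' < a → i' ≠ j' → TP ι 3 (Rk f φ) 2 i' 2 j' z → ∀ s s', z s s' ∈ Ys y) : False := by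
  have h : YC ι a (Rk f φ) i j y := ⟨C, hi, hj, hij, hy, hH⟩
  obtain ⟨c, hcc⟩ := h.exists_c
  obtain ⟨c', hcc'⟩ := h.swap.exists_c
  by_cases h1 : c = 0
  · by_cases h2 : c' = 0
    · refine h.zero hy0 (fun z hz => ?_) (h.pure0 (by rw [hcc, h1, zero_smul]) (by
        have := hcc'
        rw [h2, zero_smul] at this
        exact this))
      exact hy.schurb (a := a) C.card (by norm_num) (by norm_num) hij hi hj hy0 hz (huniq i j z hi hj hij hz)
    · refine h.swap.nonzero hc (fun h0 => hy0 ?_) ?_ h2 hcc'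
      · funext s s'
        exact congrFun (congrFun h0 s') s
      · intro i' j' z hi' hj' hij' hz s s'
        rw [Ys_swap]
        exact huniq i' j' z hi' hj' hij' hz s s'
  · exact h.nonzero hc hy0 huniq h1 hcc

end cfg

end Cfsg.Agent.R2.F4P.Th
end

-- part: R2/F4P/Th/Cxa
section
/-!
# S5931, `p = 3` : the context from the configuration

* `nine_span` : every tuple of type `(2, i'; 2, j')` lies in the span of a given nonzero one;
* `cx3` : the context `Cx3` for `Rk`; `exists_emb` : the embedding `K → k`.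
-/

set_option autoImplicit false
set_option linter.unusedSectionVars false
set_option linter.unusedVariables false

namespace Cfsg.Agent.R2.F4P.Th

open Cfsg Cfsg.Lie Module Matrix
open Cfsg.Agent.ChevalleyStructure.E6Min.Tables Cfsg.Agent.ChevalleyStructure.E6Min.Basic
open Cfsg.Agent.H952.F4 (sh cr tf tr1 u0 hF4)
open Cfsg.Agent.H952.F4.Jord
open Cfsg.Agent.H952.F4.FixV (W0 mem_W0 finrank_W0 u0_ne_zero tr1_eq)
open Cfsg.Agent.R2.H9.E6
open Cfsg.Agent.GpExc.Field (emb)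
open Cfsg.Agent.H943.SL2Rel Cfsg.Agent.H943.SL2Mod Cfsg.Agent.R2.H28.SL2 Cfsg.Agent.H943.RepAdd
open Cfsg.Agent.R2.F4M Cfsg.Agent.R2.F4L

universe u v w

section Uq

variable {k : Type u} [Field k] [DecidableEq k] {K : Type w} [Field K] [Fintype K] [DecidableEq K] {ι : K →+* k}
variable {a : ℕ} [CharP k 3] [CharP K 3] [IsAlgClosed k]
variable {ρ : Representation k (Matrix.SpecialLinearGroup (Fin 2) K) (I27 → k)}

/-- tuples with values in the scalars vanish -/
theorem Cx3.tp_key (C : Cx3 K a ρ) {i j : ℕ} (hi : i < a) (hj : j < a) (hij : i ≠ j) {x : ℕ → ℕ → I27 → k}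
    (hx : TP ι 3 ρ 2 i 2 j x) (hxW : ∀ s s', x s s' ∈ W0 k)
    (h0 : (fun s s' => (Lk k).mkQ (⟨x s s', hxW s s'⟩ : W0 k)) = 0) : x = 0 := by
  have A : Adm 3 a 2 i 2 j := ⟨by norm_num, by norm_num, hij, hi, hj⟩
  by_contra hx0
  obtain ⟨hX, hV⟩ := hx.isV C.card A hx0
  have h1 : Sp x ≤ Submodule.span k {u0 k} := Sp_le fun s s' => by
    have h2 := congrFun (congrFun h0 s) s'
    have h3 : (Lk k).mkQ (⟨x s s', hxW s s'⟩ : W0 k) = 0 := h2
    rw [Submodule.mkQ_apply, Submodule.Quotient.mk_eq_zero] at h3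
    exact h3
  have h2 := Submodule.finrank_mono h1
  have h4 : Module.finrank k (Submodule.span k {u0 k}) ≤ 1 := by
    have := finrank_span_le_card (R := k) ({u0 k} : Set (I27 → k))
    simpa using this
  have h5 := IsV.finrank ι hV
  rw [card22 hij hi hj] at h5
  omega

/-- **all the tuples `(2, i'; 2, j')` lie in one submodule** -/
theorem nine_span (C : Cx3 K a ρ) (no3 : ∀ i, i < a → ∀ x, TS ι 3 ρ 2 i x → x = 0) {i j : ℕ} (hi : i < a) (hj : j < a)
    (hij : i ≠ j) {i' j' : ℕ} (hi' : i' < a) (hj' : j' < a) (hij' : i' ≠ j')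
    {y z : ℕ → ℕ → I27 → k} (hy : TP ι 3 ρ 2 i 2 j y) (hz : TP ι 3 ρ 2 i' 2 j' z) (hy0 : y ≠ 0) (s s' : ℕ) :
    z s s' ∈ Sp (k := k) y := by
  have A : Adm 3 a 2 i 2 j := ⟨by norm_num, by norm_num, hij, hi, hj⟩
  have A' : Adm 3 a 2 i' 2 j' := ⟨by norm_num, by norm_num, hij', hi', hj'⟩
  by_cases hz0 : z = 0
  · rw [hz0]
    exact Submodule.zero_mem _
  have hyW := C.tp_W0 A (by norm_num) hy
  have hzW := C.tp_W0 A' (by norm_num) hz
  have hyV := C.tpV hy hyW
  have hzV := C.tpV hz hzW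
  have hyV0 : (fun s s' => (Lk k).mkQ (⟨y s s', hyW s s'⟩ : W0 k)) ≠ 0 := fun h => hy0 (C.tp_key hi hj hij hy hyW h)
  have hzV0 : (fun s s' => (Lk k).mkQ (⟨z s s', hzW s s'⟩ : W0 k)) ≠ 0 := fun h => hz0 (C.tp_key hi' hj' hij' hz hzW h)
  obtain ⟨hX, hVX⟩ := hyV.isV C.card A hyV0
  obtain ⟨hZ, hVZ⟩ := hzV.isV C.card A' hzV0
  have heq := C.nine_uniq no3 hVX hVZ (card22 hij hi hj k) (card22 hij' hi' hj' k)
  obtain ⟨hY, hVY⟩ := hy.isV C.card A hy0
  obtain ⟨hZ', hVZ'⟩ := hz.isV C.card A' hz0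
  rcases irr_or hVY hVZ' with h0 | h0
  swap
  · rw [h0]
    exact mem_Sp z s s'
  exfalso
  -- the span of `z` lies in the span of `y` and `u0`
  have hle : Sp z ≤ Sp y ⊔ Submodule.span k {u0 k} := Sp_le fun r r' => by
    have h1 : (Lk k).mkQ (⟨z r r', hzW r r'⟩ : W0 k) ∈ Sp (k := k) (fun s s' => (Lk k).mkQ (⟨y s s', hyW s s'⟩ : W0 k)) := by
      rw [heq]
      exact mem_Sp (fun s s' => (Lk k).mkQ (⟨z s s', hzW s s'⟩ : W0 k)) r r'
    have h2 : Sp (k := k) (fun s s' => (Lk k).mkQ (⟨y s s', hyW s s'⟩ : W0 k)) ≤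
        (Sp (k := k) (fun s s' => (⟨y s s', hyW s s'⟩ : W0 k))).map (Lk k).mkQ := Sp_le fun r r' =>
      Submodule.mem_map_of_mem (mem_Sp (fun s s' => (⟨y s s', hyW s s'⟩ : W0 k)) r r')
    obtain ⟨x, hx, hxe⟩ := h2 h1
    have h3 : (x : I27 → k) ∈ Sp (k := k) y := by
      have h4 : Sp (k := k) (fun s s' => (⟨y s s', hyW s s'⟩ : W0 k)) ≤ (Sp (k := k) y).comap (W0 k).subtype := Sp_le fun r r' => by
        show y r r' ∈ Sp (k := k) y
        exact mem_Sp y r r'
      exact h4 hx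
    have h4 : (Lk k).mkQ (x - ⟨z r r', hzW r r'⟩) = 0 := by rw [map_sub, hxe, sub_self]
    rw [Submodule.mkQ_apply, Submodule.Quotient.mk_eq_zero] at h4
    have h5 : (x : I27 → k) - z r r' ∈ Submodule.span k {u0 k} := h4
    have h6 : z r r' = (x : I27 → k) + -((x : I27 → k) - z r r') := by abel
    rw [h6]
    exact Submodule.add_mem_sup h3 (Submodule.neg_mem _ h5)
  have h1 := Submodule.finrank_sup_add_finrank_inf_eq (Sp (k := k) y) (Sp (k := k) z)
  rw [h0, finrank_bot, add_zero] at h1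
  have h2 := Submodule.finrank_mono (sup_le (le_sup_left : Sp (k := k) y ≤ Sp y ⊔ Submodule.span k {u0 k}) hle)
  have h3 := Submodule.finrank_add_le_finrank_add_finrank (Sp (k := k) y) (Submodule.span k {u0 k})
  have h4 : Module.finrank k (Submodule.span k {u0 k}) ≤ 1 := by
    have := finrank_span_le_card (R := k) ({u0 k} : Set (I27 → k))
    simpa using this
  have h5 := IsV.finrank ι hVY
  rw [card22 hij hi hj] at h5
  have h6 := IsV.finrank ι hVZ'
  rw [card22 hij' hi' hj'] at h6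
  omega

end Uq

section cfg

variable {F : Type u} [Field F] [Fintype F] {K : Type v} [Field K] [Fintype K] {a b : ℕ}
variable {H : Subgroup ↥(chevF4.group F)} {φ : ProjectiveSpecialLinearGroup (Fin 2) K →* ↥(chevF4.group F)}
variable {k : Type u} [Field k] [DecidableEq k]

/-- the two forms of the action -/
theorem V_psi3 [Algebra F k] (g : _root_.Matrix.SpecialLinearGroup (Fin 2) K) (x : I27 → k) :
    Cfsg.Agent.H163.E6.V k (F4N.ψk k φ (pq g)) x = Rk (algebraMap F k) φ g x := by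
  have h : Cfsg.Agent.H163.E6.V k (F4N.ψk k φ (pq g)) = Rk (algebraMap F k) φ g := by
    refine LinearMap.pi_ext' fun i => LinearMap.ext_ring ?_
    have e : (LinearMap.single k (fun _ : I27 => k) i) 1 = fun j => algebraMap F k ((Pi.single i (1 : F) : I27 → F) j) := by
      funext j
      rw [LinearMap.single_apply]
      by_cases hij : j = i
      · subst hij
        rw [Pi.single_eq_same, Pi.single_eq_same, map_one]
      · rw [Pi.single_eq_of_ne hij, Pi.single_eq_of_ne hij, map_zero]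
    rw [LinearMap.comp_apply, LinearMap.comp_apply, e, Rk_map]
    have h1 := Cfsg.Agent.H65.E6Emb.V_emb (algebraMap F k) (zt F (φ (pq g))) (Pi.single i (1 : F))
    rw [V_zt] at h1
    exact h1
  rw [h]

/-- **the context** -/
theorem cx3 [DecidableEq K] [Algebra F k] [Algebra.IsAlgebraic F k] (h : _root_.Cfsg.Agent.R2.F4M.Cfg 3 a b H φ) :
    Cx3 K a (Rk (algebraMap F k) φ) where
  act := act_Rk
  ha := by
    have h1 := h.seven
    have h2 := h.ha
    rw [h.cardK] at h1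
    rcases Nat.lt_or_ge a 2 with h3 | h3
    · have h4 : a = 1 := by omega
      rw [h4] at h1
      norm_num at h1
    · exact h3
  card := h.cardK
  neg := by
    rw [← F4M.h_neg_one]
    exact Rk_cen _ _
  fix y hy := h.nofix_rk _ hy
  fixm y hy := h.fix_mod (algebraMap F k) fun g => by
    obtain ⟨c, hc⟩ := hy g
    exact ⟨c, by rw [hc]; abel⟩
  white W hst hW := F4N.white h (by norm_num) (h.fixU k) hW fun t x hx => by
    obtain ⟨g, rfl⟩ := pq_surjective t
    rw [V_psi3]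
    exact hst g x hx

/-- **the embedding** -/
theorem exists_emb (K : Type v) [Field K] [Fintype K] (k : Type u) [Field k] [IsAlgClosed k] (p : ℕ) [Fact p.Prime]
    [CharP k p] [CharP K p] : Nonempty (K →+* k) := by
  letI := ZMod.algebra K p
  letI := ZMod.algebra k p
  haveI : Module.Finite (ZMod p) K := Module.Finite.of_finite
  exact ⟨(IsAlgClosed.lift (R := ZMod p) (S := K) (M := k)).toRingHom⟩

end cfg

end Cfsg.Agent.R2.F4P.Th
end

-- part: R2/F4P/Th/Cxb
section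
/-!
# S5931, `p = 3` : the assembly modulo `no4`

* `y9z` : a tuple of type `(2, i; 2, j)` with (H) vanishes; `core3_of` : the assembly.
-/

set_option autoImplicit false
set_option linter.unusedSectionVars false
set_option linter.unusedVariables false

namespace Cfsg.Agent.R2.F4P.Th

open Cfsg Cfsg.Lie Module Matrix
open Cfsg.Agent.ChevalleyStructure.E6Min.Tables Cfsg.Agent.ChevalleyStructure.E6Min.Basic
open Cfsg.Agent.H952.F4 (sh cr tf tr1 u0 hF4)
open Cfsg.Agent.H952.F4.Jord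
open Cfsg.Agent.H943.SL2Rel Cfsg.Agent.H943.SL2Mod Cfsg.Agent.R2.H28.SL2 Cfsg.Agent.H943.RepAdd
open Cfsg.Agent.R2.F4M Cfsg.Agent.R2.F4L

universe u v w

variable {F : Type u} [Field F] [Fintype F] {K : Type v} [Field K] [Fintype K] {a b : ℕ}
variable {H : Subgroup ↥(chevF4.group F)} {φ : ProjectiveSpecialLinearGroup (Fin 2) K →* ↥(chevF4.group F)}

/-- **tuples of type `(2, i; 2, j)` with (H) vanish** -/
theorem y9z [DecidableEq K] {k : Type u} [Field k] [DecidableEq k] {f : F →+* k} {ι : K →+* k} [CharP k 3] [CharP K 3]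
    [IsAlgClosed k] (hc : Cfg 3 a b H φ) (C : Cx3 K a (Rk f φ)) {i j : ℕ} (hi : i < a) (hj : j < a) (hij : i ≠ j)
    {y : ℕ → ℕ → I27 → k} (hy : TP ι 3 (Rk f φ) 2 i 2 j y) (hH : ∀ σ τ : k, sh (yy y σ τ) = 0) : y = 0 := by
  by_contra hy0
  exact y9 hc C hi hj hij hy hy0 hH fun i' j' z hi' hj' hij' hz s s' =>
    nine_span C (fun i hi x hx => no3 hc C hi hx) hi hj hij hi' hj' hij' hy hz hy0 s s'

end Cfsg.Agent.R2.F4P.Th
end

-- part: R2/F4P/Th/Core
section
/-!
# S5931, `p = 3` : `core3` modulo `no4`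

* `core3_no4 (hc : Cfg 3 a b H φ) (hN4) : False`, where `hN4` is the statement `no4` : no tuple of type `(1, i; 1, j)`.
-/

set_option autoImplicit false
set_option linter.unusedSectionVars false
set_option linter.unusedVariables false

namespace Cfsg.Agent.R2.F4P.Th

open Cfsg Cfsg.Lie Module Matrix
open Cfsg.Agent.ChevalleyStructure.E6Min.Tables Cfsg.Agent.ChevalleyStructure.E6Min.Basic
open Cfsg.Agent.H952.F4 (sh cr tf tr1 u0 hF4)
open Cfsg.Agent.H952.F4.Jord
open Cfsg.Agent.H943.SL2Rel Cfsg.Agent.H943.SL2Mod Cfsg.Agent.R2.H28.SL2 Cfsg.Agent.H943.RepAdd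
open Cfsg.Agent.R2.F4M Cfsg.Agent.R2.F4L

universe u v w

variable {F : Type u} [Field F] [Fintype F] {K : Type v} [Field K] [Fintype K] {a b : ℕ}
variable {H : Subgroup ↥(chevF4.group F)} {φ : ProjectiveSpecialLinearGroup (Fin 2) K →* ↥(chevF4.group F)}

/-- **`core3` modulo `no4`** (with the skeleton `skel`) -/
theorem core3_no4 (hc : Cfg 3 a b H φ)
    (hN4 : ∀ (_ : DecidableEq K) (k : Type u) (_ : Field k) (_ : DecidableEq k) (_ : IsAlgClosed k) (_ : CharP k 3)
      (_ : CharP K 3) (ι : K →+* k) (ρ : Representation k (Matrix.SpecialLinearGroup (Fin 2) K) (I27 → k)) (C : Cx3 K a ρ)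
      (no3 : ∀ i, i < a → ∀ x, TS ι 3 ρ 2 i x → x = 0)
      (hy9 : ∀ i j y, i < a → j < a → i ≠ j → TP ι 3 ρ 2 i 2 j y → (∀ σ τ, sh (yy y σ τ) = 0) → y = 0)
      (i j : ℕ) (x : ℕ → ℕ → I27 → k), i < a → j < a → i ≠ j → TP ι 3 ρ 1 i 1 j x → x = 0) : False := by
  have iF := hc.charF
  have iK := hc.charK
  let dK : DecidableEq K := Classical.decEq K
  let dk : DecidableEq (AlgebraicClosure F) := Classical.decEq _
  have ik : CharP (AlgebraicClosure F) 3 := charP_of_injective_ringHom (algebraMap F (AlgebraicClosure F)).injective 3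
  obtain ⟨ι⟩ := exists_emb K (AlgebraicClosure F) 3
  have C : Cx3 K a (Rk (algebraMap F (AlgebraicClosure F)) φ) := cx3 hc
  have h3 : ∀ (ι : K →+* AlgebraicClosure F) i, i < a → ∀ x,
      TS ι 3 (Rk (algebraMap F (AlgebraicClosure F)) φ) 2 i x → x = 0 := fun ι i hi x hx => no3 hc C hi hx
  have h9 : ∀ (ι : K →+* AlgebraicClosure F) i j y, i < a → j < a → i ≠ j →
      TP ι 3 (Rk (algebraMap F (AlgebraicClosure F)) φ) 2 i 2 j y →
      (∀ σ τ, sh (yy y σ τ) = 0) → y = 0 := fun ι i j y hi hj hij hy hH => y9z hc C hi hj hij hy hH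
  exact skel C ι h3 (fun ι i j hi hj hij x hx =>
    hN4 dK (AlgebraicClosure F) inferInstance dk inferInstance ik iK ι _ C (h3 ι) (h9 ι) i j x hi hj hij hx)
    (fun ι i j hi hj hij y hy hy0 hH _ => hy0 (h9 ι i j y hi hj hij hy hH))

end Cfsg.Agent.R2.F4P.Th
end

-- part: R2/F4P/Th/X4
section
/-!
# S5931, `p = 3` : tuples of type `(1, i; 1, j)` (helper21)

* `x4F` : the trilinear form vanishes on the span; `x4N` : the norm vanishes;
* `x4y` : the squares form a tuple of type `(2, i; 2, j)`;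
* `no4` : the tuple is zero.
-/

set_option autoImplicit false
set_option linter.unusedSectionVars false
set_option linter.unusedVariables false
set_option linter.unusedSimpArgs false

namespace Cfsg.Agent.R2.F4P.Th

open Cfsg.Lie
open Cfsg.Agent.ChevalleyStructure.E6Min.Tables Cfsg.Agent.ChevalleyStructure.E6Min.Basic
open Cfsg.Agent.H952.F4 (sh cr tf tr1 u0)
open Cfsg.Agent.H952.F4.Jord
open Cfsg.Agent.H952.F4.FixV (W0 mem_W0)
open Cfsg.Agent.H943.SL2Rel Cfsg.Agent.H943.SL2Mod Cfsg.Agent.R2.H28.SL2 Cfsg.Agent.H943.RepAdd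
open Cfsg.Agent.R2.F4L
open Cfsg.Agent.R2.GEO (tfB tfB_apply crB crB_apply)

universe u v w

variable {k : Type u} [Field k] [DecidableEq k] {K : Type w} [Field K] [Fintype K] [DecidableEq K] {ι : K →+* k}
variable [CharP k 3] [CharP K 3] {a : ℕ}
variable {ρ : Representation k (Matrix.SpecialLinearGroup (Fin 2) K) (I27 → k)} {i j : ℕ} {x : ℕ → ℕ → I27 → k}

theorem TP.x10 (hx : TP ι 3 ρ 1 i 1 j x) (t : K) : ρ (Cfsg.Agent.H943.SL2Rel.u t) (x 1 0) =
    x 1 0 + (ι t ^ 3 ^ j) • x 1 1 := by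
  rw [hx.u 1 le_rfl 0 (by norm_num) t]
  simp only [Nat.sub_zero, Nat.sub_self, Finset.sum_range_succ, Finset.sum_range_zero, zero_add, Nat.choose_zero_right,
    Nat.choose_self, Nat.cast_one, pow_zero, pow_one, one_mul, mul_one, one_smul, add_zero]

theorem TP.x01 (hx : TP ι 3 ρ 1 i 1 j x) (t : K) : ρ (Cfsg.Agent.H943.SL2Rel.u t) (x 0 1) =
    x 0 1 + (ι t ^ 3 ^ i) • x 1 1 := by
  rw [hx.u 0 (by norm_num) 1 le_rfl t]
  simp only [Nat.sub_zero, Nat.sub_self, Finset.sum_range_succ, Finset.sum_range_zero, zero_add, Nat.choose_zero_right,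
    Nat.choose_self, Nat.cast_one, pow_zero, pow_one, one_mul, mul_one, one_smul, add_zero]

/-- **the trilinear form vanishes** -/
theorem x4F [IsAlgClosed k] (H : Act ρ) (hF : Fintype.card K = 3 ^ a) (hi : i < a) (hj : j < a) (hij : i ≠ j)
    (hx : TP ι 3 ρ 1 i 1 j x) (hx0 : x ≠ 0) (A B C D E F : ℕ) : tf (cr (x A B) (x C D)) (x E F) = 0 := by
  obtain ⟨M, _, _, τ, v, f, hV, hv, hf, he, hinj⟩ := hx.emb hF (by norm_num) (by norm_num) hij hi hj hx0
  let T : M →ₗ[k] M →ₗ[k] M →ₗ[k] k := ((crB k).compl₁₂ f f).compr₂ ((tfB k).compl₂ f)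
  have hT : ∀ a b c, T a b c = tf (cr (f a) (f b)) (f c) := fun _ _ _ => rfl
  have h0 : T = 0 := by
    refine tri11 (by norm_num) hF ⟨by norm_num, by norm_num, hij, hi, hj⟩ hv T (fun a b c => ?_) (fun a b c => ?_)
      fun g a b c => ?_
    · rw [hT, hT, cr_comm]
    · rw [hT, hT, tf_cr, tf_cr, cr_comm (f b)]
    · rw [hT, hT, he, he, he, H.tf3]
  rw [← hf, ← hf, ← hf, ← hT, h0]
  rfl

/-- the mixed values of the norm vanish -/
theorem x4S [IsAlgClosed k] (H : Act ρ) (hF : Fintype.card K = 3 ^ a) (hi : i < a) (hj : j < a) (hij : i ≠ j)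
    (hx : TP ι 3 ρ 1 i 1 j x) (hx0 : x ≠ 0) (A B C D : ℕ) : tf (sh (x A B)) (x C D) = 0 := by
  have h2 : (2 : k) ≠ 0 := two_ne 3 (by norm_num)
  have h1 := x4F H hF hi hj hij hx hx0 A B A B C D
  rw [cr_self, tf_smul_left] at h1
  exact (mul_eq_zero.1 h1).resolve_left h2

theorem pow_ne_x4 (ι : K →+* k) (hF : Fintype.card K = 3 ^ a) {A B : ℕ} (hA : A < Fintype.card K - 1)
    (hB : B < Fintype.card K - 1) (hAB : A ≠ B) : ∃ lam : Kˣ, ι lam ^ A ≠ ι lam ^ B := by
  obtain ⟨lam, hlam⟩ := exists_prim (k := k) ι 0 3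
  rw [pow_zero, pow_one] at hlam
  exact ⟨lam, fun h => hAB (hlam.pow_inj hA hB h)⟩

/-- **the norm vanishes** -/
theorem x4N [IsAlgClosed k] (H : Act ρ) (hF : Fintype.card K = 3 ^ a) (hi : i < a) (hj : j < a) (hij : i ≠ j)
    (hx : TP ι 3 ρ 1 i 1 j x) : cubicT (x 0 0) = 0 ∧ cubicT (x 1 0) = 0 ∧ cubicT (x 0 1) = 0 ∧ cubicT (x 1 1) = 0 := by
  have cube : ∀ z : k, z ^ 3 = 1 → z = 1 := by
    intro z hz
    have h1 : (z - 1) ^ 3 = 0 := by
      rw [sub_pow_char (p := 3) z 1, hz, one_pow, sub_self]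
    exact sub_eq_zero.1 (pow_eq_zero_iff (by norm_num) |>.1 h1)
  have hA : Adm 3 a 2 i 2 j := ⟨by norm_num, by norm_num, hij, hi, hj⟩
  have hle := hA.le hF
  have h4 : 0 < 3 ^ i := Nat.pow_pos (by norm_num)
  have h5 : 0 < 3 ^ j := Nat.pow_pos (by norm_num)
  have n11 : cubicT (x 1 1) = 0 := by
    obtain ⟨lam, hl⟩ := pow_ne_x4 (k := k) ι hF (A := 3 ^ i + 3 ^ j) (B := 0) (by omega) (by omega) (by omega)
    refine H.wtN (hx.h 1 le_rfl 1 le_rfl lam) fun h => hl ?_
    have h1 := cube _ h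
    rw [pow_zero, pow_add]
    simpa only [_root_.pow_one, _root_.tsub_self, _root_.pow_zero, _root_.mul_one] using h1
  have n10 : cubicT (x 1 0) = 0 := by
    obtain ⟨lam, hl⟩ := pow_ne_x4 (k := k) ι hF (A := 3 ^ i) (B := 3 ^ j) (by omega) (by omega)
      (fun h => hij (Nat.pow_right_injective le_rfl (by simpa using h)))
    refine H.wtN (hx.h 1 le_rfl 0 (by norm_num) lam) fun h => hl ?_
    have h1 := cube _ h
    have h3 : ι (lam : K) ^ 3 ^ j ≠ 0 := pow_ne_zero _ ((map_ne_zero ι).2 lam.ne_zero)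
    simp only [pow_one, Nat.sub_self, pow_zero, mul_one, Nat.sub_zero, one_mul] at h1
    field_simp at h1
    exact h1
  have n00 : cubicT (x 0 0) = 0 := by
    have h1 := H.N Cfsg.Agent.H943.SL2Rel.w (x 1 1)
    rw [hx.w 1 le_rfl 1 le_rfl, n11, N_smul] at h1
    simpa using h1
  have n01 : cubicT (x 0 1) = 0 := by
    have h1 := H.N Cfsg.Agent.H943.SL2Rel.w (x 1 0)
    rw [hx.w 1 le_rfl 0 (by norm_num), n10, N_smul] at h1
    simpa only [_root_.pow_one, _root_.pow_zero, _root_.mul_one, _root_.tsub_self, _root_.tsub_zero, _root_.mul_eq_zero, _root_.ne_eq, _root_.OfNat.ofNat_ne_zero, _root_.not_false_eq_true, _root_.pow_eq_zero_iff, _root_.neg_eq_zero, _root_.one_ne_zero, _root_.false_or] using h1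
  exact ⟨n00, n10, n01, n11⟩

/-- the norm of a combination of four vectors -/
theorem N_lin4 (c d e f : k) (x y z t : I27 → k) (h1 : cubicT x = 0) (h2 : cubicT y = 0) (h3 : cubicT z = 0)
    (h4 : cubicT t = 0) (s1 : tf (sh x) y = 0) (s2 : tf (sh x) z = 0) (s3 : tf (sh x) t = 0) (s4 : tf (sh y) x = 0)
    (s5 : tf (sh y) z = 0) (s6 : tf (sh y) t = 0) (s7 : tf (sh z) x = 0) (s8 : tf (sh z) y = 0) (s9 : tf (sh z) t = 0)
    (s10 : tf (sh t) x = 0) (s11 : tf (sh t) y = 0) (s12 : tf (sh t) z = 0) (r1 : tf (cr x y) z = 0)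
    (r2 : tf (cr x y) t = 0) (r3 : tf (cr x z) t = 0) (r4 : tf (cr y z) t = 0) :
    cubicT (c • x + d • y + e • z + f • t) = 0 := by
  rw [N_add, N_lin3, h1, h2, h3, s1, s2, s4, s5, s7, s8, r1, N_smul, h4, tf_comm _ (sh (f • t)), sh_add, sh_add,
    sh_smul, sh_smul, sh_smul, sh_smul, cr_add_left, cr_smul_left, cr_smul_left, cr_smul_left, cr_smul_right,
    cr_smul_right, cr_smul_right]
  simp only [tf_add_left, tf_smul_left, tf_smul_right, tf_add_right, s3, s6, s9, s10, s11, s12, r2, r3, r4]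
  ring

/-- the squares -/
noncomputable def x4z (x : ℕ → ℕ → I27 → k) : ℕ → ℕ → I27 → k := fun s s' => match s, s' with
  | 0, 0 => (4 : k) • sh (x 0 0)
  | 1, 0 => (2 : k) • cr (x 0 0) (x 1 0)
  | 2, 0 => (4 : k) • sh (x 1 0)
  | 0, 1 => (2 : k) • cr (x 0 0) (x 0 1)
  | 1, 1 => cr (x 0 0) (x 1 1) + cr (x 1 0) (x 0 1)
  | 2, 1 => (2 : k) • cr (x 1 0) (x 1 1)
  | 0, 2 => (4 : k) • sh (x 0 1)
  | 1, 2 => (2 : k) • cr (x 0 1) (x 1 1)
  | 2, 2 => (4 : k) • sh (x 1 1)
  | _, _ => 0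

theorem x4z_yy (x : ℕ → ℕ → I27 → k) (σ τ : k) :
    yy (x4z x) σ τ = (4 : k) • sh ((1 : k) • x 0 0 + σ • x 1 0 + τ • x 0 1 + (σ * τ) • x 1 1) := by
  simp only [yy, x4z, sh_add, sh_smul, cr_add_left, cr_smul_left, cr_smul_right]
  module

/-- **the squares form a tuple** -/
theorem x4T (H : Act ρ) (hx : TP ι 3 ρ 1 i 1 j x) : TP ι 3 ρ 2 i 2 j (x4z x) where
  zero := fun s s' hs => by
    rcases hs with hs | hs
    · obtain ⟨s, rfl⟩ : ∃ t, s = t + 3 := ⟨s - 3, by omega⟩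
      rfl
    · obtain ⟨s', rfl⟩ : ∃ t, s' = t + 3 := ⟨s' - 3, by omega⟩
      rcases s with _ | _ | _ | s <;> rfl
  u := fun s hs s' hs' t => by
    have c : ((Nat.choose 2 1 : ℕ) : k) = 2 := by norm_num
    interval_cases s <;> interval_cases s' <;>
      simp only [x4z, Nat.sub_zero, Nat.sub_self, Nat.reduceSub, Nat.reduceAdd, Finset.sum_range_succ,
        Finset.sum_range_zero, zero_add, Nat.choose_zero_right, Nat.choose_self, c, Nat.choose_one_right, Nat.cast_one,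
        Nat.cast_ofNat, pow_zero, pow_one, one_mul, mul_one, one_smul, add_zero, map_smul, map_add, H.cr, H.sh, hx.e00,
        hx.x10, hx.x01, hx.top, sh_add, sh_smul, cr_add_left, cr_add_right, cr_smul_left, cr_smul_right, cr_self,
        cr_comm (x 1 0) (x 0 0), cr_comm (x 0 1) (x 0 0), cr_comm (x 1 1) (x 0 0), cr_comm (x 0 1) (x 1 0),
        cr_comm (x 1 1) (x 1 0), cr_comm (x 1 1) (x 0 1)] <;>
      module
  h := fun s hs s' hs' b => by
    have hb : ι (b : K) ≠ 0 := (map_ne_zero ι).2 b.ne_zero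
    have h1 : ι (b : K) ^ 3 ^ i ≠ 0 := pow_ne_zero _ hb
    have h2 : ι (b : K) ^ 3 ^ j ≠ 0 := pow_ne_zero _ hb
    have e00 := hx.h 0 (by norm_num) 0 (by norm_num) b
    have e10 := hx.h 1 le_rfl 0 (by norm_num) b
    have e01 := hx.h 0 (by norm_num) 1 le_rfl b
    have e11 := hx.h 1 le_rfl 1 le_rfl b
    interval_cases s <;> interval_cases s' <;>
      simp only [x4z, Nat.sub_zero, Nat.sub_self, Nat.reduceSub, pow_zero, pow_one, one_mul, mul_one, map_smul, map_add,
        H.cr, H.sh, e00, e10, e01, e11, sh_smul, cr_smul_left, cr_smul_right] <;>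
      match_scalars <;> field_simp
  w := fun s hs s' hs' => by
    have e00 := hx.w 0 (by norm_num) 0 (by norm_num)
    have e10 := hx.w 1 le_rfl 0 (by norm_num)
    have e01 := hx.w 0 (by norm_num) 1 le_rfl
    have e11 := hx.w 1 le_rfl 1 le_rfl
    interval_cases s <;> interval_cases s' <;>
      simp only [x4z, Nat.sub_zero, Nat.sub_self, Nat.reduceSub, pow_zero, pow_one, one_mul, mul_one, map_smul, map_add,
        H.cr, H.sh, e00, e10, e01, e11, sh_smul, cr_smul_left, cr_smul_right,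
        cr_comm (x 1 0) (x 0 0), cr_comm (x 0 1) (x 0 0), cr_comm (x 1 1) (x 0 0), cr_comm (x 0 1) (x 1 0),
        cr_comm (x 1 1) (x 1 0), cr_comm (x 1 1) (x 0 1)] <;>
      module

/-- the invariant -/
theorem x4w (H : Act ρ) (hx : TP ι 3 ρ 1 i 1 j x) (g : Matrix.SpecialLinearGroup (Fin 2) K) :
    ρ g (cr (x 0 0) (x 1 1) - cr (x 1 0) (x 0 1)) = cr (x 0 0) (x 1 1) - cr (x 1 0) (x 0 1) := by
  refine fix_of (fun t => ?_) (fun b => ?_) ?_ g
  · simp only [map_sub, H.cr, hx.e00, hx.x10, hx.x01, hx.top, cr_add_left, cr_add_right, cr_smul_left, cr_smul_right,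
      cr_self, cr_comm (x 1 1) (x 0 1)]
    module
  · have hb : ι (b : K) ≠ 0 := (map_ne_zero ι).2 b.ne_zero
    have h1 : ι (b : K) ^ 3 ^ i ≠ 0 := pow_ne_zero _ hb
    have h2 : ι (b : K) ^ 3 ^ j ≠ 0 := pow_ne_zero _ hb
    have e00 := hx.h 0 (by norm_num) 0 (by norm_num) b
    have e10 := hx.h 1 le_rfl 0 (by norm_num) b
    have e01 := hx.h 0 (by norm_num) 1 le_rfl b
    have e11 := hx.h 1 le_rfl 1 le_rfl b
    simp only [map_sub, H.cr, e00, e10, e01, e11, cr_smul_left, cr_smul_right, Nat.sub_zero, Nat.sub_self, pow_zero,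
      pow_one, one_mul, mul_one]
    match_scalars <;> field_simp
  · have e00 := hx.w 0 (by norm_num) 0 (by norm_num)
    have e10 := hx.w 1 le_rfl 0 (by norm_num)
    have e01 := hx.w 0 (by norm_num) 1 le_rfl
    have e11 := hx.w 1 le_rfl 1 le_rfl
    simp only [map_sub, H.cr, e00, e10, e01, e11, cr_smul_left, cr_smul_right, Nat.sub_zero, Nat.sub_self, pow_zero,
      pow_one, one_mul, mul_one, cr_comm (x 1 1) (x 0 0), cr_comm (x 0 1) (x 1 0)]
    module

theorem x4white {c d e f : k} {y z t : I27 → k} {x : I27 → k} (h1 : sh x = 0) (h2 : sh y = 0) (h3 : sh z = 0)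
    (h4 : sh t = 0) (r1 : cr x y = 0) (r2 : cr x z = 0) (r3 : cr x t = 0) (r4 : cr y z = 0) (r5 : cr y t = 0)
    (r6 : cr z t = 0) : sh (c • x + d • y + e • z + f • t) = 0 := by
  simp only [sh_add, sh_smul, cr_add_left, cr_smul_left, cr_smul_right, h1, h2, h3, h4, r1, r2, r3, r4, r5, r6,
    smul_zero, add_zero]

seal _root_.Finset.card _root_.Finset.sum _root_.Function.update _root_.Matrix.det _root_.Finset.prod in
/-- **tuples of type `(1, i; 1, j)` vanish** -/
theorem no4 [IsAlgClosed k] (C : Cx3 K a ρ)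
    (hy9 : ∀ (i j : ℕ), i < a → j < a → i ≠ j → ∀ (y : ℕ → ℕ → I27 → k), TP ι 3 ρ 2 i 2 j y →
      (∀ s t, sh (yy y s t) = 0) → y = 0)
    (hi : i < a) (hj : j < a) (hij : i ≠ j) (hx : TP ι 3 ρ 1 i 1 j x) : x = 0 := by
  by_contra hx0
  have h2 : (2 : k) ≠ 0 := two_ne 3 (by norm_num)
  have h4 : (4 : k) ≠ 0 := by
    have : (4 : k) = 2 * 2 := by norm_num
    rw [this]
    exact mul_ne_zero h2 h2
  have can : ∀ {c : k} {v : I27 → k}, c ≠ 0 → c • v = 0 → v = 0 := fun hc h => (smul_eq_zero.1 h).resolve_left hc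
  have S := x4S C.act C.card hi hj hij hx hx0
  have F := x4F C.act C.card hi hj hij hx hx0
  obtain ⟨n00, n10, n01, n11⟩ := x4N C.act C.card hi hj hij hx
  have hz : x4z x = 0 := by
    refine hy9 i j hi hj hij _ (x4T C.act hx) fun σ τ => ?_
    rw [x4z_yy, sh_smul, sh_sh, N_lin4 _ _ _ _ _ _ _ _ n00 n10 n01 n11 (S _ _ _ _) (S _ _ _ _) (S _ _ _ _) (S _ _ _ _)
      (S _ _ _ _) (S _ _ _ _) (S _ _ _ _) (S _ _ _ _) (S _ _ _ _) (S _ _ _ _) (S _ _ _ _) (S _ _ _ _)
      (F _ _ _ _ _ _) (F _ _ _ _ _ _) (F _ _ _ _ _ _) (F _ _ _ _ _ _), zero_smul, smul_zero]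
  have z : ∀ s s', x4z x s s' = 0 := fun s s' => by rw [hz]; rfl
  have a00 : sh (x 0 0) = 0 := can h4 (z 0 0)
  have a10 : sh (x 1 0) = 0 := can h4 (z 2 0)
  have a01 : sh (x 0 1) = 0 := can h4 (z 0 2)
  have a11 : sh (x 1 1) = 0 := can h4 (z 2 2)
  have b1 : cr (x 0 0) (x 1 0) = 0 := can h2 (z 1 0)
  have b2 : cr (x 0 0) (x 0 1) = 0 := can h2 (z 0 1)
  have b3 : cr (x 1 0) (x 1 1) = 0 := can h2 (z 2 1)
  have b4 : cr (x 0 1) (x 1 1) = 0 := can h2 (z 1 2)
  have b5 : cr (x 0 0) (x 1 1) + cr (x 1 0) (x 0 1) = 0 := z 1 1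
  obtain ⟨c, hc⟩ := C.fix _ (x4w C.act hx)
  have e1 : (2 : k) • cr (x 0 0) (x 1 1) = c • u0 k := by
    rw [← hc]
    linear_combination (norm := module) b5
  have e2 : sh (cr (x 0 0) (x 1 1)) = 0 := by
    have h := sh_cr (x 0 0) (x 1 1)
    rw [a00, a11, tf_zero_left, tf_comm, tf_zero_left, zero_smul, zero_smul, add_zero] at h
    have h' : cr (0 : I27 → k) 0 = 0 := by
      have := cr_smul_left (0 : k) (0 : I27 → k) 0
      rwa [zero_smul, zero_smul] at this
    rwa [h', add_zero] at h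
  have e3 : c = 0 := by
    have h := congrArg sh e1
    rw [sh_smul, e2, smul_zero, sh_smul, sh_u0] at h
    exact pow_eq_zero_iff (by norm_num) |>.1 ((smul_eq_zero.1 h.symm).resolve_right u0_ne)
  have b6 : cr (x 0 0) (x 1 1) = 0 := can h2 (by rw [e1, e3, zero_smul])
  have b7 : cr (x 1 0) (x 0 1) = 0 := by rwa [b6, zero_add] at b5
  obtain ⟨hX, -⟩ := hx.isV C.card ⟨by norm_num, by norm_num, hij, hi, hj⟩ hx0
  have hW := C.white (Sp x) hX (fun v hv => by
    obtain ⟨d, rfl⟩ := hx.mem_span hv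
    simp only [Finset.sum_range_succ, Finset.sum_range_zero, zero_add]
    have := x4white (c := d 0 0) (d := d 1 0) (e := d 0 1) (f := d 1 1) a00 a10 a01 a11 b1 b2 b6 b7 b3 b4
    rw [← this]
    congr 1
    module)
  apply hx0
  funext s s'
  have := mem_Sp (k := k) x s s'
  rw [hW] at this
  exact (Submodule.mem_bot k).1 this

end Cfsg.Agent.R2.F4P.Th
end

-- part: R2/F4P/Th/Core3
section
/-!
# S5931, `p = 3` : the end
-/

set_option autoImplicit false

namespace Cfsg.Agent.R2.F4P.Th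

open Cfsg Cfsg.Lie
open Cfsg.Agent.R2.F4M Cfsg.Agent.R2.F4L

universe u v

/-- **the case `p = 3`** -/
theorem core3 {F : Type u} [Field F] [Fintype F] {K : Type v} [Field K] [Fintype K] {a b : ℕ}
    {H : Subgroup ↥(chevF4.group F)} {φ : Matrix.ProjectiveSpecialLinearGroup (Fin 2) K →* ↥(chevF4.group F)}
    (hc : Cfg 3 a b H φ) : False :=
  core3_no4 hc fun _ _ _ _ _ _ _ _ _ C _ hy9 _ _ _ hi hj hij hx =>
    no4 C (fun i j hi hj hij y hy hH => hy9 i j y hi hj hij hy hH) hi hj hij hx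

end Cfsg.Agent.R2.F4P.Th
end

-- part: S5931
section
set_option autoImplicit false
open Cfsg

namespace Cfsg.Agent.S5931

/-- Let p be a prime and a, b ≥ 1. Let F be a field with p^b elements and G the Chevalley group of type F₄ over F (generated by its root elements in the adjoint representation; the simple group F₄(p^b)), and let K be a field with p^a elements. If H is a maximal subgroup of G whose generalized Fitting subgroup is isomorphic to PSL₂(p^a), then p ≥ 13 and a = b. -/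
theorem result
    {F K : Type*} [Field F] [Fintype F] [Field K] [Fintype K] (p a b : ℕ) [Fact p.Prime] (ha : 1 ≤ a) (hb : 1 ≤ b)
    (hF : Fintype.card F = p ^ b) (hK : Fintype.card K = p ^ a) (H : Subgroup ↥(Cfsg.Lie.chevF4.group F)) (hH : IsCoatom H)
    (hL : Nonempty (↥(Cfsg.generalizedFittingSubgroup ↥H) ≃* Matrix.ProjectiveSpecialLinearGroup (Fin 2) K)) :
    13 ≤ p ∧ a = b := by
  refine Cfsg.Agent.R2.F4M.of_core ha hb hF hK hH hL fun φ h => ?_
  by_cases h5 : 5 ≤ p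
  · exact Cfsg.Agent.R2.F4T.core5 h h5
  · exfalso
    have h2 := h.prime.two_le
    have h4 : p ≠ 4 := by
      rintro rfl
      exact absurd h.prime (by norm_num)
    have h23 : p = 2 ∨ p = 3 := by omega
    rcases h23 with rfl | rfl
    · exact Cfsg.Agent.R2.F4M.p2_false h
    · exact Cfsg.Agent.R2.F4P.Th.core3 h

end Cfsg.Agent.S5931
end

private theorem dce_1fc627ef76ea : _root_.True := by
  try have : _root_.True := by simp only [_root_.Cfsg.Agent.R2.F4P.Th.x4z.eq_4]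
  try have : _root_.True := by simp only [_root_.Cfsg.Agent.R2.F4P.Th.x4z.eq_8]
  try have : _root_.True := by simp only [_root_.Cfsg.Agent.R2.F4P.Th.x4z.eq_2]
  try have : _root_.True := by simp only [_root_.Cfsg.Agent.R2.F4P.Th.x4z.eq_3]
  try have : _root_.True := by simp only [_root_.Cfsg.Agent.R2.F4P.Th.x4z.eq_6]
  try have : _root_.True := by simp only [_root_.Cfsg.Agent.R2.F4P.Th.x4z.eq_5]
  try have : _root_.True := by simp only [_root_.Cfsg.Agent.R2.F4P.Th.x4z.eq_7]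
  try have : _root_.True := by simp only [_root_.Cfsg.Agent.R2.F4P.Th.x4z.eq_9]
  try have : _root_.True := by simp only [_root_.Cfsg.Agent.R2.F4P.Th.yy.eq_1]
  try have : _root_.True := by simp only [_root_.Cfsg.Agent.R2.F4P.Th.x4z.eq_10]
  try have : _root_.True := by simp only [_root_.Cfsg.Agent.R2.F4P.Th.x4z.eq_1]
  exact _root_.True.intro
end
end
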