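import Cfsg.Agent.E7P.P2.PeelA_m3
import Cfsg.Agent.E7P.En1.Chk
import Cfsg.Agent.E7P.En2.Tab_m3
import Cfsg.Agent.E7P.P2.CbMain_m3
import Cfsg.Agent.E7P.Br.Api_m3
import Cfsg.Agent.E7P.E27.Main_m3
import Cfsg.Agent.E7P.E81.Crt
import Cfsg.Agent.E7P.P2.HbInd_m3
import Cfsg.Agent.E7P.Ag.AbA
import Cfsg.Agent.E7P.E27.CY
import Cfsg.Agent.R2.H9.E6.Num_m3
import Cfsg.Agent.R2.T1.B2.Emb_mg_m3
import Cfsg.Agent.H952.F4.MaxA
import Cfsg.Agent.H487.SchurPerfect
import Cfsg.Agent.S2117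
import Cfsg.Agent.S0252
import Cfsg.Agent.S0253
import Cfsg.Agent.S0254
import Cfsg.Agent.S5929
import Cfsg.Agent.R2.T1.N6D.Out_m3
import Cfsg.Agent.Lib.SL2Hom
import Cfsg.Agent.R2.T1.Inf.Cnt_m3
import Cfsg.Agent.R2.T1.Odd.T9
import Cfsg.Agent.R2.H28.SL2.Bas_m3
import Cfsg.Agent.E7P.E81.Alc_m3
import Cfsg.Statements.S5932
import Cfsg.Agent.Lib.ListFast
import Cfsg.Agent.FastGrp
import Cfsg.Agent.Prune
set_option linter.all false

section
prune_inst 0x7ffcb9f92ba8addfffff7e37aed4dffdc1a96fffa4dff9cb3fe821bf0b9f4b0089c56b850de000fe0e56421410287b03fbffeeffe86bdc7ffffd5ff41ffbee0fe5f6350851148c340fb80ff683f0778e7f3fffffffffffffffffffffffffffbeffbfffffffff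

-- part: E7P/En1/Main
section
prune_inst 0x30402d4575220000001c8510b20000a1290004b000430c0044e40a440249604200438e018f00030a1a02ac492005000001100060420000000a000000000501000800020c9208a104660080800080000000000000000000000000000000000000000000000
set_option linter.all false
open scoped Cfsg.Agent.FastGrp

/-!
# S5932, END1: an algebraic overgroup `A₁` forces `p ≥ 17` (helper48)
-/

set_option autoImplicit false
set_option maxRecDepth 100000
set_option linter.unusedSectionVars false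

namespace Cfsg.Agent.E7P

open Cfsg Cfsg.Lie Matrix Module
open Cfsg.Agent.ChevalleyStructure.RootVec
open Cfsg.Agent.H943.E7V.Block (D1 rho)
open Cfsg.Agent.R2.T1 Cfsg.Agent.E7P.Kf Cfsg.Agent.E7P.Br
open Cfsg.Agent.R2.PX (del mmn W56)
open Cfsg.Agent.H943.SL2Rel (u w h)

universe u v

namespace En1

variable {k : Type u} [Field k]

/-- the list of the labels -/
def bl (b : Fin 7 → ℤ) : List ℤ := [b 0, b 1, b 2, b 3, b 4, b 5, b 6]

theorem dot_bl (f : ℕ → ℤ) (b : Fin 7 → ℤ) : dot ((List.range 7).map f) (bl b) = ∑ i : Fin 7, f i * b i := by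
  simp only [dot, bl, List.range_succ, Fin.sum_univ_seven, add_assoc, _root_.List.range_zero, _root_.List.nil_append, _root_.List.cons_append, _root_.List.map_cons, _root_.List.map_nil, _root_.Fin.isValue, _root_.List.zipWith_cons_cons, _root_.List.zipWith_self, _root_.List.sum_cons, _root_.List.sum_nil, _root_.add_zero, _root_.Fin.coe_ofNat_eq_mod, _root_.Nat.zero_mod, _root_.Nat.one_mod, _root_.Nat.reduceMod, _root_.Nat.mod_succ]

theorem cnt_map (L : List ℕ) (f : ℕ → ℤ) (d : ℤ) : cnt (L.map f) d = (L.map fun r => if f r = d then 1 else 0).sum := by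
  rw [cnt, List.map_map]
  rfl

theorem sum_Idx (f : chevE7.Idx → ℕ) (c : ℕ) (g : ℕ → ℕ) (h1 : ∀ i, f (Sum.inl i) = c)
    (h2 : ∀ r : Fin chevE7.nroots, f (Sum.inr r) = g r) : ∑ i, f i = 7 * c + ((List.range 126).map g).sum := by
  refine (Fintype.sum_sum_type f).trans (congrArg₂ (· + ·) ?_ ?_)
  · simp only [h1]
    rw [Finset.sum_const, Finset.card_univ, Fintype.card_fin, smul_eq_mul]
    rfl
  · simp only [h2]
    refine (Fin.sum_univ_eq_sum_range g 126).trans ?_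
    generalize 126 = n
    rfl

namespace One

variable [Infinite k] {O : One k} {b : Fin 7 → ℤ}

theorem LG_eq (b : Fin 7 → ℤ) : LG (bl b) = [0, 0, 0, 0, 0, 0, 0] ++
    (List.range 126).map fun r => ∑ i : Fin 7, 2 * rt chevE7 r i * b i := by
  rw [LG, RT_eq, List.map_map]
  exact congrArg _ (List.map_congr_left fun r _ => dot_bl _ b)

theorem LV_eq (b : Fin 7 → ℤ) : LV (bl b) = W56.map fun s => ∑ i : Fin 7, mmn s i * b i := by
  rw [LV, MT_eq, List.map_map]
  exact List.map_congr_left fun r _ => dot_bl _ b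

theorem lz_G (hb : ∀ i, O.lab i = 2 * b i) (r : Fin chevE7.nroots) :
    lz ac O.l (Sum.inr r) = ∑ i : Fin 7, 2 * rt chevE7 r i * b i := by
  rw [lz_inr]
  exact Finset.sum_congr rfl fun i _ => by rw [hb]; ring

theorem lz_V (hb : ∀ i, O.lab i = 2 * b i) (a : H943.E7V.Block.D1) : lz wc O.l a = ∑ i : Fin 7, mmn (nn a) i * b i := by
  refine mul_left_cancel₀ (two_ne_zero (α := ℤ)) ?_
  rw [lz_wt, Finset.mul_sum]
  exact Finset.sum_congr rfl fun i _ => by rw [hb]; ring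

theorem mem_G (hb : ∀ i, O.lab i = 2 * b i) (i : chevE7.Idx) : lz ac O.l i ∈ LG (bl b) := by
  rw [LG_eq]
  rcases i with i | r
  · rw [lz_inl]
    exact List.mem_append_left _ List.mem_cons_self
  · exact List.mem_append_right _ (List.mem_map.2 ⟨r, List.mem_range.2 r.2, (lz_G hb r).symm⟩)

theorem mem_V (hb : ∀ i, O.lab i = 2 * b i) (a : H943.E7V.Block.D1) : lz wc O.l a ∈ LV (bl b) := by
  rw [LV_eq]
  exact List.mem_map.2 ⟨nn a, R2.PX.nn_mem a, (lz_V hb a).symm⟩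

theorem cnt_V (hb : ∀ i, O.lab i = 2 * b i) (d : ℤ) : cnt (LV (bl b)) d = mm (lz wc O.l) d := by
  rw [LV_eq, cnt_map, ← R2.PX.sumD1, mm, Finset.card_filter]
  exact Finset.sum_congr rfl fun a _ => by rw [lz_V hb]

theorem cnt_G (hb : ∀ i, O.lab i = 2 * b i) (d : ℤ) : cnt (LG (bl b)) d = mm (lz ac O.l) d := by
  have h0 : cnt [0, 0, 0, 0, 0, 0, 0] d = 7 * if 0 = d then 1 else 0 := by
    simp only [cnt, List.map_cons, List.map_nil, List.sum_cons, List.sum_nil]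
    omega
  rw [LG_eq, cnt, List.map_append, List.sum_append, ← cnt, ← cnt, cnt_map, mm, Finset.card_filter, h0,
    sum_Idx _ (if 0 = d then 1 else 0) (fun r => if ∑ i : Fin 7, 2 * rt chevE7 r i * b i = d then 1 else 0)
    (fun i => by rw [lz_inl]) fun r => by rw [lz_G hb]]

variable {p : ℕ} [CharP k p]

/-- **the numerical conditions** -/
theorem Hyp.num (H : O.Hyp p) (hp : p.Prime) (h2 : (2 : k) ≠ 0) (h5 : p = 3 ∨ 5 ≤ p) (hb : ∀ i, O.lab i = 2 * b i) :
    Num p (LG (bl b)) (LV (bl b)) := by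
  have hV := O.Kz_of_ann h2 (lrep_V h2) (fun s y v => by
    rw [AV_apply, AV_apply, ← del_map]
    funext i
    exact (RingHom.map_mulVec s _ _ i).symm) H.annV
  have hc : ∀ j : ℤ, (((p : ℤ) * j : ℤ) : k) = 0 := fun j => by push_cast; rw [CharP.cast_eq_zero, zero_mul]
  have h3 : p = 3 → ∀ d : ℤ, d % 3 ≠ 0 → (d : k) ≠ 0 := fun e d hd h0 => by
    subst e
    have := (CharP.intCast_eq_zero_iff k 3 d).1 h0
    omega
  refine ⟨fun j _ => ⟨fun hj => ?_, ?_⟩, fun e => ?_, fun e => ?_⟩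
  · simp only [Cas, cnt_G hb]
    rcases h5 with e | e
    · have h6 : ∀ d : ℤ, 0 < d → (∀ x ∈ LG (bl b), x < 3 * d - 2) → Kz (lz ac O.l) (br k O.e) (br k O.f) d :=
        fun d hd hM => H.Kz_exp hp h2 hd fun i => hM _ (mem_G hb i)
      rcases hj with hj | ⟨hj, hM⟩ | ⟨rfl, hM⟩
      · omega
      · have h7 := h6 _ (by rw [e]; omega) hM
        exact (O.sl_L h2).cas (hc j) h7 (O.Kz_neg h2 (lrep_L h2) h7)
      · have h7 := O.Kz_zero h2 (lrep_L h2) H.nf fun d hd => by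
          by_cases h8 : 6 ≤ d
          · exact h6 d hd fun x hx => (hM x hx).trans_le (by omega)
          by_cases h9 : d = 3
          · intro x hx _ _
            funext i
            by_contra hi
            have h10 := hx i hi
            rcases i with i | r
            · rw [lz_inl] at h10
              omega
            · rw [lz_G hb] at h10
              simp only [mul_assoc, ← Finset.mul_sum] at h10
              omega
          · exact (O.sl_L h2).Kz_of_ne (h3 e d (by omega))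
        rw [mul_zero]
        exact (O.sl_L h2).cas Int.cast_zero h7 h7
    · have h7 := O.Kz_of_ann h2 (lrep_L h2) br_map (H.annL e)
      exact (O.sl_L h2).cas (hc j) (h7 _) (h7 _)
  · simp only [Cas, cnt_V hb]
    exact (O.sl_V h2).cas (hc j) (hV _) (hV _)
  · have e' : p = 3 := by exact_mod_cast e
    simp only [S2, cnt_G hb, cnt_V hb]
    exact ⟨(O.sl_L h2).simple2 h2 (h3 e' _ (by decide)) (h3 e' _ (by decide)),
      (O.sl_V h2).simple2 h2 (h3 e' _ (by decide)) (h3 e' _ (by decide)),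
      (O.sl_V h2).simple2 h2 (h3 e' _ (by decide)) (h3 e' _ (by decide))⟩
  · have e' : 5 ≤ p := by exact_mod_cast e
    have h6 : ∀ T, A5 p (LG (bl b)) (LV (bl b)) T := fun T hT h1 hM => by
      simp only [cnt_G hb, cnt_V hb] at h1 ⊢
      exact O.a5 hp h2 (lrep_V h2) H.annV (fun i => hT _ (mem_V hb i)) h1 fun i => hM _ (mem_G hb i)
    refine ⟨h6 _, h6 _, h6 _, fun hT h1 hM => ?_⟩
    simp only [cnt_G hb] at h1 ⊢
    exact O.a5 hp h2 (lrep_L h2) (H.annL e') (fun i => hT _ (mem_G hb i)) h1 fun i => hM _ (mem_G hb i)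

theorem Hyp.main (H : O.Hyp p) (hp : p.Prime) (h2 : (2 : k) ≠ 0) (h5 : p = 3 ∨ 5 ≤ p) : 17 ≤ p := by
  by_contra h17
  have hb : ∀ i, O.lab i = 2 * (O.lab i / 2) := fun i => by have := H.labels hp h2 i; omega
  have h1 : ∀ i, O.lab i / 2 ∈ ([0, 1] : List ℤ) := fun i => by
    rcases H.labels hp h2 i with e | e <;> rw [e] <;> decide
  refine chk _ (h1 0) _ (h1 1) _ (h1 2) _ (h1 3) _ (h1 4) _ (h1 5) _ (h1 6) p ?_ ((H.num hp h2 h5 hb :))
  have h3 : p < 17 := not_le.1 h17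
  have h4 : 3 ≤ p := by omega
  interval_cases p <;> first | decide | exact absurd hp (by decide)

/-- conjugation -/
noncomputable def mk' (Ξ : _root_.Matrix.SpecialLinearGroup (Fin 2) k →* Gh k) (a : Gh k) (l : Fin 7 → ℤ)
    (tor : ∀ z, a * Ξ (h z) * a⁻¹ = Phi k (lam l z)) (e : chevE7.Idx → k)
    (D : ℕ → Matrix H943.E7V.Block.D1 H943.E7V.Block.D1 k) (N : ℕ)
    (poly : ∀ t, rho k (Ξ (u t)) = ∑ m ∈ Finset.range (N + 2), t ^ m • D m) (D1 : D 1 = del k e) (ne : e ≠ 0)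
    (h2 : (2 : k) ≠ 0) : One k where
  Ξ := (MulAut.conj a).toMonoidHom.comp Ξ
  l := l
  tor := tor
  e := adM k a *ᵥ e
  D m := rho k a * D m * rho k a⁻¹
  N := N
  poly t := by
    show rho k (a * Ξ (u t) * a⁻¹) = _
    rw [map_mul, map_mul, poly, Finset.mul_sum, Finset.sum_mul]
    exact Finset.sum_congr rfl fun m _ => by rw [mul_smul_comm, smul_mul_assoc]
  D1 := by rw [D1, del_adM h2]
  ne h0 := ne (by rw [← mulVec_inv (adM k) a e, h0, mulVec_zero])

end One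

end En1

namespace Sit

open En1

variable {p a b : ℕ} {F : Type u} {K : Type v} {k : Type u} [Field F] [Fintype F] [Field K] [Fintype K] [Field k]
  (S : Sit p a b F K k)

/-- the group `Ξ` is normalised by `M` and `σ`, and `O` is its conjugate -/
structure En1Ov (O : En1.One k) (Ξ : _root_.Matrix.SpecialLinearGroup (Fin 2) k →* Gh k) (c : Gh k) : Prop where
  eq : ∀ x, O.Ξ x = c * Ξ x * c⁻¹
  frob : ∀ x, S.σ (Ξ x) = Ξ (SpecialLinearGroup.map S.s x)
  norm : ∀ m ∈ S.M, ∃ γ, ∀ x, m * Ξ x * m⁻¹ = Ξ (γ * x * γ⁻¹)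

theorem en1_surj : Function.Surjective S.s := fun t => by
  have := S.closed
  obtain ⟨z, hz⟩ := IsAlgClosed.exists_pow_nat_eq t (Nat.card_pos (α := F))
  exact ⟨z, (S.frob z).trans hz⟩

section
variable {S} {I : Type} [Fintype I] [DecidableEq I] {c : I → Fin 7 → ℤ} {R : Gh k →* Matrix I I k} [Infinite k]
  {O : En1.One k} {Ξ : _root_.Matrix.SpecialLinearGroup (Fin 2) k →* Gh k} {g : Gh k} {X : Set (I → k)}

theorem En1Ov.stb (H : S.En1Ov O Ξ g) (hR : WRep c R) (hX : O.Can R X) :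
    S.Stb R (Submodule.span k {v | ∃ x ∈ X, v = R g⁻¹ *ᵥ x}) := by
  refine ⟨fun m hm v hv => ?_, fun v hv => ?_⟩
  · refine (show Submodule.span k _ ≤ (Submodule.span k {v | ∃ x ∈ X, v = R g⁻¹ *ᵥ x}).comap (toLin' (R m)) from
      Submodule.span_le.2 ?_) hv
    rintro _ ⟨x, hx, rfl⟩
    obtain ⟨γ, hγ⟩ := H.norm m hm
    have h1 : O.Sym (g * (Ξ γ)⁻¹ * m * g⁻¹) (RingHom.id k) := ⟨fun y => by
      have h3 : emb (RingHom.id k) (O.Ξ y) = O.Ξ y := rho_injective (by rw [wrep_V.frob]; rfl)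
      rw [h3, show SpecialLinearGroup.map (RingHom.id k) y = y from rfl, H.eq]
      calc _ = g * (Ξ γ)⁻¹ * (m * Ξ y * m⁻¹) * Ξ γ * g⁻¹ := by group
        _ = _ := by rw [hγ, map_mul, map_mul, map_inv]; group, fun t => ⟨t, rfl⟩⟩
    refine Submodule.subset_span ⟨_, hX.1 γ _ (hX.2 _ _ h1 x hx), ?_⟩
    show R m *ᵥ (R g⁻¹ *ᵥ x) = R g⁻¹ *ᵥ (R (O.Ξ γ) *ᵥ (R _ *ᵥ x))
    rw [← mulVec_mul, ← mulVec_mul, ← mulVec_mul, H.eq]
    congr 2
    group
  · refine Submodule.span_induction (p := fun v _ => S.sv v ∈ _) ?_ ?_ (fun x y _ _ hx hy => ?_) (fun t x _ hx => ?_) hv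
    · rintro _ ⟨x, hx, rfl⟩
      have h1 : O.Sym (g * (S.σ g)⁻¹) S.s := ⟨fun y => by
        rw [H.eq, H.eq, ← H.frob, map_mul, map_mul, map_inv]
        show g * (S.σ g)⁻¹ * (S.σ g * S.σ (Ξ y) * (S.σ g)⁻¹) * _ = _
        group, S.en1_surj⟩
      refine Submodule.subset_span ⟨_, hX.2 _ _ h1 x hx, ?_⟩
      rw [S.nt_sv_mulVec hR, act, ← mulVec_mul, inv_mul_cancel_left, map_inv]
      rfl
    · rw [show S.sv (0 : I → k) = 0 from funext fun _ => map_zero S.s]
      exact zero_mem _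
    · rw [show S.sv (x + y) = S.sv x + S.sv y from funext fun _ => map_add S.s _ _]
      exact add_mem hx hy
    · rw [show S.sv (t • x) = S.s t • S.sv x from funext fun _ => map_mul S.s _ _]
      exact Submodule.smul_mem _ _ hx

theorem en1_ne (h0 : ∃ x ∈ X, x ≠ 0) : Submodule.span k {v | ∃ x ∈ X, v = R g⁻¹ *ᵥ x} ≠ ⊥ := fun e => by
  obtain ⟨x, hx, h1⟩ := h0
  exact h1 (by rw [← mulVec_inv' R g x, Submodule.span_eq_bot.1 e _ ⟨x, hx, rfl⟩, mulVec_zero])

theorem En1Ov.ann {A : (chevE7.Idx → k) →ₗ[k] (I → k) →ₗ[k] (I → k)} {B : (I → k) →ₗ[k] (I → k) →ₗ[k] k}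
    (H : S.En1Ov O Ξ g) (hR : LRep c R A B) (hA : ∀ W, S.Stb R W → W ≠ ⊥ → ∀ z, (∀ v ∈ W, A z v = 0) → z = 0) :
    O.Ann R A := fun X hX h0 z hz => by
  rw [← mulVec_inv' (adM k) g z, hA _ (H.stb hR.wrep hX) (en1_ne h0) (adM k g⁻¹ *ᵥ z) fun v hv =>
    (show Submodule.span k _ ≤ LinearMap.ker (A (adM k g⁻¹ *ᵥ z)) from Submodule.span_le.2 ?_) hv, mulVec_zero]
  rintro _ ⟨x, hx, rfl⟩
  show A _ _ = 0
  rw [← hR.equi, hz x hx, mulVec_zero]

end

/-- **END1** -/
theorem end1 (hp : p ≠ 2) (hs : S.SSC) (A : S.Alg) (h1 : A.n = 1) : 17 ≤ p := by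
  obtain ⟨n, _, _, Ξ, _, g, l, tor, e, D, N, poly, D1, ne, π, _, frob, τ, res, norm⟩ := A
  obtain rfl : n = 1 := h1
  have := S.closed
  have := S.chark
  have h2 := S.nt_two hp
  obtain ⟨v, hv⟩ := exists_dom (lE (l 0))
  obtain ⟨l', hl⟩ := Rsl.exists_wL_lE v (l 0)
  let O : En1.One k := En1.One.mk' (Ξ 0) (nL k v * g⁻¹) l' (fun z => by rw [tor, ← nt_conj_lam v hl]; group) (e 0) (D 0) N (poly 0)
    (D1 0) (ne 0) h2
  have H : S.En1Ov O (Ξ 0) (nL k v * g⁻¹) := ⟨fun _ => rfl, fun x => by rw [frob, Subsingleton.elim (π 0) 0],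
    fun m hm => by
      obtain ⟨ρ, hρ⟩ := norm m hm
      obtain ⟨γ, hγ⟩ := hρ 0
      exact ⟨γ, fun x => by rw [hγ, Subsingleton.elim (ρ 0) 0]⟩⟩
  have hψ : ∀ x, S.ψ x = Ξ 0 (SpecialLinearGroup.map (τ 0) x) := fun x => by rw [res]; simp
  have hd : Dom (lE O.l) := by rw [← hl] at hv; exact hv
  clear_value O
  generalize nL k v * g⁻¹ = c at H
  refine En1.One.Hyp.main (O := O) ⟨hd, ?_, H.ann (lrep_V h2) fun W hW h0 z hz => ?_,
    fun h5 => H.ann (lrep_L h2) fun W hW h0 z hz => ?_, fun X hX h0 y hy hy' => ?_, fun x hx => ?_, fun β hβ => ?_⟩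
    S.prime h2 (S.nt_cases hp)
  · have h3 : S.ψ (h (-1)) ∈ Subgroup.center (Gh k) := S.ψ_mem_center.2 (Or.inr (Subtype.ext (Matrix.ext fun i j => by
      (revert i j; simp only [h, _root_.Fin.forall_fin_succ, _root_.Units.val_neg, _root_.Units.val_one, _root_.inv_neg, _root_.inv_one, _root_.Matrix.of_apply, _root_.Matrix.cons_val', _root_.Matrix.cons_val_fin_one, _root_.Matrix.SpecialLinearGroup.coe_neg, _root_.Matrix.SpecialLinearGroup.coe_one, _root_.Matrix.neg_apply, Fin.isValue, _root_.Matrix.cons_val_zero, _root_.Matrix.cons_val_succ, _root_.IsEmpty.forall_iff, _root_.and_true, _root_.Matrix.one_apply_eq, Nat.reduceAdd, _root_.Fin.succ_zero_eq_one, _root_.ne_eq, _root_.zero_ne_one, _root_.not_false_eq_true, _root_.Matrix.one_apply_ne, _root_.neg_zero, _root_.and_self, _root_.Fin.succ_ne_zero, _root_.neg_inj, _root_.true_and]))))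
    rw [hψ, Rsl.map_h, show Units.map (τ 0 : K →* k) (-1) = -1 from Units.ext (by simp only [_root_.Fin.isValue, _root_.Units.map_neg, _root_.map_one, _root_.Units.val_neg, _root_.Units.val_one])] at h3
    rw [H.eq, Subgroup.mem_center_iff.1 h3, mul_inv_cancel_right, adM_apply, MonoidHom.mem_ker.1 (ker_ad (K := k) ▸ h3)]
    rfl
  · exact (Submodule.eq_bot_iff _).1 (S.ann hp hs hW h0) z hz
  · exact (Submodule.eq_bot_iff _).1 (S.nt_nk h5 hs hW h0) z fun x hx => br_eq_zero.1 (hz x hx)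
  · have h3 : c⁻¹ * y * c = 1 := S.ptL hp hs (H.stb wrep_L hX) (en1_ne h0) (fun x hx =>
      (show Submodule.span k _ ≤ LinearMap.eqLocus (toLin' (adM k (c⁻¹ * y * c))) LinearMap.id from
        Submodule.span_le.2 ?_) hx) (by rw [← inv_inv c, inv_inv c⁻¹, conj_pow, hy', mul_one, mul_inv_cancel])
    · calc y = c * (c⁻¹ * y * c) * c⁻¹ := by group
        _ = 1 := by rw [h3, mul_one, mul_inv_cancel]
    · rintro _ ⟨x, hx, rfl⟩
      show adM k _ *ᵥ _ = adM k _ *ᵥ _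
      rw [← mulVec_mul, mul_inv_cancel_right, mulVec_mul, hy x hx]
  · rw [← mulVec_inv' (adM k) c x, S.nofix hp hs (adM k c⁻¹ *ᵥ x) fun y => ?_, mulVec_zero]
    conv_rhs => rw [← hx (SpecialLinearGroup.map (τ 0) y)]
    rw [hψ, H.eq, ← mulVec_mul, ← mulVec_mul]
    congr 2
    group
  · exact S.irr hp hs (g := c⁻¹) fun x => by rw [inv_inv, hψ, ← H.eq]; exact hβ _

end Sit

end Cfsg.Agent.E7P

private theorem dce_e4bde438710b : _root_.True := by
  try have : _root_.True := by simp only [_root_.Cfsg.Agent.E7P.En1.cnt.eq_1]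
  try have : _root_.True := by simp only [_root_.Cfsg.Agent.E7P.En1.bl.eq_1]
  try have : _root_.True := by simp only [_root_.Cfsg.Agent.E7P.En1.dot.eq_1]
  try have : _root_.True := by simp only [_root_.Cfsg.Agent.E7P.En1.LV.eq_1]
  try have : _root_.True := by simp only [_root_.Cfsg.Agent.E7P.En1.LG.eq_1]
  exact _root_.True.intro
end

-- part: E7P/En1/Main_mg
section

end

-- part: E7P/Ag/AbU
section
prune_inst 0x40244501220000001c8500b00003c1490004b200630c000c640a440240a54009018721b5a0111a1a1a8a5d2001004001100020420000000a000c00011d00808880020eb108a100620097000084000000000000000000000000000000000004000000000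
set_option linter.all false
open scoped Cfsg.Agent.FastGrp

/-!
# S5932, task ALG-5: `Ut` is abelian (helper3)

* `Sit.abu : FRAME k → S.Sig R W → S.AbU R W`.
-/

set_option autoImplicit false
set_option maxRecDepth 100000

namespace Cfsg.Agent.E7P

open Cfsg Cfsg.Lie Matrix Module
open Cfsg.Agent.H943.E7V.Block (D1 rho)
open Cfsg.Agent.R2.T1 Cfsg.Agent.E7P.Kf
open Cfsg.Agent.H943.SL2Rel (u w h)
open scoped commutatorElement

universe u v

namespace Ab

variable {k : Type u} [Field k]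

variable (k) in
/-- the elements of the parabolic subgroup of level `≥ d` -/
def Lg (β : E) (d : ℝ) : Subgroup (Gh k) where
  carrier := {y | y ∈ Pl k β ∧ rho k y - 1 ∈ MGe k β d}
  one_mem' := ⟨one_mem _, by rw [map_one, sub_self]; exact zero_mem _⟩
  mul_mem' := by
    intro x y hx hy
    refine ⟨mul_mem hx.1 hy.1, ?_⟩
    have h1 := MGe_mul (rho_mem_MGe hx.1) hy.2
    rw [zero_add] at h1
    rw [show rho k (x * y) - 1 = rho k x * (rho k y - 1) + (rho k x - 1) by rw [map_mul]; noncomm_ring]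
    exact add_mem h1 hx.2
  inv_mem' := by
    intro x hx
    refine ⟨inv_mem hx.1, ?_⟩
    have h1 := neg_mem (MGe_mul (rho_mem_MGe (inv_mem hx.1)) hx.2)
    rwa [zero_add, mul_sub, mul_one, ← map_mul, inv_mul_cancel, map_one, neg_sub] at h1

variable {β : E} {d e : ℝ}

theorem Lg_conj {g y : Gh k} (hg : g ∈ Pl k β) (hy : y ∈ Lg k β d) : g * y * g⁻¹ ∈ Lg k β d := by
  refine ⟨mul_mem (mul_mem hg hy.1) (inv_mem hg), ?_⟩
  have h1 := MGe_conj hg hy.2
  rwa [mul_sub, mul_one, sub_mul, ← map_mul, ← map_mul, ← map_mul, mul_inv_cancel, map_one] at h1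

theorem Lg_comm {x y : Gh k} (hx : x ∈ Lg k β d) (hy : y ∈ Lg k β e) : ⁅x, y⁆ ∈ Lg k β (d + e) := by
  have h0 := mul_mem (inv_mem hx.1) (inv_mem hy.1)
  refine ⟨mul_mem (mul_mem (mul_mem hx.1 hy.1) (inv_mem hx.1)) (inv_mem hy.1), ?_⟩
  have h1 := MGe_mul hy.2 hx.2
  rw [add_comm] at h1
  have h2 := MGe_mul (sub_mem (MGe_mul hx.2 hy.2) h1) (rho_mem_MGe h0)
  rwa [add_zero, show (rho k x - 1) * (rho k y - 1) - (rho k y - 1) * (rho k x - 1) = rho k (x * y) - rho k (y * x) by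
    rw [map_mul, map_mul]; noncomm_ring, sub_mul, ← map_mul, ← map_mul,
    show y * x * (x⁻¹ * y⁻¹) = 1 by group, map_one, ← mul_assoc] at h2

theorem eq_one_of_Lg (hd : 0 < d) {y : Gh k} (hy : ∀ n : ℕ, y ∈ Lg k β ((n + 1) * d)) : y = 1 := by
  apply rho_injective
  rw [map_one, ← sub_eq_zero]
  ext i j
  by_contra hij
  obtain ⟨n, hn⟩ := exists_nat_gt ((bf β (wv i) - bf β (wv j)) / d)
  have h1 := (hy n).2 i j hij
  rw [div_lt_iff₀ hd] at hn
  linarith

theorem comm_map {G : Type*} [Group G] {H : Subgroup G} (f : G →* G) (hf : ∀ y ∈ H, f y ∈ H) {y : G}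
    (hy : y ∈ ⁅H, H⁆) : f y ∈ ⁅H, H⁆ :=
  (Subgroup.commutator_le.2 fun a ha b hb => by
    show f ⁅a, b⁆ ∈ ⁅H, H⁆
    rw [map_commutatorElement]
    exact Subgroup.commutator_mem_commutator (hf a ha) (hf b hb) : ⁅H, H⁆ ≤ (⁅H, H⁆).comap f) hy

end Ab

namespace Sit

open Ab

variable {p a b : ℕ} {F : Type u} {K : Type v} {k : Type u} [Field F] [Fintype F] [Field K] [Fintype K] [Field k]
  (S : Sit p a b F K k)
variable {I : Type} [Fintype I] [DecidableEq I] {R : Gh k →* Matrix I I k} {W : Submodule k (I → k)}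

theorem ab_u_mem (t : K) : S.ψ (u t) ∈ S.Ut R W :=
  Subgroup.subset_closure ⟨1, one_mem _, t, by rw [one_mul, inv_one, mul_one]⟩

theorem ab_co_mem {g : Gh k} {l : Fin 7 → ℤ} (hg : S.Good R W g l) (z : kˣ) : co g l z ∈ S.Sg R W :=
  Subgroup.subset_closure ⟨g, l, z, hg, rfl⟩

theorem ab_le : ⁅S.Ut R W, S.Ut R W⁆ ≤ S.Ut R W :=
  Subgroup.commutator_le.2 fun _ hx _ hy => mul_mem (mul_mem (mul_mem hx hy) (inv_mem hx)) (inv_mem hy)

/-- `Ut` is not perfect -/
theorem ab_not_le (hs : S.Sig R W) : ¬ S.Ut R W ≤ ⁅S.Ut R W, S.Ut R W⁆ := by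
  intro hle
  let c := (MulAut.conj S.g0⁻¹).toMonoidHom
  have hc : ∀ y, c y = S.g0⁻¹ * y * S.g0 := fun y => by
    show S.g0⁻¹ * y * S.g0⁻¹⁻¹ = _
    rw [inv_inv]
  have h0 : S.Ut R W ≤ (Lg k S.β S.nn).comap c := by
    refine (Subgroup.closure_le _).2 ?_
    rintro _ ⟨s, hs', t, rfl⟩
    rw [SetLike.mem_coe, Subgroup.mem_comap, map_mul, map_mul, map_inv, hc, hc]
    exact Lg_conj (S.mem_P.1 (hs.leP hs')) ⟨S.mem_P.1 (S.ψ_u_mem_P t), S.u_level t⟩
  have h1 : ∀ n : ℕ, S.Ut R W ≤ (Lg k S.β ((n + 1) * S.nn)).comap c := by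
    intro n
    induction n with
    | zero => rwa [Nat.cast_zero, zero_add, one_mul]
    | succ n ih =>
      refine hle.trans (Subgroup.commutator_le.2 fun x hx y hy => ?_)
      rw [Subgroup.mem_comap, map_commutatorElement, Nat.cast_succ, add_mul _ 1, one_mul]
      exact Lg_comm (ih hx) (h0 hy)
  have h2 : c (S.ψ (u 1)) = 1 := eq_one_of_Lg S.nn_pos fun n => h1 n (S.ab_u_mem 1)
  exact S.ψ_u_ne one_ne_zero ((MulAut.conj S.g0⁻¹).injective (h2.trans (map_one _).symm))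

/-- the derived group has no rational points -/
theorem ab_fix (hs : S.Sig R W) : ∀ y ∈ ⁅S.Ut R W, S.Ut R W⁆, S.σ y = y → y = 1 := by
  intro y hy hσ
  obtain ⟨t, rfl⟩ := hs.fix y (S.ab_le hy) hσ
  by_cases ht : t = 0
  · rw [ht, H943.SL2Rel.u_zero, map_one]
  have h1 := S.U_le (Q := ⁅S.Ut R W, S.Ut R W⁆)
    (fun c y hy => comm_map (MulAut.conj (S.ψ (h c))).toMonoidHom (hs.hU c) hy) ht hy
  refine absurd ((Subgroup.closure_le _).2 ?_) (S.ab_not_le hs)
  rintro _ ⟨s, hs', t, rfl⟩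
  exact comm_map (MulAut.conj s).toMonoidHom (hs.sU s hs') (h1 ⟨t, rfl⟩)

theorem ab_fix_pow (hs : S.Sig R W) (e : ℕ) {y : Gh k} (hy : y ∈ ⁅S.Ut R W, S.Ut R W⁆) (hf : S.σ^[p ^ e] y = y) :
    y = 1 := by
  refine fix_pow S.prime (S.isPGroup_Ru.to_le (S.ab_le.trans hs.le)) (fun y hy => comm_map S.σ hs.σU hy) (S.ab_fix hs) e
    ?_ hy hf
  simp only [S.k_σ_pow]
  exact S.k_finite (pow_pos S.prime.pos e)

theorem ab_comm_fix (hs : S.Sig R W) {e : ℕ} {s : Gh k} (h1 : s ∈ S.Sg R W) (h2 : S.σ^[p ^ e] s = s) (t t' : K) :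
    s * S.ψ (u t) * s⁻¹ * S.ψ (u t') = S.ψ (u t') * (s * S.ψ (u t) * s⁻¹) := by
  have h3 : ∀ t, S.ψ (u t) ∈ fixI S.σ (p ^ e) := fun t => Function.iterate_fixed (S.k_σ_ψ _) _
  have h4 : s ∈ fixI S.σ (p ^ e) := h2
  have h5 := mul_mem (mul_mem h4 (h3 t)) (inv_mem h4)
  exact commutatorElement_eq_one_iff_mul_comm.1 (S.ab_fix_pow hs e
    (Subgroup.commutator_mem_commutator (hs.sU s h1 _ (S.ab_u_mem t)) (S.ab_u_mem t'))
    (mul_mem (mul_mem (mul_mem h5 (h3 t')) (inv_mem h5)) (inv_mem (h3 t')) : _ ∈ fixI S.σ (p ^ e)))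

/-- `Sg` is diagonal in a frame -/
theorem ab_diag (hF : FRAME k) (hs : S.Sig R W) : ∃ (g : Gh k) (d : D1 → S.Sg R W →* kˣ),
    (∀ s : S.Sg R W, rho k (g⁻¹ * s * g) = diagonal fun i => (d i s : k)) ∧
    ∀ g1 l (hg : S.Good R W g1 l) i, ∃ n : ℤ, ∀ z, d i ⟨co g1 l z, S.ab_co_mem hg z⟩ = z ^ n := by
  obtain ⟨g, hg⟩ := hF {μ | ∃ g l, S.Good R W g l ∧ μ = co g l} (by
    rintro _ ⟨g, l, -, rfl⟩
    exact co_mem_Reg g l) (by
    rintro _ ⟨g, l, h1, rfl⟩ _ ⟨g', l', h2, rfl⟩ x y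
    exact hs.comm _ (S.ab_co_mem h1 x) _ (S.ab_co_mem h2 y))
  have h1 : ∀ s : S.Sg R W, ∃ t, g⁻¹ * s * g = Phi k t := by
    rintro ⟨s, hs'⟩
    have h2 : S.Sg R W ≤ (Phi k).range.comap (MulAut.conj g⁻¹).toMonoidHom := by
      refine (Subgroup.closure_le _).2 ?_
      rintro _ ⟨g1, l, z, h3, rfl⟩
      obtain ⟨l', h4⟩ := hg _ ⟨g1, l, h3, rfl⟩
      refine ⟨lam l' z, ?_⟩
      show _ = g⁻¹ * co g1 l z * g⁻¹⁻¹
      rw [h4, co_apply]
      group
    obtain ⟨t, ht⟩ := h2 hs'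
    exact ⟨t, by rw [ht]; show _ = g⁻¹ * s * g⁻¹⁻¹; rw [inv_inv]⟩
  choose t ht using h1
  have h2 : ∀ s : S.Sg R W, rho k (g⁻¹ * s * g) = diagonal fun i => ((ch (wc i) (t s) : kˣ) : k) := fun s => by
    rw [ht, wrep_V.tor]
  refine ⟨g, fun i => MonoidHom.mk' (fun s => ch (wc i) (t s)) fun s s' => ?_, h2, fun g1 l h3 i => ?_⟩
  · have h3 := h2 (s * s')
    rw [Subgroup.coe_mul, show g⁻¹ * (s * s') * g = (g⁻¹ * s * g) * (g⁻¹ * s' * g) by group, map_mul, h2, h2,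
      diagonal_mul_diagonal] at h3
    exact Units.ext (congrFun (diagonal_injective h3) i).symm
  · obtain ⟨l', h4⟩ := hg _ ⟨g1, l, h3, rfl⟩
    refine ⟨∑ j, wc i j * l' j, fun z => ?_⟩
    have h5 := h2 ⟨co g1 l z, S.ab_co_mem h3 z⟩
    rw [show g⁻¹ * (⟨co g1 l z, S.ab_co_mem h3 z⟩ : S.Sg R W) * g = Phi k (lam l' z) by
      show g⁻¹ * co g1 l z * g = _
      rw [h4, co_apply]
      group, wrep_V.tor] at h5
    rw [← ch_lam]
    exact Units.ext (congrFun (diagonal_injective h5) i).symm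

variable (R W) in
/-- the elements of `Sg` which are fixed by some `σ ^ p ^ e` -/
def abInf : Subgroup (S.Sg R W) where
  carrier := {s | ∃ e, S.σ^[p ^ e] s = s}
  one_mem' := ⟨0, iterate_map_one S.σ _⟩
  mul_mem' := by
    rintro x y ⟨e, hx⟩ ⟨e', hy⟩
    refine ⟨e + e', (mul_mem ?_ ?_ : (x : Gh k) * y ∈ fixI S.σ (p ^ (e + e')))⟩
    · rw [mem_fixI, pow_add, Function.iterate_mul]
      exact Function.iterate_fixed hx _
    · rw [mem_fixI, add_comm, pow_add, Function.iterate_mul]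
      exact Function.iterate_fixed hy _
  inv_mem' := by
    rintro x ⟨e, hx⟩
    exact ⟨e, (inv_mem hx : (x : Gh k)⁻¹ ∈ fixI S.σ (p ^ e))⟩

/-- algebraic characters are determined by their values on `abInf` -/
theorem ab_triv (hs : S.Sig R W) (χ : S.Sg R W →* kˣ)
    (hχ : ∀ g l (hg : S.Good R W g l), ∃ n : ℤ, ∀ z, χ ⟨co g l z, S.ab_co_mem hg z⟩ = z ^ n)
    (h1 : ∀ s ∈ S.abInf R W, χ s = 1) : χ = 1 := by
  have := S.closed
  have := S.chark
  let _ : CommGroup (S.Sg R W) := { (inferInstance : Group (S.Sg R W)) with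
    mul_comm := fun x y => Subtype.ext (hs.comm _ x.2 _ y.2) }
  let τ : S.Sg R W →* S.Sg R W := (S.σ.comp (S.Sg R W).subtype).codRestrict _ fun s => hs.σS s s.2
  have hτ : ∀ n (s : S.Sg R W), ((τ^[n] s : S.Sg R W) : Gh k) = S.σ^[n] s := by
    intro n s
    induction n with
    | zero => rfl
    | succ n ih => rw [Function.iterate_succ_apply', Function.iterate_succ_apply', ← ih]; rfl
  have key : ∀ g l (hg : S.Good R W g l) z, χ ⟨co g l z, S.ab_co_mem hg z⟩ = 1 := by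
    intro g l hg z
    have h2 : ∀ j, S.Good R W (S.σ^[j] g) l := by
      intro j
      induction j with
      | zero => exact hg
      | succ j ih => rw [Function.iterate_succ_apply']; exact hs.σ _ _ ih
    obtain ⟨m, hm, h3⟩ := S.k_exists_pow (Set.finite_singleton g)
    have h4 : S.σ^[m] g = g := (S.k_σ_pow m g).trans (h3 g rfl)
    refine triv S.prime S.hb τ (fun j => (co (S.σ^[j] g) l).codRestrict _ (S.ab_co_mem (h2 j))) (fun j z => ?_) hm
      (fun j => ?_) χ (fun j => hχ _ _ (h2 j)) (fun e y hy => h1 y ⟨e, by rw [← hτ, hy]⟩) z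
    · apply Subtype.ext
      show emb S.s (co (S.σ^[j] g) l z) = co (S.σ^[j + 1] g) l (z ^ p ^ b)
      rw [emb_co, Function.iterate_succ_apply']
      congr 1
      exact Units.ext (S.k_frob z)
    · ext z
      show co (S.σ^[j + m] g) l z = co (S.σ^[j] g) l z
      rw [Function.iterate_add_apply, h4]
  refine MonoidHom.ext fun ⟨s, hs'⟩ => ?_
  show χ ⟨s, hs'⟩ = 1
  induction hs' using Subgroup.closure_induction with
  | mem s h2 =>
    obtain ⟨g, l, z, hg, rfl⟩ := h2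
    exact key g l hg z
  | one => exact map_one χ
  | mul x y hx hy ihx ihy =>
    exact (map_mul χ ⟨x, hx⟩ ⟨y, hy⟩).trans (by rw [ihx, ihy, mul_one])
  | inv x hx ih => exact (map_inv χ ⟨x, hx⟩).trans (by rw [ih, inv_one])

theorem ab_comm (hF : FRAME k) (hs : S.Sig R W) {s : Gh k} (h1 : s ∈ S.Sg R W) (t t' : K) :
    s * S.ψ (u t) * s⁻¹ * S.ψ (u t') = S.ψ (u t') * (s * S.ψ (u t) * s⁻¹) := by
  obtain ⟨g, d, hd, hn⟩ := S.ab_diag hF hs
  have key : ∀ x y : Gh k, x * y = y * x ↔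
      rho k (g⁻¹ * x * g) * rho k (g⁻¹ * y * g) = rho k (g⁻¹ * y * g) * rho k (g⁻¹ * x * g) := fun x y => by
    rw [← map_mul, ← map_mul, rho_injective.eq_iff, show g⁻¹ * x * g * (g⁻¹ * y * g) = g⁻¹ * (x * y) * g by group,
      show g⁻¹ * y * g * (g⁻¹ * x * g) = g⁻¹ * (y * x) * g by group, mul_left_inj, mul_right_inj]
  refine (key _ _).2 (comm_of (S.abInf R W) d (fun i j i' j' h2 => ?_) (rho k (g⁻¹ * S.ψ (u t) * g)) _
    (fun s => rho k (g⁻¹ * (s * S.ψ (u t) * (s : Gh k)⁻¹) * g)) (fun s i j => ?_) (fun s h2 => ?_) ⟨s, h1⟩)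
  · rw [← div_eq_one]
    refine S.ab_triv hs _ (fun g1 l hg => ?_) fun s h3 => div_eq_one.2 (h2 s h3)
    choose n hn using hn g1 l hg
    exact ⟨n i - n j - (n i' - n j'), fun z => by
      simp only [MonoidHom.div_apply, hn, _root_.zpow_sub, ← div_eq_mul_inv]⟩
  · rw [show g⁻¹ * (s * S.ψ (u t) * (s : Gh k)⁻¹) * g =
      g⁻¹ * s * g * (g⁻¹ * S.ψ (u t) * g) * (g⁻¹ * (s⁻¹ : S.Sg R W) * g) by rw [Subgroup.coe_inv]; group,
      map_mul, map_mul, hd, hd, mul_diagonal, diagonal_mul, MonoidHom.div_apply, div_eq_mul_inv, map_inv, Units.val_mul]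
    ring
  · obtain ⟨e, he⟩ := h2
    exact (key _ _).1 (S.ab_comm_fix hs s.2 he t t')

/-- **ALG-5** -/
theorem abu (hF : FRAME k) (hs : S.Sig R W) : S.AbU R W := by
  have h1 : S.Ut R W ≤ Subgroup.centralizer {y | ∃ s ∈ S.Sg R W, ∃ t, y = s * S.ψ (u t) * s⁻¹} := by
    refine (Subgroup.closure_le _).2 ?_
    rintro _ ⟨s, h2, t, rfl⟩ _ ⟨s', h3, t', rfl⟩
    have h4 := S.ab_comm hF hs (mul_mem (inv_mem h2) h3) t' t
    calc _ = s * (s⁻¹ * s' * S.ψ (u t') * (s⁻¹ * s')⁻¹ * S.ψ (u t)) * s⁻¹ := by group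
      _ = _ := by rw [h4]; group
  intro x hx y hy
  have h2 : S.Ut R W ≤ Subgroup.centralizer {y} := by
    refine (Subgroup.closure_le _).2 fun z hz => ?_
    rintro _ rfl
    exact (h1 hy z hz).symm
  exact (h2 hx y rfl).symm

end Sit

end Cfsg.Agent.E7P
end

-- part: E7P/Ag/AbU_mg
section

end

-- part: E7P/Fin/Asm
section
prune_inst 0x1000000000000000000003000000000000000000000000000000000000000820800001000000000400040000000000000000000000000000010000800000000000000000000010000000000000000000000000000000000000000000000000000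
set_option linter.all false
open scoped Cfsg.Agent.FastGrp

-- part: E7P/Cfg
section
/-!
# S5932: reduction to the situation `Sit` (helper32)

`of_box` : the statement from `Box fun _ _ _ => True`.
-/

set_option autoImplicit false

namespace Cfsg.Agent.E7P

open Cfsg Cfsg.Lie Module Matrix
open Cfsg.Agent.R2.T1
open Cfsg.Agent.R2.H9.E6

universe u v

theorem bound_e7 {F : Type u} [Field F] [Fintype F] {p b : ℕ} (hp : p.Prime) (hF : Fintype.card F = p ^ b)
    {K : Type v} [Field K] [Fintype K] {a : ℕ} (ha : 1 ≤ a) (hK : Fintype.card K = p ^ a) (h8 : p ^ a ≠ 8)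
    {φ : ProjectiveSpecialLinearGroup (Fin 2) K →* ↥(chevE7.group F)} (hφ : Function.Injective φ) :
    ∃ d ∈ [1, 3, 4, 5, 6, 7, 9], a ∣ b * d := by
  by_cases h1 : a = 1
  · exact ⟨1, by simp, by rw [h1]; exact one_dvd _⟩
  have h3 : ¬ (p = 2 ∧ a = 3) := by
    rintro ⟨rfl, rfl⟩
    exact h8 rfl
  obtain ⟨r, hr, hr2, hrp, hra, hrb, hrc⟩ := exists_prim p a hp ha h1 h3
  have h4 := (prime_dvd_psl hK hr hr2 hra).trans (Subgroup.card_dvd_of_injective φ hφ)
  have h5 := order (K := F)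
  rw [Nat.card_eq_fintype_card (α := F), hF] at h5
  have h6 := h4.trans (Dvd.intro_left _ h5)
  have key : ∀ d, r ∣ (p ^ b) ^ (2 * d) - 1 → a ∣ b * d := by
    intro d hd
    rw [← pow_mul] at hd
    have h7 := dvd_of_primitive hp.one_lt hr hrb hrc (by omega) hd
    rw [show b * (2 * d) = 2 * (b * d) by ring] at h7
    exact Nat.dvd_of_mul_dvd_mul_left two_pos h7
  have hq : ¬ r ∣ (p ^ b) ^ 63 := by
    intro h
    exact hrp ((Nat.prime_dvd_prime_iff_eq hr hp).1 (hr.dvd_of_dvd_pow (hr.dvd_of_dvd_pow h)))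
  simp only [Nat.Prime.dvd_mul hr] at h6
  rcases h6 with ((((((h | h) | h) | h) | h) | h) | h) | h
  · exact absurd h hq
  · exact ⟨1, by simp, key 1 h⟩
  · exact ⟨3, by simp, key 3 h⟩
  · exact ⟨4, by simp, key 4 h⟩
  · exact ⟨5, by simp, key 5 h⟩
  · exact ⟨6, by simp, key 6 h⟩
  · exact ⟨7, by simp, key 7 h⟩
  · exact ⟨9, by simp, key 9 h⟩

theorem exists_emb_closed {K : Type v} [Field K] [Finite K] {k : Type u} [Field k] [IsAlgClosed k] (p : ℕ)
    [Fact p.Prime] [CharP K p] [CharP k p] : Nonempty (K →+* k) := by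
  let _ : Algebra (ZMod p) K := ZMod.algebra K p
  let _ : Algebra (ZMod p) k := ZMod.algebra k p
  have : Algebra.IsAlgebraic (ZMod p) K := Algebra.IsAlgebraic.of_finite _ _
  exact ⟨(IsAlgClosed.lift (R := ZMod p) (S := K) (M := k)).toRingHom⟩

/-- **reduction of S5932** -/
theorem of_box (hB : Box.{u, v} fun _ _ _ => True)
    {F : Type u} {K : Type v} [Field F] [Fintype F] [Field K] [Fintype K] (p a b : ℕ) [Fact p.Prime] (ha : 1 ≤ a)
    (hb : 1 ≤ b) (hF : Fintype.card F = p ^ b) (hK : Fintype.card K = p ^ a) (H : Subgroup ↥(chevE7.group F))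
    (hH : IsCoatom H)
    (hL : Nonempty (↥(generalizedFittingSubgroup ↥H) ≃* ProjectiveSpecialLinearGroup (Fin 2) K)) :
    (p ^ a = 7 ∨ p ^ a = 8 ∨ p ^ a = 19 ∨ p ^ a = 25) ∨ (17 ≤ p ∧ a = b) ∨ a = 7 * b := by
  have hp : p.Prime := Fact.out
  by_cases h7 : p ^ a = 7
  · exact Or.inl (Or.inl h7)
  by_cases h8 : p ^ a = 8
  · exact Or.inl (Or.inr (Or.inl h8))
  by_cases h19 : p ^ a = 19
  · exact Or.inl (Or.inr (Or.inr (Or.inl h19)))
  by_cases h25 : p ^ a = 25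
  · exact Or.inl (Or.inr (Or.inr (Or.inr h25)))
  by_cases hab : a = 7 * b
  · exact Or.inr (Or.inr hab)
  right; left
  obtain ⟨e⟩ := hL
  have h4 := four_le_of_genFitting e
  have hCF : CharP F p := charP_of_card_eq_prime_pow hF
  have hCK : CharP K p := charP_of_card_eq_prime_pow hK
  have hs : IsSimpleGroup ↥(chevE7.group F) := simpleE7
  have two : ∀ {m n : ℕ}, m.Prime → n.Prime → m ∣ p ^ a → n ∣ p ^ a → m = n := fun hm hn h1 h2 =>
    ((Nat.prime_dvd_prime_iff_eq hm hp).1 (hm.dvd_of_dvd_pow h1)).trans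
      ((Nat.prime_dvd_prime_iff_eq hn hp).1 (hn.dvd_of_dvd_pow h2)).symm
  have h6 : p ^ a ≠ 6 := fun h => by
    have := two Nat.prime_two Nat.prime_three (by rw [h]; norm_num) (by rw [h]; norm_num)
    omega
  have h10 : p ^ a ≠ 10 := fun h => by
    have := two Nat.prime_two Nat.prime_five (by rw [h]; norm_num) (by rw [h]; norm_num)
    omega
  have five : Nonempty (ProjectiveSpecialLinearGroup (Fin 2) K ≃* alternatingGroup (Fin 5)) → False := by
    rintro ⟨e'⟩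
    obtain ⟨φ, hφ⟩ := H952.F4.MaxA.exists_maxAlt hH le_rfl ⟨e.trans e'⟩
    exact Five.no_five hφ
  have h44 : p ^ a ≠ 4 := fun h => five (S0252.result (hK.trans h))
  have h55 : p ^ a ≠ 5 := fun h => five (S0253.result (hK.trans h))
  have h9 : p ^ a ≠ 9 := fun h => by
    obtain ⟨e'⟩ := S0254.result (hK.trans h)
    have h1 := (S5929.result p H hH 6 (by norm_num) ⟨e.trans e'⟩).1
    have h2 := two Nat.prime_three hp (by rw [h]; norm_num) (dvd_pow_self p (by omega))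
    omega
  have h11 : 11 ≤ p ^ a := by (clear * - hK h7 h8 h4 h6 h10 h44 h55 h9; omega)
  have hsA := psl_simple (K := K) h4
  obtain ⟨φ, hM⟩ := exists_maxSimp hH (psl_noncomm h4) ⟨e⟩
  obtain ⟨ψ0, hψ0⟩ := H487.exists_lift_of_trivial (P := _root_.Matrix.SpecialLinearGroup (Fin 2) K)
    ⟨TwoFusion.SLTwoFacts.commutator_eq_top (F := K) (by omega)⟩
    (S2117.result (by omega) (by omega)) (φ.comp pq) (ξ := ad F) ad_surjective (le_of_eq ker_ad)
  have hck : CharP (AlgebraicClosure F) p :=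
    charP_of_injective_algebraMap (algebraMap F (AlgebraicClosure F)).injective p
  obtain ⟨ι⟩ := exists_emb_closed (K := K) (k := AlgebraicClosure F) p
  refine hB p a b F K (AlgebraicClosure F)
    { H := H
      φ := φ
      ψ0 := ψ0
      f := algebraMap F (AlgebraicClosure F)
      ι := ι
      s := iterateFrobenius (AlgebraicClosure F) p b
      max := hM
      prime := hp
      ha := ha
      hb := hb
      charF := hCF
      charK := hCK
      chark := hck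
      cardF := hF
      cardK := hK
      lift := fun g => DFunLike.congr_fun hψ0 g
      eleven := h11
      ne19 := h19
      ne25 := h25
      ne7 := hab
      bound := bound_e7 hp hF ha hK h8 hM.inj
      closed := inferInstance
      alg := Cfsg.Agent.H944.RootVals.hAlg_closure p F
      frob := fun t => by rw [Nat.card_eq_fintype_card, hF]; rfl } trivial

end Cfsg.Agent.E7P
end

-- part: E7P/Ag/Po
section
/-!
# S5932: additive polynomial maps (helper32, task ALG-1)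

* `Kf.PL.scale`, `Kf.PL.conj`, `Kf.PL.emb`;
* `Kf.uniq : UNIQ k`, `Kf.addpoly : ADDPOLY k`.
-/

set_option autoImplicit false
set_option maxRecDepth 100000

namespace Cfsg.Agent.E7P.Kf

open Cfsg Cfsg.Lie Matrix Module
open Cfsg.Agent.H943.E7V.Block (D1 rho)
open Cfsg.Agent.R2.T1

universe u

variable {k : Type u} [Field k]

theorem po_pow [Infinite k] (ψ : k →+* k) {m : ℕ} (h : ∀ t, ψ t ^ m = ψ t) : m = 1 := by
  have h1 : (Polynomial.X ^ m - Polynomial.X : Polynomial k) = 0 := by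
    refine Polynomial.eq_zero_of_infinite_isRoot _ (Set.Infinite.mono (s := Set.range ψ) ?_
      (Set.infinite_range_of_injective ψ.injective))
    rintro _ ⟨t, rfl⟩
    show Polynomial.eval _ _ = 0
    rw [Polynomial.eval_sub, Polynomial.eval_pow, Polynomial.eval_X, h, sub_self]
  have h2 := congrArg Polynomial.natDegree (sub_eq_zero.1 h1)
  rwa [Polynomial.natDegree_X_pow, Polynomial.natDegree_X] at h2

theorem po_ded [Infinite k] (ψ φ : k →+* k) {N N' : ℕ} {d d' : ℕ → k} (hd : d 1 ≠ 0)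
    (h : ∀ t, ∑ m ∈ Finset.range (N + 2), ψ t ^ m * d m = ∑ m ∈ Finset.range N', φ t ^ m * d' m) :
    ∃ m, ∀ t, ψ t = φ t ^ m := by
  by_contra hne
  push Not at hne
  have hv := linearIndependent_monoidHom k k
  refine hv.notMem_span_image (s := {χ | χ ≠ (ψ : k →* k)}) (x := (ψ : k →* k)) (fun h0 => h0 rfl) ?_
  have e : (fun t => ψ t) = (d 1)⁻¹ • (∑ m ∈ Finset.range N', d' m • (fun t => φ t ^ m) -
      ∑ m ∈ (Finset.range (N + 2)).erase 1, d m • fun t => ψ t ^ m) := by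
    funext t
    have h1 := h t
    rw [← Finset.add_sum_erase _ _ (Finset.mem_range.2 (show 1 < N + 2 by omega)), pow_one] at h1
    simp only [Pi.smul_apply, Pi.sub_apply, Finset.sum_apply, smul_eq_mul, mul_comm (d' _), mul_comm (d _)]
    rw [← h1, add_sub_cancel_right, mul_comm, mul_inv_cancel_right₀ hd]
  show (fun t => ψ t) ∈ _
  rw [e]
  refine Submodule.smul_mem _ _ (sub_mem (sum_mem fun m _ => Submodule.smul_mem _ _ ?_)
    (sum_mem fun m hm => Submodule.smul_mem _ _ ?_))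
  · refine Submodule.subset_span ⟨(φ : k →* k) ^ m, fun h0 => ?_, rfl⟩
    obtain ⟨t, ht⟩ := hne m
    exact ht (DFunLike.congr_fun h0 t).symm
  · exact Submodule.subset_span ⟨(ψ : k →* k) ^ m,
      fun h0 => (Finset.mem_erase.1 hm).1 (po_pow ψ fun t => DFunLike.congr_fun h0 t), rfl⟩

/-- **UNIQ** -/
theorem uniq [Infinite k] : UNIQ k := by
  rintro x φ ⟨N, D, h1, h2⟩ ⟨N', D', h3, h4⟩
  have key : ∀ t i j, ∑ m ∈ Finset.range (N + 2), φ t ^ m * D m i j = ∑ m ∈ Finset.range (N' + 2), t ^ m * D' m i j := by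
    intro t i j
    have h5 := congrFun (congrFun ((h1 (φ t)).symm.trans (h3 t)) i) j
    rwa [Matrix.sum_apply, Matrix.sum_apply] at h5
  obtain ⟨i, hi⟩ := Function.ne_iff.1 h2
  obtain ⟨j, hj⟩ := Function.ne_iff.1 hi
  obtain ⟨i', hi'⟩ := Function.ne_iff.1 h4
  obtain ⟨j', hj'⟩ := Function.ne_iff.1 hi'
  obtain ⟨m, hm⟩ := po_ded φ (RingHom.id k) (d := fun m => D m i j) hj fun t => key t i j
  obtain ⟨m', hm'⟩ := po_ded (RingHom.id k) φ (d := fun m => D' m i' j') hj' fun t => (key t i' j').symm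
  have h5 : m * m' = 1 := po_pow (RingHom.id k) fun t => by
    have h6 := hm' t
    rw [hm] at h6
    rw [pow_mul]
    exact h6.symm
  intro t
  rw [hm, Nat.eq_one_of_mul_eq_one_right h5, pow_one]
  rfl

theorem po_zero [Infinite k] {f : k → Matrix D1 D1 k} (hf : f ∈ MA (PA k) D1) (h : ∀ t, t ≠ 0 → t + 1 ≠ 0 → f t = 0) :
    f 0 = 0 := by
  ext i j
  rcases dom_PA _ (hf i j) _ (mul_mem id_mem_PA (add_mem id_mem_PA (one_mem _))) (funext fun t => by
    show f t i j * (t * (t + 1)) = 0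
    by_cases h0 : t * (t + 1) = 0
    · rw [h0, mul_zero]
    · rw [h t (left_ne_zero_of_mul h0) (right_ne_zero_of_mul h0), Matrix.zero_apply, zero_mul]) with h1 | h1
  · exact congrFun h1 0
  · exfalso
    classical
    obtain ⟨t, ht⟩ := Infinite.exists_notMem_finset ({0, -1} : Finset k)
    have h2 : t * (t + 1) = 0 := congrFun h1 t
    rcases mul_eq_zero.1 h2 with h3 | h3
    · exact ht (by rw [h3]; exact Finset.mem_insert_self _ _)
    · exact ht (by rw [eq_neg_of_add_eq_zero_left h3]; exact Finset.mem_insert_of_mem (Finset.mem_singleton_self _))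

theorem po_eval_mem (P : Polynomial k) : (fun t => P.eval t) ∈ PA k := by
  induction P using Polynomial.induction_on' with
  | add P Q hP hQ =>
    simp only [Polynomial.eval_add]
    exact add_mem hP hQ
  | monomial n c =>
    simp only [Polynomial.eval_monomial]
    exact mul_mem ((PA k).algebraMap_mem c) (pow_mem id_mem_PA n)

/-- an additive map has no pole -/
theorem po_pole [Infinite k] {X : k → Matrix D1 D1 k} (add : ∀ s t, X (s + t) = X s * X t) (h0 : X 0 = 1) (M : ℕ) :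
    ∀ Q ∈ MA (PA k) D1, (∀ y, y ≠ 0 → Q y = y ^ M • X y) → X ∈ MA (PA k) D1 := by
  have key : ∀ (M : ℕ), ∀ Q ∈ MA (PA k) D1, (∀ y, y ≠ 0 → Q y = y ^ M • X y) → Q 0 = (0 : k) ^ M • 1 := by
    intro M Q hQ h
    have h1 : ∀ c : k → k, c ∈ PA k → ∀ f ∈ MA (PA k) D1, (fun t => c t • f t) ∈ MA (PA k) D1 :=
      fun c hc f hf i j => mul_mem hc (hf i j)
    have h2 : (fun t => Q (t + 1)) ∈ MA (PA k) D1 := fun i j => PA_comp (add_mem id_mem_PA (one_mem _)) _ (hQ i j)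
    have h3 := po_zero (f := fun t => (t + 1) ^ M • (Q t * X 1) - t ^ M • Q (t + 1)) (sub_mem
      (h1 _ (pow_mem (add_mem id_mem_PA (one_mem _)) M) _ (mul_mem hQ (const_mem_MA _ (X 1))))
      (h1 _ (pow_mem id_mem_PA M) _ h2)) fun t ht ht' => by
        rw [h t ht, h _ ht', add, smul_mul_assoc, smul_comm, sub_self]
    simp only [zero_add, one_pow, one_smul, h 1 one_ne_zero, sub_eq_zero] at h3
    have h4 : X 1 * X (-1) = 1 := by rw [← add, add_neg_cancel, h0]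
    rw [← mul_one (Q 0), ← h4, ← mul_assoc, h3, smul_mul_assoc]
  induction M with
  | zero =>
    intro Q hQ h
    have e : X = Q := funext fun y => by
      by_cases hy : y = 0
      · rw [hy, key 0 Q hQ h, h0, pow_zero, one_smul]
      · rw [h y hy, pow_zero, one_smul]
    rwa [e]
  | succ M ih =>
    intro Q hQ h
    have h1 := key _ Q hQ h
    rw [zero_pow (Nat.succ_ne_zero M), zero_smul] at h1
    choose P hP using fun i j => exists_poly_PA (hQ i j)
    refine ih (fun t => of fun i j => (P i j).divX.eval t) (fun i j => po_eval_mem _) fun y hy => ?_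
    ext i j
    have h2 := congrArg (Polynomial.eval y) (Polynomial.divX_mul_X_add (P i j))
    rw [Polynomial.coeff_zero_eq_eval_zero, ← hP, ← hP, h1, h y hy, Matrix.zero_apply, map_zero, add_zero,
      Polynomial.eval_mul, Polynomial.eval_X, pow_succ, Matrix.smul_apply, smul_eq_mul, mul_right_comm] at h2
    exact mul_right_cancel₀ hy h2

/-- removing the Frobenius twist -/
theorem po_twist [IsAlgClosed k] {p : ℕ} (hp : p.Prime) [CharP k p] (d : ℕ) : ∀ (x : k → Gh k)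
    (P : D1 → D1 → Polynomial k), (∀ s t, x (s + t) = x s * x t) → (∃ t, x t ≠ 1) →
    (∀ t i j, rho k (x t) i j = (P i j).eval t) → (∀ i j, (P i j).natDegree ≤ d) → ∃ φ : k ≃+* k, PL fun t => x (φ t) := by
  have : Fact p.Prime := ⟨hp⟩
  induction d using Nat.strong_induction_on with
  | _ d ih =>
  intro x P add hne hP hd
  by_cases h1 : (of fun i j => (P i j).coeff 1 : Matrix D1 D1 k) = 0
  swap
  · refine ⟨RingEquiv.refl k, d, fun m => of fun i j => (P i j).coeff m, fun t => ?_, h1⟩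
    ext i j
    show rho k (x t) i j = _
    rw [hP, Matrix.sum_apply, Polynomial.eval_eq_sum_range' (n := d + 2) (by have := hd i j; omega)]
    exact Finset.sum_congr rfl fun m _ => mul_comm _ _
  have h2 : ∀ i j, Polynomial.derivative (P i j) = 0 := fun i j => Polynomial.funext fun s => by
    have h3 : Polynomial.taylor s (P i j) = ∑ m, Polynomial.C ((P i m).eval s) * P m j := Polynomial.funext fun t => by
      rw [Polynomial.taylor_eval, ← hP, add_comm, add, map_mul, mul_apply, Polynomial.eval_finsetSum]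
      exact Finset.sum_congr rfl fun m _ => by rw [Polynomial.eval_mul, Polynomial.eval_C, hP, hP]
    rw [← Polynomial.taylor_coeff_one, h3, Polynomial.finsetSum_coeff, Polynomial.eval_zero]
    exact Finset.sum_eq_zero fun m _ => by
      rw [Polynomial.coeff_C_mul, show (P m j).coeff 1 = 0 from congrFun (congrFun h1 m) j, mul_zero]
  have h3 : ∀ i j, Polynomial.expand k p (Polynomial.contract p (P i j)) = P i j :=
    fun i j => Polynomial.expand_contract p (h2 i j) hp.ne_zero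
  have h4 : 0 < d := by
    refine Nat.pos_of_ne_zero fun h5 => ?_
    obtain ⟨t, ht⟩ := hne
    have h0 : x 0 = 1 := (left_eq_mul (a := x 0)).1 (by rw [← add, add_zero])
    refine ht (h0 ▸ rho_injective ?_)
    ext i j
    rw [hP, hP, Polynomial.eq_C_of_natDegree_le_zero ((hd i j).trans h5.le), Polynomial.eval_C, Polynomial.eval_C]
  obtain ⟨φ, hφ⟩ := ih (d - 1) (by omega) (fun t => x ((frobeniusEquiv k p).symm t))
    (fun i j => Polynomial.contract p (P i j)) (fun s t => by rw [map_add, add])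
    (hne.elim fun t ht => ⟨frobeniusEquiv k p t, by rwa [RingEquiv.symm_apply_apply]⟩)
    (fun t i j => by rw [hP, ← h3, Polynomial.expand_eval, frobeniusEquiv_symm_pow_p, h3])
    (fun i j => by
      have h5 := hd i j
      rw [← h3, Polynomial.natDegree_expand] at h5
      have h6 := Nat.mul_le_mul_left (Polynomial.contract p (P i j)).natDegree hp.two_le
      omega)
  exact ⟨φ.trans (frobeniusEquiv k p).symm, hφ⟩

/-- removing the part of the exponent which is prime to `p` -/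
theorem po_root [IsAlgClosed k] {n : ℕ} (hn : (n : k) ≠ 0) {g : k → k} {P : Polynomial k}
    (h : ∀ z, z ≠ 0 → g (z ^ n) = P.eval z) : ∃ Q : Polynomial k, ∀ y, y ≠ 0 → g y = Q.eval y := by
  have h0 : 0 < n := Nat.pos_of_ne_zero fun h => hn (by rw [h, Nat.cast_zero])
  have : NeZero (n : k) := ⟨hn⟩
  have : NeZero n := ⟨h0.ne'⟩
  obtain ⟨ζ, hζ⟩ := HasEnoughRootsOfUnity.exists_primitiveRoot k n
  have h1 : P.comp (Polynomial.C ζ * Polynomial.X) - P = 0 := poly_eq_zero fun z => by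
    rw [Polynomial.eval_sub, Polynomial.eval_comp, Polynomial.eval_mul, Polynomial.eval_C, Polynomial.eval_X,
      ← h _ (mul_ne_zero (hζ.ne_zero h0.ne') z.ne_zero), ← h _ z.ne_zero, mul_pow, hζ.pow_eq_one, one_mul, sub_self]
  have h2 : Polynomial.expand k n (Polynomial.contract n P) = P := by
    ext m
    rw [Polynomial.coeff_expand h0]
    split_ifs with hm
    · rw [Polynomial.coeff_contract h0.ne', Nat.div_mul_cancel hm]
    · have h3 := congrArg (fun Q => Polynomial.coeff Q m) h1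
      simp only [Polynomial.coeff_sub, Polynomial.comp_C_mul_X_coeff, Polynomial.coeff_zero] at h3
      rw [← mul_sub_one, mul_eq_zero, sub_eq_zero, hζ.pow_eq_one_iff_dvd] at h3
      exact (h3.resolve_right hm).symm
  refine ⟨Polynomial.contract n P, fun y hy => ?_⟩
  obtain ⟨z, rfl⟩ := IsAlgClosed.exists_pow_nat_eq y h0
  rw [h z fun e => hy (by rw [e, zero_pow h0.ne']), ← Polynomial.expand_eval, h2]

/-- **ADDPOLY** -/
theorem addpoly [IsAlgClosed k] {p : ℕ} (hp : p.Prime) [CharP k p] : ADDPOLY k := by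
  have : Fact p.Prime := ⟨hp⟩
  have key : ∀ (x : k → Gh k) (n : ℕ), (∀ s t, x (s + t) = x s * x t) → (∃ t, x t ≠ 1) → n ≠ 0 →
      (fun z : kˣ => x ((z : k) ^ n)) ∈ Reg (LA k) → ∃ φ : k ≃+* k, PL fun t => x (φ t) := by
    intro x n add hne hn hx
    obtain ⟨e, n', h1, rfl⟩ := Nat.exists_eq_pow_mul_and_not_dvd hn p hp.ne_one
    have h2 : (n' : k) ≠ 0 := fun h => h1 ((CharP.cast_eq_zero_iff k p n').1 h)
    have h3 : 0 < n' := Nat.pos_of_ne_zero fun h => h1 (h ▸ dvd_zero p)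
    let φ := iterateFrobeniusEquiv k p e
    have h4 : ∀ i j, ∃ (M : ℕ) (Q : Polynomial k), ∀ y, y ≠ 0 → y ^ M * rho k (x (φ y)) i j = Q.eval y := by
      intro i j
      obtain ⟨M, P, hP⟩ := exists_poly_LA (hx.1 i j)
      refine ⟨M, po_root h2 (g := fun y => y ^ M * rho k (x (φ y)) i j) (P := P * Polynomial.X ^ (M * (n' - 1)))
        fun z hz => ?_⟩
      have h5 : rho k (x (z ^ (p ^ e * n'))) i j * z ^ M = P.eval z := hP (Units.mk0 z hz)
      rw [Polynomial.eval_mul, Polynomial.eval_pow, Polynomial.eval_X, ← h5, mul_assoc, ← pow_add, ← pow_mul,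
        show φ (z ^ n') = z ^ (p ^ e * n') by rw [mul_comm, pow_mul]; rfl, mul_comm]
      congr 2
      obtain ⟨m, rfl⟩ := Nat.exists_eq_add_of_lt h3
      rw [zero_add, Nat.add_sub_cancel]
      ring
    choose M Q hQ using h4
    have h0 : x 0 = 1 := (left_eq_mul (a := x 0)).1 (by rw [← add, add_zero])
    have h5 := po_pole (X := fun y => rho k (x (φ y))) (fun s t => by rw [map_add, add, map_mul])
      (by rw [map_zero, h0, map_one]) (∑ i, ∑ j, M i j)
      (fun y => of fun i j => (Q i j * Polynomial.X ^ (∑ i, ∑ j, M i j - M i j)).eval y) (fun i j => po_eval_mem _)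
      fun y hy => by
        ext i j
        have h6 : M i j ≤ ∑ i, ∑ j, M i j :=
          (Finset.single_le_sum (f := M i) (fun _ _ => Nat.zero_le _) (Finset.mem_univ j)).trans
            (Finset.single_le_sum (f := fun i => ∑ j, M i j) (fun _ _ => Nat.zero_le _) (Finset.mem_univ i))
        rw [of_apply, Polynomial.eval_mul, Polynomial.eval_pow, Polynomial.eval_X, ← hQ i j y hy, Matrix.smul_apply,
          smul_eq_mul, mul_right_comm, ← pow_add, Nat.add_sub_cancel' h6]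
    choose P hP using fun i j => exists_poly_PA (h5 i j)
    obtain ⟨ψ, hψ⟩ := po_twist hp (∑ i, ∑ j, (P i j).natDegree) (fun y => x (φ y)) P (fun s t => by rw [map_add, add])
      (hne.elim fun t ht => ⟨φ.symm t, by rwa [RingEquiv.apply_symm_apply]⟩) (fun t i j => hP i j t) fun i j =>
        (Finset.single_le_sum (f := fun j => (P i j).natDegree) (fun _ _ => Nat.zero_le _) (Finset.mem_univ j)).trans
          (Finset.single_le_sum (f := fun i => ∑ j, (P i j).natDegree) (fun _ _ => Nat.zero_le _) (Finset.mem_univ i))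
    exact ⟨ψ.trans φ, hψ⟩
  intro x n add hne hn hx
  obtain ⟨m, rfl | rfl⟩ := Int.eq_nat_or_neg n
  · refine key x m add hne (by exact_mod_cast hn) ?_
    simpa only [zpow_natCast, Units.val_pow_eq_pow_val] using hx
  · refine key x m add hne (by rintro rfl; exact hn rfl) ?_
    have h1 := Reg.comp (φ := fun z : kˣ => z⁻¹) (LA_comp inv_mem_LA (by simp only [inv_inv]; exact val_mem_LA)) hx
    simpa only [_root_.zpow_neg, zpow_natCast, inv_pow, inv_inv, Units.val_pow_eq_pow_val] using h1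

end Cfsg.Agent.E7P.Kf
end

-- part: E7P/Ag/FrL
section
/-!
# S5932: ALG-2, the linear term of a polynomial root group lies in the Lie algebra (helper77)

* `Kf.liepoly : LIEPOLY k`.
-/

set_option autoImplicit false
set_option maxRecDepth 100000

namespace Cfsg.Agent.E7P

open Cfsg Cfsg.Lie Matrix Module
open Cfsg.Agent.H943.E7V.Block (D1 rho)
open Cfsg.Agent.R2.T1 Cfsg.Agent.E7P.Kf
open Cfsg.Agent.R2.PX (del)
open Cfsg.Agent.BpExc.TorAll (HAlg)

universe u

namespace Kf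

variable {k : Type u} [Field k]

theorem fr_coef [Infinite k] {N : ℕ} {a : ℕ → k} (h : ∀ t : k, ∑ m ∈ Finset.range N, t ^ m * a m = 0) {m : ℕ}
    (hm : m < N) : a m = 0 := by
  have h1 : ∑ m ∈ Finset.range N, Polynomial.monomial m (a m) = 0 := poly_eq_zero fun z => by
    rw [Polynomial.eval_finsetSum, ← h z]
    exact Finset.sum_congr rfl fun m _ => by rw [Polynomial.eval_monomial, mul_comm]
  have h2 := congrArg (fun P : Polynomial k => P.coeff m) h1
  simp only [Polynomial.finsetSum_coeff, Polynomial.coeff_monomial, Polynomial.coeff_zero, Finset.sum_ite_eq',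
    Finset.mem_range, hm, if_true] at h2
  exact h2

theorem fr_zpow [Infinite k] {a b : ℤ} (e : ∀ z : kˣ, z ^ a = z ^ b) : a = b := by
  by_contra hne
  obtain ⟨z, hz⟩ := exists_zpow_ne (K := k) (sub_ne_zero.2 hne)
  exact hz (by rw [_root_.zpow_sub, e, mul_inv_cancel])

theorem fr_liepoly [Infinite k] : LIEPOLY k := by
  intro x g l N D h0 hc hD
  obtain ⟨D', hD'⟩ : ∃ D' : ℕ → Matrix D1 D1 k, ∀ m, D' m = rho k g⁻¹ * D m * rho k g := ⟨_, fun _ => rfl⟩
  have h1 : ∀ t, rho k (g⁻¹ * x t * g) = ∑ m ∈ Finset.range (N + 2), t ^ m • D' m := by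
    intro t
    rw [map_mul, map_mul, hD, Finset.mul_sum, Finset.sum_mul]
    refine Finset.sum_congr rfl fun m _ => ?_
    rw [Matrix.mul_smul, Matrix.smul_mul, hD']
  have h2 : ∀ m < N + 2, ∀ i j, D' m i j ≠ 0 → bf (lE l) (wv i) = bf (lE l) (wv j) + 2 * m := by
    intro m hm i j hij
    have h3 : (∑ r, wc i r * l r) = (∑ r, wc j r * l r) + 2 * m := by
      refine fr_zpow (k := k) fun z => Units.ext ?_
      have h4 : ∀ t : k, Phi k (lam l z) * (g⁻¹ * x t * g) = g⁻¹ * x ((z : k) ^ 2 * t) * g * Phi k (lam l z) := by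
        intro t
        rw [← hc, co_apply]
        group
      have h5 := fr_coef (k := k) (a := fun m => ((z ^ ∑ r, wc i r * l r : kˣ) : k) * D' m i j -
          ((z : k) ^ 2) ^ m * D' m i j * ((z ^ ∑ r, wc j r * l r : kˣ) : k)) (fun t => by
        have h6 := congrFun (congrFun (congrArg (rho k) (h4 t)) i) j
        rw [map_mul, map_mul _ _ (Phi k _), h1, h1, wrep_V.tor, diagonal_mul, mul_diagonal, ch_lam, ch_lam,
          Matrix.sum_apply, Matrix.sum_apply, Finset.mul_sum, Finset.sum_mul, ← sub_eq_zero,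
          ← Finset.sum_sub_distrib] at h6
        rw [← h6]
        refine Finset.sum_congr rfl fun m _ => ?_
        rw [Matrix.smul_apply, Matrix.smul_apply, smul_eq_mul, smul_eq_mul]
        ring) hm
      rw [_root_.zpow_add, Units.val_mul, show (2 * m : ℤ) = ((2 * m : ℕ) : ℤ) by push_cast; rfl, zpow_natCast,
        Units.val_pow_eq_pow_val, pow_mul]
      apply mul_right_cancel₀ hij
      linear_combination h5
    rw [wv, wv, bf_lE, bf_lE, h3]
    push_cast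
    rfl
  have h3 : D' 0 = 1 := by
    have h4 := h1 0
    rw [h0, mul_one, inv_mul_cancel, map_one, Finset.sum_eq_single 0, pow_zero, one_smul] at h4
    · exact h4.symm
    · intro m _ hm
      rw [zero_pow hm, zero_smul]
    · intro hm
      exact absurd (Finset.mem_range.2 (Nat.succ_pos _)) hm
  have h4 : rho k (g⁻¹ * x 1 * g) - 1 - D' 1 = ∑ m ∈ Finset.range N, D' (m + 1 + 1) := by
    rw [h1, Finset.sum_range_succ', Finset.sum_range_succ', h3]
    simp only [one_pow, one_smul, zero_add]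
    abel
  have h5 : rho k (g⁻¹ * x 1 * g) - 1 - D' 1 ∈ MGt k (lE l) 2 := by
    rw [h4]
    refine sum_mem fun m hm i j hij => ?_
    rw [h2 _ (by have := Finset.mem_range.1 hm; omega) i j hij]
    have : (0 : ℝ) ≤ m := Nat.cast_nonneg m
    push_cast
    linarith
  have h6 : ∀ i j, D' 1 i j ≠ 0 → bf (lE l) (wv i) = bf (lE l) (wv j) + 2 := fun i j hij => by
    rw [h2 1 (by omega) i j hij, Nat.cast_one, mul_one]
  have h7 : rho k (g⁻¹ * x 1 * g) - 1 ∈ MGe k (lE l) 2 := by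
    rw [← sub_add_cancel (rho k (g⁻¹ * x 1 * g) - 1) (D' 1)]
    exact add_mem (MGt_le h5) fun i j hij => (h6 i j hij).ge
  obtain ⟨z, hz, h8⟩ := leadu two_pos (mem_Ul_of_stri (STri_iff.2 (MGe_le_MGt two_pos h7))) h7
  have h9 : D' 1 - del k z = 0 := by
    refine eq_zero_of_MGt_neg (β := lE l) (d := 2) ?_ (sub_mem (fun i j hij => ?_) fun i j hij => ?_)
    · have h10 := sub_mem h8 h5
      rwa [sub_sub_sub_cancel_left] at h10
    · rw [map_neg, LinearMap.neg_apply, LinearMap.neg_apply, h6 i j hij]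
      linarith
    · obtain ⟨c, h10, h11⟩ := del_ne hij
      rw [map_neg, LinearMap.neg_apply, LinearMap.neg_apply, h11, map_add, mem_Lv.1 hz c h10]
      linarith
  refine ⟨adM k g *ᵥ z, ?_⟩
  have h10 : rho k g * rho k g⁻¹ = 1 := by rw [← map_mul, mul_inv_cancel, map_one]
  calc D 1 = rho k g * D' 1 * rho k g⁻¹ := by
        rw [hD', Matrix.mul_assoc, Matrix.mul_assoc, h10, Matrix.mul_one, ← Matrix.mul_assoc, h10, Matrix.one_mul]
    _ = del k (adM k g *ᵥ z) := by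
        rw [sub_eq_zero.1 h9, R2.T2.Alg.del_equi', Matrix.mul_assoc, h10, Matrix.mul_one]

/-- **LIEPOLY** -/
theorem liepoly [IsAlgClosed k] {p : ℕ} [CharP k p] (_hp : p.Prime) (_hA : HAlg p k) : LIEPOLY k := fr_liepoly

end Kf

end Cfsg.Agent.E7P
end

-- part: E7P/Ag/Fr
section
/-!
# S5932: ALG-2, commuting Laurent one-parameter subgroups lie in a common frame (helper77)

* `Kf.frame : FRAME k` (and `Kf.liepoly : LIEPOLY k` in the imported file).
-/

set_option autoImplicit false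
set_option maxRecDepth 100000

namespace Cfsg.Agent.E7P

open Cfsg Cfsg.Lie Matrix Module
open Cfsg.Agent.H943.E7V.Block (D1 rho)
open Cfsg.Agent.R2.T1 Cfsg.Agent.E7P.Kf
open Cfsg.Agent.BpExc.TorAll (HAlg)

universe u

namespace Kf

variable {k : Type u} [Field k]

/-- Laurent characters are powers -/
theorem fr_hom (χ : kˣ →* k) (hχ : (fun z => χ z) ∈ LA k) : ∃ n : ℤ, ∀ z, χ z = ((z ^ n : kˣ) : k) := by
  obtain ⟨N, P, hP⟩ := exists_poly_LA hχ
  let ψ : ℕ → (kˣ →* k) := fun i => (powMonoidHom i).comp (Units.coeHom k)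
  by_cases h : χ * ψ N ∈ Set.range ψ
  · obtain ⟨i, hi⟩ := h
    refine ⟨i - N, fun z => ?_⟩
    have h1 : (z : k) ^ i = χ z * (z : k) ^ N := DFunLike.congr_fun hi z
    rw [_root_.zpow_sub, Units.val_mul, zpow_natCast, zpow_natCast, Units.val_pow_eq_pow_val, h1, mul_assoc,
      ← Units.val_pow_eq_pow_val, Units.mul_inv, mul_one]
  · refine absurd ?_ ((linearIndependent_monoidHom kˣ k).notMem_span_image h)
    have e : ((χ * ψ N : kˣ →* k) : kˣ → k) = ∑ i ∈ Finset.range (P.natDegree + 1), P.coeff i • (ψ i : kˣ → k) := by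
      funext z
      rw [Finset.sum_apply]
      exact (hP z).trans (Polynomial.eval_eq_sum_range _)
    rw [e]
    exact sum_mem fun i _ => Submodule.smul_mem _ _ (Submodule.subset_span ⟨ψ i, ⟨i, rfl⟩, rfl⟩)

/-- a Laurent polynomial which vanishes at enough roots of unity vanishes -/
theorem fr_van [IsAlgClosed k] {f : kˣ → k} (hf : f ∈ LA k) {n : ℕ} (hn : 0 < n) (hn' : (n : k) = 0)
    (h : ∀ (b : ℕ) (z : kˣ), z ^ (n * b + 1) = 1 → f z = 0) (z : kˣ) : f z = 0 := by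
  obtain ⟨N, P, hP⟩ := exists_poly_LA hf
  have : NeZero ((n * P.natDegree + 1 : ℕ) : k) := ⟨by
    rw [Nat.cast_add, Nat.cast_mul, hn', zero_mul, zero_add, Nat.cast_one]
    exact one_ne_zero⟩
  obtain ⟨ζ, hζ⟩ := HasEnoughRootsOfUnity.exists_primitiveRoot k (n * P.natDegree + 1)
  have h0 : ζ ≠ 0 := hζ.ne_zero (Nat.succ_ne_zero _)
  have h1 : P = 0 := by
    refine Polynomial.eq_zero_of_natDegree_lt_card_of_eval_eq_zero P (f := fun i : Fin (n * P.natDegree + 1) => ζ ^ (i : ℕ))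
      (fun i j e => Fin.ext (hζ.pow_inj i.2 j.2 e)) (fun i => ?_) ?_
    · have h2 := hP (Units.mk0 ζ h0 ^ (i : ℕ))
      rw [h P.natDegree _ (Units.ext (by
        rw [← pow_mul, mul_comm, pow_mul, Units.val_pow_eq_pow_val, Units.val_pow_eq_pow_val, Units.val_mk0,
          hζ.pow_eq_one, one_pow, Units.val_one])), zero_mul, Units.val_pow_eq_pow_val, Units.val_mk0] at h2
      exact h2.symm
    · rw [Fintype.card_fin]
      exact Nat.lt_succ_of_le (Nat.le_mul_of_pos_left _ hn)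
  have h2 := hP z
  rw [h1, Polynomial.eval_zero] at h2
  exact (mul_eq_zero.1 h2).resolve_right (pow_ne_zero _ z.ne_zero)

/-- the commutant -/
def frC (s : Gh k) : Submodule k (Matrix D1 D1 k) where
  carrier := {A | Commute A (rho k s)}
  zero_mem' := Commute.zero_left _
  add_mem' := Commute.add_left
  smul_mem' := fun c _ h => Commute.smul_left h c

theorem mem_frC {s : Gh k} {A : Matrix D1 D1 k} : A ∈ frC s ↔ Commute A (rho k s) := Iff.rfl

/-- an element whose commutant centralises the whole family -/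
theorem fr_sep [IsAlgClosed k] {p : ℕ} [CharP k p] (hp : p.Prime) (Λ : Set (kˣ →* Gh k))
    (h1 : ∀ μ ∈ Λ, (fun z => μ z) ∈ Reg (LA k)) (h2 : ∀ μ ∈ Λ, ∀ ν ∈ Λ, ∀ x y, μ x * ν y = ν y * μ x) :
    ∃ (s : Gh k) (N : ℕ), (N : k) ≠ 0 ∧ s ^ N = 1 ∧ ∀ μ ∈ Λ, ∀ z, frC s ≤ frC (μ z) := by
  obtain ⟨s, ⟨N, hN, hs, hc⟩, hm⟩ := (InvImage.wf (fun s : Gh k => finrank k (frC s)) wellFounded_lt).has_min
    {s | ∃ N : ℕ, (N : k) ≠ 0 ∧ s ^ N = 1 ∧ ∀ μ ∈ Λ, ∀ z, Commute s (μ z)}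
    ⟨1, 1, by rw [Nat.cast_one]; exact one_ne_zero, one_pow _, fun _ _ _ => Commute.one_left _⟩
  refine ⟨s, N, hN, hs, fun μ hμ z A hA => ?_⟩
  have hp0 : ((N * p : ℕ) : k) = 0 := by rw [Nat.cast_mul, CharP.cast_eq_zero k p, mul_zero]
  have key : ∀ (b : ℕ) (y : kˣ), y ^ (N * p * b + 1) = 1 → Commute A (rho k (μ y)) := by
    intro b y hy
    have e : (s * μ y) ^ (N * p * b + 1) = s := by
      rw [(hc μ hμ y).mul_pow, ← map_pow, hy, map_one, mul_one, pow_succ, mul_assoc, pow_mul, hs, one_pow, one_mul]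
    have h3 : frC (s * μ y) ≤ frC s := fun B hB => by
      rw [mem_frC, ← e, map_pow]
      exact Commute.pow_right hB _
    have h4 := hm (s * μ y) ⟨(N * p * b + 1) * N, by
      rw [Nat.cast_mul, Nat.cast_add, Nat.cast_mul, hp0, zero_mul, zero_add, Nat.cast_one, one_mul]
      exact hN, by rw [pow_mul, e, hs], fun ν hν x => (hc ν hν x).mul_left (h2 μ hμ ν hν y x)⟩
    have h5 : Commute A (rho k (s * μ y)) := by
      rw [← mem_frC, Submodule.eq_of_le_of_finrank_le h3 (not_lt.1 h4)]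
      exact hA
    have h6 : Commute A (rho k s⁻¹) := by
      have h7 : s⁻¹ = s ^ (N - 1) := by
        refine inv_eq_of_mul_eq_one_right ?_
        rw [← pow_succ', Nat.sub_add_cancel (Nat.pos_of_ne_zero (by rintro rfl; exact hN Nat.cast_zero)), hs]
      rw [h7, map_pow]
      exact Commute.pow_right hA _
    have h7 := h6.mul_right h5
    rwa [← map_mul, inv_mul_cancel_left] at h7
  have h3 : (fun y => A * rho k (μ y) - rho k (μ y) * A) ∈ MA (LA k) D1 :=
    sub_mem (mul_mem (const_mem_MA _ A) (h1 μ hμ).1) (mul_mem (h1 μ hμ).1 (const_mem_MA _ A))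
  rw [mem_frC, commute_iff_eq, ← sub_eq_zero]
  ext i j
  refine fr_van (h3 i j) (Nat.mul_pos (Nat.pos_of_ne_zero (by rintro rfl; exact hN Nat.cast_zero)) hp.pos) hp0
    (fun b y hy => ?_) z
  show (A * rho k (μ y) - rho k (μ y) * A) i j = 0
  rw [(key b y hy).eq, sub_self, Matrix.zero_apply]

/-- **FRAME** -/
theorem frame [IsAlgClosed k] {p : ℕ} [CharP k p] (hp : p.Prime) (hA : HAlg p k) : FRAME k := by
  intro Λ h1 h2
  obtain ⟨s, N, hN, hs, hc⟩ := fr_sep hp Λ h1 h2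
  obtain ⟨g, t, rfl⟩ := exists_conj_T hp hA hN hs
  refine ⟨g, fun μ hμ => ?_⟩
  have e1 : rho k g * rho k g⁻¹ = 1 := by rw [← map_mul, mul_inv_cancel, map_one]
  have e2 : rho k g⁻¹ * rho k g = 1 := by rw [← map_mul, inv_mul_cancel, map_one]
  have h3 : ∀ z, ∃ a, g⁻¹ * μ z * g = Phi k a := by
    intro z
    refine mem_T_of_diag fun i j hij => ?_
    by_contra hne
    have h4 : Commute (rho k g * diagonal (Pi.single i 1) * rho k g⁻¹) (rho k (μ z)) := by
      refine hc μ hμ z ?_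
      rw [mem_frC, commute_iff_eq, map_mul, map_mul, rho_Phi]
      simp only [Matrix.mul_assoc]
      rw [← Matrix.mul_assoc (rho k g⁻¹), ← Matrix.mul_assoc (rho k g⁻¹), e2, Matrix.one_mul, Matrix.one_mul,
        ← Matrix.mul_assoc (diagonal _), ← Matrix.mul_assoc (diagonal _), (commute_diagonal _ _).eq]
    have h5 : diagonal (Pi.single i 1) * rho k (g⁻¹ * μ z * g) = rho k (g⁻¹ * μ z * g) * diagonal (Pi.single i 1) := by
      have h6 := congrArg (fun B => rho k g⁻¹ * B * rho k g) h4.eq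
      simp only [Matrix.mul_assoc] at h6
      rw [← Matrix.mul_assoc (rho k g⁻¹), e2, Matrix.one_mul, Matrix.mul_one] at h6
      rw [map_mul, map_mul]
      simp only [Matrix.mul_assoc]
      exact h6
    have h6 := congrFun (congrFun h5 i) j
    rw [diagonal_mul, mul_diagonal, Pi.single_eq_same, Pi.single_eq_of_ne' hne, one_mul, mul_zero] at h6
    exact hij h6
  choose a ha using h3
  have h4 : ∀ s : D1, ∃ n : ℤ, ∀ z, wt s (a z) = z ^ n := by
    intro s
    have h5 : ∀ z, ((wt s (a z) : kˣ) : k) = rho k (g⁻¹ * μ z * g) s s := fun z => by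
      rw [ha, rho_Phi, diagonal_apply_eq]
    obtain ⟨n, hn⟩ := fr_hom (k := k) ⟨⟨fun z => ((wt s (a z) : kˣ) : k), by
      rw [h5, map_one, mul_one, inv_mul_cancel, map_one, one_apply_eq]⟩, fun x y => by
        show ((wt s (a (x * y)) : kˣ) : k) = ((wt s (a x) : kˣ) : k) * ((wt s (a y) : kˣ) : k)
        rw [h5, show g⁻¹ * μ (x * y) * g = g⁻¹ * μ x * g * (g⁻¹ * μ y * g) by rw [map_mul]; group, map_mul, ha, ha,
          rho_Phi, rho_Phi, diagonal_mul_diagonal, diagonal_apply_eq]⟩ (by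
      show (fun z => ((wt s (a z) : kˣ) : k)) ∈ LA k
      simp only [h5]
      exact (Reg.mul (Reg.mul (Reg.const _ g⁻¹) (h1 μ hμ)) (Reg.const _ g)).1 s s)
    exact ⟨n, fun z => Units.ext (hn z)⟩
  choose n hn using h4
  refine ⟨fun i => ∑ r : Fin 7, n (bd r) * (bi.getD i []).getD r 0, MonoidHom.ext fun z => ?_⟩
  have h5 : lam (fun i : Fin 7 => ∑ r : Fin 7, n (bd r) * (bi.getD i []).getD r 0) z = a z := by
    funext i
    rw [torus_eq (a z) i]
    simp only [hn]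
    have h6 := ch_lam (fun r => (bi.getD i []).getD r 0) (fun r => n (bd r)) z
    simp only [mul_comm ((bi.getD i []).getD _ 0)] at h6
    exact h6.symm
  rw [co_apply, h5, ← ha]
  group

end Kf

end Cfsg.Agent.E7P
end

-- part: E7P/Ag/SiIrr
section
/-!
# S5932: the finite group is absolutely irreducible (helper94, task ALG-4)

* `Kf.siSt` : the stabiliser of a subspace;
* `Sit.irrfV`, `Sit.irrfL`.
-/

set_option autoImplicit false
set_option maxRecDepth 100000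

namespace Cfsg.Agent.E7P

open Cfsg Cfsg.Lie Matrix Module
open Cfsg.Agent.H943.E7V.Block (D1 rho)
open Cfsg.Agent.R2.T1 Cfsg.Agent.E7P.Kf

universe u v

namespace Kf

variable {k : Type u} [Field k] {I : Type} [Fintype I] [DecidableEq I]

/-- the stabiliser of a subspace -/
def siSt (R : Gh k →* Matrix I I k) (Y : Submodule k (I → k)) : Subgroup (Gh k) where
  carrier := {g | (∀ y ∈ Y, R g *ᵥ y ∈ Y) ∧ ∀ y ∈ Y, R g⁻¹ *ᵥ y ∈ Y}
  one_mem' := ⟨fun y hy => by rwa [map_one, one_mulVec], fun y hy => by rwa [inv_one, map_one, one_mulVec]⟩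
  mul_mem' := fun ha hb => ⟨fun y hy => by rw [mulVec_mul]; exact ha.1 _ (hb.1 y hy),
    fun y hy => by rw [_root_.mul_inv_rev, mulVec_mul]; exact hb.2 _ (ha.2 y hy)⟩
  inv_mem' := fun ha => ⟨ha.2, by rw [inv_inv]; exact ha.1⟩

theorem si_of_xs {R : Gh k →* Matrix I I k} {Y : Submodule k (I → k)}
    (h : ∀ r < 126, ∀ t, ∀ y ∈ Y, R (xs k r t) *ᵥ y ∈ Y) (g : Gh k) : ∀ y ∈ Y, R g *ᵥ y ∈ Y :=
  (mem_of_gens (S := siSt R Y) (fun r hr t => ⟨h r hr t, by rw [xs_inv]; exact h r hr _⟩) g).1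

/-- the eigenvectors of a semisimple matrix span every invariant subspace -/
theorem si_span [IsAlgClosed k] {A : Matrix I I k} {N : ℕ} (hN : (N : k) ≠ 0) (hA : A ^ N = 1)
    {Y : Submodule k (I → k)} (hY : ∀ y ∈ Y, A *ᵥ y ∈ Y) {P : (I → k) → Prop} (h0 : P 0)
    (ha : ∀ x y, P x → P y → P (x + y)) (he : ∀ (μ : k), ∀ y ∈ Y, A *ᵥ y = μ • y → P y) : ∀ y ∈ Y, P y := by
  let f : End k Y := (toLin' A).restrict (p := Y) (q := Y) fun y hy => hY y hy
  have h1 : ∀ (n : ℕ) (y : Y), ((f ^ n) y : I → k) = A ^ n *ᵥ y := by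
    intro n
    induction n with
    | zero => intro y; rw [pow_zero, pow_zero, one_mulVec]; rfl
    | succ n ih =>
      intro y
      rw [pow_succ, pow_succ, End.mul_apply, ih, ← mulVec_mulVec]
      rfl
  have h2 : f.IsSemisimple := by
    refine End.isSemisimple_of_squarefree_aeval_eq_zero (p := Polynomial.X ^ N - 1)
      (Polynomial.X_pow_sub_one_separable_iff.2 hN).squarefree ?_
    rw [map_sub, map_pow, Polynomial.aeval_X, map_one, sub_eq_zero]
    refine LinearMap.ext fun y => Subtype.ext ?_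
    rw [h1, hA, one_mulVec]
    rfl
  intro y hy
  have h3 : (⟨y, hy⟩ : Y) ∈ ⨆ μ : k, f.eigenspace μ := h2.iSup_eigenspace_eq_top ▸ Submodule.mem_top
  exact Submodule.iSup_induction (fun μ : k => f.eigenspace μ) (motive := fun x : Y => (P x :)) h3
    (fun μ x hx => he μ x x.2 (congrArg Subtype.val (End.mem_eigenspace_iff.1 hx))) h0 (fun x y => ha x y)

end Kf

namespace Sit

variable {p a b : ℕ} {F : Type u} {K : Type v} {k : Type u} [Field F] [Fintype F] [Field K] [Fintype K] [Field k]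
  (S : Sit p a b F K k)

/-- **the finite group is absolutely irreducible on `V`** -/
theorem irrfV : S.IRRF (rho k) := by
  intro Y hY
  refine or_iff_not_imp_left.2 fun h0 => irred (fun g => si_of_xs (R := rho k) (fun r hr t y hy => ?_) g) h0
  have h1 := hY (xs F r 1) y hy
  rw [emb_xs, map_one, rho_xs' hr, one_smul, add_mulVec, one_mulVec] at h1
  rw [rho_xs' hr, add_mulVec, one_mulVec, smul_mulVec]
  exact add_mem hy (Y.smul_mem _ ((add_mem_cancel_left hy).1 h1))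

include S in
theorem si_two (hp : p ≠ 2) : (2 : k) ≠ 0 := by
  have := S.chark
  exact fun h => hp ((Nat.prime_dvd_prime_iff_eq S.prime Nat.prime_two).1
    ((CharP.cast_eq_zero_iff k p 2).1 (by exact_mod_cast h)))

/-- **the finite group is absolutely irreducible on the Lie algebra** -/
theorem irrfL (hp : p ≠ 2) : S.IRRF (adM k) := by
  intro Y hY
  have h2 := S.si_two hp
  refine or_iff_not_imp_left.2 fun h0 => irrL_aux h2 (fun g y hy => ?_) h0
  rw [L_mulVec]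
  refine si_of_xs (R := adM k) (fun r hr t y hy => ?_) g y hy
  have h1 := hY (xs F r 1) y hy
  have h3 := hY (xs F r (-1)) y hy
  rw [emb_xs, map_one, adM_xs hr, add_mulVec, add_mulVec, one_mulVec, smul_mulVec, smul_mulVec] at h1
  rw [emb_xs, map_neg, map_one, adM_xs hr, add_mulVec, add_mulVec, one_mulVec, smul_mulVec, smul_mulVec] at h3
  rw [adM_xs hr, add_mulVec, add_mulVec, one_mulVec, smul_mulVec, smul_mulVec]
  generalize EM k r *ᵥ y = e at *
  generalize QM k r *ᵥ y = q at *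
  have h4 : e ∈ Y := by
    have h5 := Y.smul_mem (2 : k)⁻¹ (sub_mem h1 h3)
    rwa [show y + (1 : k) • e + (1 : k) ^ 2 • q - (y + (-1 : k) • e + (-1 : k) ^ 2 • q) = (2 : k) • e by module,
      smul_smul, inv_mul_cancel₀ h2, one_smul] at h5
  have h5 : q ∈ Y := by
    have h6 := sub_mem (sub_mem h1 hy) h4
    rwa [show y + (1 : k) • e + (1 : k) ^ 2 • q - y - e = q by module] at h6
  exact add_mem (add_mem hy (Y.smul_mem _ h4)) (Y.smul_mem _ h5)

end Sit

end Cfsg.Agent.E7P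
end

-- part: E7P/Ag/SiMain
section
/-!
# S5932: the group generated by the good cocharacters (helper94, task ALG-4)

* `Sit.siSc` : the elements which act by scalars on the weight vectors of `T_A` in `W`;
* `Sit.siD` : the stabiliser of all `A`-submodules of `W`;
* `Sit.sig`.
-/

set_option autoImplicit false
set_option maxRecDepth 100000

namespace Cfsg.Agent.E7P

open Cfsg Cfsg.Lie Matrix Module
open Cfsg.Agent.H943.E7V.Block (D1 rho)
open Cfsg.Agent.R2.T1 Cfsg.Agent.E7P.Kf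
open Cfsg.Agent.H943.SL2Rel

universe u v

namespace Kf

theorem si_lE_ne {l : Fin 7 → ℤ} (hl : l ≠ 0) : lE l ≠ 0 := by
  intro h0
  apply hl
  funext i
  have h1 := bf_lE l (Pi.single i 1)
  rw [h0, map_zero, LinearMap.zero_apply, Finset.sum_eq_single i (fun j _ hj => by rw [Pi.single_eq_of_ne hj, zero_mul])
    (fun h => absurd (Finset.mem_univ _) h), Pi.single_eq_same, one_mul] at h1
  exact_mod_cast h1.symm

/-- the centraliser of a cocharacter -/
theorem si_mem_Pl {k : Type u} [Field k] [Infinite k] {l : Fin 7 → ℤ} {y : Gh k}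
    (hy : ∀ z, Phi k (lam l z) * y = y * Phi k (lam l z)) : y ∈ Pl k (lE l) := by
  refine mem_Pl_of_tri fun i j hij => le_of_eq ?_
  rw [wv, wv, bf_lE, bf_lE]
  congr 1
  by_contra hne
  obtain ⟨z, hz⟩ := exists_zpow_ne (K := k) (sub_ne_zero.2 hne)
  have h1 := congrFun (congrFun (congrArg (rho k) (hy z)) i) j
  rw [map_mul, map_mul, wrep_V.tor, diagonal_mul, mul_diagonal, mul_comm, ch_lam, ch_lam] at h1
  have h2 := Units.ext (mul_left_cancel₀ hij h1)
  rw [_root_.zpow_sub, ← h2, mul_inv_cancel] at hz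
  exact hz rfl

theorem si_w {K : Type v} [Field K] : (w : _root_.Matrix.SpecialLinearGroup (Fin 2) K) = u 1 * (w⁻¹ * u 1 * w) * u 1 := by
  have h1 : (w : _root_.Matrix.SpecialLinearGroup (Fin 2) K) * u (-1) * w * u (-1) = u 1 * w := by
    refine Subtype.ext ?_
    show !![(0 : K), 1; -1, 0] * !![1, -1; 0, 1] * !![0, 1; -1, 0] * !![1, -1; 0, 1] = !![1, 1; 0, 1] * !![0, 1; -1, 0]
    simp only [Matrix.mul_fin_two]
    simp
  rw [u_neg] at h1
  rw [mul_assoc w⁻¹, ← h1]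
  group

end Kf

namespace Sit

variable {p a b : ℕ} {F : Type u} {K : Type v} {k : Type u} [Field F] [Fintype F] [Field K] [Fintype K] [Field k]
  (S : Sit p a b F K k)

theorem si_s_surj (t : k) : ∃ t', S.s t' = t := by
  have := S.closed
  obtain ⟨z, hz⟩ := IsAlgClosed.exists_pow_nat_eq t (Nat.card_pos (α := F))
  exact ⟨z, by rw [S.frob, hz]⟩

theorem si_s_surj' (z : kˣ) : ∃ z', Units.map (S.s : k →* k) z' = z := by
  obtain ⟨t, ht⟩ := S.si_s_surj z
  exact ⟨Units.mk0 t fun h0 => z.ne_zero (by rw [← ht, h0, map_zero]), Units.ext ht⟩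

theorem si_sv_smul {I : Type} (t : k) (y : I → k) : S.sv (t • y) = S.s t • S.sv y := funext fun _ => map_mul S.s _ _

theorem si_sv_inj {I : Type} {x y : I → k} (e : S.sv x = S.sv y) : x = y :=
  funext fun i => S.s.injective (congrFun e i)

theorem si_w_conj {y : Gh k} (hy : y ∈ S.P ⊓ S.P') : S.ψ w * y * (S.ψ w)⁻¹ ∈ S.P ⊓ S.P' := by
  refine ⟨?_, S.mem_P'.2 ?_⟩
  · have h1 := S.ψ_h_mem_P (-1)
    rw [← w_w, map_mul] at h1
    have h2 := mul_mem (mul_mem h1 (S.mem_P'.1 hy.2)) (inv_mem h1)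
    rwa [show S.ψ w * S.ψ w * ((S.ψ w)⁻¹ * y * S.ψ w) * (S.ψ w * S.ψ w)⁻¹ = S.ψ w * y * (S.ψ w)⁻¹ by group] at h2
  · rw [show (S.ψ w)⁻¹ * (S.ψ w * y * (S.ψ w)⁻¹) * S.ψ w = y by group]
    exact hy.1

section
variable {I : Type} [Fintype I] [DecidableEq I] {c : I → Fin 7 → ℤ} {R : Gh k →* Matrix I I k}
  {W : Submodule k (I → k)}

theorem si_good_σ (hR : WRep c R) (hW : S.Stb R W) {g : Gh k} {l : Fin 7 → ℤ} (hg : S.Good R W g l) :
    S.Good R W (S.σ g) l := by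
  refine ⟨fun z => ?_, fun θ => ?_⟩
  · obtain ⟨z', rfl⟩ := S.si_s_surj' z
    rw [σ, ← emb_co]
    exact ⟨S.σ_mem_P (hg.mem z').1, S.σ_mem_P' (hg.mem z').2⟩
  · choose θ' hθ using fun d => S.si_s_surj (θ d)
    obtain ⟨n, hn⟩ := hg.scal θ'
    refine ⟨n, fun y hy h1 z => ?_⟩
    obtain ⟨z', rfl⟩ := S.si_s_surj' z
    obtain ⟨y', hy', rfl⟩ : ∃ y' ∈ W, y = S.sv y' := S.k_sv_surj (X := (W : Set (I → k))) hW.2 y hy
    have h2 := hn y' hy' (fun d => S.si_sv_inj (by rw [S.sv_mulVec hR, S.k_σ_ψ, h1, S.si_sv_smul, hθ])) z'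
    rw [σ, ← emb_co, ← σ, ← S.sv_mulVec hR, h2, S.si_sv_smul, ← map_zpow]
    rfl

theorem si_good_conj (hW : S.Stb R W) {n : Gh k} (hn : n ∈ S.M) (hP : ∀ y ∈ S.P ⊓ S.P', n * y * n⁻¹ ∈ S.P ⊓ S.P')
    {φ : Kˣ → Kˣ} (hφ : ∀ d, n * S.ψ (h d) * n⁻¹ = S.ψ (h (φ d))) {g : Gh k} {l : Fin 7 → ℤ} (hg : S.Good R W g l) :
    S.Good R W (n * g) l := by
  refine ⟨fun z => by rw [co_mul]; exact hP _ (hg.mem z), fun θ => ?_⟩
  obtain ⟨m, hm⟩ := hg.scal fun d => θ (φ d)
  refine ⟨m, fun y hy h1 z => ?_⟩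
  have h2 := hm _ (hW.1 _ (inv_mem hn) y hy) (fun d => by
    rw [← mulVec_smul, ← h1, ← hφ, mulVec_mul, mulVec_mul, mulVec_inv]) z
  rw [co_mul, mulVec_mul, mulVec_mul, h2, mulVec_smul, mulVec_inv']

theorem si_good_nb (hW : S.Stb R W) {n : Gh k} (hn : S.NB n) {g : Gh k} {l : Fin 7 → ℤ} (hg : S.Good R W g l) :
    S.Good R W (n * g) l := by
  obtain ⟨d, τ, h1⟩ := hn.2
  have h2 : n ∈ S.P ⊓ S.P' := ⟨hn.mem_P, hn.mem_P'⟩
  exact S.si_good_conj hW hn.1 (fun y hy => mul_mem (mul_mem h2 hy) (inv_mem h2))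
    (φ := Units.map (τ : K →* K)) (fun e => by rw [← h1, aut_h]) hg

theorem si_good_w (hW : S.Stb R W) {g : Gh k} {l : Fin 7 → ℤ} (hg : S.Good R W g l) : S.Good R W (S.ψ w * g) l :=
  S.si_good_conj hW (S.k_ψ_mem w) (fun _ => S.si_w_conj) (φ := fun d => d⁻¹) (fun d => by
    rw [← map_mul, ← inv_inv d, ← h_w, map_mul, mul_inv_cancel_right, inv_inv]) hg

/-- the weight vectors of `T_A` span every `T_A`-submodule -/
theorem si_wt {Y : Submodule k (I → k)} (hY : ∀ d, ∀ y ∈ Y, R (S.ψ (h d)) *ᵥ y ∈ Y) {P : (I → k) → Prop} (h0 : P 0)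
    (ha : ∀ x y, P x → P y → P (x + y))
    (he : ∀ θ : Kˣ → k, ∀ y ∈ Y, (∀ d, R (S.ψ (h d)) *ᵥ y = θ d • y) → P y) : ∀ y ∈ Y, P y := by
  have := S.closed
  obtain ⟨d0, hd⟩ := IsCyclic.exists_monoid_generator (α := Kˣ)
  refine si_span S.cast_card (A := R (S.ψ (h d0))) (by rw [← map_pow, S.ψ_h_pow, map_one]) (hY d0) h0 ha
    fun μ y hy e => ?_
  choose m hm using hd
  refine he (fun d => μ ^ m d) y hy fun d => ?_
  have h1 : ∀ n : ℕ, R (S.ψ (h (d0 ^ n))) *ᵥ y = μ ^ n • y := by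
    intro n
    induction n with
    | zero => rw [pow_zero, pow_zero, h_one, map_one, map_one, one_mulVec, one_smul]
    | succ n ih => rw [pow_succ, h_mul, map_mul, mulVec_mul, e, mulVec_smul, ih, smul_smul, pow_succ']
  have h2 : d0 ^ m d = d := hm d
  rw [← h1, h2]

variable (R W) in
/-- the elements which act by scalars on the weight vectors of `T_A` in `W` -/
def siSc : Subgroup (Gh k) where
  carrier := {s | ∀ θ : Kˣ → k, ∀ y ∈ W, (∀ d, R (S.ψ (h d)) *ᵥ y = θ d • y) → ∃ t : k, R s *ᵥ y = t • y}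
  one_mem' := fun _ y _ _ => ⟨1, by rw [map_one, one_mulVec, one_smul]⟩
  mul_mem' := fun ha hb θ y hy e => by
    obtain ⟨s, hs⟩ := ha θ y hy e
    obtain ⟨t, ht⟩ := hb θ y hy e
    exact ⟨t * s, by rw [mulVec_mul, ht, mulVec_smul, hs, smul_smul]⟩
  inv_mem' := fun {s} ha θ y hy e => by
    obtain ⟨t, ht⟩ := ha θ y hy e
    have h1 := mulVec_inv R s y
    rw [ht, mulVec_smul] at h1
    by_cases h0 : t = 0
    · rw [h0, zero_smul] at h1
      exact ⟨0, by rw [← h1, mulVec_zero, smul_zero]⟩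
    · refine ⟨t⁻¹, ?_⟩
      conv_rhs => rw [← h1, smul_smul, inv_mul_cancel₀ h0, one_smul]

theorem si_h_mem_Sc (d : Kˣ) : S.ψ (h d) ∈ S.siSc R W := fun θ _ _ e => ⟨θ d, e d⟩

theorem si_co_mem_Sg {g : Gh k} {l : Fin 7 → ℤ} (hg : S.Good R W g l) (z : kˣ) : co g l z ∈ S.Sg R W :=
  Subgroup.subset_closure ⟨g, l, z, hg, rfl⟩

theorem si_Sg_le {D : Subgroup (Gh k)} (hD : ∀ g l z, S.Good R W g l → co g l z ∈ D) : S.Sg R W ≤ D := by
  refine (Subgroup.closure_le _).2 ?_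
  rintro _ ⟨g, l, z, hg, rfl⟩
  exact hD g l z hg

theorem si_Sg_le_Sc : S.Sg R W ≤ S.siSc R W := S.si_Sg_le fun _ _ z hg θ y hy e => by
  obtain ⟨n, hn⟩ := hg.scal θ
  exact ⟨_, hn y hy e z⟩

theorem si_mem_Ut {s : Gh k} (hs : s ∈ S.Sg R W) (t : K) : s * S.ψ (u t) * s⁻¹ ∈ S.Ut R W :=
  Subgroup.subset_closure ⟨s, hs, t, rfl⟩

theorem si_Ut_le {D : Subgroup (Gh k)} (hD : ∀ s ∈ S.Sg R W, ∀ t, s * S.ψ (u t) * s⁻¹ ∈ D) : S.Ut R W ≤ D := by
  refine (Subgroup.closure_le _).2 ?_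
  rintro _ ⟨s, hs, t, rfl⟩
  exact hD s hs t

theorem si_U_le : S.U ≤ S.Ut R W := by
  rintro _ ⟨t, rfl⟩
  have h1 := S.si_mem_Ut (one_mem (S.Sg R W)) t
  rwa [one_mul, inv_one, mul_one] at h1

/-- `siSc` centralises the good cocharacters -/
theorem si_comm (T : S.TorW R) {s : Gh k} (hs : s ∈ S.siSc R T.W) : ∀ s' ∈ S.Sg R T.W, s * s' = s' * s := by
  have := S.closed
  obtain ⟨N, hN, hF⟩ := T.expo
  have key : ∀ s' ∈ S.siSc R T.W, ∀ y ∈ T.W, R (s * s' * s⁻¹ * s'⁻¹) *ᵥ y = y := by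
    intro s' hs'
    refine S.si_wt (fun d => T.stb.1 _ (S.k_ψ_mem _)) (mulVec_zero _) (fun x y hx hy => by rw [mulVec_add, hx, hy])
      fun θ y hy e => ?_
    obtain ⟨t, ht⟩ := inv_mem hs θ y hy e
    obtain ⟨t', ht'⟩ := inv_mem hs' θ y hy e
    have h1 : R (s⁻¹ * s'⁻¹) *ᵥ y = R (s'⁻¹ * s⁻¹) *ᵥ y := by
      rw [mulVec_mul, mulVec_mul, ht, ht', mulVec_smul, mulVec_smul, ht, ht', smul_comm]
    rw [mul_assoc, mulVec_mul, h1, ← mulVec_mul, show s * s' * (s'⁻¹ * s⁻¹) = 1 by group, map_one, one_mulVec]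
  intro s' hs'
  refine (S.si_Sg_le (D := Subgroup.centralizer {s}) (fun g l z hg => ?_) hs') s rfl
  rw [Subgroup.mem_centralizer_singleton_iff, eq_comm]
  have h1 := constL (f := fun z => s * co g l z * s⁻¹ * (co g l z)⁻¹)
    (Reg.mul (Reg.mul (Reg.mul (Reg.const _ s) (co_mem_Reg g l)) (Reg.const _ s⁻¹)) (Reg.inv (co_mem_Reg g l))) hN
    (fun z => hF _ (key _ (S.si_Sg_le_Sc (S.si_co_mem_Sg hg z)))) (x0 := 1) (by rw [map_one]; group) z
  rwa [mul_inv_eq_one, mul_inv_eq_iff_eq_mul] at h1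

variable (R W) in
/-- the stabiliser of all `A`-submodules of `W` -/
def siD : Subgroup (Gh k) := ⨅ Y : {Y : Submodule k (I → k) // Y ≤ W ∧ ∀ x, ∀ y ∈ Y, R (S.ψ x) *ᵥ y ∈ Y}, siSt R Y.1

theorem si_mem_D {g : Gh k} :
    g ∈ S.siD R W ↔ ∀ Y : Submodule k (I → k), Y ≤ W → (∀ x, ∀ y ∈ Y, R (S.ψ x) *ᵥ y ∈ Y) → g ∈ siSt R Y :=
  Subgroup.mem_iInf.trans ⟨fun h Y h1 h2 => h ⟨Y, h1, h2⟩, fun h Y => h Y.1 Y.2.1 Y.2.2⟩

theorem si_ψ_mem_D (x : _root_.Matrix.SpecialLinearGroup (Fin 2) K) : S.ψ x ∈ S.siD R W :=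
  S.si_mem_D.2 fun _ _ h2 => ⟨h2 x, by rw [← map_inv]; exact h2 _⟩

theorem si_Sc_le_D : S.siSc R W ≤ S.siD R W := by
  have key : ∀ s ∈ S.siSc R W, ∀ Y : Submodule k (I → k), Y ≤ W → (∀ x, ∀ y ∈ Y, R (S.ψ x) *ᵥ y ∈ Y) →
      ∀ y ∈ Y, R s *ᵥ y ∈ Y := by
    intro s hs Y h1 h2
    refine S.si_wt (fun d => h2 _) (by rw [mulVec_zero]; exact zero_mem _)
      (fun x y hx hy => by rw [mulVec_add]; exact add_mem hx hy) fun θ y hy e => ?_
    obtain ⟨t, ht⟩ := hs θ y (h1 hy) e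
    rw [ht]
    exact Y.smul_mem _ hy
  exact fun s hs => S.si_mem_D.2 fun Y h1 h2 => ⟨key s hs Y h1 h2, key _ (inv_mem hs) Y h1 h2⟩

theorem si_conj_D (hW : S.Stb R W) : ∀ m ∈ S.M, ∀ g ∈ S.siD R W, m * g * m⁻¹ ∈ S.siD R W := by
  have key : ∀ m ∈ S.M, ∀ g ∈ S.siD R W, ∀ Y : Submodule k (I → k), Y ≤ W → (∀ x, ∀ y ∈ Y, R (S.ψ x) *ᵥ y ∈ Y) →
      ∀ y ∈ Y, R (m * g * m⁻¹) *ᵥ y ∈ Y := by
    intro m hm g hg Y h1 h2 y hy
    have h3 := (S.si_mem_D.1 hg (Y.comap (toLin' (R m))) (fun x hx => by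
      rw [← mulVec_inv R m x]
      exact hW.1 _ (inv_mem hm) _ (h1 hx)) (fun x z hz => by
      obtain ⟨x', e⟩ := S.norm_ψ hm x
      show R m *ᵥ (R (S.ψ x) *ᵥ z) ∈ Y
      rw [← mulVec_mul, mul_inv_eq_iff_eq_mul.1 e, mulVec_mul]
      exact h2 _ _ hz)).1 (R m⁻¹ *ᵥ y) (by
      show R m *ᵥ (R m⁻¹ *ᵥ y) ∈ Y
      rwa [mulVec_inv'])
    rw [mulVec_mul, mulVec_mul]
    exact h3
  intro m hm g hg
  refine S.si_mem_D.2 fun Y h1 h2 => ⟨key m hm g hg Y h1 h2, ?_⟩
  rw [show (m * g * m⁻¹)⁻¹ = m * g⁻¹ * m⁻¹ by group]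
  exact key m hm _ (inv_mem hg) Y h1 h2

variable {S} in
theorem TorW.si_ne (T : S.TorW R) : T.W ≠ ⊥ := by
  intro h0
  have := S.chark
  obtain ⟨N, hN, hF⟩ := T.expo
  have h1 := hF (S.ψ (u 1)) fun y hy => by
    rw [h0] at hy
    rw [hy, mulVec_zero]
  have h2 := pow_gcd_eq_one.2 ⟨h1, S.ψ_u_pow 1⟩
  rw [coprime_of_cast S.prime hN, pow_one] at h2
  exact S.ψ_u_ne one_ne_zero h2

/-- the rational points of `siD` lie in `M` -/
theorem si_D_fix (hi : S.IRRF R) (hr : S.RED R) (T : S.TorW R) : ∀ y ∈ S.siD R T.W, S.σ y = y → y ∈ S.M := by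
  refine (S.fix_le_M (S.si_conj_D T.stb)).resolve_right fun h1 => ?_
  have h2 : ∀ Y : Submodule k (I → k), Y ≤ T.W → (∀ x, ∀ y ∈ Y, R (S.ψ x) *ᵥ y ∈ Y) → Y = ⊥ ∨ Y = ⊤ :=
    fun Y h3 h4 => hi Y fun y0 => (S.si_mem_D.1 (h1 y0) Y h3 h4).1
  have h3 := (h2 T.W le_rfl fun x => T.stb.1 _ (S.k_ψ_mem x)).resolve_left T.si_ne
  obtain ⟨Y, h4, h5, h6⟩ := hr
  exact (h2 Y (h3 ▸ le_top) h6).elim h4 h5

/-- **the group generated by the good cocharacters** -/
theorem sig (hp : p ≠ 2) (hR : WRep c R) (hi : S.IRRF R) (hr : S.RED R) (hn : S.NoFix) (T : S.TorW R) :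
    S.Sig R T.W := by
  have := S.closed
  have σS : ∀ s ∈ S.Sg R T.W, S.σ s ∈ S.Sg R T.W := S.si_Sg_le (D := (S.Sg R T.W).comap S.σ) fun g l z hg => by
    rw [Subgroup.mem_comap, σ, emb_co]
    exact S.si_co_mem_Sg (S.si_good_σ hR T.stb hg) _
  have nbS : ∀ n, S.NB n → ∀ s ∈ S.Sg R T.W, n * s * n⁻¹ ∈ S.Sg R T.W := fun n hn =>
    S.si_Sg_le (D := (S.Sg R T.W).comap (MulAut.conj n).toMonoidHom) fun g l z hg => by
      show n * co g l z * n⁻¹ ∈ S.Sg R T.W
      rw [← co_mul]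
      exact S.si_co_mem_Sg (S.si_good_nb T.stb hn hg) _
  have hU : ∀ d, ∀ y ∈ S.Ut R T.W, S.ψ (h d) * y * (S.ψ (h d))⁻¹ ∈ S.Ut R T.W := fun d =>
    S.si_Ut_le (D := (S.Ut R T.W).comap (MulAut.conj (S.ψ (h d))).toMonoidHom) fun s hs t => by
      show S.ψ (h d) * (s * S.ψ (u t) * s⁻¹) * (S.ψ (h d))⁻¹ ∈ S.Ut R T.W
      rw [show S.ψ (h d) * (s * S.ψ (u t) * s⁻¹) * (S.ψ (h d))⁻¹ = S.ψ (h d) * s * S.ψ (u t) * (S.ψ (h d) * s)⁻¹ by group,
        S.si_comm T (S.si_h_mem_Sc d) s hs, mul_assoc s, ← map_mul, h_u, map_mul,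
        show s * (S.ψ (u ((d : K) ^ 2 * t)) * S.ψ (h d)) * (s * S.ψ (h d))⁻¹ = s * S.ψ (u ((d : K) ^ 2 * t)) * s⁻¹ by group]
      exact S.si_mem_Ut hs _
  have leP : S.Sg R T.W ≤ S.P := S.si_Sg_le fun g l z hg => (hg.mem z).1
  have le : S.Ut R T.W ≤ S.Ru := S.si_Ut_le fun s hs t => S.Ru_conj (leP hs) (S.U_le_Ru ⟨t, rfl⟩)
  refine ⟨fun g l => S.si_good_σ hR T.stb, fun n g l hn => S.si_good_nb T.stb hn, σS, nbS, ?_, fun n hn => ?_, fun s hs => ?_,
    hU, fun s hs => S.si_comm T (S.si_Sg_le_Sc hs), leP, le, fun y hy hσ => ?_, ?_⟩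
  · refine S.si_Ut_le (D := (S.Ut R T.W).comap S.σ) fun s hs t => ?_
    rw [Subgroup.mem_comap, map_mul, map_mul, map_inv, S.k_σ_ψ]
    exact S.si_mem_Ut (σS s hs) t
  · refine S.si_Ut_le (D := (S.Ut R T.W).comap (MulAut.conj n).toMonoidHom) fun s hs t => ?_
    obtain ⟨t', e⟩ := hn.conj_U (show S.ψ (u t) ∈ S.U from ⟨t, rfl⟩)
    show n * (s * S.ψ (u t) * s⁻¹) * n⁻¹ ∈ S.Ut R T.W
    rw [show n * (s * S.ψ (u t) * s⁻¹) * n⁻¹ = n * s * n⁻¹ * (n * S.ψ (u t) * n⁻¹) * (n * s * n⁻¹)⁻¹ by group, e]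
    exact S.si_mem_Ut (nbS n hn s hs) t'
  · refine S.si_Ut_le (D := (S.Ut R T.W).comap (MulAut.conj s).toMonoidHom) fun s' hs' t => ?_
    show s * (s' * S.ψ (u t) * s'⁻¹) * s⁻¹ ∈ S.Ut R T.W
    rw [show s * (s' * S.ψ (u t) * s'⁻¹) * s⁻¹ = s * s' * S.ψ (u t) * (s * s')⁻¹ by group]
    exact S.si_mem_Ut (mul_mem hs hs') t
  · have h1 : S.Ut R T.W ≤ S.siD R T.W := S.si_Ut_le fun s hs t => by
      have h2 := S.si_Sc_le_D (S.si_Sg_le_Sc hs)
      exact mul_mem (mul_mem h2 (S.si_ψ_mem_D _)) (inv_mem h2)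
    have h2 := S.eq_U (Q := S.Ut R T.W ⊓ S.σ.eqLocus (MonoidHom.id _)) (S.isPGroup_Ru.to_le (inf_le_left.trans le))
      (fun x hx => S.si_D_fix hi hr T x (h1 hx.1) hx.2)
      (le_inf S.si_U_le (by rintro _ ⟨t, rfl⟩; exact S.k_σ_ψ _)) fun d x hx => ⟨hU d x hx.1, by
        have h3 : S.σ x = x := hx.2
        show S.σ _ = _
        rw [map_mul, map_mul, map_inv, S.k_σ_ψ, h3]
        rfl⟩
    exact h2.le ⟨hy, hσ⟩
  · by_contra hc
    push Not at hc
    have h1 : ∀ z t, co T.g T.l z * S.ψ (u t) = S.ψ (u t) * co T.g T.l z := fun z t =>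
      mul_inv_eq_iff_eq_mul.1 (hc _ _ z t T.good)
    have h2 : ∀ z x, co T.g T.l z * S.ψ x = S.ψ x * co T.g T.l z := by
      intro z
      have hm : ∀ x y, co T.g T.l z * S.ψ x = S.ψ x * co T.g T.l z → co T.g T.l z * S.ψ y = S.ψ y * co T.g T.l z →
          co T.g T.l z * S.ψ (x * y) = S.ψ (x * y) * co T.g T.l z := fun x y hx hy => by
        rw [map_mul, ← mul_assoc, hx, mul_assoc, hy, mul_assoc]
      refine induct (h1 z) (fun d => (S.si_comm T (S.si_h_mem_Sc d) _ (S.si_co_mem_Sg T.good z)).symm) ?_ hm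
      have h3 := hc _ _ z 1 (S.si_good_w T.stb T.good)
      rw [co_mul] at h3
      rw [si_w]
      refine hm _ _ (hm _ _ (h1 z 1) ?_) (h1 z 1)
      rw [map_mul, map_mul, map_inv]
      conv_rhs => rw [← h3]
      group
    obtain ⟨m, hm⟩ := exists_dom (lE T.l)
    refine S.irr_odd hp hn (wL_ne (si_lE_ne T.ne)) hm (g := T.g * (nL k m)⁻¹) fun x => ?_
    rw [show (T.g * (nL k m)⁻¹)⁻¹ * S.ψ x * (T.g * (nL k m)⁻¹) = nL k m * (T.g⁻¹ * S.ψ x * T.g) * (nL k m)⁻¹ by group]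
    refine nL_conj_Pl m (si_mem_Pl fun z => ?_)
    have h3 := h2 z x
    rw [co_apply] at h3
    calc _ = T.g⁻¹ * (T.g * Phi k (lam T.l z) * T.g⁻¹ * S.ψ x) * T.g := by group
      _ = _ := by rw [h3]; group

end

end Sit

end Cfsg.Agent.E7P
end

-- part: E7P/Ag/Lift
section
/-!
# S5932, task ALG-8: `LIFT` and the algebraic overgroup (helper71)

* `Kf.lift : LIFT k`;
* `Sit.alg_of_rts : FRAME k → LIEPOLY k → S.Rts → Nonempty S.Alg`.
-/

set_option autoImplicit false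
set_option maxRecDepth 100000

namespace Cfsg.Agent.E7P

open Cfsg Cfsg.Lie Matrix Module
open Cfsg.Agent.H943.E7V.Block (D1 rho)
open Cfsg.Agent.R2.T1 Cfsg.Agent.E7P.Kf
open Cfsg.Agent.R2.PX (del)
open Cfsg.Agent.H943.SL2Rel

universe u v

namespace Kf

section
variable {K : Type*} [Field K]

theorem li_n (a : Kˣ) : u (a : K) * (w * u (a : K)⁻¹ * w⁻¹) * u (a : K) = h a * w := by
  have h1 : u (a : K) * (w * u (a : K)⁻¹) = h a * w * u (-(a : K)) * w := by
    apply Subtype.ext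
    show (u (a : K)).1 * ((w : _root_.Matrix.SpecialLinearGroup (Fin 2) K).1 * (u (a : K)⁻¹).1) =
      (h a).1 * (w : _root_.Matrix.SpecialLinearGroup (Fin 2) K).1 * (u (-(a : K))).1 * (w : _root_.Matrix.SpecialLinearGroup (Fin 2) K).1
    simp [u, w, h]
  rw [← mul_assoc, h1, u_neg]
  group

theorem li_gen {P : _root_.Matrix.SpecialLinearGroup (Fin 2) K → Prop} (hu : ∀ t, P (u t)) (hl : ∀ t, P (w * u t * w⁻¹))
    (hm : ∀ a b, P a → P b → P (a * b)) (g : _root_.Matrix.SpecialLinearGroup (Fin 2) K) : P g := by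
  have h1 : ∀ a : Kˣ, P (h a * w) := fun a => li_n a ▸ hm _ _ (hm _ _ (hu _) (hl _)) (hu _)
  refine induct hu (fun a => ?_) ?_ hm g
  · have h2 := hm _ _ (h1 a) (h1 (-1))
    rwa [← w_w, show h a * w * (w * w * w) = h a * (w * w * (w * w)) by simp only [mul_assoc], w_w, ← h_mul,
      neg_mul_neg, one_mul, h_one, mul_one] at h2
  · have h2 := h1 1
    rwa [h_one, one_mul] at h2

variable {K' : Type*} [Field K'] (f : K →+* K')

theorem li_map_u (t : K) : SpecialLinearGroup.map f (u t) = u (f t) := by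
  apply Subtype.ext
  show (u t).1.map f = _
  ext i j
  (revert i j; simp only [u, _root_.Fin.forall_fin_succ, _root_.Matrix.map_apply, _root_.Matrix.of_apply, _root_.Matrix.cons_val', _root_.Matrix.cons_val_fin_one, Fin.isValue, _root_.Matrix.cons_val_zero, _root_.Matrix.cons_val_succ, _root_.forall_const, _root_.map_one, _root_.and_self, _root_.map_zero, _root_.implies_true])

theorem li_map_w : SpecialLinearGroup.map f (w : _root_.Matrix.SpecialLinearGroup (Fin 2) K) = w := by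
  apply Subtype.ext
  show (w : _root_.Matrix.SpecialLinearGroup (Fin 2) K).1.map f = _
  ext i j
  (revert i j; simp only [w, _root_.Fin.forall_fin_succ, _root_.Matrix.map_apply, _root_.Matrix.of_apply, _root_.Matrix.cons_val', _root_.Matrix.cons_val_fin_one, Fin.isValue, _root_.Matrix.cons_val_zero, _root_.Matrix.cons_val_succ, _root_.forall_const, _root_.map_zero, _root_.map_one, _root_.and_self, _root_.map_neg, _root_.implies_true])

theorem li_map_l (t : K) : SpecialLinearGroup.map f (w * u t * w⁻¹) = w * u (f t) * w⁻¹ := by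
  rw [MonoidHom.map_mul, MonoidHom.map_mul, MonoidHom.map_inv, li_map_u, li_map_w]

theorem li_map_h (a : Kˣ) : SpecialLinearGroup.map f (h a) = h (Units.map (f : K →* K') a) := by
  apply Subtype.ext
  show (h a).1.map f = _
  ext i j
  (revert i j; simp only [h, _root_.Fin.forall_fin_succ, _root_.Matrix.map_apply, _root_.Matrix.of_apply, _root_.Matrix.cons_val', _root_.Matrix.cons_val_fin_one, _root_.Units.coe_map, _root_.MonoidHom.coe_coe, Fin.isValue, _root_.Matrix.cons_val_zero, _root_.Matrix.cons_val_succ, _root_.forall_const, _root_.map_zero, _root_.and_self, _root_.map_inv₀, _root_.implies_true])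

end

theorem li_ofFn_mul {G : Type*} [Monoid G] : ∀ {n : ℕ} (f g : Fin n → G), (∀ i j, i ≠ j → f i * g j = g j * f i) →
    (List.ofFn fun i => f i * g i).prod = (List.ofFn f).prod * (List.ofFn g).prod
  | 0, _, _, _ => by simp
  | n + 1, f, g, hc => by
    rw [List.ofFn_succ, List.ofFn_succ, List.ofFn_succ, List.prod_cons, List.prod_cons, List.prod_cons,
      li_ofFn_mul (fun i => f i.succ) (fun i => g i.succ) fun i j hij => hc _ _ fun e => hij (Fin.succ_injective _ e)]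
    have h1 : Commute (g 0) (List.ofFn fun i : Fin n => f i.succ).prod := Commute.list_prod_right _ _ fun x hx => by
      obtain ⟨i, rfl⟩ := List.mem_ofFn.1 hx
      exact (hc _ _ (Fin.succ_ne_zero i)).symm
    rw [mul_assoc, mul_assoc, ← mul_assoc (g 0), h1.eq, mul_assoc]

theorem li_ofFn_mem {G : Type*} [Group G] (T : Subgroup G) : ∀ {n : ℕ} (f : Fin n → G) (i : Fin n),
    (∀ j, j ≠ i → f j ∈ T) → (∀ t ∈ T, t * f i = f i * t) → (f i)⁻¹ * (List.ofFn f).prod ∈ T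
  | 0, _, i, _, _ => i.elim0
  | n + 1, f, i, h1, h2 => by
    rw [List.ofFn_succ, List.prod_cons]
    rcases Fin.eq_zero_or_eq_succ i with rfl | ⟨i, rfl⟩
    · rw [inv_mul_cancel_left]
      refine list_prod_mem fun x hx => ?_
      obtain ⟨j, rfl⟩ := List.mem_ofFn.1 hx
      exact h1 _ (Fin.succ_ne_zero j)
    · have h3 := h1 0 (Fin.succ_ne_zero i).symm
      rw [← mul_assoc, show (f i.succ)⁻¹ * f 0 = f 0 * (f i.succ)⁻¹ by
        rw [inv_mul_eq_iff_eq_mul, ← mul_assoc, ← h2 _ h3, mul_inv_cancel_right], mul_assoc]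
      exact mul_mem h3 (li_ofFn_mem T (fun j => f j.succ) i (fun j hj => h1 _ fun e => hj (Fin.succ_injective _ e)) h2)

variable {k : Type u} [Field k]

/-- rigidity, for pairs of maps -/
theorem li_eq {X Y : Type*} [Group Y] {𝒜 : Subalgebra k (X → k)} (hd : ∀ f ∈ 𝒜, ∀ g ∈ 𝒜, f * g = 0 → f = 0 ∨ g = 0)
    {Γ : Subgroup (Gh k × Y)} {N : ℕ} (hN : (N : k) ≠ 0) (hk : ∀ c, (c, 1) ∈ Γ → c ^ N = 1) {f g : X → Gh k}
    (hf : f ∈ Reg 𝒜) (hg : g ∈ Reg 𝒜) (h : ∀ x, ∃ γ, (f x, γ) ∈ Γ ∧ (g x, γ) ∈ Γ) {x0 : X} (h0 : f x0 = g x0) (x : X) :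
    f x = g x := by
  have h1 : ∀ x, (f x * (g x)⁻¹) ^ N = 1 := fun x => by
    obtain ⟨γ, h1, h2⟩ := h x
    have h3 : (f x * (g x)⁻¹, γ * γ⁻¹) ∈ Γ := mul_mem h1 (inv_mem h2)
    rw [mul_inv_cancel] at h3
    exact hk _ h3
  have h2 := const_of hd (Reg.mul hf (Reg.inv hg)) hN h1 (x0 := x0) (mul_inv_eq_one.2 h0) x
  exact mul_inv_eq_one.1 h2

/-- **LIFT** -/
theorem lift [Infinite k] : LIFT k := by
  intro Γ N x y hN hk hx hy hxr hyr hxΓ hyΓ
  have hx0 : x 0 = 1 := (left_eq_mul (a := x 0)).1 (by rw [← hx, add_zero])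
  have hy0 : y 0 = 1 := (left_eq_mul (a := y 0)).1 (by rw [← hy, add_zero])
  have hxn : ∀ t, x (-t) = (x t)⁻¹ := fun t => eq_inv_of_mul_eq_one_left (by rw [← hx, neg_add_cancel, hx0])
  have hyn : ∀ t, y (-t) = (y t)⁻¹ := fun t => eq_inv_of_mul_eq_one_left (by rw [← hy, neg_add_cancel, hy0])
  obtain ⟨w0, hw0⟩ : ∃ w0, w0 = x 1 * y 1 * x 1 := ⟨_, rfl⟩
  obtain ⟨h0, hh0⟩ : ∃ h0 : k → Gh k, ∀ a, h0 a = x a * y a⁻¹ * x a * w0⁻¹ := ⟨_, fun _ => rfl⟩
  have h1 : h0 1 = 1 := by rw [hh0, inv_one, ← hw0, mul_inv_cancel]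
  have hwΓ : (w0, w) ∈ Γ := by
    have h2 := mul_mem (mul_mem (hxΓ 1) (hyΓ 1)) (hxΓ 1)
    have h3 := li_n (1 : kˣ)
    rw [Units.val_one, inv_one, h_one, one_mul] at h3
    rwa [Prod.mk_mul_mk, Prod.mk_mul_mk, h3, ← hw0] at h2
  have hhΓ : ∀ a : kˣ, (h0 a, h a) ∈ Γ := fun a => by
    have h2 := mul_mem (mul_mem (mul_mem (hxΓ a) (hyΓ (a : k)⁻¹)) (hxΓ a)) (inv_mem hwΓ)
    rwa [Prod.inv_mk, Prod.mk_mul_mk, Prod.mk_mul_mk, Prod.mk_mul_mk, li_n, mul_inv_cancel_right, ← hh0] at h2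
  have hreg : ∀ {φ : kˣ → k}, φ ∈ LA k → (fun z => (φ z)⁻¹) ∈ LA k → (fun z => h0 (φ z)) ∈ Reg (LA k) := by
    intro φ h2 h3
    simp only [hh0]
    exact Reg.mul (Reg.mul (Reg.mul (Reg.comp (PA_comp h2) hxr) (Reg.comp (PA_comp h3) hyr)) (Reg.comp (PA_comp h2) hxr))
      (Reg.const _ _)
  have hinv : (fun z : kˣ => (z : k)⁻¹) ∈ LA k := by
    have h2 := inv_mem_LA (k := k)
    simpa only [Units.val_inv_eq_inv_val] using h2
  have hr1 : (fun z : kˣ => h0 z) ∈ Reg (LA k) := hreg val_mem_LA hinv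
  have hmul : ∀ a b : kˣ, h0 (a * b) = h0 a * h0 b := fun a b =>
    li_eq dom_LA hN hk (f := fun a : kˣ => h0 (a * b)) (g := fun a : kˣ => h0 a * h0 b)
      (hreg (mul_mem val_mem_LA ((LA k).algebraMap_mem (b : k))) (by
        simp only [mul_inv]
        exact mul_mem hinv ((LA k).algebraMap_mem (b : k)⁻¹))) (Reg.mul hr1 (Reg.const _ _))
      (fun a => ⟨_, hhΓ (a * b), by rw [h_mul]; exact mul_mem (hhΓ a) (hhΓ b)⟩) (x0 := 1)
      (by simp only [Units.val_one, one_mul, h1]) a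
  have hhx : ∀ (a : kˣ) (t : k), h0 a * x t = x (a ^ 2 * t) * h0 a := fun a t =>
    li_eq dom_LA hN hk (f := fun a : kˣ => h0 a * x t) (g := fun a : kˣ => x (a ^ 2 * t) * h0 a)
      (Reg.mul hr1 (Reg.const _ _))
      (Reg.mul (Reg.comp (PA_comp (φ := fun a : kˣ => (a : k) ^ 2 * t) (by
        simp only [sq]
        exact mul_mem (mul_mem val_mem_LA val_mem_LA) ((LA k).algebraMap_mem t))) hxr) hr1)
      (fun a => ⟨_, mul_mem (hhΓ a) (hxΓ t), by
        show (_, h a * u t) ∈ Γ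
        rw [h_u]; exact mul_mem (hxΓ _) (hhΓ a)⟩) (x0 := 1)
      (by simp only [Units.val_one, one_mul, mul_one, one_pow, h1]) a
  have hwh : ∀ a : kˣ, w0 * h0 a = h0 (a : k)⁻¹ * w0 := fun a =>
    li_eq dom_LA hN hk (f := fun a : kˣ => w0 * h0 a) (g := fun a : kˣ => h0 (a : k)⁻¹ * w0)
      (Reg.mul (Reg.const _ _) hr1) (Reg.mul (hreg hinv (by simpa only [inv_inv] using val_mem_LA)) (Reg.const _ _))
      (fun a => ⟨_, mul_mem hwΓ (hhΓ a), by
        show (_, w * h a) ∈ Γ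
        have h2 := mul_mem (hhΓ a⁻¹) hwΓ
        rwa [Prod.mk_mul_mk, h_w, inv_inv, Units.val_inv_eq_inv_val] at h2⟩) (x0 := 1)
      (by simp only [Units.val_one, one_mul, mul_one, inv_one, h1]) a
  have hxy : ∀ t, w0 * x t * w0⁻¹ = y t := fun t =>
    li_eq dom_PA hN hk (f := fun t => w0 * x t * w0⁻¹) (g := y)
      (Reg.mul (Reg.mul (Reg.const _ _) hxr) (Reg.const _ _)) hyr
      (fun t => ⟨_, mul_mem (mul_mem hwΓ (hxΓ t)) (inv_mem hwΓ), hyΓ t⟩) (x0 := 0)
      (by simp only [hx0, hy0, mul_one, mul_inv_cancel]) t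
  have hww : w0 * w0 = h0 (-1) := by
    have h2 : h0 (-1) = w0⁻¹ * w0⁻¹ := by
      rw [hh0, inv_neg, inv_one, hxn, hyn, hw0]
      group
    have h3 := hmul (-1) (-1)
    rw [Units.val_neg, Units.val_one, neg_mul_neg, one_mul, h1, h2] at h3
    rw [h2]
    calc w0 * w0 = w0 * w0 * (w0⁻¹ * w0⁻¹ * (w0⁻¹ * w0⁻¹)) := by rw [← h3, mul_one]
      _ = _ := by group
  have H : Lib.SL2Hom.Rel x h0 w0 :=
    { add := hx
      mul := fun a b ha hb => hmul (Units.mk0 a ha) (Units.mk0 b hb)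
      hx := fun a t ha => hhx (Units.mk0 a ha) t
      wh := fun a ha => hwh (Units.mk0 a ha)
      ww := hww
      rel := fun t ht => by
        have h2 : w0 * h0 t = h0 t⁻¹ * w0 := hwh (Units.mk0 t ht)
        have h3 : h0 (t * -1) = h0 t * h0 (-1) := hmul (Units.mk0 t ht) (-1)
        have h4 : h0 (-1) * x (-t⁻¹) = x ((-1) ^ 2 * -t⁻¹) * h0 (-1) := hhx (-1) (-t⁻¹)
        rw [neg_one_sq, one_mul] at h4
        rw [mul_neg, mul_one] at h3
        calc w0 * x t * w0 = w0 * x t * w0⁻¹ * (w0 * w0) := by group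
          _ = x (-t⁻¹) * (h0 t⁻¹ * w0) * (x (-t⁻¹) * h0 (-1)) := by
            rw [hxy, hww, hh0 t⁻¹, inv_inv, hxn]
            group
          _ = _ := by
            rw [← h2, ← h4, h3]
            group }
  refine ⟨Lib.SL2Hom.hom H, Lib.SL2Hom.hom_up H, fun t => ?_, ?_⟩
  · rw [map_mul, map_mul, map_inv, ← hxy]
    exact congrArg₂ (· * ·) (congrArg₂ (· * ·) (Lib.SL2Hom.hom_wl H) (Lib.SL2Hom.hom_up H t))
      (congrArg _ (Lib.SL2Hom.hom_wl H))
  · have e : (fun z : kˣ => Lib.SL2Hom.hom H (h z)) = fun z : kˣ => h0 z :=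
      funext fun z => Lib.SL2Hom.hom_dg H z z.ne_zero
    rw [e]
    exact hr1

end Kf

namespace Sit

variable {p a b : ℕ} {F : Type u} {K : Type v} {k : Type u} [Field F] [Fintype F] [Field K] [Fintype K] [Field k]
  (S : Sit p a b F K k)

/-- **the algebraic overgroup** -/
theorem alg_of_rts (hF : FRAME k) (hL : LIEPOLY k) (X : S.Rts) : Nonempty S.Alg := by
  classical
  have := S.closed
  have hreg : ∀ i, X.x i ∈ Reg (PA k) := fun i => (X.pl i).reg (X.add i)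
  have hreg' : ∀ i, (fun t => S.ψ w * X.x i t * (S.ψ w)⁻¹) ∈ Reg (PA k) := fun i =>
    Reg.mul (Reg.mul (Reg.const _ _) (hreg i)) (Reg.const _ _)
  have hyΓ : ∀ i t, (S.ψ w * X.x i t * (S.ψ w)⁻¹, Pi.mulSingle i (w * u t * w⁻¹)) ∈ X.Γ := fun i t => by
    have h1 := mul_mem (mul_mem X.wΓ (X.xΓ i t)) (inv_mem X.wΓ)
    have h2 : (Pi.mulSingle i (w * u t * w⁻¹) : Fin X.n → _root_.Matrix.SpecialLinearGroup (Fin 2) k) =
        (fun _ => w) * Pi.mulSingle i (u t) * (fun _ => w)⁻¹ := funext fun j => by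
      rw [Pi.mul_apply, Pi.mul_apply, Pi.inv_apply]
      by_cases hj : j = i
      · subst hj
        rw [Pi.mulSingle_eq_same, Pi.mulSingle_eq_same]
      · rw [Pi.mulSingle_eq_of_ne hj, Pi.mulSingle_eq_of_ne hj, mul_one, mul_inv_cancel]
    rw [h2]
    exact h1
  have key : ∀ i, ∃ Ξ : _root_.Matrix.SpecialLinearGroup (Fin 2) k →* Gh k, (∀ t, Ξ (u t) = X.x i t) ∧
      (∀ t, Ξ (w * u t * w⁻¹) = S.ψ w * X.x i t * (S.ψ w)⁻¹) ∧ (fun z => Ξ (h z)) ∈ Reg (LA k) := fun i =>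
    Kf.lift (X.Γ.comap ((MonoidHom.id _).prodMap (MonoidHom.mulSingle (fun _ => _root_.Matrix.SpecialLinearGroup (Fin 2) k) i))) X.N _ _ X.hN
      (fun c hc => X.ker c (by
        have h1 : (c, Pi.mulSingle i (1 : _root_.Matrix.SpecialLinearGroup (Fin 2) k)) ∈ X.Γ := hc
        rwa [Pi.mulSingle_one] at h1))
      (X.add i) (fun s t => by rw [X.add]; group) (hreg i) (hreg' i) (X.xΓ i) (hyΓ i)
  choose Ξ hu hl hh using key
  have hΓ : ∀ i γ, (Ξ i γ, Pi.mulSingle i γ) ∈ X.Γ := fun i =>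
    li_gen (fun t => by rw [hu]; exact X.xΓ i t) (fun t => by rw [hl]; exact hyΓ i t) fun x y hx hy => by
      rw [map_mul, Pi.mulSingle_mul]
      exact mul_mem hx hy
  have hcomm : ∀ i j, i ≠ j → ∀ x y, Ξ i x * Ξ j y = Ξ j y * Ξ i x := fun i j hij x y => by
    have h1 : ∀ φ : k → _root_.Matrix.SpecialLinearGroup (Fin 2) k, φ 0 = 1 → (fun t => Ξ i (φ t)) ∈ Reg (PA k) →
        ∀ t, Ξ i (φ t) * Ξ j y = Ξ j y * Ξ i (φ t) := fun φ h0 h1 t =>
      li_eq dom_PA X.hN X.ker (f := fun t => Ξ i (φ t) * Ξ j y) (g := fun t => Ξ j y * Ξ i (φ t))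
        (Reg.mul h1 (Reg.const _ _)) (Reg.mul (Reg.const _ _) h1)
        (fun t => ⟨_, mul_mem (hΓ i (φ t)) (hΓ j y), by
          show (_, Pi.mulSingle i (φ t) * Pi.mulSingle j y) ∈ X.Γ
          rw [(Pi.mulSingle_commute (f := fun _ => _root_.Matrix.SpecialLinearGroup (Fin 2) k) hij (φ t) y).eq]
          exact mul_mem (hΓ j y) (hΓ i (φ t))⟩) (x0 := 0) (by simp only [h0, map_one, one_mul, mul_one]) t
    refine li_gen (P := fun x => Ξ i x * Ξ j y = Ξ j y * Ξ i x) (h1 u u_zero ?_)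
      (h1 (fun t => w * u t * w⁻¹) (by simp only [u_zero, mul_one, mul_inv_cancel]) ?_) (fun x x' hx hx' => by
        rw [map_mul, mul_assoc, hx', ← mul_assoc, hx, mul_assoc]) x
    · simp only [hu]
      exact hreg i
    · simp only [hl]
      exact hreg' i
  obtain ⟨g, hg⟩ := hF (Set.range fun i => (Ξ i).comp hHom) (by
      rintro _ ⟨i, rfl⟩
      exact hh i) (by
      rintro _ ⟨i, rfl⟩ _ ⟨j, rfl⟩ x y
      by_cases hij : i = j
      · subst hij
        rw [← map_mul, ← map_mul, mul_comm]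
      · exact hcomm i j hij _ _)
  choose l hl' using fun i => hg _ ⟨i, rfl⟩
  have htor : ∀ i z, Ξ i (h z) = co g (l i) z := fun i z => DFunLike.congr_fun (hl' i) z
  choose N D hD hD1 using X.pl
  choose e he using fun i => hL (X.x i) g (l i) (N i) (D i) (by rw [← hu, u_zero, map_one]) (fun z t => by
    rw [← htor, ← hu, ← hu, ← map_inv, ← map_mul, ← map_mul, h_u, mul_inv_cancel_right]) (hD i)
  have hres : ∀ x, S.ψ x = (List.ofFn fun i => Ξ i (SpecialLinearGroup.map (X.τ i) x)).prod :=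
    li_gen (fun t => by simp only [li_map_u, hu, X.res]) (fun t => by
      simp only [li_map_l, hl]
      rw [S.ψ.map_mul, S.ψ.map_mul, S.ψ.map_inv, X.res]
      have h1 := map_list_prod (MulAut.conj (S.ψ w)) (List.ofFn fun i => X.x i (X.τ i t))
      rw [List.map_ofFn] at h1
      exact h1) fun x y hx hy => by
      simp only [MonoidHom.map_mul]
      rw [li_ofFn_mul _ _ fun i j hij => hcomm i j hij _ _, ← hx, ← hy]
  have hA : ∀ i x0 x, S.ψ x0 * Ξ i x * (S.ψ x0)⁻¹ =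
      Ξ i (SpecialLinearGroup.map (X.τ i) x0 * x * (SpecialLinearGroup.map (X.τ i) x0)⁻¹) := fun i x0 x => by
    have h1 := li_ofFn_mem (Subgroup.centralizer (Set.range (Ξ i))) (fun j => Ξ j (SpecialLinearGroup.map (X.τ j) x0)) i
      (fun j hj => by
        rintro _ ⟨y, rfl⟩
        exact hcomm i j hj.symm _ _) (fun t ht => (ht _ ⟨_, rfl⟩).symm) _ ⟨x, rfl⟩
    rw [← hres] at h1
    rw [map_mul, map_mul, map_inv]
    generalize Ξ i (SpecialLinearGroup.map (X.τ i) x0) = c at h1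
    calc _ = c * (c⁻¹ * S.ψ x0 * Ξ i x) * (S.ψ x0)⁻¹ := by group
      _ = _ := by rw [← h1]; group
  have hfrob : ∀ i x, S.σ (Ξ i x) = Ξ (X.π i) (SpecialLinearGroup.map S.s x) := fun i =>
    li_gen (P := fun x => S.σ (Ξ i x) = Ξ (X.π i) (SpecialLinearGroup.map S.s x))
      (fun t => by rw [hu, li_map_u, hu, X.frob])
      (fun t => by rw [hl, li_map_l, hl, S.σ.map_mul, S.σ.map_mul, S.σ.map_inv, S.k_σ_ψ, X.frob]) fun x y hx hy => by
      rw [(Ξ i).map_mul, S.σ.map_mul, hx, hy, (SpecialLinearGroup.map S.s).map_mul, (Ξ _).map_mul]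
  refine ⟨{
    n := X.n
    npos := X.npos
    ab := X.ab
    Ξ := Ξ
    comm := hcomm
    g := g
    l := l
    tor := htor
    e := e
    D := fun i m => if m < N i + 2 then D i m else 0
    N := Finset.univ.sup N
    poly := fun i t => ?_
    D1 := fun i => by rw [if_pos (by omega), he]
    ne := fun i h0 => hD1 i (by rw [he, h0, map_zero])
    π := X.π
    trans := X.trans
    frob := hfrob
    τ := X.τ
    res := hres
    norm := fun m hm => ?_ }⟩
  · have h1 : N i ≤ Finset.univ.sup N := Finset.le_sup (Finset.mem_univ i)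
    rw [hu, hD]
    refine (Finset.sum_congr rfl fun m hm => ?_).trans (Finset.sum_subset (Finset.range_mono (by omega)) fun m _ hm => ?_)
    · rw [if_pos (Finset.mem_range.1 hm)]
    · rw [if_neg fun h2 => hm (Finset.mem_range.2 h2), smul_zero]
  · obtain ⟨n, x0, ⟨hn, c, α, h1⟩, rfl⟩ := S.exists_NB hm
    obtain ⟨ρ, h2⟩ := X.norm n hn c α h1
    refine ⟨ρ, fun i => ?_⟩
    obtain ⟨d0, hd0⟩ := IsAlgClosed.exists_pow_nat_eq (X.τ (ρ i) c) two_pos
    have hd : d0 ≠ 0 := by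
      rintro rfl
      rw [zero_pow two_ne_zero] at hd0
      exact c.ne_zero ((map_eq_zero _).1 hd0.symm)
    obtain ⟨d, rfl⟩ : ∃ d : kˣ, (d : k) = d0 := ⟨Units.mk0 d0 hd, rfl⟩
    have h3 : ∀ x, n * Ξ i x * n⁻¹ = Ξ (ρ i) (h d * x * (h d)⁻¹) :=
      li_gen (fun t => by rw [hu, h2, h_u, mul_inv_cancel_right, hu, hd0]) (fun t => by
        have h3 := h1 w
        rw [aut_w, map_mul] at h3
        have h4 : Units.map (X.τ (ρ i) : K →* k) c = d * d := Units.ext (by rw [Units.val_mul, ← sq, hd0]; rfl)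
        calc _ = n * S.ψ w * n⁻¹ * (n * X.x i t * n⁻¹) * (n * S.ψ w * n⁻¹)⁻¹ := by rw [hl]; group
          _ = S.ψ (h c) * Ξ (ρ i) (w * u ((d : k) ^ 2 * t) * w⁻¹) * (S.ψ (h c))⁻¹ := by
            rw [← h3, h2, hl, hd0]; group
          _ = _ := by
            rw [hA, li_map_h, h4, h_mul, ← mul_inv_eq_iff_eq_mul.2 (h_u d t)]
            have h5 := h_w d
            rw [h_inv] at h5
            (with_reducible congr 1)
            calc _ = h d * (h d * w) * h d * u t * (h d * (h d * w) * h d)⁻¹ := by group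
              _ = _ := by rw [h5]; group) fun x y hx hy => by
        rw [show h d * (x * y) * (h d)⁻¹ = h d * x * (h d)⁻¹ * (h d * y * (h d)⁻¹) by group, map_mul, map_mul, ← hx, ← hy]
        group
    refine ⟨h d * SpecialLinearGroup.map (X.τ i) x0, fun x => ?_⟩
    rw [show n * S.ψ x0 * Ξ i x * (n * S.ψ x0)⁻¹ = n * (S.ψ x0 * Ξ i x * (S.ψ x0)⁻¹) * n⁻¹ by group, hA, h3]
    (with_reducible congr 1)
    group

end Sit

end Cfsg.Agent.E7P
end

-- part: E7P/Red/Main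
section
/-!
# S5932: `A` is reducible on `V` and on the Lie algebra (helper36, task RED)

An irreducible module of `SL₂(K)` is some `V_b`.
* `p = 3` : the dimension of `V_b` is `2 ^ i 3 ^ j`, but `7` divides `56` and `133`;
* `p ≥ 5` : the character of `V_b` at an element of order `3` is `0, 1, -1`; the elements of order `3` of `E₇` have other
  values (`T3`).
-/

set_option autoImplicit false
set_option maxRecDepth 100000

namespace Cfsg.Agent.E7P

open Cfsg Cfsg.Lie Matrix Module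
open Cfsg.Agent.H943.E7V.Block (D1 rho)
open Cfsg.Agent.R2.T1 Cfsg.Agent.E7P.Kf
open Cfsg.Agent.H943.SL2Mod (Bf Bb mem_Bf Irr)
open Cfsg.Agent.H943.RepAdd (eig mem_eig)
open Cfsg.Agent.H179.SLC (IsSS isSS_of_trace irr_iso)
open Cfsg.Agent.R2.H28.SL2 (mf chi chB chB_zero chB_mul chi_zero chi_one chi_two card_Bf_low isMult_rb sum_single
  neg_one_pow_Q pow_eq_one_of_isSS)
open Cfsg.Agent.H952.F4 (ev)

universe u v

namespace Red

section
variable (k : Type*) [Field k] [DecidableEq k]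

theorem card_Bf_zero : (Bf k 0).card = 1 := by
  have h : Bf k 0 = {0} := by
    ext m
    rw [mem_Bf, Finset.mem_singleton]
    constructor
    · intro h
      exact Nat.le_zero.1 h.1
    · rintro rfl
      exact ⟨le_rfl, by rw [Nat.choose_self, Nat.cast_one]; exact one_ne_zero⟩
  rw [h, Finset.card_singleton]

/-- the dimensions in characteristic `3` -/
theorem not_seven_dvd [CharP k 3] (b : ℕ) : ¬ 7 ∣ (Bf k b).card := by
  have : Fact (Nat.Prime 3) := ⟨Nat.prime_three⟩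
  induction b using Nat.strong_induction_on with
  | _ b ih =>
    by_cases hb : b = 0
    · rw [hb, card_Bf_zero]
      decide
    · rw [card_Bf_low k 3 b]
      intro h
      rcases (Nat.Prime.dvd_mul (by norm_num)).1 h with h1 | h1
      · have h2 := Nat.le_of_dvd (Nat.succ_pos _) h1
        omega
      · exact ih (b / 3) (by omega) h1

theorem chi_three {z : ℂ} (hz : z ^ 2 + z + 1 = 0) (n : ℕ) :
    (chi n z = 1 ∧ chi (n + 1) z = -1) ∨ (chi n z = -1 ∧ chi (n + 1) z = 0) ∨ (chi n z = 0 ∧ chi (n + 1) z = 1) := by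
  have h0 : z ≠ 0 := by
    rintro rfl
    norm_num at hz
  have h1 : z + z⁻¹ = -1 := by
    have h2 : z * z⁻¹ = 1 := mul_inv_cancel₀ h0
    linear_combination z⁻¹ * hz - (z + 1) * h2
  induction n with
  | zero => exact Or.inl ⟨chi_zero z, by rw [zero_add, chi_one, h1]⟩
  | succ n ih =>
    have h2 := chi_two n h0
    rw [h1] at h2
    rcases ih with ⟨h3, h4⟩ | ⟨h3, h4⟩ | ⟨h3, h4⟩
    · exact Or.inr (Or.inl ⟨h4, by rw [h2, h3, h4]; norm_num⟩)
    · exact Or.inr (Or.inr ⟨h4, by rw [h2, h3, h4]; norm_num⟩)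
    · exact Or.inl ⟨h4, by rw [h2, h3, h4]; norm_num⟩

theorem pow_three_red {R : Type*} [Monoid R] {z : R} (hz : z ^ 3 = 1) (n : ℕ) : z ^ n = z ^ (n % 3) := by
  conv_lhs => rw [← Nat.div_add_mod n 3, pow_add, pow_mul, hz, one_pow, one_mul]

/-- the character of `V_b` at an element of order `3` -/
theorem chB_three (p : ℕ) [Fact p.Prime] [CharP k p] (hp : p ≠ 3) (b : ℕ) : ∀ z : ℂ, z ^ 2 + z + 1 = 0 →
    chB k b z = 0 ∨ chB k b z = 1 ∨ chB k b z = -1 := by
  have hpp : p.Prime := Fact.out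
  induction b using Nat.strong_induction_on with
  | _ b ih =>
    intro z hz
    by_cases hb : b = 0
    · rw [hb, chB_zero]
      exact Or.inr (Or.inl rfl)
    have h3 : z ^ 3 = 1 := by linear_combination (z - 1) * hz
    have h1 : (z ^ p) ^ 2 + z ^ p + 1 = 0 := by
      have h4 : p % 3 ≠ 0 := fun h4 =>
        hp ((Nat.prime_dvd_prime_iff_eq Nat.prime_three hpp).1 (Nat.dvd_of_mod_eq_zero h4)).symm
      rw [pow_three_red h3 p]
      obtain h5 | h5 : p % 3 = 1 ∨ p % 3 = 2 := by omega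
      · rw [h5, pow_one]
        exact hz
      · rw [h5]
        linear_combination hz + z * h3
    have h2 := ih (b / p) (Nat.div_lt_self (Nat.pos_of_ne_zero hb) hpp.one_lt) _ h1
    have h4 := chB_mul k p (b / p) (Nat.mod_lt b hpp.pos) z
    rw [Nat.div_add_mod] at h4
    rw [h4]
    rcases chi_three hz (b % p) with ⟨h5, -⟩ | ⟨h5, -⟩ | ⟨h5, -⟩ <;> rcases h2 with h2 | h2 | h2 <;> rw [h5, h2] <;> norm_num

theorem pow_inv_red {R : Type*} [Field R] {z : R} (hz : z ^ 3 = 1) (m n : ℕ) :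
    z ^ m * z⁻¹ ^ n = z ^ ((m + 2 * n) % 3) := by
  have h1 : z⁻¹ = z ^ 2 := inv_eq_of_mul_eq_one_right (by rw [← pow_succ', hz])
  rw [h1, ← pow_mul, ← pow_add, ← pow_three_red hz]

variable {k}

theorem chB_eq_mf {ζ : k} (hζ : IsPrimitiveRoot ζ 3) {z : ℂ} (hz : z ^ 3 = 1) (b : ℕ) :
    chB k b z = ∑ j ∈ Finset.range 3, (mf b ζ (ζ ^ j) : ℂ) * z ^ j := by
  unfold chB
  rw [← Finset.sum_fiberwise_of_maps_to (t := Finset.range 3) (g := fun m => (m + 2 * (b - m)) % 3)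
    (fun m _ => Finset.mem_range.2 (Nat.mod_lt _ (by norm_num)))]
  refine Finset.sum_congr rfl fun j hj => ?_
  have h1 : (Bf k b).filter (fun m => ζ ^ m * ζ⁻¹ ^ (b - m) = ζ ^ j) =
      (Bf k b).filter fun m => (m + 2 * (b - m)) % 3 = j := by
    refine Finset.filter_congr fun m _ => ?_
    rw [pow_inv_red hζ.pow_eq_one]
    exact ⟨fun h => hζ.pow_inj (Nat.mod_lt _ (by norm_num)) (Finset.mem_range.1 hj) h, fun h => by rw [h]⟩
  rw [mf, h1, ← nsmul_eq_mul, ← Finset.sum_const]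
  refine Finset.sum_congr rfl fun m hm => ?_
  rw [pow_inv_red hz, (Finset.mem_filter.1 hm).2]

/-- the multiplicities of the eigenvalues of an element of order `3` -/
theorem mf_three (p : ℕ) [Fact p.Prime] [CharP k p] (hp : p ≠ 3) {ζ : k} (hζ : IsPrimitiveRoot ζ 3) (b : ℕ)
    (h : mf b ζ (ζ ^ 1) = mf b ζ (ζ ^ 2)) :
    mf b ζ (ζ ^ 0) ≤ mf b ζ (ζ ^ 1) + 1 ∧ mf b ζ (ζ ^ 1) ≤ mf b ζ (ζ ^ 0) + 1 := by
  obtain ⟨z, hz⟩ : ∃ z : ℂ, IsPrimitiveRoot z 3 := HasEnoughRootsOfUnity.exists_primitiveRoot ℂ 3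
  have h1 : z ^ 2 + z + 1 = 0 := by
    have h2 := hz.geom_sum_eq_zero (by norm_num)
    rw [Finset.sum_range_succ, Finset.sum_range_succ, Finset.sum_range_one] at h2
    linear_combination h2
  have h2 := chB_three k p hp b z h1
  rw [chB_eq_mf hζ hz.pow_eq_one, Finset.sum_range_succ, Finset.sum_range_succ, Finset.sum_range_one, ← h] at h2
  have h3 : ∀ c : ℤ, (mf b ζ (ζ ^ 0) : ℂ) * z ^ 0 + (mf b ζ (ζ ^ 1) : ℂ) * z ^ 1 + (mf b ζ (ζ ^ 1) : ℂ) * z ^ 2 = c →
      (mf b ζ (ζ ^ 0) : ℤ) - mf b ζ (ζ ^ 1) = c := fun c hc => by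
    have h4 : (((mf b ζ (ζ ^ 0) : ℤ) - mf b ζ (ζ ^ 1) : ℤ) : ℂ) = c := by
      push_cast
      linear_combination hc - (mf b ζ (ζ ^ 1) : ℂ) * h1
    exact_mod_cast h4
  rcases h2 with h2 | h2 | h2
  · have := h3 0 (by rw [h2, Int.cast_zero])
    omega
  · have := h3 1 (by rw [h2, Int.cast_one])
    omega
  · have := h3 (-1) (by rw [h2, Int.cast_neg, Int.cast_one])
    omega

end

theorem eig_eq {k G W : Type*} [Field k] [Group G] [AddCommGroup W] [Module k W] (ρ : Representation k G W) (g : G)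
    (μ : k) : finrank k (eig ρ g μ) = ev (ρ g) μ := by
  have h : eig ρ g μ = Module.End.eigenspace (ρ g) μ := by
    ext x
    rw [mem_eig, Module.End.mem_eigenspace_iff]
  rw [h]
  rfl

theorem T3_spec : ∀ P ∈ T3, (P.1.getD 1 0 = P.1.getD 2 0 ∧ (P.1.getD 1 0 + 1 < P.1.getD 0 0 ∨ P.1.getD 0 0 + 1 < P.1.getD 1 0)) ∧
    (P.2.getD 1 0 = P.2.getD 2 0 ∧ (P.2.getD 1 0 + 1 < P.2.getD 0 0 ∨ P.2.getD 0 0 + 1 < P.2.getD 1 0)) := by
  decide

end Red

namespace Sit

open Red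

variable {p a b : ℕ} {F : Type u} {K : Type v} {k : Type u} [Field F] [Fintype F] [Field K] [Fintype K] [Field k]
  (S : Sit p a b F K k)

/-- an element of order `3` of `A` and its eigenvalues -/
theorem red_elt (hp : p ≠ 3) : ∃ (g : _root_.Matrix.SpecialLinearGroup (Fin 2) K) (ζ : k), IsPrimitiveRoot ζ 3 ∧ IsSS S.ι g ζ ∧
    ∃ P ∈ T3, ∀ j < 3, ev (S.R g) (ζ ^ j) = P.1.getD j 0 ∧ ev (S.RL g) (ζ ^ j) = P.2.getD j 0 := by
  classical
  have := S.closed
  have := S.chark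
  have := S.charK
  have : Fact p.Prime := ⟨S.prime⟩
  have h3 : ((3 : ℕ) : k) ≠ 0 := fun h =>
    hp ((Nat.prime_dvd_prime_iff_eq S.prime Nat.prime_three).1 ((CharP.cast_eq_zero_iff k p 3).1 h))
  have : NeZero ((3 : ℕ) : k) := ⟨h3⟩
  obtain ⟨ζ, hζ⟩ : ∃ ζ : k, IsPrimitiveRoot ζ 3 := HasEnoughRootsOfUnity.exists_primitiveRoot k 3
  have hζ0 : ζ ≠ 0 := hζ.ne_zero (by norm_num)
  have h1 : ζ⁻¹ = ζ ^ 2 := inv_eq_of_mul_eq_one_right (by rw [← pow_succ', hζ.pow_eq_one])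
  have h2 := hζ.geom_sum_eq_zero (by norm_num)
  rw [Finset.sum_range_succ, Finset.sum_range_succ, Finset.sum_range_one] at h2
  let g : _root_.Matrix.SpecialLinearGroup (Fin 2) K := ⟨!![0, -1; 1, -1], by simp [Matrix.det_fin_two]⟩
  have hg : IsSS S.ι g ζ := by
    refine isSS_of_trace S.ι hζ0 ?_ fun h => ?_
    · show S.ι (0 + -1) = _
      rw [zero_add, map_neg, map_one, h1]
      linear_combination -h2
    · rw [h1] at h
      have h4 := hζ.pow_inj (i := 1) (j := 2) (by norm_num) (by norm_num) (by rw [pow_one]; exact h)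
      omega
  have hg3 : S.ψ g ^ 3 = 1 := by rw [← map_pow, pow_eq_one_of_isSS S.ι hg hζ.pow_eq_one, map_one]
  have hζu : IsPrimitiveRoot (Units.mk0 ζ hζ0) 3 := IsPrimitiveRoot.coe_units_iff.1 hζ
  obtain ⟨P, hP, h4⟩ := exists_pat chk3 (by norm_num) hζu
    (frameK p S.alg (by norm_num) (coprime_of_cast S.prime h3) hg3)
  exact ⟨g, ζ, hζ, hg, P, hP, h4⟩

/-- the irreducible modules of `A` -/
theorem red_irr {W : Type*} [AddCommGroup W] [Module k W] [FiniteDimensional k W]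
    {ρ : Representation k (_root_.Matrix.SpecialLinearGroup (Fin 2) K) W} (hI : _root_.Cfsg.Agent.H943.SL2Mod.Irr ρ) (h7 : 7 ∣ finrank k W)
    (h3 : p ≠ 3 → ∃ (g : _root_.Matrix.SpecialLinearGroup (Fin 2) K) (ζ : k) (l : List ℕ), IsPrimitiveRoot ζ 3 ∧ IsSS S.ι g ζ ∧
      (l.getD 1 0 = l.getD 2 0 ∧ (l.getD 1 0 + 1 < l.getD 0 0 ∨ l.getD 0 0 + 1 < l.getD 1 0)) ∧
      ∀ j < 3, ev (ρ g) (ζ ^ j) = l.getD j 0) : False := by
  classical
  have := S.closed
  have := S.chark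
  have := S.charK
  have : Fact p.Prime := ⟨S.prime⟩
  obtain ⟨c, hc, φ, hφ⟩ := irr_iso S.ι p ρ S.ι.injective (neg_one_pow_Q S.ι) hI
  have hM := isMult_rb S.ι p S.cardK hc ρ φ hφ
  have hc' : c < p ^ a := by
    have h1 := S.eleven
    rw [S.cardK] at hc
    omega
  by_cases hp : p = 3
  · subst hp
    have h1 := hM.dim
    rw [sum_single hc' fun c => (Bf k c).card] at h1
    exact not_seven_dvd k c (h1 ▸ h7)
  obtain ⟨g, ζ, l, hζ, hg, ⟨h1, h2⟩, h4⟩ := h3 hp
  have hk3 : ((3 : ℕ) : k) ≠ 0 := fun h =>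
    hp ((Nat.prime_dvd_prime_iff_eq S.prime Nat.prime_three).1 ((CharP.cast_eq_zero_iff k p 3).1 h))
  have h5 : ∀ j < 3, mf c ζ (ζ ^ j) = l.getD j 0 := fun j hj => by
    have h6 := hM.eigen g ζ 3 hg hζ.pow_eq_one hk3 (ζ ^ j) (by rw [← pow_mul, mul_comm, pow_mul, hζ.pow_eq_one, one_pow])
    rw [sum_single hc' fun c => mf c ζ (ζ ^ j), eig_eq] at h6
    rw [← h6, h4 j hj]
  have h6 := mf_three p hp hζ c (by rw [h5 1 (by norm_num), h5 2 (by norm_num), h1])
  rw [h5 0 (by norm_num), h5 1 (by norm_num)] at h6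
  omega

/-- **RED** for the 56-dimensional module (all `p`) -/
theorem redV' : S.RED (rho k) := by
  by_contra h
  refine S.red_irr (ρ := S.R) ⟨Module.nontrivial_of_finrank_pos (R := k) (by rw [finrank_V]; norm_num), fun W hW => ?_⟩
    (by rw [finrank_V]; norm_num) fun hp => ?_
  · by_contra h1
    exact h ⟨W, fun h2 => h1 (Or.inl h2), fun h2 => h1 (Or.inr h2), fun x y hy => hW x y hy⟩
  · obtain ⟨g, ζ, h1, h2, P, hP, h3⟩ := S.red_elt hp
    exact ⟨g, ζ, P.1, h1, h2, (T3_spec P hP).1, fun j hj => (h3 j hj).1⟩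

/-- **RED** for the Lie algebra (all `p`) -/
theorem redL' : S.RED (adM k) := by
  by_contra h
  refine S.red_irr (ρ := S.RL) ⟨Module.nontrivial_of_finrank_pos (R := k) (by rw [finrank_L]; norm_num), fun W hW => ?_⟩
    (by rw [finrank_L]; norm_num) fun hp => ?_
  · by_contra h1
    refine h ⟨W, fun h2 => h1 (Or.inl h2), fun h2 => h1 (Or.inr h2), fun x y hy => ?_⟩
    rw [← L_mulVec]
    exact hW x y hy
  · obtain ⟨g, ζ, h1, h2, P, hP, h3⟩ := S.red_elt hp
    exact ⟨g, ζ, P.2, h1, h2, (T3_spec P hP).2, fun j hj => (h3 j hj).2⟩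

/-- **RED** for the 56-dimensional module -/
theorem redV (_ : p ≠ 2) : S.RED (rho k) := S.redV'

/-- **RED** for the Lie algebra -/
theorem redL (_ : p ≠ 2) : S.RED (adM k) := S.redL'

end Sit

end Cfsg.Agent.E7P
end

-- part: E7P/Ex/Main
section
/-!
# S5932, task EXACT (helper4)

* `Sit.ex_torW` : a split triple of level `≥ nn` gives a cocharacter which acts by scalars on the weight spaces.
-/

set_option autoImplicit false
set_option maxRecDepth 100000

namespace Cfsg.Agent.E7P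

open Cfsg Cfsg.Lie Matrix Module
open Cfsg.Agent.H943.E7V.Block (D1 rho)
open Cfsg.Agent.R2.T1 Cfsg.Agent.E7P.Kf
open Cfsg.Agent.H943.SL2Rel (u w h)

universe u v

namespace Kf

section
open Polynomial

theorem ex_sep {K : Type v} [Field K] [Fintype K] (h11 : 11 ≤ Fintype.card K) {k : Type u} [Field k] (τ τ' : K →+* k) :
    ¬ ∀ c : Kˣ, (τ c * τ' c) ^ 2 = 1 := by
  intro h
  have key : ∀ c : K, c * (c + 1) * ((c ^ 2 + c + 1) * (c ^ 2 + 3 * c + 1) * ((c ^ 2 - c - 1) * (c ^ 2 + c - 1))) = 0 := by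
    intro c
    by_cases h0 : c = 0
    · rw [h0, zero_mul, zero_mul]
    by_cases h1 : c + 1 = 0
    · rw [h1, mul_zero, zero_mul]
    have h2 : (τ c * τ' c) ^ 2 = 1 := h (Units.mk0 c h0)
    have h3 : (τ (c + 1) * τ' (c + 1)) ^ 2 = 1 := h (Units.mk0 _ h1)
    rw [map_add, map_add, map_one, map_one] at h3
    apply τ.injective
    simp only [map_mul, map_add, map_pow, map_sub, map_one, map_ofNat, map_zero]
    generalize τ c = x at h2 h3
    generalize τ' c = y at h2 h3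
    rcases sq_eq_one_iff.1 h2 with h4 | h4 <;> rcases sq_eq_one_iff.1 h3 with h5 | h5
    · rw [show x ^ 2 + x + 1 = 0 by linear_combination x * h5 - (x + 1) * h4]; ring
    · rw [show x ^ 2 + 3 * x + 1 = 0 by linear_combination x * h5 - (x + 1) * h4]; ring
    · rw [show x ^ 2 - x - 1 = 0 by linear_combination x * h5 - (x + 1) * h4]; ring
    · rw [show x ^ 2 + x - 1 = 0 by linear_combination x * h5 - (x + 1) * h4]; ring
  let Q : K[X] := X * (X + 1) * ((X ^ 2 + X + 1) * (X ^ 2 + 3 * X + 1) * ((X ^ 2 - X - 1) * (X ^ 2 + X - 1)))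
  have h1 : Q.natDegree ≤ 10 := by
    unfold Q
    compute_degree
  have h2 : Q = 0 := eq_zero_of_natDegree_lt_card_of_eval_eq_zero' Q Finset.univ (fun c _ => by
    rw [← key c]
    simp only [Q, _root_.Polynomial.eval_mul, _root_.Polynomial.eval_X, _root_.Polynomial.eval_add, _root_.Polynomial.eval_one, _root_.Polynomial.eval_pow, _root_.Polynomial.eval_ofNat, _root_.Polynomial.eval_sub]) (by rw [Finset.card_univ]; omega)
  have h3 : Q.Monic := by
    unfold Q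
    monicity!
  exact h3.ne_zero h2

end

theorem ex_eps {K : Type v} [Field K] [Fintype K] (h11 : 11 ≤ Fintype.card K) {k : Type u} [Field k] {τ τ' : K →+* k}
    {ε ε' : ℤ} (hε : ε.natAbs ≤ 1) (hε' : ε'.natAbs ≤ 1) (h : ∀ c : Kˣ, τ c ^ (2 * ε) = τ' c ^ (2 * ε')) : ε = ε' := by
  have h0 : ∀ (τ : K →+* k) (c : Kˣ), τ c ≠ 0 := fun τ c => (map_ne_zero τ).2 c.ne_zero
  have e1 : ∀ x : k, x ^ (2 * 1 : ℤ) = x ^ 2 := fun x => zpow_natCast x 2
  have e2 : ∀ x : k, x ^ (2 * 0 : ℤ) = 1 := fun x => zpow_zero x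
  have e3 : ∀ x : k, x ^ (2 * -1 : ℤ) = (x ^ 2)⁻¹ := fun x => by rw [← e1, ← _root_.zpow_neg]; rfl
  have k1 : ∀ τ : K →+* k, ¬ ∀ c : Kˣ, τ c ^ 2 = 1 := fun τ h1 => ex_sep h11 τ τ fun c => by rw [mul_pow, h1, one_mul]
  have k2 : ∀ τ τ' : K →+* k, ¬ ∀ c : Kˣ, τ c ^ 2 = (τ' c ^ 2)⁻¹ := fun τ τ' h1 => ex_sep h11 τ τ' fun c => by
    rw [mul_pow, h1, inv_mul_cancel₀ (pow_ne_zero 2 (h0 τ' c))]
  have h1 : ε = 1 ∨ ε = 0 ∨ ε = -1 := by omega
  have h2 : ε' = 1 ∨ ε' = 0 ∨ ε' = -1 := by omega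
  rcases h1 with rfl | rfl | rfl <;> rcases h2 with rfl | rfl | rfl <;> simp only [e1, e2, e3] at h
  · rfl
  · exact (k1 τ h).elim
  · exact (k2 τ τ' h).elim
  · exact (k1 τ' fun c => (h c).symm).elim
  · rfl
  · exact (k1 τ' fun c => inv_eq_one.1 (h c).symm).elim
  · exact (k2 τ' τ fun c => (h c).symm).elim
  · exact (k1 τ fun c => inv_eq_one.1 (h c)).elim
  · rfl

/-- eigenvectors in the span of eigenvectors -/
theorem ex_eig {k : Type u} [Field k] {M : Type*} [AddCommGroup M] [Module k M] (T : Module.End k M) {G : Set M} (a : k)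
    (N : Submodule k M) (hG : ∀ y ∈ G, ∃ c, T y = c • y ∧ (c = a → y ∈ N)) {y : M} (hy : y ∈ Submodule.span k G)
    (ha : T y = a • y) : y ∈ N := by
  have h1 : Submodule.span k G ≤ (N ⊓ T.eigenspace a) ⊔ ⨆ c, ⨆ (_ : c ≠ a), T.eigenspace c := by
    rw [Submodule.span_le]
    intro z hz
    obtain ⟨c, h1, h2⟩ := hG z hz
    by_cases hc : c = a
    · exact Submodule.mem_sup_left ⟨h2 hc, Module.End.mem_eigenspace_iff.2 (hc ▸ h1)⟩
    · exact Submodule.mem_sup_right (Submodule.mem_iSup_of_mem c (Submodule.mem_iSup_of_mem hc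
        (Module.End.mem_eigenspace_iff.2 h1)))
  obtain ⟨y1, h2, y2, h3, e⟩ := Submodule.mem_sup.1 (h1 hy)
  have h4 : y2 ∈ T.eigenspace a := by
    rw [show y2 = y - y1 by rw [← e]; abel]
    exact sub_mem (Module.End.mem_eigenspace_iff.2 ha) h2.2
  have h5 : y2 = 0 := (Submodule.disjoint_def.1 (T.eigenspaces_iSupIndep a)) y2 h4 h3
  rw [← e, h5, add_zero]
  exact h2.1

end Kf

namespace Sit

variable {p a b : ℕ} {F : Type u} {K : Type v} {k : Type u} [Field F] [Fintype F] [Field K] [Fintype K] [Field k]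
  (S : Sit p a b F K k)

theorem ex_mem_Fg {d : ℝ} {y : chevE7.Idx → k} : y ∈ S.Fg d ↔ adM k S.g0⁻¹ *ᵥ y ∈ Ge k ac S.β d := Iff.rfl

theorem ex_Fg_P {n : Gh k} (hn : n ∈ S.P) {d : ℝ} {y : chevE7.Idx → k} (hy : y ∈ S.Fg d) : adM k n *ᵥ y ∈ S.Fg d := by
  have h1 := wrep_L.Ge_stab (S.mem_P.1 hn) (S.ex_mem_Fg.1 hy)
  rw [← mulVec_mul, mul_inv_cancel_right, mulVec_mul] at h1
  exact h1

theorem ex_Fg_sv {d : ℝ} {y : chevE7.Idx → k} (hy : y ∈ S.Fg d) : S.sv y ∈ S.Fg d := by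
  have h1 : S.sv (adM k S.g0⁻¹ *ᵥ y) ∈ Ge k ac S.β d := fun i hi => hy i fun h0 => hi (by
    show S.s ((adM k S.g0⁻¹ *ᵥ y) i) = 0
    rw [show (adM k S.g0⁻¹ *ᵥ y) i = 0 from h0, map_zero])
  have h2 := wrep_L.Ge_stab S.g0_σ h1
  rw [S.sv_mulVec wrep_L, ← mulVec_mul, map_inv, mul_inv_cancel_right] at h2
  exact h2

/-- the vectors of the weights `2, 0, -2` with the expected levels -/
def exG : Set (chevE7.Idx → k) := {y | ∃ (τ : K →+* k) (ε : ℤ), ε.natAbs ≤ 1 ∧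
  (∀ c : Kˣ, adM k (S.ψ (h c)) *ᵥ y = τ c ^ (2 * ε) • y) ∧ y ∈ S.Fg (ε * S.nn) ∧
    adM k (S.ψ w)⁻¹ *ᵥ y ∈ S.Fg (-(ε * S.nn))}

/-- the largest `A`-submodule in their span -/
noncomputable def exW : Submodule k (chevE7.Idx → k) :=
  ⨅ x, (Submodule.span k S.exG).comap (toLin' (adM k (S.ψ x)))

theorem ex_mem_W {y : chevE7.Idx → k} : y ∈ S.exW ↔ ∀ x, adM k (S.ψ x) *ᵥ y ∈ Submodule.span k S.exG := by
  rw [exW, Submodule.mem_iInf]
  rfl

theorem ex_W_le {y : chevE7.Idx → k} (hy : y ∈ S.exW) : y ∈ Submodule.span k S.exG := by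
  have h1 := S.ex_mem_W.1 hy 1
  rwa [map_one, map_one, one_mulVec] at h1

theorem ex_G_NB {n : Gh k} (hn : S.NB n) {y : chevE7.Idx → k} (hy : y ∈ S.exG) : adM k n *ᵥ y ∈ S.exG := by
  obtain ⟨τ, ε, hε, h1, h2, h3⟩ := hy
  obtain ⟨c0, τ0, h4⟩ := hn.inv.2
  refine ⟨τ.comp τ0, ε, hε, fun c => ?_, S.ex_Fg_P hn.mem_P h2, ?_⟩
  · have h5 := h4 (h c)
    rw [aut_h, inv_inv] at h5
    rw [← mulVec_mul, show S.ψ (h c) * n = n * (n⁻¹ * S.ψ (h c) * n) by group, ← h5, mulVec_mul, h1, mulVec_smul]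
    rfl
  · have h5 := S.ex_Fg_P (S.mem_P'.1 hn.mem_P') h3
    rwa [← mulVec_mul, mul_inv_cancel_right, mulVec_mul] at h5

theorem ex_G_sv {y : chevE7.Idx → k} (hy : y ∈ S.exG) : S.sv y ∈ S.exG := by
  obtain ⟨τ, ε, hε, h1, h2, h3⟩ := hy
  refine ⟨S.s.comp τ, ε, hε, fun c => ?_, S.ex_Fg_sv h2, ?_⟩
  · rw [← S.k_σ_ψ, ← S.sv_mulVec wrep_L, h1]
    funext i
    show S.s (τ c ^ (2 * ε) * y i) = S.s (τ c) ^ (2 * ε) * S.s (y i)
    rw [map_mul, map_zpow₀]
  · have h5 := S.ex_Fg_sv h3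
    rwa [S.sv_mulVec wrep_L, map_inv, S.k_σ_ψ] at h5

theorem ex_stb : S.Stb (adM k) S.exW := by
  refine ⟨fun m hm y hy => S.ex_mem_W.2 fun x => ?_, fun y hy => S.ex_mem_W.2 fun x => ?_⟩
  · obtain ⟨n, x0, hn, rfl⟩ := S.exists_NB hm
    obtain ⟨x', h1⟩ := S.norm_ψ (inv_mem hn.1) x
    rw [← mulVec_mul, show S.ψ x * (n * S.ψ x0) = n * (n⁻¹ * S.ψ x * n⁻¹⁻¹ * S.ψ x0) by group, h1, ← map_mul, mulVec_mul]
    have h2 := Submodule.mem_map_of_mem (f := toLin' (adM k n)) (S.ex_mem_W.1 hy (x' * x0))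
    rw [Submodule.map_span] at h2
    refine Submodule.span_mono ?_ h2
    rintro _ ⟨z, hz, rfl⟩
    exact S.ex_G_NB hn hz
  · rw [← S.k_σ_ψ, ← S.sv_mulVec wrep_L]
    have h1 := S.ex_mem_W.1 hy x
    generalize adM k (S.ψ x) *ᵥ y = z at h1
    induction h1 using Submodule.span_induction with
    | mem z hz => exact Submodule.subset_span (S.ex_G_sv hz)
    | zero =>
      rw [show S.sv (0 : chevE7.Idx → k) = 0 from funext fun _ => map_zero S.s]
      exact zero_mem _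
    | add z z' _ _ h1 h2 =>
      rw [show S.sv (z + z') = S.sv z + S.sv z' from funext fun _ => map_add S.s _ _]
      exact add_mem h1 h2
    | smul t z _ h1 =>
      rw [show S.sv (t • z) = S.s t • S.sv z from funext fun _ => map_mul S.s _ _]
      exact Submodule.smul_mem _ _ h1

section
variable {S} {j : ℕ} {e x f : chevE7.Idx → k} (T : S.Tri j e x f)
include T

theorem Tri.ex_wf : adM k (S.ψ w) *ᵥ f = - e := by
  have h1 := T.he (-1)
  rw [← H943.SL2Rel.w_w, map_mul, mulVec_mul, T.we, mulVec_neg, ← pow_mul, mul_comm, pow_mul, Units.val_neg,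
    Units.val_one, map_neg, map_one, neg_one_sq, one_pow, one_smul] at h1
  rw [← h1, neg_neg]

theorem Tri.ex_hf (c : Kˣ) : adM k (S.ψ (h c)) *ᵥ f = ((S.ι c ^ p ^ j) ^ 2)⁻¹ • f := by
  have h1 : adM k (S.ψ (h c * w)) *ᵥ e = adM k (S.ψ (w * h c⁻¹)) *ᵥ e := by rw [H943.SL2Rel.h_w]
  rw [map_mul S.ψ, map_mul S.ψ, mulVec_mul, mulVec_mul, T.we, T.he, mulVec_neg, mulVec_smul, T.we, smul_neg, neg_inj,
    Units.val_inv_eq_inv_val, map_inv₀, inv_pow, inv_pow] at h1
  exact h1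

theorem Tri.ex_hx (c : Kˣ) : adM k (S.ψ (h c)) *ᵥ x = x := by
  have h0 : S.ι c ^ p ^ j ≠ 0 := pow_ne_zero _ ((map_ne_zero S.ι).2 c.ne_zero)
  have h1 : adM k (S.ψ (h c * u 1)) *ᵥ f = adM k (S.ψ (u ((c : K) ^ 2 * 1) * h c)) *ᵥ f := by rw [H943.SL2Rel.h_u]
  rw [map_mul S.ψ, map_mul S.ψ, mulVec_mul, mulVec_mul, T.uf, T.ex_hf, mulVec_sub, mulVec_add, mulVec_smul, mulVec_smul,
    mulVec_smul, T.uf, T.ex_hf, T.he, mul_one, map_one, one_pow, one_pow, one_smul, one_smul, map_pow,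
    pow_right_comm _ 2] at h1
  generalize S.ι c ^ p ^ j = t at h0 h1
  have h2 : (t ^ 2)⁻¹ • (f + t ^ 2 • x - (t ^ 2) ^ 2 • e) = (t ^ 2)⁻¹ • f + x - t ^ 2 • e := by
    rw [smul_sub, smul_add, smul_smul, smul_smul, inv_mul_cancel₀ (pow_ne_zero 2 h0), one_smul, sq (t ^ 2),
      inv_mul_cancel_left₀ (pow_ne_zero 2 h0)]
  rw [h2] at h1
  exact add_left_cancel (sub_left_injective h1)

/-- the span of a triple is a submodule -/
theorem Tri.ex_stab {N : Submodule k (chevE7.Idx → k)} (he : e ∈ N) (hx : x ∈ N) (hf : f ∈ N)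
    (g : _root_.Matrix.SpecialLinearGroup (Fin 2) K) : adM k (S.ψ g) *ᵥ e ∈ N := by
  have h1 : ∀ g : _root_.Matrix.SpecialLinearGroup (Fin 2) K, ∀ y ∈ Submodule.span k {e, x, f},
      adM k (S.ψ g) *ᵥ y ∈ Submodule.span k {e, x, f} := by
    have he' : e ∈ Submodule.span k {e, x, f} := Submodule.subset_span (Or.inl rfl)
    have hx' : x ∈ Submodule.span k {e, x, f} := Submodule.subset_span (Or.inr (Or.inl rfl))
    have hf' : f ∈ Submodule.span k {e, x, f} := Submodule.subset_span (Or.inr (Or.inr rfl))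
    have key : ∀ g : _root_.Matrix.SpecialLinearGroup (Fin 2) K, adM k (S.ψ g) *ᵥ e ∈ Submodule.span k {e, x, f} →
        adM k (S.ψ g) *ᵥ x ∈ Submodule.span k {e, x, f} → adM k (S.ψ g) *ᵥ f ∈ Submodule.span k {e, x, f} →
        ∀ y ∈ Submodule.span k {e, x, f}, adM k (S.ψ g) *ᵥ y ∈ Submodule.span k {e, x, f} := by
      intro g h1 h2 h3 y hy
      have h4 : Submodule.span k {e, x, f} ≤ (Submodule.span k {e, x, f}).comap (toLin' (adM k (S.ψ g))) := by
        rw [Submodule.span_le]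
        rintro _ (rfl | rfl | rfl)
        · exact h1
        · exact h2
        · exact h3
      exact h4 hy
    refine H943.SL2Rel.induct (fun t => key _ ?_ ?_ ?_) (fun c => key _ ?_ ?_ ?_) (key _ ?_ ?_ ?_)
      fun g g' hg hg' y hy => ?_
    · rw [T.ue]; exact he'
    · rw [T.ux]; exact sub_mem hx' (Submodule.smul_mem _ _ he')
    · rw [T.uf]; exact sub_mem (add_mem hf' (Submodule.smul_mem _ _ hx')) (Submodule.smul_mem _ _ he')
    · rw [T.he]; exact Submodule.smul_mem _ _ he'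
    · rw [T.ex_hx]; exact hx'
    · rw [T.ex_hf]; exact Submodule.smul_mem _ _ hf'
    · rw [T.we]; exact neg_mem hf'
    · rw [T.wx]; exact neg_mem hx'
    · rw [T.ex_wf]; exact neg_mem he'
    · rw [map_mul, mulVec_mul]
      exact hg _ (hg' y hy)
  refine (Submodule.span_le.2 ?_ : Submodule.span k {e, x, f} ≤ N) (h1 g e (Submodule.subset_span (Or.inl rfl)))
  rintro _ (rfl | rfl | rfl)
  · exact he
  · exact hx
  · exact hf

theorem Tri.ex_mem (hJ : S.J1) (he : e ∈ S.Fg S.nn) : e ∈ S.exW := by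
  have := S.chark
  have : Fact p.Prime := ⟨S.prime⟩
  have hx : x ∈ S.Fg 0 := by
    have h1 := hJ x S.nn le_rfl fun t => by
      rw [T.ux, sub_sub_cancel_left]
      exact neg_mem (Submodule.smul_mem _ _ he)
    rwa [sub_self] at h1
  have hf : f ∈ S.Fg (-S.nn) := by
    have h1 := hJ f 0 S.nn_pos.le fun t => by
      rw [T.uf, sub_right_comm, add_sub_cancel_left]
      exact sub_mem (Submodule.smul_mem _ _ hx) (Submodule.smul_mem _ _ (Br.Ge_mono S.nn_pos.le he))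
    rwa [zero_sub] at h1
  have hw : ∀ y z : chevE7.Idx → k, adM k (S.ψ w) *ᵥ y = - z → adM k (S.ψ w)⁻¹ *ᵥ z = - y := fun y z h1 => by
    rw [← neg_neg z, ← h1, mulVec_neg, mulVec_inv]
  let τ : K →+* k := (iterateFrobenius k p j).comp S.ι
  refine S.ex_mem_W.2 (T.ex_stab (Submodule.subset_span ⟨τ, 1, le_rfl, fun c => ?_, ?_, ?_⟩)
    (Submodule.subset_span ⟨τ, 0, zero_le_one, fun c => ?_, ?_, ?_⟩)
    (Submodule.subset_span ⟨τ, -1, le_rfl, fun c => ?_, ?_, ?_⟩))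
  · rw [T.he]
    exact congrArg (· • e) (zpow_natCast _ 2).symm
  · rwa [Int.cast_one, one_mul]
  · rw [Int.cast_one, one_mul, hw f e T.ex_wf]
    exact neg_mem hf
  · rw [T.ex_hx, mul_zero, zpow_zero, one_smul]
  · rwa [Int.cast_zero, zero_mul]
  · rw [Int.cast_zero, zero_mul, neg_zero, hw x x T.wx]
    exact neg_mem hx
  · rw [T.ex_hf]
    exact congrArg (· • f) (zpow_neg_coe_of_pos _ two_pos).symm
  · rwa [Int.cast_neg, Int.cast_one, neg_one_mul]
  · rw [Int.cast_neg, Int.cast_one, neg_one_mul, neg_neg, hw e f T.we]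
    exact neg_mem he

theorem Tri.ex_move : ∃ g, adM k (S.ψ g) *ᵥ e ≠ e := by
  have := S.chark
  have : Fact p.Prime := ⟨S.prime⟩
  by_contra h0
  push Not at h0
  let τ : K →+* k := (iterateFrobenius k p j).comp S.ι
  refine ex_sep (S.cardK ▸ S.eleven) τ τ fun c => ?_
  have h1 := h0 (h c)
  rw [T.he] at h1
  have h2 : (S.ι c ^ p ^ j) ^ 2 = 1 := smul_left_injective k T.ne (h1.trans (one_smul k e).symm)
  show (S.ι c ^ p ^ j * S.ι c ^ p ^ j) ^ 2 = 1
  rw [mul_pow, h2, one_mul]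

end

variable {S} in
theorem Frame.ex_F' (f : S.Frame) {d : ℝ} {y : chevE7.Idx → k} (hy : adM k (S.ψ w)⁻¹ *ᵥ y ∈ S.Fg d) :
    adM k f.g⁻¹ *ᵥ y ∈ Ge k ac f.β' d := by
  have := S.closed
  have h1 := ex_Ge_nL wrep_L f.l (wrep_L.Ge_stab f.hw (f.mem_Fg.1 hy))
  rwa [← mulVec_mul, ← mulVec_mul, ← mulVec_mul,
    show nL k f.l * ((f.g * nL k f.l)⁻¹ * S.ψ w * f.g) * f.g⁻¹ * (S.ψ w)⁻¹ = f.g⁻¹ by group] at h1

/-- **EXACT** -/
theorem ex_torW (hp : p ≠ 2) (hJ : S.J1) (f : S.Frame)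
    (hNK : ∀ W, S.Stb (adM k) W → (∃ x, ∃ y ∈ W, adM k (S.ψ x) *ᵥ y ≠ y) → ∀ y, (∀ x ∈ W, Cm x y) → y = 0)
    (hEX : ∀ W, S.Stb (adM k) W → (∃ x, ∃ y ∈ W, adM k (S.ψ x) *ᵥ y ≠ y) →
      ∃ N : ℕ, (N : k) ≠ 0 ∧ ∀ c, (∀ y ∈ W, adM k c *ᵥ y = y) → c ^ N = 1)
    (hS : S.Split) : Nonempty (S.TorW (adM k)) := by
  obtain ⟨j, e, x, f0, -, T, he⟩ := hS
  have hmv : ∃ x, ∃ y ∈ S.exW, adM k (S.ψ x) *ᵥ y ≠ y := by
    obtain ⟨g, hg⟩ := T.ex_move
    exact ⟨g, e, T.ex_mem hJ he, hg⟩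
  have hν : S.β + f.β' = 0 := by
    refine S.ex_irrl hp S.ex_stb (hNK _ S.ex_stb hmv) (g := f.g) fun y hy => ?_
    have h1 : Submodule.span k S.exG ≤ (Ge k ac (S.β + f.β') 0).comap (toLin' (adM k f.g⁻¹)) := by
      rw [Submodule.span_le]
      rintro z ⟨τ, ε, -, -, h2, h3⟩ i hi
      have h4 := f.mem_Fg.1 h2 i hi
      have h5 := f.ex_F' h3 i hi
      rw [map_add, LinearMap.add_apply]
      linarith
    exact h1 (S.ex_W_le hy)
  obtain ⟨m, hm⟩ := rat_le ac S.β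
  refine ⟨⟨S.exW, S.ex_stb, hEX _ S.ex_stb hmv, f.g, m, fun h0 => ?_, fun z => f.mem0 _, fun θ => ?_⟩⟩
  · have h1 := (hm (Sum.inr ⟨125, by decide⟩) (Sum.inl ⟨0, by decide⟩)).1 (by
      rw [h0, bf_lE, bf_lE]
      simp)
    rw [ex_cv_inr, ac_inl, cv_zero, map_zero] at h1
    exact absurd (S.β_dom.top_pos S.β_ne) (not_lt.2 h1)
  obtain ⟨c0, hc0⟩ := IsCyclic.exists_generator (α := Kˣ)
  obtain ⟨ε0, hε0⟩ : ∃ ε0 : ℤ, ∀ (τ : K →+* k) (ε : ℤ), ε.natAbs ≤ 1 → τ c0 ^ (2 * ε) = θ c0 → ε = ε0 := by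
    by_cases h1 : ∃ (τ : K →+* k) (ε : ℤ), ε.natAbs ≤ 1 ∧ τ c0 ^ (2 * ε) = θ c0
    · obtain ⟨τ', ε', h1, h2⟩ := h1
      refine ⟨ε', fun τ ε h3 h4 => ex_eps (S.cardK ▸ S.eleven) (τ := τ) (τ' := τ') h3 h1 fun c => ?_⟩
      obtain ⟨n, rfl⟩ := hc0 c
      have h5 : ∀ (τ : K →+* k) (ε : ℤ), τ ((c0 ^ n : Kˣ) : K) ^ (2 * ε) = (τ c0 ^ (2 * ε)) ^ n := fun τ ε => by
        rw [Units.val_zpow_eq_zpow_val, map_zpow₀, ← _root_.zpow_mul, ← _root_.zpow_mul, mul_comm]
      show τ ((c0 ^ n : Kˣ) : K) ^ (2 * ε) = τ' ((c0 ^ n : Kˣ) : K) ^ (2 * ε')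
      rw [h5, h5, h4, h2]
    · exact ⟨0, fun τ ε h2 h3 => absurd ⟨τ, ε, h2, h3⟩ h1⟩
  obtain ⟨n, hn⟩ : ∃ n : ℤ, ∀ i, bf S.β (cv (ac i)) = ε0 * S.nn → ∑ t, ac i t * m t = n := by
    by_cases h1 : ∃ i, bf S.β (cv (ac i)) = ε0 * S.nn
    · obtain ⟨i0, h1⟩ := h1
      refine ⟨∑ t, ac i0 t * m t, fun i hi => ?_⟩
      have h2 := le_antisymm ((hm i i0).2 (hi.trans h1.symm).le) ((hm i0 i).2 (h1.trans hi.symm).le)
      rw [bf_lE, bf_lE] at h2
      exact_mod_cast h2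
    · exact ⟨0, fun i hi => absurd ⟨i, hi⟩ h1⟩
  refine ⟨n, fun y hy hθ z => ?_⟩
  have h1 : y ∈ (Br.Lv k ac S.β (ε0 * S.nn)).comap (toLin' (adM k f.g⁻¹)) := by
    refine ex_eig (toLin' (adM k (S.ψ (h c0)))) (θ c0) _ ?_ (S.ex_W_le hy) (hθ c0)
    rintro z ⟨τ, ε, h2, h3, h4, h5⟩
    refine ⟨_, h3 c0, fun h6 => ?_⟩
    rw [← hε0 τ ε h2 h6]
    refine (Br.Lv_of_Ge (f.mem_Fg.1 h4) ?_ :)
    rw [← eq_neg_of_add_eq_zero_right hν]
    exact f.ex_F' h5
  have h2 : adM k (Phi k (lam m z)) *ᵥ (adM k f.g⁻¹ *ᵥ y) = ((z ^ n : kˣ) : k) • (adM k f.g⁻¹ *ᵥ y) := by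
    funext i
    rw [wrep_L.tor, mulVec_diagonal, Pi.smul_apply, smul_eq_mul]
    by_cases h3 : (adM k f.g⁻¹ *ᵥ y) i = 0
    · rw [h3, mul_zero, mul_zero]
    · rw [ch_lam, hn i (h1 i h3)]
  rw [mulVec_mul, mulVec_mul, h2, mulVec_smul, mulVec_inv']

end Sit

end Cfsg.Agent.E7P
end

-- part: E7P/Ex/Fin
section
/-!
# S5932, task EXACT: the unconditional form (helper4)

* `Sit.ex_exact` : `5 ≤ p`, `SSC`, `Split` give `TorW (adM k)`.
-/

set_option autoImplicit false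
set_option maxRecDepth 100000

namespace Cfsg.Agent.E7P

open Cfsg Cfsg.Lie Matrix Module
open Cfsg.Agent.R2.T1 Cfsg.Agent.E7P.Kf

universe u v

namespace Sit

variable {p a b : ℕ} {F : Type u} {K : Type v} {k : Type u} [Field F] [Fintype F] [Field K] [Fintype K] [Field k]
  (S : Sit p a b F K k)

theorem ex_ne_bot {W : Submodule k (chevE7.Idx → k)} (h : ∃ x, ∃ y ∈ W, adM k (S.ψ x) *ᵥ y ≠ y) : W ≠ ⊥ := by
  rintro rfl
  obtain ⟨x, y, hy, h1⟩ := h
  rw [(Submodule.mem_bot k).1 hy, mulVec_zero] at h1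
  exact h1 rfl

/-- **EXACT** -/
theorem ex_exact (h5 : 5 ≤ p) (hs : S.SSC) (hS : S.Split) : Nonempty (S.TorW (adM k)) := by
  obtain ⟨f⟩ := S.exists_frame
  refine S.ex_torW (by omega) (S.j1 h5) f (fun W hW h0 y hy => ?_)
    (fun W hW h0 => S.nt_expo5 h5 hs hW (S.ex_ne_bot h0)) hS
  exact (Submodule.eq_bot_iff _).1 (S.nt_nk h5 hs hW (S.ex_ne_bot h0)) y fun x hx => (hy x hx).symm

end Sit

end Cfsg.Agent.E7P
end

-- part: E7P/Fin/Asm
section
/-!
# S5932: the assembly (helper32)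

`asm_box : A1.FIN → Box fun _ _ _ => True`.
-/

set_option autoImplicit false

namespace Cfsg.Agent.E7P

open Cfsg Cfsg.Lie Matrix Module
open Cfsg.Agent.H943.E7V.Block (D1 rho)
open Cfsg.Agent.R2.T1 Cfsg.Agent.E7P.Kf

universe u v

namespace Sit

variable {p a b : ℕ} {F : Type u} {K : Type v} {k : Type u} [Field F] [Fintype F] [Field K] [Fintype K] [Field k]
  (S : Sit p a b F K k)

/-- **ALG** -/
theorem asm_alg (hp : p ≠ 2) {I : Type} [Fintype I] [DecidableEq I] {c : I → Fin 7 → ℤ} {R : Gh k →* Matrix I I k}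
    (hR : WRep c R) (hi : S.IRRF R) (hr : S.RED R) (T : S.TorW R) : Nonempty S.Alg := by
  have := S.closed
  have := S.chark
  have hs := S.ssc hp
  have hF := _root_.Cfsg.Agent.E7P.Kf.frame S.prime S.alg
  have h1 := S.sig hp hR hi hr (S.nofix hp hs) T
  obtain ⟨C⟩ := S.sec hs hR T (S.abu hF h1)
  obtain ⟨X⟩ := S.rts h1 C (ringd S.prime S.alg) (ringe S.prime S.alg) (count S.prime S.hb) (addpoly S.prime) uniq
  exact S.alg_of_rts hF (liepoly S.prime S.alg) X

/-- **END** -/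
theorem asm_end (hp : p ≠ 2) (h : Nonempty S.Alg) : 17 ≤ p ∧ a = b := by
  obtain ⟨A⟩ := h
  have h1 : A.n = 1 := by
    by_contra h1
    have := A.npos
    exact S.end2 hp A (by omega)
  exact ⟨S.end1 hp (S.ssc hp) A h1, A.ab.trans (by rw [h1, one_mul])⟩

theorem asm_V (hp : p ≠ 2) (h : Nonempty (S.TorW (rho k))) : 17 ≤ p ∧ a = b :=
  h.elim fun T => S.asm_end hp (S.asm_alg hp wrep_V S.irrfV (S.redV hp) T)

theorem asm_split (h5 : 5 ≤ p) (h : S.Split) : 17 ≤ p ∧ a = b :=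
  have hp : p ≠ 2 := by omega
  (S.ex_exact h5 (S.ssc hp) h).elim fun T => S.asm_end hp (S.asm_alg hp wrep_L (S.irrfL hp) (S.redL hp) T)

end Sit

/-- **the assembly** -/
theorem asm_box (hF : A1.FIN) : Box.{u, v} fun _ _ _ => True := by
  intro p a b F K k _ _ _ _ _ S _
  by_cases hp : p = 2
  · exact boxTwo p a b F K k S hp
  have hs := S.ssc hp
  have h1 : a = 1 → 17 ≤ p ∧ a = b := fun h => by
    have h2 := S.eleven
    rw [h, pow_one] at h2
    exact S.asm_split (by omega) (S.a1_split_of hF h (S.nofix hp hs))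
  rcases cases_num S.prime S.ha S.eleven S.ne25 with h | h | h | h | h | h
  · exact absurd h hp
  · exact h1 h.1
  · exact h1 h.1
  · rcases h.2 with h2 | h2
    · exact S.asm_V hp (S.e27' h.1 h2 hs)
    · exact S.asm_V hp (S.e81 h.1 h2 hs)
  · refine S.asm_split (by omega) (S.sp_split h (S.nofix hp hs) ?_)
    intro _ _ _ _ _ n hn h2 h3
    exact S.ns_main' (by (clear * - h; solve | lia | omega)) hn (fun j hj => (h2 j hj).1) (fun j hj => (h2 j hj).2) h3
  · exact S.exists_frame.elim fun f => S.asm_V hp (S.blue h f)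

end Cfsg.Agent.E7P
end

private theorem dce_1c6a19e93425 : _root_.True := by
  try have : _root_.True := by simp only [_root_.Cfsg.Agent.R2.H28.SL2.mf.eq_1]
  try have : _root_.True := by simp only [_root_.Cfsg.Agent.E7P.Sit.exW.eq_1]
  try have : _root_.True := by simp only [_root_.Cfsg.Agent.E7P.Sit.σ.eq_1]
  exact _root_.True.intro
end

-- part: S5932
section
prune_inst 0x34604d417500000000048512900003a5290005b000230c003ce40b42030f73208902af204f00180a1a0e920d1005000001000070420000000a003600411f01a098a8520cb32ca10446009780b885100000000000000000000000000000041004000000000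
set_option linter.all false
open scoped Cfsg.Agent.FastGrp

-- part: E7P/A1/Fz
section
/-!
# S5932, task A1: the finite check (helper61)

* `cnt_eq`, `cnt_il` : the counts in terms of the list `RL` of the positive roots;
* `val`, `step` : the histogram of the levels, evaluated label by label; `dig_sum` : its digits;
* `leaf`, `chk` : the test; `fin : FIN`.
-/

set_option autoImplicit false
set_option maxRecDepth 100000
set_option maxHeartbeats 400000

namespace Cfsg.Agent.E7P.A1.Fz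

open Cfsg Cfsg.Lie Cfsg.Agent.E7P.Kf Cfsg.Agent.E7P.A1
open Cfsg.Agent.R2.T1 (RL dt RL_rt RL_rt' RL_len RL_lt RL_fst dt_eq sum_roots)
open Cfsg.Agent.ChevalleyStructure.RootVec (rt)

/-! ### the histogram -/

/-- the level of a key -/
noncomputable def dg (a : List ℕ) : ℕ → ℕ := List.rec (fun _ => 0) (fun x _ ih k => k % 8 * x + ih (k / 8)) a

/-- the value of a state -/
noncomputable def val (st : List (ℕ × ℕ)) (a : List ℕ) : ℕ := (st.map fun e => e.2 * 128 ^ dg a e.1).sum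

/-- insertion -/
noncomputable def ins (k n : ℕ) (l : List (ℕ × ℕ)) : List (ℕ × ℕ) :=
  List.rec [(k, n)] (fun e l _ => cond (Nat.beq k e.1) ((k, Nat.add n e.2) :: l) ((k, n) :: e :: l)) l

/-- the substitution of a label -/
noncomputable def step (x : ℕ) (st : List (ℕ × ℕ)) : List (ℕ × ℕ) :=
  List.rec [] (fun e _ ih => ins (Nat.div e.1 8) (Nat.shiftLeft e.2 (Nat.mul 7 (Nat.mul (Nat.mod e.1 8) x))) ih) st

/-- the final value -/
noncomputable def tot (st : List (ℕ × ℕ)) : ℕ := List.rec 0 (fun e _ ih => Nat.add e.2 ih) st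

theorem val_ins (k n : ℕ) (l : List (ℕ × ℕ)) (a : List ℕ) : val (ins k n l) a = n * 128 ^ dg a k + val l a := by
  cases l with
  | nil => rfl
  | cons e l =>
    show val (cond (Nat.beq k e.1) ((k, n + e.2) :: l) ((k, n) :: e :: l)) a = _
    cases h : Nat.beq k e.1
    · rfl
    · have h1 := Nat.eq_of_beq_eq_true h
      show (n + e.2) * 128 ^ dg a k + val l a = n * 128 ^ dg a k + (e.2 * 128 ^ dg a e.1 + val l a)
      rw [← h1]
      ring

theorem val_step (x : ℕ) (st : List (ℕ × ℕ)) (a : List ℕ) : val (step x st) a = val st (x :: a) := by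
  induction st with
  | nil => rfl
  | cons e l ih =>
    show val (ins (e.1 / 8) (e.2 <<< (7 * (e.1 % 8 * x))) (step x l)) a =
      e.2 * 128 ^ (e.1 % 8 * x + dg a (e.1 / 8)) + val l (x :: a)
    rw [val_ins, ih, Nat.shiftLeft_eq, pow_mul 2 7, pow_add, mul_assoc]
    rfl

theorem tot_eq (st : List (ℕ × ℕ)) : tot st = val st [] := by
  induction st with
  | nil => rfl
  | cons e l ih =>
    show e.2 + tot l = e.2 * 128 ^ 0 + val l []
    rw [ih, pow_zero, mul_one]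

/-- the key of a vector -/
def ky (l : List ℕ) : ℕ := l.foldr (fun x k => x + 8 * k) 0

theorem dg_ky (w : List ℕ) : ∀ a : List ℕ, (∀ x ∈ w, x < 8) → dg a (ky w) = dt w a := by
  induction w with
  | nil =>
    intro a _
    induction a with
    | nil => rfl
    | cons x a ih =>
      show 0 % 8 * x + dg a (0 / 8) = 0
      have : dg a 0 = 0 := ih
      rw [Nat.zero_mod, Nat.zero_div, this, zero_mul]
  | cons y w ih =>
    intro a h
    cases a with
    | nil => rfl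
    | cons x a =>
      have hy : y < 8 := h y List.mem_cons_self
      show (y + 8 * ky w) % 8 * x + dg a ((y + 8 * ky w) / 8) = y * x + dt w a
      rw [show (y + 8 * ky w) % 8 = y by omega, show (y + 8 * ky w) / 8 = ky w by omega,
        ih a fun z hz => h z (List.mem_cons_of_mem _ hz)]

/-- the sorted keys -/
def SR : List ℕ := [1, 8, 64, 65, 512, 520, 576, 577, 584, 585, 4096, 4608, 4616, 4672, 4673, 4680, 4681, 5192, 5193, 5257,
  32768, 36864, 37376, 37384, 37440, 37441, 37448, 37449, 37960, 37961, 38025, 42056, 42057, 42121, 42633, 42641, 262144,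
  294912, 299008, 299520, 299528, 299584, 299585, 299592, 299593, 300104, 300105, 300169, 304200, 304201, 304265, 304777,
  304785, 336968, 336969, 337033, 337545, 337553, 341641, 341649, 342161, 342225, 342226]

theorem SR_perm : SR.Perm (RL.map fun w => ky w.2) := by decide +kernel

theorem RL_small : ∀ w ∈ RL, ∀ x ∈ w.2, x < 8 := by decide +kernel

theorem RL_length : RL.length = 63 := by decide +kernel

theorem val_SR (a : List ℕ) : val (SR.map fun k => (k, 1)) a = ((RL.map fun w => dt w.2 a).map (128 ^ ·)).sum := by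
  rw [val, List.map_map, (SR_perm.map _).sum_eq, List.map_map, List.map_map]
  refine congrArg List.sum (List.map_congr_left fun w hw => ?_)
  show 1 * 128 ^ dg a (ky w.2) = 128 ^ dt w.2 a
  rw [dg_ky _ _ (RL_small w hw), one_mul]

/-- a digit -/
def dig (H d : ℕ) : ℕ := Nat.mod (Nat.shiftRight H (Nat.mul 7 d)) 128

theorem dig_aux (L : List ℕ) (d : ℕ) : ∃ lo hi : ℕ, (L.map (128 ^ ·)).sum = lo + 128 ^ d * (L.count d + 128 * hi) ∧
    128 * lo ≤ L.length * 128 ^ d := by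
  induction L with
  | nil => exact ⟨0, 0, rfl, by simp⟩
  | cons x L ih =>
    obtain ⟨lo, hi, h1, h2⟩ := ih
    rw [List.map_cons, List.sum_cons, h1, List.count_cons, List.length_cons]
    rcases lt_trichotomy x d with h | h | h
    · refine ⟨lo + 128 ^ x, hi, ?_, ?_⟩
      · rw [if_neg (by simpa using h.ne)]
        ring
      · have h3 : 128 ^ (x + 1) ≤ 128 ^ d := Nat.pow_le_pow_right (by omega) h
        rw [pow_succ] at h3
        rw [add_mul]
        omega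
    · subst h
      refine ⟨lo, hi, ?_, ?_⟩
      · rw [if_pos (by simp)]
        ring
      · rw [add_mul]
        omega
    · obtain ⟨e, rfl⟩ := Nat.exists_eq_add_of_lt h
      refine ⟨lo, hi + 128 ^ e, ?_, ?_⟩
      · rw [if_neg (by simpa using h.ne')]
        ring
      · rw [add_mul]
        omega

theorem dig_sum (L : List ℕ) (hL : L.length < 128) (d : ℕ) : dig (L.map (128 ^ ·)).sum d = L.count d := by
  obtain ⟨lo, hi, h1, h2⟩ := dig_aux L d
  have h3 : 0 < 128 ^ d := by positivity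
  have h4 : lo < 128 ^ d := by
    have : L.length * 128 ^ d < 128 * 128 ^ d := Nat.mul_lt_mul_of_pos_right hL h3
    omega
  have h5 := List.count_le_length (a := d) (l := L)
  show ((L.map (128 ^ ·)).sum >>> (7 * d)) % 128 = _
  rw [Nat.shiftRight_eq_div_pow, pow_mul, h1, show 2 ^ 7 = 128 from rfl, Nat.add_mul_div_left _ _ h3, Nat.div_eq_of_lt h4]
  omega

/-! ### the test -/

/-- the bound for the level `-d` -/
def cc (H m d : ℕ) : ℕ :=
  cond (Nat.ble d m) (cond (Nat.beq d m) (Nat.add 7 (Nat.mul 2 (dig H 0))) (dig H (Nat.sub m d))) (dig H (Nat.sub d m))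

/-- a violation of the inequalities -/
noncomputable def viol (H m n : ℕ) : Bool :=
  Nat.rec false (fun d ih => cond (Nat.ble (dig H (Nat.succ d)) (cc H m (Nat.succ d))) ih true) n

/-- the prime -/
def pp (m T : ℕ) : ℕ := cond (Nat.ble T (Nat.mul 10 m)) 11 (cond (Nat.ble T (Nat.mul 12 m)) 13 17)

/-- twice the norm -/
def nr (a : List ℕ) : ℕ := dt a ([[4, 4, 6, 8, 6, 4, 2], [4, 7, 8, 12, 9, 6, 3], [6, 8, 12, 16, 12, 8, 4],
  [8, 12, 16, 24, 18, 12, 6], [6, 9, 12, 18, 15, 10, 5], [4, 6, 8, 12, 10, 8, 4], [2, 3, 4, 6, 5, 4, 3]].map fun r => dt r a)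

/-- some cocharacters, as differences -/
def ZL : List (List ℕ × List ℕ) := [([0, 0, 0, 1, 0, 0, 0], [0, 1, 1, 0, 0, 0, 0]), ([0, 0, 0, 0, 1, 0, 0], [0, 0, 0, 1, 0, 0, 0]),
  ([0, 0, 0, 0, 0, 1, 0], [0, 0, 0, 0, 1, 0, 0]), ([0, 0, 0, 0, 0, 0, 1], [0, 0, 0, 0, 0, 0, 0]),
  ([0, 0, 0, 0, 0, 0, 1], [0, 0, 0, 0, 0, 1, 0])]

/-- a difference of two members of `S` -/
def df (S : List (ℕ × List ℕ)) (t : ℕ × List ℕ) : Bool :=
  S.any fun r => S.any fun s => (List.range 7).all fun j => Nat.beq (r.2.getD j 0) (Nat.add (s.2.getD j 0) (t.2.getD j 0))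

/-- the test for the supports -/
def sec (m sl : ℕ) (a : List ℕ) : Bool := (RL.filter fun w => Nat.beq (dt w.2 a) m).sublists.all fun S =>
  Nat.ble S.length 6 || (Nat.ble (S.length + sl) (6 + 2 * (RL.filter fun w => Nat.beq (dt w.2 a) 0).countP (df S)) ||
    ZL.any fun z => S.all fun w => Nat.beq (dt w.2 z.1) (dt w.2 z.2))

/-- the test for given labels -/
noncomputable def leaf (m T H : ℕ) (a : List ℕ) : Bool :=
  cond (Nat.ble (Nat.mul (Nat.sub (pp m T) 2) m) T) (cond (Nat.ble T (Nat.mul (Nat.sub (pp m T) 1) m))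
    (cond (Nat.ble 7 (dig H m)) (cond (viol H m T) true
      (cond (Nat.beq T (Nat.mul (Nat.sub (pp m T) 2) m) && !Nat.beq (Nat.mod (nr a) (pp m T)) 0) true
        (sec m (dig H (Nat.mul (Nat.sub (pp m T) 1) m)) a))) true) true) true

/-- a loop -/
noncomputable def lp (m : ℕ) (f : ℕ → Bool) : Bool := Nat.rec (f 0) (fun k ih => cond (f (Nat.succ k)) ih false) m

theorem lp_spec {m : ℕ} {f : ℕ → Bool} (h : lp m f = true) {x : ℕ} (hx : x ≤ m) : f x = true := by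
  induction m with
  | zero =>
    obtain rfl : x = 0 := by omega
    exact h
  | succ k ih =>
    have h1 : cond (f (k + 1)) (lp k f) false = true := h
    cases h2 : f (k + 1)
    · rw [h2] at h1
      exact absurd h1 Bool.false_ne_true
    · rw [h2] at h1
      rcases Nat.lt_or_ge k x with h3 | h3
      · obtain rfl : x = k + 1 := by omega
        exact h2
      · exact ih h1 h3

/-- the check -/
noncomputable def chk (m a0 : ℕ) : Bool :=
  lp m fun a1 => lp m fun a2 => lp m fun a3 => lp m fun a4 => lp m fun a5 => lp m fun a6 =>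
    leaf m (Nat.add (Nat.add (Nat.add (Nat.add (Nat.add (Nat.add (Nat.mul 2 a0) (Nat.mul 2 a1)) (Nat.mul 3 a2)) (Nat.mul 4 a3))
      (Nat.mul 3 a4)) (Nat.mul 2 a5)) a6)
      (tot (step a6 (step a5 (step a4 (step a3 (step a2 (step a1 (step a0 (SR.map fun k => (k, 1))))))))))
      [a0, a1, a2, a3, a4, a5, a6]

private noncomputable def _root_.Cfsg.Agent.LsF.fa9af33_0 : {f // @Cfsg.Agent.E7P.A1.Fz.lp = f} := ⟨_, by first | (delta Cfsg.Agent.E7P.A1.Fz.lp; rewrite [Cfsg.Agent.LsF.cond_eq]; exact rfl) | exact rfl⟩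
private noncomputable def _root_.Cfsg.Agent.LsF.fa9af33_1 : {f // @Cfsg.Agent.E7P.A1.Fz.pp = f} := ⟨_, by first | (delta Cfsg.Agent.E7P.A1.Fz.pp; rewrite [Cfsg.Agent.LsF.cond_eq]; exact rfl) | exact rfl⟩
private noncomputable def _root_.Cfsg.Agent.LsF.fa9af33_2 : {f // @Cfsg.Agent.E7P.A1.Fz.cc = f} := ⟨_, by first | (delta Cfsg.Agent.E7P.A1.Fz.cc; rewrite [Cfsg.Agent.LsF.cond_eq]; exact rfl) | exact rfl⟩
private noncomputable def _root_.Cfsg.Agent.LsF.fa9af33_3 : {f // @Cfsg.Agent.E7P.A1.Fz.viol = f} := ⟨_, by first | (delta Cfsg.Agent.E7P.A1.Fz.viol; rewrite [Cfsg.Agent.LsF.fa9af33_2.2, Cfsg.Agent.LsF.cond_eq]; exact rfl) | exact rfl⟩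
private noncomputable def _root_.Cfsg.Agent.LsF.fa9af33_4 : {f // @Cfsg.Agent.R2.T1.dt = f} := ⟨_, by first | (delta Cfsg.Agent.R2.T1.dt List.brecOn List.brecOn.go Cfsg.Agent.R2.T1.dt._f; rewrite [Cfsg.Agent.LsF.nadd_pat, Cfsg.Agent.LsF.nmul_pat]; (try delta Cfsg.Agent.R2.T1.dt.match_1); (try delta Cfsg.Agent.R2.T1.dt._sparseCasesOn_1); first | dsimp -zeta only | exact rfl) | exact rfl⟩
private noncomputable def _root_.Cfsg.Agent.LsF.fa9af33_5 : {f // @Cfsg.Agent.E7P.A1.Fz.nr = f} := ⟨_, by first | (delta Cfsg.Agent.E7P.A1.Fz.nr; rewrite [Cfsg.Agent.LsF.fa9af33_4.2, Cfsg.Agent.LsF.map_eq]; exact rfl) | exact rfl⟩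
private noncomputable def _root_.Cfsg.Agent.LsF.fa9af33_6 : {f // @Cfsg.Agent.E7P.A1.Fz.df = f} := ⟨_, by first | (delta Cfsg.Agent.E7P.A1.Fz.df; rewrite [Cfsg.Agent.LsF.all_eq, Cfsg.Agent.LsF.any_eq, Cfsg.Agent.LsF.range_eq, Cfsg.Agent.LsF.getD_eq]; exact rfl) | exact rfl⟩
private noncomputable def _root_.Cfsg.Agent.LsF.fa9af33_7 : {f // @Cfsg.Agent.E7P.A1.Fz.sec = f} := ⟨_, by first | (delta Cfsg.Agent.E7P.A1.Fz.sec List.sublists; rewrite [Cfsg.Agent.LsF.fa9af33_4.2, Cfsg.Agent.LsF.fa9af33_6.2, Cfsg.Agent.LsF.nadd_pat, Cfsg.Agent.LsF.nmul_pat, Cfsg.Agent.LsF.or_eq, Cfsg.Agent.LsF.all_eq, Cfsg.Agent.LsF.any_eq, Cfsg.Agent.LsF.foldr_eq, Cfsg.Agent.LsF.flatMap_eq, Cfsg.Agent.LsF.filter_eq, Cfsg.Agent.LsF.countP_eq, Cfsg.Agent.LsF.length_eq]; exact rfl) | exact rfl⟩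
private noncomputable def _root_.Cfsg.Agent.LsF.fa9af33_8 : {f // @Cfsg.Agent.E7P.A1.Fz.leaf = f} := ⟨_, by first | (delta Cfsg.Agent.E7P.A1.Fz.leaf; rewrite [Cfsg.Agent.LsF.fa9af33_1.2, Cfsg.Agent.LsF.fa9af33_3.2, Cfsg.Agent.LsF.fa9af33_5.2, Cfsg.Agent.LsF.fa9af33_7.2, Cfsg.Agent.LsF.and_eq, Cfsg.Agent.LsF.not_eq, Cfsg.Agent.LsF.cond_eq]; exact rfl) | exact rfl⟩
private noncomputable def _root_.Cfsg.Agent.LsF.fa9af33_9 : {f // @Cfsg.Agent.E7P.A1.Fz.ins = f} := ⟨_, by first | (delta Cfsg.Agent.E7P.A1.Fz.ins; rewrite [Cfsg.Agent.LsF.cond_eq]; exact rfl) | exact rfl⟩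
private noncomputable def _root_.Cfsg.Agent.LsF.fa9af33_10 : {f // @Cfsg.Agent.E7P.A1.Fz.step = f} := ⟨_, by first | (delta Cfsg.Agent.E7P.A1.Fz.step; rewrite [Cfsg.Agent.LsF.fa9af33_9.2]; exact rfl) | exact rfl⟩
private noncomputable def _root_.Cfsg.Agent.LsF.fa9af33_11 : {f // @Cfsg.Agent.E7P.A1.Fz.chk = f} := ⟨_, by first | (delta Cfsg.Agent.E7P.A1.Fz.chk; rewrite [Cfsg.Agent.LsF.fa9af33_0.2, Cfsg.Agent.LsF.fa9af33_8.2, Cfsg.Agent.LsF.fa9af33_10.2, Cfsg.Agent.LsF.map_eq]; exact rfl) | exact rfl⟩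
theorem chk_3 : lp 3 (chk 3) = true := by ((try (rewrite [Cfsg.Agent.LsF.fa9af33_0.2, Cfsg.Agent.LsF.fa9af33_11.2])); decide +kernel)
theorem chk_40 : chk 4 0 = true := by decide +kernel
theorem chk_41 : chk 4 1 = true := by decide +kernel
theorem chk_42 : chk 4 2 = true := by decide +kernel
theorem chk_43 : chk 4 3 = true := by decide +kernel
theorem chk_44 : chk 4 4 = true := by ((try (rewrite [Cfsg.Agent.LsF.fa9af33_11.2])); decide +kernel)

/-! ### the counts -/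

/-- the list of the labels -/
def ls (a : Fin 7 → ℕ) : List ℕ := [a 0, a 1, a 2, a 3, a 4, a 5, a 6]

theorem chk_leaf {m : ℕ} (hm : m = 3 ∨ m = 4) {a : Fin 7 → ℕ} (ha : ∀ j, a j ≤ m) :
    leaf m (top a) ((RL.map fun w => dt w.2 (ls a)).map (128 ^ ·)).sum (ls a) = true := by
  have h0 : chk m (a 0) = true := by
    rcases hm with rfl | rfl
    · exact lp_spec chk_3 (ha 0)
    · have := ha 0
      interval_cases a 0
      exacts [chk_40, chk_41, chk_42, chk_43, chk_44]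
  have h1 := lp_spec (lp_spec (lp_spec (lp_spec (lp_spec (lp_spec h0 (ha 1)) (ha 2)) (ha 3)) (ha 4)) (ha 5)) (ha 6)
  simp only [tot_eq, val_step, val_SR] at h1
  exact h1

theorem pz_pos {w : ℕ × List ℕ} (hw : w ∈ RL) (a : Fin 7 → ℕ) : pz w.1 (fun j => a j) = dt w.2 (ls a) := by
  rw [dt_eq _ _ (RL_len w hw), pz, Fin.sum_univ_seven]
  show _ = ((∑ j ∈ Finset.range 7, w.2.getD j 0 * (ls a).getD j 0 : ℕ) : ℤ)
  simp only [Finset.sum_range_succ, Finset.sum_range_zero]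
  rw [RL_rt w hw _ (Fin.is_lt 0), RL_rt w hw _ (Fin.is_lt 1), RL_rt w hw _ (Fin.is_lt 2), RL_rt w hw _ (Fin.is_lt 3),
    RL_rt w hw _ (Fin.is_lt 4), RL_rt w hw _ (Fin.is_lt 5), RL_rt w hw _ (Fin.is_lt 6)]
  push_cast
  rw [zero_add]
  rfl

theorem pz_neg {w : ℕ × List ℕ} (hw : w ∈ RL) (a : Fin 7 → ℤ) : pz (125 - w.1) a = - pz w.1 a := by
  rw [pz, pz, ← Finset.sum_neg_distrib]
  refine Finset.sum_congr rfl fun j _ => ?_
  rw [RL_rt w hw _ j.2, RL_rt' w hw _ j.2, neg_mul]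

theorem pz_sub (r : ℕ) (a b : Fin 7 → ℤ) : pz r (a - b) = pz r a - pz r b := by
  rw [pz, pz, pz, ← Finset.sum_sub_distrib]
  exact Finset.sum_congr rfl fun j _ => by rw [Pi.sub_apply, mul_sub]

/-- a property of a root -/
def Pn (P : chevE7.Idx → Prop) (r : ℕ) : Prop := ∃ h : r < chevE7.nroots, P (Sum.inr ⟨r, h⟩)

/-- the same, as a test -/
noncomputable def Pb (P : chevE7.Idx → Prop) (r : ℕ) : Bool := @decide (Pn P r) (Classical.propDecidable _)

theorem Pb_iff {P : chevE7.Idx → Prop} {r : ℕ} : Pb P r = true ↔ Pn P r := @decide_eq_true_iff _ (Classical.propDecidable _)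

theorem sum_ite {α : Type} (p : α → Bool) (l : List α) : (l.map fun w => if p w = true then 1 else 0).sum = l.countP p := by
  induction l with
  | nil => rfl
  | cons x l ih => rw [List.map_cons, List.sum_cons, ih, List.countP_cons, add_comm]

open Classical in
theorem cnt_eq (P : chevE7.Idx → Prop) : cnt P = (∑ i : Fin chevE7.rank, if P (Sum.inl i) then 1 else 0) +
    (RL.countP (fun w => Pb P w.1) + RL.countP fun w => Pb P (125 - w.1)) := by
  have h1 : ∑ r : Fin chevE7.nroots, (if P (Sum.inr r) then 1 else 0) =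
      ∑ r : Fin chevE7.nroots, (fun r : ℕ => if Pb P r = true then 1 else 0) r :=
    Finset.sum_congr rfl fun r _ => if_congr ⟨fun h => Pb_iff.2 ⟨r.2, h⟩, fun h => (Pb_iff.1 h).2⟩ rfl rfl
  rw [cnt, Nat.card_eq_fintype_card, Fintype.card_subtype, Finset.card_filter, Fintype.sum_sum_type,
    h1.trans (sum_roots fun r : ℕ => if Pb P r = true then 1 else 0), sum_ite, sum_ite]

theorem cnt_all {P : chevE7.Idx → Prop} (h : ∀ i, P (Sum.inl i)) :
    cnt P = 7 + (RL.countP (fun w => Pb P w.1) + RL.countP fun w => Pb P (125 - w.1)) := by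
  rw [cnt_eq]
  simp only [h, if_true, Finset.sum_const, Finset.card_univ, Fintype.card_fin]
  rfl

theorem cnt_none {P : chevE7.Idx → Prop} (h : ∀ i, ¬ P (Sum.inl i)) :
    cnt P = RL.countP (fun w => Pb P w.1) + RL.countP fun w => Pb P (125 - w.1) := by
  rw [cnt_eq]
  simp only [h, if_false, Finset.sum_const_zero, zero_add]

theorem Pn_pos {w : ℕ × List ℕ} (hw : w ∈ RL) (a : Fin 7 → ℕ) (z : ℤ) :
    Pn (fun i => il a i = z) w.1 ↔ (dt w.2 (ls a) : ℤ) = z := by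
  rw [← pz_pos hw]
  exact ⟨fun h => h.2, fun h => ⟨RL_lt w hw, h⟩⟩

theorem Pn_neg {w : ℕ × List ℕ} (hw : w ∈ RL) (a : Fin 7 → ℕ) (z : ℤ) :
    Pn (fun i => il a i = z) (125 - w.1) ↔ -(dt w.2 (ls a) : ℤ) = z := by
  rw [← pz_pos hw, ← pz_neg hw]
  exact ⟨fun h => h.2, fun h => ⟨show 125 - w.1 < 126 by omega, h⟩⟩

/-- the number of positive roots of a level -/
def lv (a : Fin 7 → ℕ) (d : ℕ) : ℕ := (RL.map fun w => dt w.2 (ls a)).count d

theorem lv_eq (a : Fin 7 → ℕ) (d : ℕ) : lv a d = RL.countP fun w => decide (dt w.2 (ls a) = d) := by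
  rw [lv, List.count_eq_countP, List.countP_map]
  exact List.countP_congr fun w _ => by simp

theorem dig_lv (a : Fin 7 → ℕ) (d : ℕ) : dig ((RL.map fun w => dt w.2 (ls a)).map (128 ^ ·)).sum d = lv a d :=
  dig_sum _ (by rw [List.length_map, RL_length]; omega) d

theorem cnt_pos (a : Fin 7 → ℕ) {d : ℕ} (hd : 0 < d) : cnt (fun i => il a i = d) = lv a d := by
  have h : RL.countP (fun w => Pb (fun i => il a i = d) (125 - w.1)) = 0 := List.countP_eq_zero.2 fun w hw => by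
    rw [Pb_iff, Pn_neg hw]
    omega
  rw [cnt_none fun i => show ¬ (0 : ℤ) = d by omega, lv_eq, h, add_zero]
  refine List.countP_congr fun w hw => ?_
  rw [Pb_iff, decide_eq_true_iff, Pn_pos hw, Nat.cast_inj]

theorem cnt_neg (a : Fin 7 → ℕ) {d : ℕ} (hd : 0 < d) : cnt (fun i => il a i = -(d : ℤ)) = lv a d := by
  have h : RL.countP (fun w => Pb (fun i => il a i = -(d : ℤ)) w.1) = 0 := List.countP_eq_zero.2 fun w hw => by
    rw [Pb_iff, Pn_pos hw]
    omega
  rw [cnt_none fun i => show ¬ (0 : ℤ) = -(d : ℤ) by omega, lv_eq, h, zero_add]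
  refine List.countP_congr fun w hw => ?_
  rw [Pb_iff, decide_eq_true_iff, Pn_neg hw, neg_inj, Nat.cast_inj]

theorem cnt_zero (a : Fin 7 → ℕ) : cnt (fun i => il a i = 0) = 7 + 2 * lv a 0 := by
  have h1 : RL.countP (fun w => Pb (fun i => il a i = 0) w.1) = lv a 0 := by
    rw [lv_eq]
    refine List.countP_congr fun w hw => ?_
    rw [Pb_iff, decide_eq_true_iff, Pn_pos hw, Nat.cast_eq_zero]
  have h2 : RL.countP (fun w => Pb (fun i => il a i = 0) (125 - w.1)) = lv a 0 := by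
    rw [lv_eq]
    refine List.countP_congr fun w hw => ?_
    rw [Pb_iff, decide_eq_true_iff, Pn_neg hw, neg_eq_zero, Nat.cast_eq_zero]
  rw [cnt_all (P := fun i => il a i = 0) fun i => rfl, h1, h2, two_mul]

theorem viol_false {H m : ℕ} (h : ∀ d, 0 < d → dig H d ≤ cc H m d) (n : ℕ) : viol H m n = false := by
  induction n with
  | zero => rfl
  | succ n ih =>
    show cond (Nat.ble (dig H (n + 1)) (cc H m (n + 1))) (viol H m n) true = false
    rw [Nat.ble_eq_true_of_le (h _ n.succ_pos), ih]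
    rfl

theorem cc_eq (a : Fin 7 → ℕ) (m d : ℕ) :
    cc ((RL.map fun w => dt w.2 (ls a)).map (128 ^ ·)).sum m d = cnt fun i => il a i = -(d : ℤ) + m := by
  rw [cc, dig_lv, dig_lv, dig_lv]
  rcases lt_trichotomy d m with h | h | h
  · rw [Nat.ble_eq_true_of_le h.le, Bool.eq_false_iff.2 fun e => h.ne (Nat.eq_of_beq_eq_true e),
      show -(d : ℤ) + m = ((m - d : ℕ) : ℤ) by omega, cnt_pos a (by omega)]
    rfl
  · subst h
    rw [Nat.ble_eq_true_of_le le_rfl, Nat.beq_refl, neg_add_cancel, cnt_zero]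
    rfl
  · rw [Bool.eq_false_iff.2 fun e => h.not_ge (Nat.le_of_ble_eq_true e),
      show -(d : ℤ) + m = -((d - m : ℕ) : ℤ) by omega, cnt_neg a (by omega)]
    rfl

theorem pp_eq {p m T : ℕ} (hp : p = 11 ∨ p = 13 ∨ p = 17) (hm : 0 < m) (h1 : (p - 2) * m ≤ T) (h2 : T ≤ (p - 1) * m) :
    pp m T = p := by
  have h3 : ∀ x y : ℕ, y < x → Nat.ble x y = false := fun x y h =>
    Bool.eq_false_iff.2 fun e => h.not_ge (Nat.le_of_ble_eq_true e)
  rcases hp with rfl | rfl | rfl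
  · rw [pp, Nat.ble_eq_true_of_le (show T ≤ Nat.mul 10 m from h2)]
    rfl
  · rw [pp, h3 T (Nat.mul 10 m) (show 10 * m < T by omega), Nat.ble_eq_true_of_le (show T ≤ Nat.mul 12 m from h2)]
    rfl
  · rw [pp, h3 T (Nat.mul 10 m) (show 10 * m < T by omega), h3 T (Nat.mul 12 m) (show 12 * m < T by omega)]
    rfl

theorem dt_cons (x y : ℕ) (l k : List ℕ) : dt (x :: l) (y :: k) = x * y + dt l k := rfl

theorem dt_nil : dt [] [] = 0 := rfl

theorem nr_eq (a : Fin 7 → ℕ) : (nr (ls a) : ℤ) = nrm a := by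
  simp only [nrm, Fin.sum_univ_seven, nr, ls, List.map_cons, List.map_nil, dt_cons, dt_nil]
  simp only [iC, _root_.Fin.isValue, _root_.add_zero, _root_.Nat.cast_add, _root_.Nat.cast_mul, _root_.Nat.cast_ofNat, _root_.Fin.coe_ofNat_eq_mod, _root_.Nat.zero_mod, _root_.List.getD_eq_getElem?_getD, _root_.List.length_cons, _root_.List.length_nil, _root_.zero_add, _root_.Nat.reduceAdd, _root_.Nat.ofNat_pos, _root_.getElem?_pos, _root_.List.getElem_cons_zero, _root_.Option.getD_some, _root_.Nat.one_mod, _root_.Nat.one_lt_ofNat, _root_.List.getElem_cons_succ, _root_.Nat.reduceMod, _root_.Nat.reduceLT, _root_.Nat.mod_succ, _root_.Nat.lt_add_one]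
  ring

theorem ZL_ls : ∀ z ∈ ZL, ls (fun j => z.1.getD j 0) = z.1 ∧ ls (fun j => z.2.getD j 0) = z.2 ∧ z.1 ≠ z.2 := by
  decide +kernel

theorem mem_RL {r : ℕ} (h1 : r < 126) : (∃ w ∈ RL, w.1 = r) ∨ ∃ w ∈ RL, 125 - w.1 = r := by
  have h : ∀ s, 63 ≤ s → s < 126 → ∃ w ∈ RL, w.1 = s := fun s h2 h3 =>
    List.mem_map.1 (RL_fst ▸ List.mem_range'_1.2 ⟨h2, h3⟩)
  rcases Nat.lt_or_ge r 63 with h2 | h2
  · obtain ⟨w, hw, e⟩ := h (125 - r) (by omega) (by omega)
    exact Or.inr ⟨w, hw, by omega⟩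
  · exact Or.inl (h r h2 h1)

theorem sec_false {m sl : ℕ} {a : Fin 7 → ℕ} {P0 P1 : chevE7.Idx → Prop} (hm : 0 < m) (h1 : ∀ i, P1 i → il a i = m)
    (h2 : ∀ i, P0 (Sum.inl i)) (h3 : ∀ r s t, ac r = ac s + ac t → P1 r → P1 s → P0 t) (h4 : cnt P0 ≤ cnt P1 + sl)
    (h5 : 7 ≤ cnt P1) (h6 : ∀ ζ : Fin 7 → ℤ, (∀ r : Fin chevE7.nroots, P1 (Sum.inr r) → pz r ζ = 0) → ζ = 0) :
    ¬ sec m sl (ls a) = true := by
  intro h
  have hn : ∀ w ∈ RL, ¬ Pn P1 (125 - w.1) := fun w hw e => by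
    have := (Pn_neg hw a m).1 ⟨e.1, h1 _ e.2⟩
    omega
  obtain ⟨S, hS⟩ : ∃ S, S = RL.filter fun w => Pb P1 w.1 := ⟨_, rfl⟩
  have hmem : ∀ w, w ∈ S ↔ w ∈ RL ∧ Pn P1 w.1 := fun w => by rw [hS, List.mem_filter, Pb_iff]
  have hc : cnt P1 = S.length := by
    have e : RL.countP (fun w => Pb P1 (125 - w.1)) = 0 := List.countP_eq_zero.2 fun w hw e => hn w hw (Pb_iff.1 e)
    rw [cnt_none fun i e => hm.ne (Nat.cast_injective (R := ℤ) (h1 _ e)), e, add_zero, List.countP_eq_length_filter, hS]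
  have hsub : S.Sublist (RL.filter fun w => Nat.beq (dt w.2 (ls a)) m) := by
    have e : S = (RL.filter fun w => Nat.beq (dt w.2 (ls a)) m).filter fun w => Pb P1 w.1 := by
      rw [List.filter_filter, hS]
      refine List.filter_congr fun w hw => ?_
      cases e : Pb P1 w.1
      · rfl
      · have e1 := (Pn_pos hw a m).1 ⟨(Pb_iff.1 e).1, h1 _ (Pb_iff.1 e).2⟩
        rw [Nat.cast_inj.1 e1, Nat.beq_refl]
        rfl
    rw [e]
    exact List.filter_sublist
  have hD : ∀ t ∈ RL, df S t = true → Pn P0 t.1 ∧ Pn P0 (125 - t.1) := by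
    intro t ht e
    obtain ⟨r, hr, e⟩ := List.any_eq_true.1 e
    obtain ⟨s, hs, e⟩ := List.any_eq_true.1 e
    obtain ⟨hr, hr1, hr2⟩ := (hmem r).1 hr
    obtain ⟨hs, hs1, hs2⟩ := (hmem s).1 hs
    have e1 : rc r.1 = rc s.1 + rc t.1 := rc_add_of_rt (RL_lt t ht) (RL_lt s hs) (RL_lt r hr) fun j hj => by
      rw [RL_rt r hr j hj, RL_rt s hs j hj, RL_rt t ht j hj,
        Nat.eq_of_beq_eq_true (List.all_eq_true.1 e j (List.mem_range.2 hj))]
      exact Nat.cast_add _ _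
    refine ⟨⟨RL_lt t ht, h3 (Sum.inr ⟨_, hr1⟩) (Sum.inr ⟨_, hs1⟩) _ e1 hr2 hs2⟩, ⟨show 125 - t.1 < 126 by omega, h3 _ _ _ ?_ hs2 hr2⟩⟩
    show rc s.1 = rc r.1 + rc (125 - t.1)
    rw [rc_neg (RL_lt t ht), e1, add_neg_cancel_right]
  have h0 : 7 + 2 * (RL.filter fun w => Nat.beq (dt w.2 (ls a)) 0).countP (df S) ≤ cnt P0 := by
    have e1 := (List.filter_sublist (l := RL) (p := fun w => Nat.beq (dt w.2 (ls a)) 0)).countP_le (p := df S)
    have e2 : RL.countP (df S) ≤ RL.countP fun w => Pb P0 w.1 :=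
      List.countP_mono_left fun t ht e => Pb_iff.2 (hD t ht e).1
    have e3 : RL.countP (df S) ≤ RL.countP fun w => Pb P0 (125 - w.1) :=
      List.countP_mono_left fun t ht e => Pb_iff.2 (hD t ht e).2
    rw [cnt_all h2]
    omega
  have h7 := List.all_eq_true.1 h S (List.mem_sublists.2 hsub)
  rw [Bool.or_eq_true, Bool.or_eq_true] at h7
  rcases h7 with h7 | h7 | h7
  · have := Nat.le_of_ble_eq_true h7
    omega
  · have := Nat.le_of_ble_eq_true h7
    omega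
  · obtain ⟨z, hz, e⟩ := List.any_eq_true.1 h7
    obtain ⟨z1, z2, z3⟩ := ZL_ls z hz
    have e1 := h6 ((fun j : Fin 7 => ((z.1.getD j 0 : ℕ) : ℤ)) - fun j : Fin 7 => ((z.2.getD j 0 : ℕ) : ℤ)) fun r hr => by
      rcases mem_RL r.2 with ⟨w, hw, e2⟩ | ⟨w, hw, e2⟩
      · rw [← e2, pz_sub, pz_pos hw fun j => z.1.getD j 0, pz_pos hw fun j => z.2.getD j 0, z1, z2,
          Nat.eq_of_beq_eq_true (List.all_eq_true.1 e w ((hmem w).2 ⟨hw, e2 ▸ ⟨r.2, hr⟩⟩)), sub_self]
      · exact absurd (e2 ▸ ⟨r.2, hr⟩) (hn w hw)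
    refine z3 (z1.symm.trans (Eq.trans (congrArg ls (funext fun j => ?_)) z2))
    exact Nat.cast_injective (R := ℤ) (sub_eq_zero.1 (congrFun e1 j))

/-- **the finite check** -/
theorem fin : FIN := by
  intro p m a P0 P1 hp hm ha h1 h2 h3 h4 h5 h6 h7 h8 h9
  have hm0 : 0 < m := by omega
  have h := chk_leaf hm ha
  have hc : cnt P1 ≤ lv a m := by
    rw [← cnt_pos a hm0]
    exact Nat.card_le_card_of_injective (fun i : {i // P1 i} => (⟨i.1, h4 _ i.2⟩ : {i // il a i = m}))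
      fun i j e => Subtype.ext (Subtype.mk.inj e)
  have hpm : 0 < (p - 1) * m := Nat.mul_pos (by omega) hm0
  rw [cnt_neg a hpm] at h7
  rw [leaf, pp_eq hp hm0 h1 h2, Nat.ble_eq_true_of_le (show Nat.mul (Nat.sub p 2) m ≤ top a from h1),
    Nat.ble_eq_true_of_le (show top a ≤ Nat.mul (Nat.sub p 1) m from h2), dig_lv, dig_lv,
    Nat.ble_eq_true_of_le (h8.trans hc), viol_false fun d hd => by
      rw [dig_lv, cc_eq, ← cnt_neg a hd]
      exact h3 _ (by omega), cond_true, cond_true, cond_true, cond_false] at h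
  cases e : (Nat.beq (top a) (Nat.mul (Nat.sub p 2) m) && !Nat.beq (Nat.mod (nr (ls a)) p) 0)
  · rw [e] at h
    exact absurd h (sec_false hm0 h4 h5 h6 h7 h8 h9)
  · rw [Bool.and_eq_true, Bool.not_eq_true'] at e
    refine ⟨Nat.eq_of_beq_eq_true e.1, fun hd => ?_⟩
    rw [← nr_eq, Int.natCast_dvd_natCast] at hd
    have e2 : Nat.mod (nr (ls a)) p = 0 := Nat.mod_eq_zero_of_dvd hd
    rw [e2] at e
    exact absurd e.2 (by decide)

end Cfsg.Agent.E7P.A1.Fz
end

-- part: S5932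
section
set_option autoImplicit false
open Cfsg

namespace Cfsg.Agent.S5932

/-- Let p be a prime and a, b ≥ 1. Let F be a field with p^b elements and G the Chevalley group of type E₇ over F (generated by its root elements in the adjoint representation; the simple group E₇(p^b)), and let K be a field with p^a elements. If H is a maximal subgroup of G whose generalized Fitting subgroup is isomorphic to PSL₂(p^a), then one of: p^a ∈ {7, 8, 19, 25}; or p ≥ 17 and a = b; or a = 7b. -/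
theorem result
    {F K : Type*} [Field F] [Fintype F] [Field K] [Fintype K] (p a b : ℕ) [Fact p.Prime] (ha : 1 ≤ a) (hb : 1 ≤ b)
    (hF : Fintype.card F = p ^ b) (hK : Fintype.card K = p ^ a) (H : Subgroup ↥(Cfsg.Lie.chevE7.group F)) (hH : IsCoatom H)
    (hL : Nonempty (↥(Cfsg.generalizedFittingSubgroup ↥H) ≃* Matrix.ProjectiveSpecialLinearGroup (Fin 2) K)) :
    (p ^ a = 7 ∨ p ^ a = 8 ∨ p ^ a = 19 ∨ p ^ a = 25) ∨ (17 ≤ p ∧ a = b) ∨ a = 7 * b :=
  Cfsg.Agent.E7P.of_box (Cfsg.Agent.E7P.asm_box Cfsg.Agent.E7P.A1.Fz.fin) p a b ha hb hF hK H hH hL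

end Cfsg.Agent.S5932
end

private theorem dce_1316e793dc68 : _root_.True := by
  try have : _root_.True := by simp only [_root_.Cfsg.Agent.E7P.A1.Fz.val.eq_1]
  try have : _root_.True := by simp only [_root_.Cfsg.Agent.E7P.A1.Fz.leaf.eq_1]
  try have : _root_.True := by simp only [_root_.Cfsg.Agent.E7P.A1.Fz.lv.eq_1]
  try have : _root_.True := by simp only [_root_.Cfsg.Agent.E7P.A1.Fz.ls.eq_1]
  try have : _root_.True := by simp only [_root_.Cfsg.Agent.E7P.A1.Fz.pp.eq_1]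
  try have : _root_.True := by simp only [_root_.Cfsg.Agent.E7P.A1.Fz.cc.eq_1]
  try have : _root_.True := by simp only [_root_.Cfsg.Agent.E7P.A1.Fz.nr.eq_1]
  exact _root_.True.intro
end
end
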