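import Mathlib
import Cfsg.Agent.LieClassical.SLGen
import Cfsg.Agent.H540.E72.Row
import Cfsg.Agent.S0243
import Cfsg.Agent.S0249
import Cfsg.Agent.S0813
import Cfsg.Agent.ClassicalGeometry.PSL2Basic
import Cfsg.Agent.H179.SLC.Coc_m3
import Cfsg.Agent.H943.PSLHom
import Cfsg.Agent.H943.E7V.AdmMain
import Cfsg.Agent.H699.IBrGen
import Cfsg.Agent.CharDeep.LinearChar
import Cfsg.Agent.H62.GTwoSU
import Cfsg.Agent.H638.G2Iso
import Cfsg.Statements.S5935
import Cfsg.Agent.H846.E72.JTwo_m3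
import Cfsg.Agent.H102.E7V.Pos_m3
import Cfsg.Agent.Lib.MatDec
import Cfsg.Agent.FastGrp
import Cfsg.Agent.Prune
set_option linter.all false

section
prune_inst 0x7ff3adfbdbecdddfdfff7e3faeffdffdf2ef2fffe6dff9cbffe8e99f8bdf5b82abc1fb8f8fea51fd1ef6e2b410b87853ffffeeffea6fd87ffffd1ff41ffbee4fe5f7b50851dc9cb40fbc0fff03f0778e6f3fffffffffffffffffffffffffffbefffffbfeffff

-- part: H943/E7V/Rows
section
prune_inst 0xc10042411200020000040510000020910d00019000230000416603420a40c5034002070018a0220001c4a2a45038400001000059024000000e000600411901a0808a52003234ad0436000f809084010000000000000000000000000000000000004010000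
set_option linter.all false
open scoped Cfsg.Agent.FastGrp

/-- decoders of the packed data (elaboration time only) -/
private noncomputable def pk61d (b S i : Nat) : Nat := Nat.mod (Nat.shiftRight S (Nat.mul b i)) (Nat.shiftLeft (nat_lit 1) b)
private noncomputable def pk61c {α : Type} (t : Nat) (a : α) (f : Nat → α) : α := Nat.rec a (fun k _ => f k) t
private noncomputable def pk61f {α : Type} (t : Nat) (f : Nat → α) : α := Nat.rec (f Nat.zero) (fun k _ => f (Nat.succ k)) t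
private noncomputable def pk61l {α : Type} (f : Nat → α) (s e : Nat) (tl : List α) : List α :=
  pk61f e fun e => Nat.rec tl (fun k ih => List.cons (pk61f (Nat.sub e (Nat.succ k)) f) ih) (Nat.sub e s)
private noncomputable def pk61o {α : Type} (O : (n : Nat) → OfNat α n → α) (I : (n : Nat) → OfNat α n) (t : Nat) : α :=
  pk61c t (O (nat_lit 0) (I (nat_lit 0))) fun k => O (Nat.succ k) (I (Nat.succ k))

-- part: H943/E7V/L43
section
/-!
# `PSL(4, 3)` is generated by two elements of order 5 whose product is an involution (S5935)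
-/

set_option autoImplicit false
set_option linter.unusedSectionVars false
set_option maxRecDepth 20000

namespace Cfsg.Agent.H943.E7V.L43

open Matrix

instance f3 : Fact (Nat.Prime 3) := ⟨by norm_num⟩

/-- the matrix given by a list -/
def mt (l : List ℕ) : Matrix (Fin 4) (Fin 4) (ZMod 3) := Matrix.of fun i j => ((l.getD (4 * (i : ℕ) + (j : ℕ)) 0 : ℕ) : ZMod 3)

/-- an entry of the product -/
def mulE (a b : List ℕ) (t : ℕ) : ℕ :=
  (a.getD (4 * (t / 4)) 0 * b.getD (t % 4) 0 + a.getD (4 * (t / 4) + 1) 0 * b.getD (4 + t % 4) 0 +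
    a.getD (4 * (t / 4) + 2) 0 * b.getD (8 + t % 4) 0 + a.getD (4 * (t / 4) + 3) 0 * b.getD (12 + t % 4) 0) % 3

/-- the product -/
def mulL (a b : List ℕ) : List ℕ := (List.range 16).map (mulE a b)

theorem getD_mulL (a b : List ℕ) {t : ℕ} (ht : t < 16) : (mulL a b).getD t 0 = mulE a b t := by
  unfold mulL
  rw [List.getD_eq_getElem _ _ (by simpa using ht)]
  simp

theorem mt_mul (a b : List ℕ) : mt (mulL a b) = mt a * mt b := by
  ext i j
  rw [Matrix.mul_apply, Fin.sum_univ_four]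
  have hi := i.2
  have hj := j.2
  have h1 : (4 * (i : ℕ) + (j : ℕ)) / 4 = i := by omega
  have h2 : (4 * (i : ℕ) + (j : ℕ)) % 4 = j := by omega
  show (((mulL a b).getD (4 * (i : ℕ) + (j : ℕ)) 0 : ℕ) : ZMod 3) = _
  rw [getD_mulL a b (by omega), mulE, h1, h2, ZMod.natCast_mod]
  push_cast
  simp only [mt, Matrix.of_apply]
  simp only [Fin.val_zero, Fin.val_one, Fin.val_two, add_zero, mul_zero, zero_add, mul_one, show ((3 : Fin 4) : ℕ) = 3 from rfl,
    Nat.reduceMul]

/-- the check of a straight line program -/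
def chk (known : List (List ℕ)) : List (List ℕ × List ℕ × List ℕ) → Bool
  | [] => true
  | (a, b, c) :: t => decide (a ∈ known) && decide (b ∈ known) && decide (mulL a b = c) && chk (c :: known) t

theorem of_chk {T : Set (Matrix (Fin 4) (Fin 4) (ZMod 3))} (hT : ∀ A ∈ T, ∀ B ∈ T, A * B ∈ T) :
    ∀ (prog : List (List ℕ × List ℕ × List ℕ)) (known : List (List ℕ)), (∀ a ∈ known, mt a ∈ T) →
      chk known prog = true → ∀ x ∈ prog, mt x.2.2 ∈ T := by
  intro prog
  induction prog with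
  | nil => intro known _ _ x hx; exact absurd hx List.not_mem_nil
  | cons y t ih =>
    obtain ⟨a, b, c⟩ := y
    intro known hk hc x hx
    rw [chk, Bool.and_eq_true, Bool.and_eq_true, Bool.and_eq_true] at hc
    obtain ⟨⟨⟨h1, h2⟩, h3⟩, h4⟩ := hc
    have h5 : mt c ∈ T := by
      rw [← of_decide_eq_true h3, mt_mul]
      exact hT _ (hk _ (of_decide_eq_true h1)) _ (hk _ (of_decide_eq_true h2))
    rcases List.mem_cons.1 hx with rfl | hx
    · exact h5
    · refine ih (c :: known) ?_ h4 x hx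
      intro z hz
      rcases List.mem_cons.1 hz with rfl | hz
      · exact h5
      · exact hk z hz

/-- the first generator -/
def lX : List ℕ := [2,2,1,0,0,2,2,0,0,1,1,1,2,1,2,0]

/-- the second generator -/
def lY : List ℕ := [1,0,0,1,0,0,2,2,2,0,2,2,2,2,2,2]

/-- the program -/
noncomputable def prog : List (List ℕ × List ℕ × List ℕ) :=
  let y0 : List (List ℕ × List ℕ × List ℕ) := (by
  refine (?fq9001 : (fun (On : (n : Nat) → OfNat Nat n → Nat) (In : (n : Nat) → OfNat Nat n) => (pk61l (fun i0 => (_root_.Prod.mk (pk61l (fun i1 => (pk61o On In (pk61d (nat_lit 2) 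
    (nat_lit 0x4454040140900401405004014410040140111501401024014010140140110401401044454010040940100405401044015110041142100401) i1))) (Nat.mul (nat_lit 16) i0) (Nat.mul (nat_lit 16) (Nat.succ i0)) List.nil) (_root_.Prod.mk (pk61l (fun i1 => (pk61o On In (pk61d (nat_lit 2) 
    (nat_lit 0x4894040148100401441004014410040140122501401204014011040140110401401084494010840140104401401044015210042140100421) i1))) (Nat.mul (nat_lit 16) i0) (Nat.mul (nat_lit 16) (Nat.succ i0)) List.nil) (pk61l (fun i1 => (pk61o On In (pk61d (nat_lit 2) 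
    (nat_lit 0x4014040148940401445404014810040140100501401225014011150140120401401004414010844940104445401084015010040152100421) i1))) (Nat.mul (nat_lit 16) i0) (Nat.mul (nat_lit 16) (Nat.succ i0)) List.nil)))) (nat_lit 0) (nat_lit 14) List.nil : List (List ℕ × List ℕ × List ℕ)))
    = ?xq9001 → (List (List ℕ × List ℕ × List ℕ))) ?hq9001; (case hq9001 => (set_option maxRecDepth 1000000 in conv => lhs; reduce)); intro _; exact ?xq9001 (@OfNat.ofNat Nat) instOfNatNat : List (List ℕ × List ℕ × List ℕ))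
  let y1 : List (List ℕ × List ℕ × List ℕ) := (by
  refine (?fq9002 : (fun (On : (n : Nat) → OfNat Nat n → Nat) (In : (n : Nat) → OfNat Nat n) (tl : List (List ℕ × List ℕ × List ℕ)) => (pk61l (fun i0 => (_root_.Prod.mk (pk61l (fun i1 => (pk61o On In (pk61d (nat_lit 2) 
    (nat_lit 0x41100401401004114510040542100401411004014151040140900401405004014110040140505401401024014010140140500401401014154010040940100405401014014010040528a2a04104256655a6691a891894414014882446892a6980555025891aa88240) i1))) (Nat.mul (nat_lit 16) i0) (Nat.mul (nat_lit 16) (Nat.succ i0)) List.nil) (_root_.Prod.mk (pk61l (fun i1 => (pk61o On In (pk61d (nat_lit 2) 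
    (nat_lit 0x401004114010041146100409401004094010040542910401421004014110040141100401409064014090040140500401405004014010241940102401401014014010140140100405192290242654281a462915a1896680518565a628896680518565a62889668051) i1))) (Nat.mul (nat_lit 16) i0) (Nat.mul (nat_lit 16) (Nat.succ i0)) List.nil) (pk61l (fun i1 => (pk61o On In (pk61d (nat_lit 2) 
    (nat_lit 0x5110041140100421441004014610040945100405401104014291040141510401421004014010440140906401405054014090040140100411401024194010141540102401401004094110040128a2a04104256655a6691a891894414014882446892a698055502589) i1))) (Nat.mul (nat_lit 16) i0) (Nat.mul (nat_lit 16) (Nat.succ i0)) List.nil)))) (nat_lit 0) (nat_lit 26) tl : List (List ℕ × List ℕ × List ℕ)))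
    = ?xq9002 → (List (List ℕ × List ℕ × List ℕ))) ?hq9002; (case hq9002 => (set_option maxRecDepth 1000000 in conv => lhs; reduce)); intro _; exact ?xq9002 (@OfNat.ofNat Nat) instOfNatNat y0 : List (List ℕ × List ℕ × List ℕ))
  let y2 : List (List ℕ × List ℕ × List ℕ) := (by
  refine (?fq9003 : (fun (On : (n : Nat) → OfNat Nat n → Nat) (In : (n : Nat) → OfNat Nat n) (tl : List (List ℕ × List ℕ × List ℕ)) => (pk61l (fun i0 => (_root_.Prod.mk (pk61l (fun i1 => (pk61o On In (pk61d (nat_lit 2) 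
    (nat_lit 0x668a18468565a628149946410242aa24aaa625694690699580a4941689a5885140862a01462150a180a5a8a989568a68145265960282101aaaa2a041aaa25241a2255855296944896a24491496281202a604448290a66852a41842565602698860aa942a59198850) i1))) (Nat.mul (nat_lit 16) i0) (Nat.mul (nat_lit 16) (Nat.succ i0)) List.nil) (_root_.Prod.mk (pk61l (fun i1 => (pk61o On In (pk61d (nat_lit 2) 
    (nat_lit 0x8565a62808a019552654281a8565a62889668051462915a1896680518565a628896680518565a628896680518565a62808a019558565a62889668051192290242654281a462915a108a019558565a6282654281a462915a18966805119229024896680518565a628) i1))) (Nat.mul (nat_lit 16) i0) (Nat.mul (nat_lit 16) (Nat.succ i0)) List.nil) (pk61l (fun i1 => (pk61o On In (pk61d (nat_lit 2) 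
    (nat_lit 0x1aa88240668a184640500401149946410242aa24aaa625694690699580a4941689a5885140862a01462150a180a5a8a989568a68145265960282101a40101401aaa25241a2255855296944896a24491496281202a604448290a66852a41842565602698860aa942a) i1))) (Nat.mul (nat_lit 16) i0) (Nat.mul (nat_lit 16) (Nat.succ i0)) List.nil)))) (nat_lit 0) (nat_lit 26) tl : List (List ℕ × List ℕ × List ℕ)))
    = ?xq9003 → (List (List ℕ × List ℕ × List ℕ))) ?hq9003; (case hq9003 => (set_option maxRecDepth 1000000 in conv => lhs; reduce)); intro _; exact ?xq9003 (@OfNat.ofNat Nat) instOfNatNat y1 : List (List ℕ × List ℕ × List ℕ))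
  (by
  refine (?fq9004 : (fun (On : (n : Nat) → OfNat Nat n → Nat) (In : (n : Nat) → OfNat Nat n) (tl : List (List ℕ × List ℕ × List ℕ)) => (pk61l (fun i0 => (_root_.Prod.mk (pk61l (fun i1 => (pk61o On In (pk61d (nat_lit 2) 
    (nat_lit 0x24282aa82801508a801a4a1689668051265428064a450164a89a51166451209a6501504522282a54481988a0494656045a2852805824024a6059a2a85908228a6914911625025451aaa2a0418565a6288565a628aaa2a0411485464189668051896680512654281a) i1))) (Nat.mul (nat_lit 16) i0) (Nat.mul (nat_lit 16) (Nat.succ i0)) List.nil) (_root_.Prod.mk (pk61l (fun i1 => (pk61o On In (pk61d (nat_lit 2) 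
    (nat_lit 0x896680518565a628148546418565a628148546418565a62808a01955aaa2a04189668051462915a108a01955aaa2a04108a01955462915a108a019558565a628148546418565a62808a019558565a628aaa2a041aaa2a0412654281a896680512654281a2654281a) i1))) (Nat.mul (nat_lit 16) i0) (Nat.mul (nat_lit 16) (Nat.succ i0)) List.nil) (pk61l (fun i1 => (pk61o On In (pk61d (nat_lit 2) 
    (nat_lit 0x5919885024282aa82801508a801a4a1640100405265428064a450164a89a51166451209a6501504522282a54481988a0494656045a2852805824024a6059a2a85908228a691491162502545119229024462915a18565a628401004011485464108a0195589668051) i1))) (Nat.mul (nat_lit 16) i0) (Nat.mul (nat_lit 16) (Nat.succ i0)) List.nil)))) (nat_lit 0) (nat_lit 26) tl : List (List ℕ × List ℕ × List ℕ)))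
    = ?xq9004 → (List (List ℕ × List ℕ × List ℕ))) ?hq9004; (case hq9004 => (set_option maxRecDepth 1000000 in conv => lhs; reduce)); intro _; exact ?xq9004 (@OfNat.ofNat Nat) instOfNatNat y2 : List (List ℕ × List ℕ × List ℕ))

theorem chk_prog : chk [lX, lY] prog = true := by decide +kernel

/-- the transvections -/
def lE (i j : Fin 4) : List ℕ := (List.range 16).map fun t =>
  if t = 4 * (i : ℕ) + (j : ℕ) then 1 else if t / 4 = t % 4 then 1 else 0

theorem mt_lE : ∀ i j : Fin 4, i ≠ j → mt (lE i j) = Matrix.transvection i j 1 := by decide +kernel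

theorem lE_mem : ∀ i j : Fin 4, i ≠ j → ∃ x ∈ prog, x.2.2 = lE i j := by decide +kernel

/-- the first generator -/
def X : SpecialLinearGroup (Fin 4) (ZMod 3) := ⟨mt lX, by decide +kernel⟩

/-- the second generator -/
def Y : SpecialLinearGroup (Fin 4) (ZMod 3) := ⟨mt lY, by decide +kernel⟩

theorem X_ne : mt lX 0 1 ≠ 0 := by decide +kernel

theorem Y_ne : mt lY 0 3 ≠ 0 := by decide +kernel

theorem X_pow : X ^ 5 = 1 := by
  have h1 : mulL (mulL (mulL (mulL lX lX) lX) lX) lX = [1,0,0,0,0,1,0,0,0,0,1,0,0,0,0,1] := by decide +kernel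
  have h2 : mt [1,0,0,0,0,1,0,0,0,0,1,0,0,0,0,1] = 1 := by decide +kernel
  apply Subtype.ext
  rw [pow_succ, pow_succ, pow_succ, pow_succ, pow_one]
  change mt lX * mt lX * mt lX * mt lX * mt lX = (1 : Matrix _ _ _)
  rw [← mt_mul, ← mt_mul, ← mt_mul, ← mt_mul, h1, h2]

theorem Y_pow : Y ^ 5 = 1 := by
  have h1 : mulL (mulL (mulL (mulL lY lY) lY) lY) lY = [1,0,0,0,0,1,0,0,0,0,1,0,0,0,0,1] := by decide +kernel
  have h2 : mt [1,0,0,0,0,1,0,0,0,0,1,0,0,0,0,1] = 1 := by decide +kernel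
  apply Subtype.ext
  rw [pow_succ, pow_succ, pow_succ, pow_succ, pow_one]
  change mt lY * mt lY * mt lY * mt lY * mt lY = (1 : Matrix _ _ _)
  rw [← mt_mul, ← mt_mul, ← mt_mul, ← mt_mul, h1, h2]

theorem XY_sq : (X * Y) ^ 2 = 1 := by
  have h1 : mulL (mulL lX lY) (mulL lX lY) = [1,0,0,0,0,1,0,0,0,0,1,0,0,0,0,1] := by decide +kernel
  have h2 : mt [1,0,0,0,0,1,0,0,0,0,1,0,0,0,0,1] = 1 := by decide +kernel
  apply Subtype.ext
  rw [pow_two]
  change mt lX * mt lY * (mt lX * mt lY) = (1 : Matrix _ _ _)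
  rw [← mt_mul, ← mt_mul, h1, h2]

theorem closure_XY : Subgroup.closure {X, Y} = (⊤ : Subgroup (SpecialLinearGroup (Fin 4) (ZMod 3))) := by
  have hX : X ∈ Subgroup.closure {X, Y} := Subgroup.subset_closure (by simp)
  have hY : Y ∈ Subgroup.closure {X, Y} := Subgroup.subset_closure (by simp)
  let T : Set (Matrix (Fin 4) (Fin 4) (ZMod 3)) := {A | ∃ g ∈ Subgroup.closure {X, Y}, (g : Matrix _ _ _) = A}
  have hT : ∀ A ∈ T, ∀ B ∈ T, A * B ∈ T := by
    rintro _ ⟨g, hg, rfl⟩ _ ⟨h, hh, rfl⟩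
    exact ⟨g * h, mul_mem hg hh, rfl⟩
  have h1 := of_chk hT prog [lX, lY] (by
    intro a ha
    rcases List.mem_cons.1 ha with rfl | ha
    · exact ⟨X, hX, rfl⟩
    · rcases List.mem_cons.1 ha with rfl | ha
      · exact ⟨Y, hY, rfl⟩
      · exact absurd ha List.not_mem_nil) chk_prog
  rw [← top_le_iff, ← LieClassical.SLGen.closure_transvections, Subgroup.closure_le]
  rintro _ ⟨i, j, hij, c, rfl⟩
  obtain ⟨x, hx, hxe⟩ := lE_mem i j hij
  obtain ⟨g, hg, hgx⟩ := h1 x hx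
  rw [hxe, mt_lE i j hij] at hgx
  have h2 : SpecialLinearGroup.transvection hij c = g ^ c.val := by
    have h3 : ∀ n : ℕ, ((g ^ n : SpecialLinearGroup (Fin 4) (ZMod 3)) : Matrix (Fin 4) (Fin 4) (ZMod 3)) =
        Matrix.transvection i j (n : ZMod 3) := by
      intro n
      induction n with
      | zero =>
        rw [pow_zero, Nat.cast_zero, Matrix.transvection_zero]
        rfl
      | succ n ih =>
        rw [pow_succ]
        change ((g ^ n : SpecialLinearGroup (Fin 4) (ZMod 3)) : Matrix (Fin 4) (Fin 4) (ZMod 3)) * (g : Matrix _ _ _) = _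
        rw [ih, hgx, Matrix.transvection_mul_transvection_same _ _ hij]
        push_cast
        rfl
    apply Subtype.ext
    rw [h3, ZMod.natCast_val, ZMod.cast_id]
    rfl
  rw [h2]
  exact pow_mem hg _

/-- **`PSL(4, 3)` is a `(2, 5, 5)`-group.** -/
theorem exists_gen : ∃ x y : ProjectiveSpecialLinearGroup (Fin 4) (ZMod 3), orderOf x = 5 ∧ orderOf y = 5 ∧
    (x * y) ^ 2 = 1 ∧ Subgroup.closure {x, y} = ⊤ := by
  let f : SpecialLinearGroup (Fin 4) (ZMod 3) →* ProjectiveSpecialLinearGroup (Fin 4) (ZMod 3) := QuotientGroup.mk' _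
  have hfs : Function.Surjective f := QuotientGroup.mk'_surjective _
  have hne : ∀ (g : SpecialLinearGroup (Fin 4) (ZMod 3)) (i j : Fin 4), i ≠ j → g i j ≠ 0 → f g ≠ 1 := by
    intro g i j hij hg h
    have h1 : g ∈ Subgroup.center (SpecialLinearGroup (Fin 4) (ZMod 3)) := (QuotientGroup.eq_one_iff _).1 h
    rw [Matrix.SpecialLinearGroup.mem_center_iff] at h1
    obtain ⟨r, -, hr⟩ := h1
    apply hg
    have h2 : (g : Matrix (Fin 4) (Fin 4) (ZMod 3)) i j = 0 := by
      rw [← hr, Matrix.scalar_apply, Matrix.diagonal_apply_ne _ hij]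
    exact h2
  have : Fact (Nat.Prime 5) := ⟨by norm_num⟩
  refine ⟨f X, f Y, ?_, ?_, ?_, ?_⟩
  · apply orderOf_eq_prime
    · rw [← map_pow, X_pow, map_one]
    · exact hne X 0 1 (by decide) X_ne
  · apply orderOf_eq_prime
    · rw [← map_pow, Y_pow, map_one]
    · exact hne Y 0 3 (by decide) Y_ne
  · rw [← map_mul, ← map_pow, XY_sq, map_one]
  · have h1 : ({f X, f Y} : Set (ProjectiveSpecialLinearGroup (Fin 4) (ZMod 3))) = f '' {X, Y} := by
      rw [Set.image_pair]
    rw [h1, ← MonoidHom.map_closure, closure_XY]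
    exact Subgroup.map_top_of_surjective f hfs

end Cfsg.Agent.H943.E7V.L43
end

-- part: H943/E7V/Rows
section
/-!
# Rows of S5935: `PSL(2, 19)`, `PSL(4, 3)`
-/

set_option autoImplicit false
set_option linter.unusedSectionVars false

namespace Cfsg.Agent.H943.E7V.Rows

open Cfsg Cfsg.Lie

section psl

variable {F : Type*} [Field F] [Fintype F]

theorem card_pgl {n : ℕ} (hn : 2 ≤ n) : Nat.card (Matrix.ProjGenLinGroup (Fin n) F) =
    Nat.gcd n (Fintype.card F - 1) * Nat.card (Matrix.ProjectiveSpecialLinearGroup (Fin n) F) := by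
  classical
  have : NeZero n := ⟨by omega⟩
  have h1 := Cfsg.Agent.S0243.result (F := F) rfl n hn
  have h2 : Nat.card (Matrix.ProjGenLinGroup (Fin n) F) * (Fintype.card F - 1) = Nat.card (Matrix.GeneralLinearGroup (Fin n) F) :=
    Cfsg.Agent.ClassicalGeometry.PSL2Basic.card_PGL_mul (Fin n) F
  rw [Matrix.card_GL_field, ← h1] at h2
  have h3 : 0 < Fintype.card F - 1 := by
    have := Fintype.one_lt_card (α := F)
    omega
  have h4 : Nat.card (Matrix.ProjGenLinGroup (Fin n) F) * (Fintype.card F - 1) =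
    (Nat.gcd n (Fintype.card F - 1) * Nat.card (Matrix.ProjectiveSpecialLinearGroup (Fin n) F)) * (Fintype.card F - 1) := by
    rw [h2]; ring
  exact Nat.eq_of_mul_eq_mul_right h3 h4

theorem finite_psl (n : ℕ) : Finite (Matrix.ProjectiveSpecialLinearGroup (Fin n) F) := by
  unfold Matrix.ProjectiveSpecialLinearGroup
  infer_instance

/-- the order of the automorphism group -/
theorem card_aut {p f n : ℕ} (hp : p.Prime) (hf : 1 ≤ f) (hF : Fintype.card F = p ^ f) (hn : 2 ≤ n)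
    (h2 : n = 2 → 4 ≤ p ^ f) : Nat.card (MulAut (Matrix.ProjectiveSpecialLinearGroup (Fin n) F)) =
      Nat.card (Matrix.ProjectiveSpecialLinearGroup (Fin n) F) * ((if n = 2 then 1 else 2) * f * Nat.gcd n (p ^ f - 1)) := by
  have := Fact.mk hp
  rw [S0813.result p f hf hF n hn h2, card_pgl hn, hF]
  ring

end psl

theorem not_comm {S : Type*} [Group S] [Finite S] [IsSimpleGroup S] (h : ¬ (Nat.card S).Prime) :
    ¬ IsMulCommutative S := by
  intro hc
  let _ : CommGroup S := { (inferInstance : Group S) with mul_comm := hc.is_comm.comm }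
  exact h (IsSimpleGroup.prime_card (α := S))

theorem simple_two {F : Type*} [Field F] [Fintype F] (h4 : 4 ≤ Fintype.card F) :
    IsSimpleGroup (Matrix.ProjectiveSpecialLinearGroup (Fin 2) F) := by
  rw [← Nat.card_eq_fintype_card] at h4
  exact Matrix.ProjectiveSpecialLinearGroup.rank_two_simple h4

/-- **No maximal subgroup of `E₇(2)` has `F* ≅ PSL(4, 3)`.** -/
theorem no_psl43 (H : Subgroup ↥(chevE7.group (ZMod 2))) (hH : IsCoatom H)
    (e : ↥(generalizedFittingSubgroup ↥H) ≃* Matrix.ProjectiveSpecialLinearGroup (Fin 4) (ZMod 3)) : False := by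
  have := finite_psl (F := ZMod 3) 4
  have := S0249.result (F := ZMod 3) 4 (by norm_num)
  have hF : Fintype.card (ZMod 3) = 3 := ZMod.card 3
  have hc : Nat.card (Matrix.ProjectiveSpecialLinearGroup (Fin 4) (ZMod 3)) = 6065280 := by
    have h := S0243.result (F := ZMod 3) hF 4 (by norm_num)
    rw [Fin.prod_univ_four] at h
    generalize Nat.card (Matrix.ProjectiveSpecialLinearGroup (Fin 4) (ZMod 3)) = c at h ⊢
    norm_num at h
    omega
  have ha := card_aut (F := ZMod 3) (n := 4) (p := 3) (f := 1) (by norm_num) le_rfl (by rw [hF, pow_one]) (by norm_num)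
    (by norm_num)
  have ha' : Nat.card (MulAut (Matrix.ProjectiveSpecialLinearGroup (Fin 4) (ZMod 3))) =
      Nat.card (Matrix.ProjectiveSpecialLinearGroup (Fin 4) (ZMod 3)) * 4 := ha.trans (congrArg _ (by norm_num))
  have hA := Max.admF_two (S := Matrix.ProjectiveSpecialLinearGroup (Fin 4) (ZMod 3)) (m := 4) (k := 2)
    (not_comm (by rw [hc]; norm_num)) ha' (by norm_num) (by rw [hc]; norm_num) H hH e
  obtain ⟨x, y, hx, hy, hz, hcl⟩ := L43.exists_gen
  exact Scott.not_255 hA hx hy hz hcl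

end Cfsg.Agent.H943.E7V.Rows
end

private theorem dce_ec7fd0f8faf6 : _root_.True := by
  try have : _root_.True := by simp only [_root_.Cfsg.Agent.H943.E7V.L43.chk.eq_2]
  try have : _root_.True := by simp only [_root_.Cfsg.Agent.H943.E7V.L43.chk.eq_1]
  try have : _root_.True := by simp only [_root_.Cfsg.Agent.H943.E7V.L43.mt.eq_1]
  try have : _root_.True := by simp only [_root_.Cfsg.Agent.H943.E7V.L43.chk.eq_def]
  try have : _root_.True := by simp only [_root_.Cfsg.Agent.H943.E7V.L43.mulE.eq_1]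
  exact _root_.True.intro
end

-- part: H943/E7V/L27
section
prune_inst 0x4200001300000000000000000000000090000020000000000400002000100004000000002202010008080040030000000000010004000000400000001180080000002001000a000000000000004010000000000000000000000000000000000004010000
set_option linter.all false
open scoped Cfsg.Agent.FastGrp

-- part: H943/E7V/L27M
section
/-!
# A module for `SL(2, 27)` in characteristic 2 (S5935): fixed vectors or fixed functionals
-/

set_option autoImplicit false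
set_option linter.unusedSectionVars false

namespace Cfsg.Agent.H943.E7V.L27M

open Module Cfsg.Agent.H943.SL2Rel

variable {k : Type*} [Field k] [CharP k 2] {V : Type*} [AddCommGroup V] [Module k V] [FiniteDimensional k V]
  {F : Type*} [Field F] [Fintype F] [DecidableEq F]
  (τ : Representation k (Matrix.SpecialLinearGroup (Fin 2) F) V)

/-- the vectors fixed by the root group -/
def XX : Submodule k V where
  carrier := {v | ∀ t : F, τ (u t) v = v}
  zero_mem' t := map_zero _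
  add_mem' {a b} ha hb t := by rw [map_add, ha t, hb t]
  smul_mem' c v hv t := by rw [map_smul, hv t]

/-- the vectors fixed by the torus -/
def WW : Submodule k V where
  carrier := {v | ∀ a : Fˣ, τ (h a) v = v}
  zero_mem' t := map_zero _
  add_mem' {a b} ha hb t := by rw [map_add, ha t, hb t]
  smul_mem' c v hv t := by rw [map_smul, hv t]

/-- the sum over the root group -/
noncomputable def PP : End k V := ∑ t : F, τ (u t)

variable {τ}

theorem PP_apply (v : V) : PP τ v = ∑ t : F, τ (u t) v := by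
  rw [PP, LinearMap.sum_apply]

theorem u_PP (s : F) (v : V) : τ (u s) (PP τ v) = PP τ v := by
  rw [PP_apply, map_sum]
  refine Fintype.sum_equiv (Equiv.addLeft s) _ _ fun t => ?_
  rw [Equiv.coe_addLeft, u_add, map_mul, End.mul_apply]

theorem PP_u (s : F) (v : V) : PP τ (τ (u s) v) = PP τ v := by
  rw [PP_apply, PP_apply]
  refine Fintype.sum_equiv (Equiv.addRight s) _ _ fun t => ?_
  rw [Equiv.coe_addRight, u_add, map_mul, End.mul_apply]

theorem PP_mem (v : V) : PP τ v ∈ XX τ := fun s => u_PP s v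

theorem add_self (k : Type*) [Field k] [CharP k 2] {V : Type*} [AddCommGroup V] [Module k V] (v : V) : v + v = 0 := by
  have h5 : ((2 : ℕ) : k) • v = 0 := by rw [CharP.cast_eq_zero k 2, zero_smul]
  rw [Nat.cast_smul_eq_nsmul, two_nsmul] at h5
  exact h5

theorem odd_nsmul (k : Type*) [Field k] [CharP k 2] {V : Type*} [AddCommGroup V] [Module k V] {n : ℕ} (hn : Odd n)
    (v : V) : n • v = v := by
  obtain ⟨m, rfl⟩ := hn
  rw [add_nsmul, two_mul, add_nsmul, one_nsmul, add_self k, zero_add]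

theorem PP_of_mem (hF : Odd (Fintype.card F)) {v : V} (hv : v ∈ XX τ) : PP τ v = v := by
  rw [PP_apply, Finset.sum_congr rfl fun t _ => hv t, Finset.sum_const, Finset.card_univ]
  exact odd_nsmul k hF v

theorem PP_h (hXW : XX τ ≤ WW τ) (a : Fˣ) (v : V) : PP τ (τ (h a) v) = PP τ v := by
  have h1 : PP τ (τ (h a) v) = τ (h a) (PP τ v) := by
    rw [PP_apply, PP_apply, map_sum]
    have ha : (a : F) ^ 2 ≠ 0 := pow_ne_zero _ a.ne_zero
    symm
    refine Fintype.sum_bijective (fun t => (a : F) ^ 2 * t) (mulLeft_bijective₀ _ ha) _ _ fun t => ?_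
    rw [← End.mul_apply, ← End.mul_apply, ← map_mul, ← map_mul, h_u]
  rw [h1]
  exact hXW (PP_mem v) a

theorem fix_all {v : V} (hX : v ∈ XX τ) (hW : v ∈ WW τ) (hw : τ w v = v) (g : Matrix.SpecialLinearGroup (Fin 2) F) :
    τ g v = v := by
  refine induct (P := fun g => τ g v = v) hX hW hw ?_ g
  intro a b ha hb
  rw [map_mul, End.mul_apply, hb, ha]

theorem fun_all {f : Dual k V} (hX : ∀ t, f ∘ₗ τ (u t) = f) (hW : ∀ a, f ∘ₗ τ (h a) = f) (hw : f ∘ₗ τ w = f)
    (g : Matrix.SpecialLinearGroup (Fin 2) F) : f ∘ₗ τ g = f := by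
  refine induct (P := fun g => f ∘ₗ τ g = f) hX hW hw ?_ g
  intro a b ha hb
  rw [map_mul, End.mul_eq_comp, ← LinearMap.comp_assoc, ha, hb]

/-- the sum over the cosets of the Borel subgroup -/
theorem w_key (hXW : XX τ ≤ WW τ) (hc : τ (h (-1)) = 1) {v : V} (hv : v ∈ XX τ) :
    τ w (v + PP τ (τ w v)) = v + PP τ (τ w v) := by
  have h1 : τ w (PP τ (τ w v)) = v + (PP τ (τ w v) - τ w v) := by
    have h2 : τ w (PP τ (τ w v)) = ∑ t : F, τ (w * u t * w) v := by
      rw [PP_apply, map_sum]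
      refine Finset.sum_congr rfl fun t _ => ?_
      rw [map_mul, map_mul]
      rfl
    rw [h2, ← Finset.add_sum_erase _ _ (Finset.mem_univ (0 : F))]
    congr 1
    · rw [u_zero, mul_one, w_w, hc]; rfl
    · have h3 : PP τ (τ w v) = τ (u 0) (τ w v) + ∑ t ∈ Finset.univ.erase (0 : F), τ (u t) (τ w v) := by
        rw [PP_apply]
        exact (Finset.add_sum_erase Finset.univ (fun t : F => τ (u t) (τ w v)) (Finset.mem_univ 0)).symm
      rw [h3, u_zero, map_one, End.one_apply, add_sub_cancel_left]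
      refine Finset.sum_bij' (fun t _ => -t⁻¹) (fun t _ => -t⁻¹) ?_ ?_ ?_ ?_ ?_
      · intro t ht
        rw [Finset.mem_erase] at ht ⊢
        exact ⟨neg_ne_zero.2 (inv_ne_zero ht.1), Finset.mem_univ _⟩
      · intro t ht
        rw [Finset.mem_erase] at ht ⊢
        exact ⟨neg_ne_zero.2 (inv_ne_zero ht.1), Finset.mem_univ _⟩
      · intro t ht
        rw [inv_neg, neg_neg, inv_inv]
      · intro t ht
        rw [inv_neg, neg_neg, inv_inv]
      · intro t ht
        rw [Finset.mem_erase] at ht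
        rw [w_u_w t ht.1, map_mul, End.mul_apply, hv, mul_assoc, h_w, map_mul, map_mul, End.mul_apply, End.mul_apply,
          hXW hv]
  rw [map_add, h1]
  abel

theorem PP_w (hF : Odd (Fintype.card F)) (hXW : XX τ ≤ WW τ) (hc : τ (h (-1)) = 1)
    (hv : ∀ v, (∀ s, τ s v = v) → v = 0) {v : V} (hvX : v ∈ XX τ) : PP τ (τ w v) = v := by
  have h1 : v + PP τ (τ w v) ∈ XX τ := add_mem hvX (PP_mem _)
  have h2 := hv _ (fix_all h1 (hXW h1) (w_key hXW hc hvX))
  have h3 := add_self k v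
  exact (add_left_cancel (h3.trans h2.symm)).symm

theorem w_mem {v : V} (hvW : v ∈ WW τ) : τ w v ∈ WW τ := by
  intro a
  rw [← End.mul_apply, ← map_mul, h_w, map_mul, End.mul_apply, hvW]

/-- **No such module without fixed vectors and functionals.** -/
theorem main (hF : Fintype.card F = 27) (hc : τ (h (-1)) = 1) (hX : finrank k (XX τ) = 4)
    (hXW : XX τ ≤ WW τ) (hW : finrank k (WW τ) = 8) (hv : ∀ v, (∀ s, τ s v = v) → v = 0)
    (hf : ∀ f : Dual k V, (∀ s, f ∘ₗ τ s = f) → f = 0) : False := by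
  have hodd : Odd (Fintype.card F) := by rw [hF]; decide
  -- the map `y`
  have hy : ∀ v ∈ XX τ, τ w v - v ∈ WW τ ∧ PP τ (τ w v - v) = 0 := by
    intro v hvX
    refine ⟨sub_mem (w_mem (hXW hvX)) (hXW hvX), ?_⟩
    rw [map_sub, PP_w hodd hXW hc hv hvX, PP_of_mem hodd hvX, sub_self]
  let p : WW τ →ₗ[k] V := (PP τ) ∘ₗ (WW τ).subtype
  have hp : LinearMap.range p = XX τ := by
    apply le_antisymm
    · rintro _ ⟨v, rfl⟩
      exact PP_mem _
    · intro v hvX
      exact ⟨⟨v, hXW hvX⟩, PP_of_mem hodd hvX⟩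
  have hker : finrank k (LinearMap.ker p) = 4 := by
    have := LinearMap.finrank_range_add_finrank_ker p
    rw [hp, hX, hW] at this
    omega
  let y : XX τ →ₗ[k] LinearMap.ker p :=
    { toFun := fun v => ⟨⟨τ w v - v, (hy v v.2).1⟩, (hy v v.2).2⟩
      map_add' := fun a b => by
        apply Subtype.ext
        apply Subtype.ext
        show τ w ((a : V) + b) - ((a : V) + b) = (τ w a - a) + (τ w b - b)
        rw [map_add]
        abel
      map_smul' := fun c a => by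
        apply Subtype.ext
        apply Subtype.ext
        show τ w (c • (a : V)) - (c • (a : V)) = c • (τ w a - a)
        rw [map_smul, smul_sub] }
  have hyi : Function.Injective y := by
    rw [← LinearMap.ker_eq_bot, LinearMap.ker_eq_bot']
    intro v hv0
    have h1 : τ w v - v = 0 := congrArg (fun z : LinearMap.ker p => ((z : WW τ) : V)) hv0
    exact Subtype.ext (hv v (fix_all v.2 (hXW v.2) (sub_eq_zero.1 h1)))
  have hys : Function.Surjective y :=
    (LinearMap.injective_iff_surjective_of_finrank_eq_finrank (by rw [hX, hker])).1 hyi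
  -- `w` is trivial on the kernel
  have hwk : ∀ v ∈ WW τ, PP τ v = 0 → τ w v = v := by
    intro v hvW hvP
    obtain ⟨x, hx⟩ := hys ⟨⟨v, hvW⟩, hvP⟩
    have h1 : τ w x - x = v := congrArg (fun z : LinearMap.ker p => ((z : WW τ) : V)) hx
    rw [← h1, map_sub, ← End.mul_apply, ← map_mul, w_w, hc, End.one_apply]
    have h2 := add_self k (τ w (x : V) - x)
    have h3 : (x : V) - τ w x = -(τ w (x : V) - x) := by abel
    rw [h3]
    exact neg_eq_of_add_eq_zero_left h2
  -- a functional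
  have hne : ∃ x : V, x ∈ XX τ ∧ x ≠ 0 := by
    have : Nontrivial (XX τ) := Module.nontrivial_of_finrank_pos (R := k) (by rw [hX]; norm_num)
    obtain ⟨x, hx⟩ := exists_ne (0 : XX τ)
    exact ⟨x, x.2, fun h => hx (Subtype.ext h)⟩
  obtain ⟨x, hxX, hx0⟩ := hne
  have h1 : ∃ l : Dual k V, l x ≠ 0 := by
    by_contra hcon
    push Not at hcon
    exact hx0 ((Module.forall_dual_apply_eq_zero_iff k x).1 hcon)
  obtain ⟨l, hl⟩ := h1
  have hu : ∀ t : F, (l ∘ₗ PP τ) ∘ₗ τ (u t) = l ∘ₗ PP τ := fun t => LinearMap.ext fun v => congrArg l (PP_u t v)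
  have hh : ∀ a : Fˣ, (l ∘ₗ PP τ) ∘ₗ τ (h a) = l ∘ₗ PP τ := fun a => LinearMap.ext fun v => congrArg l (PP_h hXW a v)
  have hwW : ∀ v ∈ WW τ, l (PP τ (τ w v)) = l (PP τ v) := by
    intro v hvW
    have h2 : v = PP τ v + (v - PP τ v) := by abel
    have h3 : PP τ (v - PP τ v) = 0 := by
      rw [map_sub, PP_of_mem hodd (PP_mem v), sub_self]
    have h4 : τ w (v - PP τ v) = v - PP τ v := hwk _ (sub_mem hvW (hXW (PP_mem v))) h3
    conv_lhs => rw [h2]
    rw [map_add, h4, map_add, PP_w hodd hXW hc hv (PP_mem v), h3, add_zero]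
  obtain ⟨ζ, hζ⟩ := IsCyclic.exists_generator (α := Fˣ)
  have hζ26 : ζ ^ 26 = 1 := by
    have h2 : Fintype.card Fˣ = 26 := by rw [Fintype.card_units, hF]
    rw [← h2, pow_card_eq_one]
  have hζ13 : ζ ^ 13 = -1 := by
    have h2 : (ζ ^ 13) ^ 2 = 1 := by rw [← pow_mul]; exact hζ26
    have h3 : ((ζ ^ 13 : Fˣ) : F) * ((ζ ^ 13 : Fˣ) : F) = 1 := by rw [← Units.val_mul, ← pow_two, h2, Units.val_one]
    rcases mul_self_eq_one_iff.1 h3 with h4 | h4
    · exfalso
      have h5 : ζ ^ 13 = 1 := Units.ext h4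
      have h6 := orderOf_dvd_of_pow_eq_one h5
      rw [orderOf_eq_card_of_forall_mem_zpowers hζ, Nat.card_eq_fintype_card, Fintype.card_units, hF] at h6
      norm_num at h6
    · exact Units.ext (by rw [h4]; simp)
  have hNW : ∀ v, ∑ j ∈ Finset.range 13, τ (h (ζ ^ j)) v ∈ WW τ := by
    intro v
    have h2 : τ (h ζ) (∑ j ∈ Finset.range 13, τ (h (ζ ^ j)) v) = ∑ j ∈ Finset.range 13, τ (h (ζ ^ j)) v := by
      rw [map_sum]
      have h3 : ∀ j, τ (h ζ) (τ (h (ζ ^ j)) v) = τ (h (ζ ^ (j + 1))) v := by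
        intro j
        rw [← End.mul_apply, ← map_mul, ← h_mul, ← pow_succ']
      rw [Finset.sum_congr rfl fun j _ => h3 j]
      have h4 := Finset.sum_range_succ (fun j => τ (h (ζ ^ j)) v) 13
      have h5 := Finset.sum_range_succ' (fun j => τ (h (ζ ^ j)) v) 13
      rw [h4] at h5
      rw [hζ13, hc, pow_zero, h_one, map_one] at h5
      exact (add_right_cancel h5).symm
    have h6 : ∀ n : ℕ, τ (h (ζ ^ n)) (∑ j ∈ Finset.range 13, τ (h (ζ ^ j)) v) =
        ∑ j ∈ Finset.range 13, τ (h (ζ ^ j)) v := by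
      intro n
      induction n with
      | zero => rw [pow_zero, h_one, map_one, End.one_apply]
      | succ n ih =>
        rw [pow_succ, h_mul, map_mul, End.mul_apply, h2, ih]
    intro a
    obtain ⟨n, rfl⟩ := (isOfFinOrder_of_finite ζ).mem_powers_iff_mem_zpowers.2 (hζ a)
    exact h6 n
  have hww : (l ∘ₗ PP τ) ∘ₗ τ w = l ∘ₗ PP τ := by
    refine LinearMap.ext fun v => ?_
    have h2 : ∀ v, l (PP τ (∑ j ∈ Finset.range 13, τ (h (ζ ^ j)) v)) = l (PP τ v) := by
      intro v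
      rw [map_sum, map_sum, Finset.sum_congr rfl fun j _ => congrArg l (PP_h hXW (ζ ^ j) v), Finset.sum_const,
        Finset.card_range]
      exact odd_nsmul k (by decide) _
    have h3 : ∀ v, τ w (∑ j ∈ Finset.range 13, τ (h (ζ ^ j)) v) =
        ∑ j ∈ Finset.range 13, τ (h (ζ⁻¹ ^ j)) (τ w v) := by
      intro v
      rw [map_sum]
      refine Finset.sum_congr rfl fun j _ => ?_
      rw [← End.mul_apply, ← End.mul_apply, ← map_mul, ← map_mul, h_w, inv_pow, inv_inv]
    have h4 : ∀ v, l (PP τ (∑ j ∈ Finset.range 13, τ (h (ζ⁻¹ ^ j)) v)) = l (PP τ v) := by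
      intro v
      rw [map_sum, map_sum, Finset.sum_congr rfl fun j _ => congrArg l (PP_h hXW (ζ⁻¹ ^ j) v), Finset.sum_const,
        Finset.card_range]
      exact odd_nsmul k (by decide) _
    show l (PP τ (τ w v)) = l (PP τ v)
    rw [← h4 (τ w v), ← h3, hwW _ (hNW v), h2]
  have h2 := hf (l ∘ₗ PP τ) (fun_all hu hh hww)
  have h3 : l (PP τ x) = 0 := LinearMap.congr_fun h2 x
  rw [PP_of_mem hodd hxX] at h3
  exact hl h3

end Cfsg.Agent.H943.E7V.L27M
end

-- part: H943/E7V/L27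
section
/-!
# Row of S5935: `PSL(2, 27)`
-/

set_option autoImplicit false
set_option linter.unusedSectionVars false

namespace Cfsg.Agent.H943.E7V.L27

open Cfsg IsLocalRing Module Cfsg.Agent.H657 Cfsg.Agent.H943.SL2Rel Cfsg.Agent.H943.E7V.L27M
  Cfsg.Agent.H943.E7V.Scott

section elts

variable {F : Type*} [Field F] [Fintype F]

/-- the projection -/
def q (F : Type*) [Field F] : Matrix.SpecialLinearGroup (Fin 2) F →* Matrix.ProjectiveSpecialLinearGroup (Fin 2) F :=
  QuotientGroup.mk' _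

theorem q_eq_one {g : Matrix.SpecialLinearGroup (Fin 2) F} :
    q F g = 1 ↔ g ∈ Subgroup.center (Matrix.SpecialLinearGroup (Fin 2) F) := QuotientGroup.eq_one_iff g

theorem q_h_neg_one : q F (h (-1)) = 1 := q_eq_one.2 (PSLHom.h_mem_center.2 (by simp))

theorem three_zero (hF : Fintype.card F = 27) : (3 : F) = 0 := by
  have h1 : ((Fintype.card F : ℕ) : F) = 0 := Nat.cast_card_eq_zero F
  rw [hF] at h1
  have h2 : (3 : F) ^ 3 = 0 := by
    have : ((27 : ℕ) : F) = (3 : F) ^ 3 := by push_cast; norm_num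
    rw [← this]; exact h1
  exact pow_eq_zero_iff (by norm_num) |>.1 h2

/-- entries of central elements -/
theorem center_entries {g : Matrix.SpecialLinearGroup (Fin 2) F}
    (hg : g ∈ Subgroup.center (Matrix.SpecialLinearGroup (Fin 2) F)) : g.1 0 1 = 0 ∧ g.1 0 0 = g.1 1 1 := by
  rw [Matrix.SpecialLinearGroup.mem_center_iff] at hg
  obtain ⟨r, -, hr⟩ := hg
  rw [← hr]
  simp [Matrix.scalar_apply]

theorem order_u (hF : Fintype.card F = 27) {t : F} (ht : t ≠ 0) : orderOf (q F (u t)) = 3 := by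
  have : Fact (Nat.Prime 3) := ⟨by norm_num⟩
  apply orderOf_eq_prime
  · have h1 : u t ^ 3 = 1 := by
      rw [pow_succ, pow_two, ← u_add, ← u_add, ← u_zero]
      congr 1
      have := three_zero hF
      linear_combination t * this
    rw [← map_pow, h1, map_one]
  · intro h1
    have h2 := (center_entries (q_eq_one.1 h1)).1
    exact ht (by simpa [u] using h2)

theorem pow_13 (hF : Fintype.card F = 27) {t : F} (ht : t ≠ 0) : t ^ 13 = 1 ∨ t ^ 13 = -1 := by
  have h1 : t ^ 26 = 1 := by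
    have := FiniteField.pow_card_sub_one_eq_one t ht
    rwa [hF] at this
  have h2 : t ^ 13 * t ^ 13 = 1 := by rw [← pow_add]; exact h1
  exact mul_self_eq_one_iff.1 h2

theorem order_h (hF : Fintype.card F = 27) {a : Fˣ} (ha : a ^ 2 ≠ 1) : orderOf (q F (h a)) = 13 := by
  have : Fact (Nat.Prime 13) := ⟨by norm_num⟩
  apply orderOf_eq_prime
  · rw [← map_pow, ← h_pow]
    have h1 : a ^ 13 = 1 ∨ a ^ 13 = -1 := by
      rcases pow_13 hF a.ne_zero with h1 | h1
      · left; exact Units.ext (by simpa using h1)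
      · right; exact Units.ext (by simpa using h1)
    rcases h1 with h1 | h1
    · rw [h1, h_one, map_one]
    · rw [h1, q_h_neg_one]
  · intro h1
    exact ha (PSLHom.h_mem_center.1 (q_eq_one.1 h1))

end elts

variable {F : Type*} [Field F] [Fintype F] [DecidableEq F] {M : Ideal AlgInt} {V : ValuationSubring ℂ}
  {σ : Representation (ResidueField V) (Matrix.ProjectiveSpecialLinearGroup (Fin 2) F) (Fin 56 → ResidueField V)}

theorem h_u_h (a : Fˣ) (t : F) : h a * u t * (h a)⁻¹ = u ((a : F) ^ 2 * t) := by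
  rw [h_u, mul_assoc, mul_inv_cancel, mul_one]

theorem bc_u (hF : Fintype.card F = 27) (H : Vals σ) {t : F} (ht : t ≠ 0) :
    bc 2 σ (q F (u t)) = bc 2 σ (q F (u 1)) := by
  have key : ∀ s : F, s ≠ 0 → bc 2 σ (q F (u (s ^ 2))) = bc 2 σ (q F (u 1)) := by
    intro s hs
    have h1 := h_u_h (Units.mk0 s hs) 1
    rw [Units.val_mk0, mul_one] at h1
    rw [← h1, map_mul, map_mul, map_inv]
    exact bc_conj 2 σ _ _
  rcases pow_13 hF ht with h1 | h1
  · have h2 : t = (t ^ 7) ^ 2 := by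
      rw [← pow_mul]
      calc t = t ^ 13 * t := by rw [h1, one_mul]
        _ = t ^ (7 * 2) := by ring
    rw [h2]
    exact key _ (pow_ne_zero _ ht)
  · have h2 : t = -((t ^ 7) ^ 2) := by
      rw [← pow_mul]
      calc t = -(t ^ 13 * t) := by rw [h1, neg_one_mul, neg_neg]
        _ = -(t ^ (7 * 2)) := by ring
    rw [h2, u_neg, map_inv, H.three_inv _ (order_u hF (pow_ne_zero _ (pow_ne_zero _ ht)))]
    exact key _ (pow_ne_zero _ ht)

/-- the root group -/
def phi (F : Type*) [Field F] : Multiplicative F →* Matrix.ProjectiveSpecialLinearGroup (Fin 2) F where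
  toFun t := q F (u t.toAdd)
  map_one' := by rw [toAdd_one, u_zero, map_one]
  map_mul' a b := by rw [toAdd_mul, u_add, map_mul]

theorem value_u (hM : IsPModular 2 M) (hV : Above M V) (hF : Fintype.card F = 27) (H : Vals σ) :
    bc 2 σ (q F (u 1)) = 2 ∧ finrank (ResidueField V) (XX (σ.comp (q F))) = 4 := by
  have h1 := H597.BrInv.C hM hV (P := Multiplicative F) (by
    rw [Fintype.card_multiplicative, hF]; decide) (σ.comp (phi F))
  have h2 : Representation.invariants (σ.comp (phi F)) = XX (σ.comp (q F)) := by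
    ext v
    rw [Representation.mem_invariants]
    exact Iff.rfl
  rw [h2, Fintype.card_multiplicative, hF] at h1
  have h3 : ∑ g : Multiplicative F, bc 2 (σ.comp (phi F)) g = ∑ t : F, bc 2 σ (q F (u t)) :=
    Fintype.sum_equiv Multiplicative.toAdd _ _ fun t => rfl
  rw [h3, ← Finset.add_sum_erase _ _ (Finset.mem_univ (0 : F)), u_zero, map_one, H.one,
    Finset.sum_congr rfl fun t ht => bc_u hF H (Finset.ne_of_mem_erase ht), Finset.sum_const,
    Finset.card_erase_of_mem (Finset.mem_univ _), Finset.card_univ, hF, nsmul_eq_mul] at h1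
  have key : ∀ z : ℤ, bc 2 σ (q F (u 1)) = z → (z = 2 ∨ z = 20 ∨ z = -7 ∨ z = -25) →
      z = 2 ∧ finrank (ResidueField V) (XX (σ.comp (q F))) = 4 := by
    intro z hz hz'
    rw [hz] at h1
    have h4 : (56 : ℤ) + 26 * z = 27 * (finrank (ResidueField V) (XX (σ.comp (q F))) : ℤ) := by
      exact_mod_cast h1
    omega
  rcases H.three _ (order_u hF one_ne_zero) with h4 | h4 | h4 | h4
  · exact ⟨h4, (key 2 (by rw [h4]; norm_num) (by omega)).2⟩
  · exact absurd (key 20 (by rw [h4]; norm_num) (by omega)).1 (by norm_num)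
  · exact absurd (key (-7) (by rw [h4]; norm_num) (by omega)).1 (by norm_num)
  · exact absurd (key (-25) (by rw [h4]; norm_num) (by omega)).1 (by norm_num)

theorem bc_hu (hF : Fintype.card F = 27) (H : Vals σ) {a : Fˣ} (ha : a ^ 2 ≠ 1) (t : F) :
    bc 2 σ (q F (h a * u t)) = 4 := by
  have ha0 : (a : F) ≠ 0 := a.ne_zero
  have ha2 : (a : F) ^ 2 ≠ 1 := fun h => ha (Units.ext (by simpa using h))
  have h0 : 1 - (a : F) ^ 2 ≠ 0 := sub_ne_zero.2 (Ne.symm ha2)
  have h1 : h a * u t = u ((a : F) ^ 2 * t / (1 - (a : F) ^ 2)) * h a * (u ((a : F) ^ 2 * t / (1 - (a : F) ^ 2)))⁻¹ := by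
    rw [← u_neg, mul_assoc, h_u, h_u, ← mul_assoc, ← u_add]
    congr 2
    field_simp
    ring
  rw [h1, map_mul, map_mul, map_inv, bc_conj]
  exact H.thirteen _ (order_h hF ha)

/-- the Borel subgroup -/
def BB (F : Type*) [Field F] : Subgroup (Matrix.ProjectiveSpecialLinearGroup (Fin 2) F) where
  carrier := {x | ∃ (a : Fˣ) (t : F), x = q F (h a * u t)}
  one_mem' := ⟨1, 0, by rw [h_one, u_zero, mul_one, map_one]⟩
  mul_mem' := by
    rintro _ _ ⟨a, t, rfl⟩ ⟨b, s, rfl⟩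
    refine ⟨a * b, (b : F)⁻¹ ^ 2 * t + s, ?_⟩
    rw [← map_mul]
    congr 1
    have h1 : u t * h b = h b * u ((b : F)⁻¹ ^ 2 * t) := by
      rw [h_u]
      congr 2
      have := b.ne_zero
      field_simp
    rw [mul_assoc, ← mul_assoc (u t), h1, h_mul, u_add]
    simp only [mul_assoc]
  inv_mem' := by
    rintro _ ⟨a, t, rfl⟩
    refine ⟨a⁻¹, -((a : F) ^ 2 * t), ?_⟩
    rw [← map_inv, mul_inv_rev, ← u_neg, ← h_inv]
    congr 1
    rw [h_u]
    congr 2
    have := a.ne_zero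
    push_cast
    field_simp

theorem invariants_BB : Representation.invariants (σ.comp (BB F).subtype) =
    XX (σ.comp (q F)) ⊓ WW (σ.comp (q F)) := by
  ext v
  rw [Representation.mem_invariants, Submodule.mem_inf]
  constructor
  · intro hv
    refine ⟨fun t => ?_, fun a => ?_⟩
    · exact hv ⟨q F (u t), 1, t, by rw [h_one, one_mul]⟩
    · exact hv ⟨q F (h a), a, 0, by rw [u_zero, mul_one]⟩
  · rintro ⟨h1, h2⟩ ⟨_, a, t, rfl⟩
    show σ (q F (h a * u t)) v = v
    have h3 : σ (q F (u t)) v = v := h1 t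
    have h4 : σ (q F (h a)) v = v := h2 a
    rw [map_mul, map_mul, End.mul_apply, h3, h4]

/-- the parametrization of the Borel subgroup -/
def par (ζ : Fˣ) (x : Fin 13 × F) : ↥(BB F) := ⟨q F (h (ζ ^ (x.1 : ℕ)) * u x.2), _, _, rfl⟩

theorem sq_ne (hF : Fintype.card F = 27) {ζ : Fˣ} (hζ : ∀ a, a ∈ Subgroup.zpowers ζ) {i j : ℕ} (hi : i < 13)
    (hj : j < 13) (h1 : (ζ ^ i) ^ 2 = (ζ ^ j) ^ 2) : i = j := by
  have ho : orderOf ζ = 26 := by
    rw [orderOf_eq_card_of_forall_mem_zpowers hζ, Nat.card_eq_fintype_card, Fintype.card_units, hF]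
  rw [← pow_mul, ← pow_mul] at h1
  have := pow_injOn_Iio_orderOf (x := ζ) (show i * 2 ∈ Set.Iio (orderOf ζ) by rw [ho, Set.mem_Iio]; omega)
    (show j * 2 ∈ Set.Iio (orderOf ζ) by rw [ho, Set.mem_Iio]; omega) h1
  omega

theorem zeta_13 (hF : Fintype.card F = 27) {ζ : Fˣ} (hζ : ∀ a, a ∈ Subgroup.zpowers ζ) : ζ ^ 13 = -1 := by
  rcases pow_13 hF ζ.ne_zero with h1 | h1
  · exfalso
    have h5 : ζ ^ 13 = 1 := Units.ext (by simpa using h1)
    have h6 := orderOf_dvd_of_pow_eq_one h5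
    rw [orderOf_eq_card_of_forall_mem_zpowers hζ, Nat.card_eq_fintype_card, Fintype.card_units, hF] at h6
    norm_num at h6
  · exact Units.ext (by simpa using h1)

theorem par_bijective (hF : Fintype.card F = 27) {ζ : Fˣ} (hζ : ∀ a, a ∈ Subgroup.zpowers ζ) :
    Function.Bijective (par ζ) := by
  constructor
  · rintro ⟨i, t⟩ ⟨j, s⟩ hij
    have h1 : q F (h (ζ ^ (i : ℕ)) * u t) = q F (h (ζ ^ (j : ℕ)) * u s) := congrArg Subtype.val hij
    have h2 : q F ((h (ζ ^ (i : ℕ)) * u t) * (h (ζ ^ (j : ℕ)) * u s)⁻¹) = 1 := by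
      rw [map_mul, map_inv, h1, mul_inv_cancel]
    obtain ⟨h3, h4⟩ := center_entries (q_eq_one.1 h2)
    have h5 : (h (ζ ^ (i : ℕ)) * u t) * (h (ζ ^ (j : ℕ)) * u s)⁻¹ =
        h (ζ ^ (i : ℕ)) * u (t - s) * h (ζ ^ (j : ℕ))⁻¹ := by
      rw [mul_inv_rev, ← u_neg, ← h_inv, sub_eq_add_neg, u_add]
      simp only [mul_assoc]
    rw [h5] at h3 h4
    have h6 : (h (ζ ^ (i : ℕ)) * u (t - s) * h (ζ ^ (j : ℕ))⁻¹).1 =
        !![((ζ ^ (i : ℕ) : Fˣ) : F) * ((ζ ^ (j : ℕ) : Fˣ) : F)⁻¹, ((ζ ^ (i : ℕ) : Fˣ) : F) * (t - s) * ((ζ ^ (j : ℕ) : Fˣ) : F);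
          0, ((ζ ^ (i : ℕ) : Fˣ) : F)⁻¹ * ((ζ ^ (j : ℕ) : Fˣ) : F)] := by
      show !![((ζ ^ (i : ℕ) : Fˣ) : F), 0; 0, ((ζ ^ (i : ℕ) : Fˣ) : F)⁻¹] * !![1, t - s; 0, 1] *
        !![((((ζ ^ (j : ℕ))⁻¹ : Fˣ)) : F), 0; 0, ((((ζ ^ (j : ℕ))⁻¹ : Fˣ)) : F)⁻¹] = _
      rw [Matrix.mul_fin_two, Matrix.mul_fin_two]
      simp
    rw [h6] at h3 h4
    have hi0 : ((ζ ^ (i : ℕ) : Fˣ) : F) ≠ 0 := Units.ne_zero _
    have hj0 : ((ζ ^ (j : ℕ) : Fˣ) : F) ≠ 0 := Units.ne_zero _
    have h7 : t = s := by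
      have h8 : ((ζ ^ (i : ℕ) : Fˣ) : F) * (t - s) * ((ζ ^ (j : ℕ) : Fˣ) : F) = 0 := h3
      rcases mul_eq_zero.1 h8 with h8 | h8
      · rcases mul_eq_zero.1 h8 with h8 | h8
        · exact absurd h8 hi0
        · exact sub_eq_zero.1 h8
      · exact absurd h8 hj0
    have h8 : ((ζ ^ (i : ℕ) : Fˣ) : F) * ((ζ ^ (j : ℕ) : Fˣ) : F)⁻¹ = ((ζ ^ (i : ℕ) : Fˣ) : F)⁻¹ * ((ζ ^ (j : ℕ) : Fˣ) : F) := h4
    have h9 : (ζ ^ (i : ℕ)) ^ 2 = (ζ ^ (j : ℕ)) ^ 2 := by
      apply Units.ext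
      rw [Units.val_pow_eq_pow_val (ζ ^ (i : ℕ)) 2, Units.val_pow_eq_pow_val (ζ ^ (j : ℕ)) 2]
      field_simp at h8
      exact h8
    have h10 := sq_ne hF hζ i.2 j.2 h9
    exact Prod.ext (Fin.ext h10) h7
  · rintro ⟨_, a, t, rfl⟩
    obtain ⟨n, hn⟩ := (isOfFinOrder_of_finite ζ).mem_powers_iff_mem_zpowers.2 (hζ a)
    have hn' : ζ ^ n = a := hn
    refine ⟨(⟨n % 13, Nat.mod_lt _ (by norm_num)⟩, t), Subtype.ext ?_⟩
    show q F (h (ζ ^ (n % 13)) * u t) = q F (h a * u t)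
    rw [map_mul, map_mul]
    congr 1
    have h1 : ∀ m : ℕ, q F (h ((-1 : Fˣ) ^ m)) = 1 := by
      intro m
      rw [h_pow, map_pow, q_h_neg_one, one_pow]
    rw [← hn', ← Nat.div_add_mod n 13, pow_add, pow_mul, zeta_13 hF hζ, h_mul, map_mul, h1, one_mul, Nat.add_mod,
      Nat.mul_mod_right, zero_add, Nat.mod_mod, Nat.mod_mod]

theorem le_WW (hM : IsPModular 2 M) (hV : Above M V) (hF : Fintype.card F = 27) (H : Vals σ) :
    XX (σ.comp (q F)) ≤ WW (σ.comp (q F)) := by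
  classical
  obtain ⟨hv, hX⟩ := value_u hM hV hF H
  obtain ⟨ζ, hζ⟩ := IsCyclic.exists_generator (α := Fˣ)
  have hbij := par_bijective hF hζ
  let _ : Fintype ↥(BB F) := Fintype.ofBijective _ hbij
  have hcard : Fintype.card ↥(BB F) = 351 := by
    rw [← Fintype.card_of_bijective hbij, Fintype.card_prod, Fintype.card_fin, hF]
  have h1 := H597.BrInv.C hM hV (P := ↥(BB F)) (by rw [hcard]; decide) (σ.comp (BB F).subtype)
  rw [invariants_BB, hcard] at h1
  have h2 : ∑ g : ↥(BB F), bc 2 (σ.comp (BB F).subtype) g = ∑ x : Fin 13 × F, bc 2 σ (q F (h (ζ ^ (x.1 : ℕ)) * u x.2)) :=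
    (Function.Bijective.sum_comp hbij (fun g : ↥(BB F) => bc 2 σ (g : Matrix.ProjectiveSpecialLinearGroup (Fin 2) F))).symm
  have h3 : ∀ j : Fin 13, ∑ t : F, bc 2 σ (q F (h (ζ ^ (j : ℕ)) * u t)) = 108 := by
    intro j
    by_cases hj : j = 0
    · subst hj
      simp only [Fin.val_zero, pow_zero, h_one, one_mul]
      rw [← Finset.add_sum_erase _ _ (Finset.mem_univ (0 : F)), u_zero, map_one, H.one,
        Finset.sum_congr rfl fun t ht => (bc_u hF H (Finset.ne_of_mem_erase ht)).trans hv, Finset.sum_const,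
        Finset.card_erase_of_mem (Finset.mem_univ _), Finset.card_univ, hF, nsmul_eq_mul]
      norm_num
    · have hj2 : (ζ ^ (j : ℕ)) ^ 2 ≠ 1 := by
        intro h4
        have h5 := sq_ne hF hζ (i := j) (j := 0) j.2 (by norm_num) (by rw [h4]; simp)
        exact hj (Fin.ext h5)
      rw [Finset.sum_congr rfl fun t _ => bc_hu hF H hj2 t, Finset.sum_const, Finset.card_univ, hF, nsmul_eq_mul]
      norm_num
  rw [h2, Fintype.sum_prod_type, Finset.sum_congr rfl fun j _ => h3 j, Finset.sum_const, Finset.card_univ,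
    Fintype.card_fin, nsmul_eq_mul] at h1
  have h4 : (13 * 108 : ℤ) = 351 * (finrank (ResidueField V) ↥(XX (σ.comp (q F)) ⊓ WW (σ.comp (q F))) : ℤ) := by
    exact_mod_cast h1
  have h5 : finrank (ResidueField V) ↥(XX (σ.comp (q F)) ⊓ WW (σ.comp (q F))) = 4 := by omega
  have h6 : XX (σ.comp (q F)) ⊓ WW (σ.comp (q F)) = XX (σ.comp (q F)) :=
    Submodule.eq_of_le_of_finrank_eq inf_le_left (by rw [h5, hX])
  exact inf_eq_left.1 h6

theorem finrank_WW (hM : IsPModular 2 M) (hV : Above M V) (hF : Fintype.card F = 27) (H : Vals σ) :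
    finrank (ResidueField V) (WW (σ.comp (q F))) = 8 := by
  obtain ⟨ζ, hζ⟩ := IsCyclic.exists_generator (α := Fˣ)
  have hz2 : ζ ^ 2 ≠ 1 := by
    intro h4
    have h5 := sq_ne hF hζ (i := 1) (j := 0) (by norm_num) (by norm_num) (by rw [pow_one, h4]; simp)
    omega
  have h1 := finrank_thirteen hM hV H (order_h hF hz2)
  have h2 : WW (σ.comp (q F)) = fx σ (q F (h ζ)) := by
    ext v
    rw [mem_fx]
    constructor
    · intro hv
      exact hv ζ
    · intro hv a
      obtain ⟨n, rfl⟩ := (isOfFinOrder_of_finite ζ).mem_powers_iff_mem_zpowers.2 (hζ a)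
      show σ (q F (h (ζ ^ n))) v = v
      induction n with
      | zero => rw [pow_zero, h_one, map_one, map_one, End.one_apply]
      | succ n ih =>
        rw [pow_succ, h_mul, map_mul, map_mul, End.mul_apply, hv, ih]
  rw [h2, h1]

/-- **`PSL(2, 27)`**: fixed vectors or functionals. -/
theorem not_admF (hF : Fintype.card F = 27) : ¬ AdmF (Matrix.ProjectiveSpecialLinearGroup (Fin 2) F) := by
  rintro ⟨M, V, hM, hV, σ, H, h1, h2⟩
  have : Fact (Nat.Prime 2) := ⟨Nat.prime_two⟩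
  have : CharP (ResidueField V) 2 := hV.charP hM
  refine L27M.main (τ := σ.comp (q F)) hF ?_ (value_u hM hV hF H).2 (le_WW hM hV hF H) (finrank_WW hM hV hF H)
    (fun v hv => h1 v fun s => ?_) (fun f hf => h2 f fun s => ?_)
  · show σ (q F (h (-1))) = 1
    rw [q_h_neg_one, map_one]
  · obtain ⟨g, rfl⟩ := QuotientGroup.mk'_surjective _ s
    exact hv g
  · obtain ⟨g, rfl⟩ := QuotientGroup.mk'_surjective _ s
    exact hf g

/-- **No maximal subgroup of `E₇(2)` has `F* ≅ PSL(2, 27)`.** -/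
theorem no_psl227 {F : Type*} [Field F] [Fintype F] (hF : Fintype.card F = 27)
    (H : Subgroup ↥(Cfsg.Lie.chevE7.group (ZMod 2))) (hH : IsCoatom H)
    (e : ↥(generalizedFittingSubgroup ↥H) ≃* Matrix.ProjectiveSpecialLinearGroup (Fin 2) F) : False := by
  classical
  have := Rows.finite_psl (F := F) 2
  have := Rows.simple_two (F := F) (by omega)
  have hc : Nat.card (Matrix.ProjectiveSpecialLinearGroup (Fin 2) F) = 9828 := by
    have h := S0243.result (F := F) hF 2 le_rfl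
    rw [Fin.prod_univ_two] at h
    generalize Nat.card (Matrix.ProjectiveSpecialLinearGroup (Fin 2) F) = c at h ⊢
    norm_num at h
    omega
  have ha := Rows.card_aut (F := F) (n := 2) (p := 3) (f := 3) (by norm_num) (by norm_num) (by rw [hF]; norm_num) le_rfl
    (by norm_num)
  have ha' : Nat.card (MulAut (Matrix.ProjectiveSpecialLinearGroup (Fin 2) F)) =
      Nat.card (Matrix.ProjectiveSpecialLinearGroup (Fin 2) F) * 6 := ha.trans (congrArg _ (by norm_num))
  exact not_admF hF (Max.admF_three (S := Matrix.ProjectiveSpecialLinearGroup (Fin 2) F) (m := 6) (k := 1)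
    (Rows.not_comm (by rw [hc]; norm_num)) ha' (by norm_num) (by rw [hc]; norm_num) H hH e)

end Cfsg.Agent.H943.E7V.L27
end

private theorem dce_3f0678b6cb4c : _root_.True := by
  try have : _root_.True := by simp only [_root_.Cfsg.Agent.H943.SL2Rel.u.eq_1]
  try have : _root_.True := by simp only [_root_.Cfsg.Agent.H943.E7V.L27M.PP.eq_1]
  exact _root_.True.intro
end

-- part: S5935
section
prune_inst 0x100400022000200000005100000005004000090000000000020034002010042000200000a000000000020000000000001000000020000000a000000000001208000400002000104260009000080000000000000000000000000000000000000000000000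
set_option linter.all false
open scoped Cfsg.Agent.FastGrp

-- part: H949/E7G/Nine
section
/-!
# Elements of order 9 of `E₇(2)` on the 56-dimensional module

`alc_spec` : the general principle for tables (any Boolean function of the alcove coordinates);
`counts_nine`, `nine` : elements of order 9: the value at the cube is 2, or (cube; value) is (-25; -1), (-7; -1), (20; 2).
-/

set_option autoImplicit false
set_option maxRecDepth 100000

namespace Cfsg.Agent.H949.E7G.Nine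

open Cfsg.Agent.ChevalleyStructure.CoxeterGeom Cfsg.Agent.Tits.Roots
  Cfsg.Agent.Nodes.RGDChev
open Cfsg.Lie Cfsg.Agent.ChevalleyStructure Cfsg.Agent.ChevalleyStructure.Elts
  Cfsg.Agent.ChevalleyStructure.RootVec Cfsg.Agent.ChevalleyStructure.RootVecTab
  Cfsg.Agent.ChevalleyStructure.NPerm Cfsg.Agent.ChevalleyStructure.CoxeterGeomTypes
open Cfsg.Agent.H944.RootVals Cfsg.Agent.H944.Kac Cfsg.Agent.H944.Tab Cfsg.Agent.H944.E7Two
open Cfsg.Agent.H943.E7V.Block Cfsg.Agent.H943.E7V.Wt Cfsg.Agent.H943.E7V.Alc Cfsg.Agent.H943.E7V.Bra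
open Cfsg.Agent.H657 IsLocalRing

/-- the general principle: a Boolean function of the alcove coordinates which is true for all stable nonzero alcove
vectors -/
theorem alc_spec {N : ℕ} (hN : 1 < N) {f : List ℕ → Bool}
    (hf : allAlc th7 N (fun y => bif invW N y then ((y.all fun x => Nat.beq (x % N) 0) || f y) else true) = true)
    {v : Fin 7 → ZMod N} (hv : v ≠ 0) (hs : Stab (ms56 v)) :
    ∃ Y : List ℕ, ms56 (vecL N Y) = ms56 v ∧ f Y = true := by
  classical
  have hN0 : 0 < N := by omega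
  let P : (Fin 7 → ZMod N) → Prop := fun w => ms56 w = ms56 v ∧ w ≠ 0
  have hPs : ∀ w j, P w → P (srefl chevE7 7 j w) := by
    rintro w j ⟨h1, h2⟩
    refine ⟨by rw [ms56_srefl, h1], fun h => h2 (srefl_eq_zero e7T h)⟩
  obtain ⟨y, ⟨hy, hy0⟩, hθ⟩ := exists_alcove e7T (N := N) hN0 _ _ 36 (by norm_num) theta7
    (by decide) _ pos7 P hPs (v₀ := v) ⟨rfl, hv⟩
  let Y : List ℕ := List.ofFn y
  have hY : ∀ i : Fin 7, Y.getD i 0 = y i := by
    intro i
    rw [List.getD_eq_getElem _ _ (by rw [List.length_ofFn]; exact i.2), List.getElem_ofFn]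
  have h1 : dotN th7 Y ≤ N := by
    rw [dotN_eq 7 th7 Y (by decide)]
    have h2 : ∑ i : Fin 7, th7.getD i 0 * Y.getD i 0 = ∑ i : Fin 7, th7.getD i 0 * y i :=
      Finset.sum_congr rfl fun i _ => by rw [hY]
    rw [h2]
    simp only [Fin.sum_univ_seven, Matrix.cons_val] at hθ ⊢
    simp only [th7, List.getD_cons_zero, List.getD_cons_succ, Fin.val_zero, Fin.val_one, Fin.val_two] at hθ ⊢
    norm_num only [_root_.one_mul, _root_.Fin.coe_ofNat_eq_mod, _root_.List.getD_eq_getElem?_getD, _root_.List.length_cons, _root_.List.length_nil, _root_.zero_add, _root_.getElem?_pos, _root_.List.getElem_cons_succ, _root_.List.getElem_cons_zero, _root_.Option.getD_some, _root_.Nat.lt_add_one, _root_.ge_iff_le] at hθ ⊢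
    omega
  have h2 := allAlc_spec th7 N _ (by decide) hf Y (by simp [Y, th7]) h1
  have h3 : vecL N Y = fun i => ((y i : ℕ) : ZMod N) := by
    funext i
    unfold vecL
    rw [hY]
  rw [← h3] at hy hy0
  have hs' : Stab (ms56 (vecL N Y)) := by rw [hy]; exact hs
  rw [invW_of hN0 hs', cond_true, Bool.or_eq_true] at h2
  refine ⟨Y, hy, ?_⟩
  rcases h2 with h2 | h2
  · exfalso
    apply hy0
    funext i
    rw [List.all_eq_true] at h2
    have h4 := h2 (Y.getD i 0) (by
      rw [List.getD_eq_getElem _ _ (by rw [List.length_ofFn]; exact i.2)]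
      exact List.getElem_mem _)
    rw [Nat.beq_eq] at h4
    show ((Y.getD i 0 : ℕ) : ZMod N) = 0
    rw [ZMod.natCast_eq_zero_iff]
    exact Nat.dvd_of_mod_eq_zero h4
  · exact h2

/-- the number of values equal to `k` -/
def cntk (N k : ℕ) (y : List ℕ) : ℕ :=
  sumW N (fun t => (bif Nat.beq (t % N) k then 1 else 0) + (bif Nat.beq ((N - t % N) % N) k then 1 else 0)) y

theorem cntk_eq {N : ℕ} (hN : 1 < N) {k : ℕ} (hk : k < N) (y : List ℕ) :
    (ms56 (vecL N y)).count (k : ZMod N) = cntk N k y := by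
  classical
  have hN0 : 0 < N := by omega
  have : NeZero N := ⟨hN0.ne'⟩
  have h1 : ∀ m : Multiset (ZMod N), m.count (k : ZMod N) = (m.map fun a => if a = (k : ZMod N) then 1 else 0).sum := by
    intro m
    induction m using Multiset.induction_on with
    | empty => simp
    | cons a m ih =>
      rw [Multiset.map_cons, Multiset.sum_cons, Multiset.count_cons, ih, add_comm]
      congr 1
      simp only [eq_comm]
  rw [h1, sum_ms56]
  unfold cntk sumW
  refine congrArg List.sum (List.map_congr_left fun w hw => ?_)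
  rw [wl_vecL hN0 hw]
  generalize tt N w y = t
  have h3 : ∀ t : ℕ, ((t : ZMod N) = (k : ZMod N)) ↔ t % N = k := by
    intro t
    have h4 := ZMod.natCast_eq_natCast_iff' t k N
    rw [Nat.mod_eq_of_lt hk] at h4
    exact h4
  have h5 : (-(t : ZMod N)) = (((N - t % N) % N : ℕ) : ZMod N) := by
    rw [ZMod.natCast_mod, Nat.cast_sub (Nat.mod_lt t hN0).le, ZMod.natCast_self, ZMod.natCast_mod, zero_sub]
  have h6 : ∀ a : ℕ, (bif Nat.beq a k then 1 else 0) = (if a = k then 1 else 0 : ℕ) := by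
    intro a
    by_cases h : a = k
    · rw [if_pos h, h]
      have : Nat.beq k k = true := Nat.beq_refl k
      rw [this]; rfl
    · rw [if_neg h]
      have : Nat.beq a k = false := by
        cases hb : Nat.beq a k with
        | false => rfl
        | true => exact absurd (Nat.eq_of_beq_eq_true hb) h
      rw [this]; rfl
  show _ = (bif (t % N).beq k then 1 else 0) + (bif ((N - t % N) % N).beq k then 1 else 0)
  rw [h6, h6, h5]
  simp only [h3, Nat.mod_mod]

/-- the possible numbers of values equal to 1 and 0 modulo 9 -/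
def g9 (a b : ℕ) : Bool :=
  Nat.beq a 0 || Nat.beq a 6 || (Nat.beq a 9 && Nat.beq b 0) || (Nat.beq a 7 && Nat.beq b 4) || (Nat.beq a 4 && Nat.beq b 12)

theorem g9_spec {a b : ℕ} (h : g9 a b = true) : a = 0 ∨ a = 6 ∨ (a = 9 ∧ b = 0) ∨ (a = 7 ∧ b = 4) ∨ (a = 4 ∧ b = 12) := by
  unfold g9 at h
  simp only [Bool.or_eq_true, Bool.and_eq_true, Nat.beq_eq] at h
  tauto

private theorem _root_.Cfsg.Agent.KOb1a996b.e0.{ku, kv} {α : Type kv} {M : List α → Sort ku} (φ : ∀ l, M l) {z : M List.nil} {s : ∀ a l, M l → M (List.cons a l)} (h0 : φ List.nil = z) (hs : ∀ a l, φ (List.cons a l) = s a l (φ l)) (l : List α) : φ l = @List.rec α M z s l := List.rec h0 (fun a l ih => (hs a l).trans (congrArg (s a l) ih)) l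
private noncomputable def _root_.Cfsg.Agent.KOb1a996b.k1.{ku0} : type_of% @List.all.{ku0} := @(fun x0 x1 x2 => @List.rec.{(ku0+1), ku0} @x0 @(fun x3 => (@x0 → @Bool) → @Bool) @(fun x3 => @Bool.true) @(fun x3 x4 x5 x6 => @Bool.rec.{1} @(fun x7 => @Bool) @Bool.false (@x5 @x6) (@x6 @x3)) @x1 @x2)
private theorem _root_.Cfsg.Agent.KOb1a996b.e1.{ku0} : @List.all.{ku0} = @_root_.Cfsg.Agent.KOb1a996b.k1.{ku0} := by delta _root_.Cfsg.Agent.KOb1a996b.k1; funext a0 a1 a2; refine (congrFun (_root_.Cfsg.Agent.KOb1a996b.e0 (fun a1 a2 => @List.all.{ku0} a0 a1 a2) ?_ (fun c0 c1 => ?_) a1) a2 :) <;> (rfl')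
private theorem _root_.Cfsg.Agent.KOb1a996b.e2.{ku} {M : Nat → Sort ku} (φ : ∀ n, M n) {z : M Nat.zero} {s : ∀ n, M n → M (Nat.succ n)} (h0 : φ Nat.zero = z) (hs : ∀ n, φ (Nat.succ n) = s n (φ n)) (n : Nat) : φ n = @Nat.rec M z s n := Nat.rec h0 (fun n ih => (hs n).trans (congrArg (s n) ih)) n
private noncomputable def _root_.Cfsg.Agent.KOb1a996b.k3 : type_of% @List.range.loop := @(fun x0 x1 => @Nat.rec.{1} @(fun x2 => (@List.{0} ℕ) → @List.{0} ℕ) @(fun x2 => @x2) @(fun x2 x3 x4 => @x3 (@x2 :: @x4)) @x0 @x1)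
private theorem _root_.Cfsg.Agent.KOb1a996b.e3 : @List.range.loop = @_root_.Cfsg.Agent.KOb1a996b.k3 := by delta _root_.Cfsg.Agent.KOb1a996b.k3; funext a0 a1; refine (congrFun (_root_.Cfsg.Agent.KOb1a996b.e2 (fun a0 a1 => @List.range.loop a0 a1) ?_ (fun c0 => ?_) a0) a1 :) <;> (rfl')
private noncomputable def _root_.Cfsg.Agent.KOb1a996b.k4 : (by first | exact type_of% @Cfsg.Agent.H944.Tab.allAlc | exact Unit : Sort _) := by first | (refine @Subtype.val _ (fun g => @Cfsg.Agent.H944.Tab.allAlc = @g) (@Subtype.mk _ _ (@(fun x0 x1 x2 => @List.rec.{1, 0} ℕ @(fun x3 => ℕ → ((@List.{0} ℕ) → @Bool) → @Bool) @(fun x3 x4 => @x4 []) @(fun x3 x4 x5 x6 x7 => @Cfsg.Agent.KOb1a996b.k1.{0} _ (@Cfsg.Agent.KOb1a996b.k3 (@Nat.add (@Nat.div @x6 @x3) (nat_lit 1)) []) @(fun x8 => @x5 (@Nat.sub @x6 (@Nat.mul @x3 @x8)) @(fun x9 => @x7 (@x8 :: @x9)))) @x0 @x1 @x2)) ?_); rewrite [← Cfsg.Agent.KOb1a996b.e3, ← Cfsg.Agent.KOb1a996b.e1.{0}]; funext a0 a1 a2; refine (congrFun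 (congrFun (_root_.Cfsg.Agent.KOb1a996b.e0 (fun a0 a1 a2 => @Cfsg.Agent.H944.Tab.allAlc a0 a1 a2) ?_ (fun c0 c1 => ?_) a0) a1) a2 :) <;> (rfl')) | exact @Cfsg.Agent.H944.Tab.allAlc | exact ()
private theorem _root_.Cfsg.Agent.KOb1a996b.e4 : (by first | exact @Cfsg.Agent.H944.Tab.allAlc = @_root_.Cfsg.Agent.KOb1a996b.k4 | exact True : Prop) := by first | (delta _root_.Cfsg.Agent.KOb1a996b.k4; exact @Subtype.property _ (fun g => @Cfsg.Agent.H944.Tab.allAlc = @g) _) | rfl | trivial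
private noncomputable def _root_.Cfsg.Agent.KOb1a996b.k5.{ku0} : type_of% @cond.{ku0} := @(fun x0 x1 x2 x3 => @Bool.rec.{ku0} @(fun x4 => @x0) @x3 @x2 @x1)
private theorem _root_.Cfsg.Agent.KOb1a996b.e5.{ku0} : @cond.{ku0} = @_root_.Cfsg.Agent.KOb1a996b.k5.{ku0} := by delta _root_.Cfsg.Agent.KOb1a996b.k5; rfl'
private noncomputable def _root_.Cfsg.Agent.KOb1a996b.k6.{ku0, ku1} : type_of% @List.foldr.{ku0, ku1} := @(fun x0 x1 x2 x3 x4 => @List.rec.{(ku1+1), ku0} @x0 @(fun x5 => @x1) @x3 @(fun x5 x6 x7 => @x2 @x5 @x7) @x4)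
private theorem _root_.Cfsg.Agent.KOb1a996b.e6.{ku0, ku1} : @List.foldr.{ku0, ku1} = @_root_.Cfsg.Agent.KOb1a996b.k6.{ku0, ku1} := by delta _root_.Cfsg.Agent.KOb1a996b.k6; funext a0 a1 a2 a3 a4; refine (_root_.Cfsg.Agent.KOb1a996b.e0 (fun a4 => @List.foldr.{ku0, ku1} a0 a1 a2 a3 a4) ?_ (fun c0 c1 => ?_) a4 :) <;> (rfl')
private noncomputable def _root_.Cfsg.Agent.KOb1a996b.k7.{ku0, ku1} : type_of% @List.map.{ku0, ku1} := @(fun x0 x1 x2 x3 => @List.rec.{(ku1+1), ku0} @x0 @(fun x4 => @List.{ku1} @x1) [] @(fun x4 x5 x6 => (@x2 @x4) :: @x6) @x3)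
private theorem _root_.Cfsg.Agent.KOb1a996b.e7.{ku0, ku1} : @List.map.{ku0, ku1} = @_root_.Cfsg.Agent.KOb1a996b.k7.{ku0, ku1} := by delta _root_.Cfsg.Agent.KOb1a996b.k7; funext a0 a1 a2 a3; refine (_root_.Cfsg.Agent.KOb1a996b.e0 (fun a3 => @List.map.{ku0, ku1} a0 a1 a2 a3) ?_ (fun c0 c1 => ?_) a3 :) <;> (rfl')
private noncomputable def _root_.Cfsg.Agent.KOb1a996b.k9 : (by first | exact type_of% @Cfsg.Agent.H944.Tab.dotN | exact Unit : Sort _) := by first | (refine @Subtype.val _ (fun g => @Cfsg.Agent.H944.Tab.dotN = @g) (@Subtype.mk _ _ (@(fun x0 x1 => @List.rec.{1, 0} ℕ @(fun x2 => (@List.{0} ℕ) → ℕ) @(fun x2 => nat_lit 0) @(fun x2 x3 x4 x5 => @List.rec.{1, 0} ℕ @(fun x6 => ((@Nat.hasNotBit (nat_lit 2) (@List.ctorIdx.{0} _ @x6)) → ℕ) → ℕ) @(fun x6 => @x6 (@Nat.ne_of_beq_eq_false _ _ (@Eq.refl.{1} _ @Bool.false))) @(fun x6 x7 x8 x9 => @Nat.add (@Nat.mul @x2 @x6) (@x4 @x7)) @x5 @(fun x6 => nat_lit 0)) @x0 @x1)) ?_); funext a0 a1; refine (congrFun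 (_root_.Cfsg.Agent.KOb1a996b.e0 (fun a0 a1 => @Cfsg.Agent.H944.Tab.dotN a0 a1) ?_ (fun c0 c1 => ?_) a0) a1 :) <;> [(funext b0; (rfl')); (funext b0; (cases b0 with | @nil  => (rfl') | @cons b0_0 b0_1 => (rfl')))]) | exact @Cfsg.Agent.H944.Tab.dotN | exact ()
private theorem _root_.Cfsg.Agent.KOb1a996b.e9 : (by first | exact @Cfsg.Agent.H944.Tab.dotN = @_root_.Cfsg.Agent.KOb1a996b.k9 | exact True : Prop) := by first | (delta _root_.Cfsg.Agent.KOb1a996b.k9; exact @Subtype.property _ (fun g => @Cfsg.Agent.H944.Tab.dotN = @g) _) | rfl | trivial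
private noncomputable def _root_.Cfsg.Agent.KOb1a996b.k10 : (by first | exact type_of% @Cfsg.Agent.H943.E7V.Alc.tt | exact Unit : Sort _) := by first | (refine @Subtype.val _ (fun g => @Cfsg.Agent.H943.E7V.Alc.tt = @g) (@Subtype.mk _ _ (@(fun x0 x1 x2 => @Nat.add (@Cfsg.Agent.KOb1a996b.k9 (@Prod.fst.{0, 0} _ _ @x1) @x2) (@Nat.mul (@Nat.sub @x0 (nat_lit 1)) (@Cfsg.Agent.KOb1a996b.k9 (@Prod.snd.{0, 0} _ _ @x1) @x2)))) ?_); rewrite [← Cfsg.Agent.KOb1a996b.e9]; (try delta Cfsg.Agent.H943.E7V.Alc.tt); (try generalize @Cfsg.Agent.H944.Tab.dotN = g0); rfl') | exact @Cfsg.Agent.H943.E7V.Alc.tt | exact ()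
private theorem _root_.Cfsg.Agent.KOb1a996b.e10 : (by first | exact @Cfsg.Agent.H943.E7V.Alc.tt = @_root_.Cfsg.Agent.KOb1a996b.k10 | exact True : Prop) := by first | (delta _root_.Cfsg.Agent.KOb1a996b.k10; exact @Subtype.property _ (fun g => @Cfsg.Agent.H943.E7V.Alc.tt = @g) _) | rfl | trivial
private noncomputable def _root_.Cfsg.Agent.KOb1a996b.k11 : (by first | exact type_of% @Cfsg.Agent.H943.E7V.Alc.sumW | exact Unit : Sort _) := by first | (refine @Subtype.val _ (fun g => @Cfsg.Agent.H943.E7V.Alc.sumW = @g) (@Subtype.mk _ _ (@(fun x0 x1 x2 => @Cfsg.Agent.KOb1a996b.k6.{0, 0} _ _ @(fun x3 x4 => @Nat.add @x3 @x4) (nat_lit 0) (@Cfsg.Agent.KOb1a996b.k7.{0, 0} _ _ @(fun x3 => @x1 (@Cfsg.Agent.KOb1a996b.k10 @x0 @x3 @x2)) @Cfsg.Agent.H943.E7V.Wt.W28))) ?_); rewrite [← Cfsg.Agent.KOb1a996b.e10, ← Cfsg.Agent.KOb1a996b.e7.{0, 0}, ← Cfsg.Agent.KOb1a996b.e6.{0, 0}]; (try delta Cfsg.Agent.H943.E7V.Alc.sumW); (try generalize @Cfsg.Agent.H943.E7V.Alc.tt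 = g0); (try generalize @Cfsg.Agent.H943.E7V.Wt.W28 = g1); rfl') | exact @Cfsg.Agent.H943.E7V.Alc.sumW | exact ()
private theorem _root_.Cfsg.Agent.KOb1a996b.e11 : (by first | exact @Cfsg.Agent.H943.E7V.Alc.sumW = @_root_.Cfsg.Agent.KOb1a996b.k11 | exact True : Prop) := by first | (delta _root_.Cfsg.Agent.KOb1a996b.k11; exact @Subtype.property _ (fun g => @Cfsg.Agent.H943.E7V.Alc.sumW = @g) _) | rfl | trivial
private noncomputable def _root_.Cfsg.Agent.KOb1a996b.k12 : (by first | exact type_of% @Cfsg.Agent.H944.Tab.hh | exact Unit : Sort _) := by first | (refine @Subtype.val _ (fun g => @Cfsg.Agent.H944.Tab.hh = @g) (@Subtype.mk _ _ (@(fun x0 x1 => @Nat.add (@Nat.pow (nat_lit 256) (@Nat.mod @x1 @x0)) (@Nat.pow (nat_lit 256) (@Nat.mod (@Nat.sub @x0 (@Nat.mod @x1 @x0)) @x0)))) ?_); rfl') | exact @Cfsg.Agent.H944.Tab.hh | exact ()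
private theorem _root_.Cfsg.Agent.KOb1a996b.e12 : (by first | exact @Cfsg.Agent.H944.Tab.hh = @_root_.Cfsg.Agent.KOb1a996b.k12 | exact True : Prop) := by first | (delta _root_.Cfsg.Agent.KOb1a996b.k12; exact @Subtype.property _ (fun g => @Cfsg.Agent.H944.Tab.hh = @g) _) | rfl | trivial
private noncomputable def _root_.Cfsg.Agent.KOb1a996b.k13 : (by first | exact type_of% @Cfsg.Agent.H943.E7V.Alc.invW | exact Unit : Sort _) := by first | (refine @Subtype.val _ (fun g => @Cfsg.Agent.H943.E7V.Alc.invW = @g) (@Subtype.mk _ _ (@(fun x0 x1 => @Nat.beq (@Cfsg.Agent.KOb1a996b.k11 @x0 (@Cfsg.Agent.KOb1a996b.k12 @x0) @x1) (@Cfsg.Agent.KOb1a996b.k11 @x0 @(fun x2 => @Cfsg.Agent.KOb1a996b.k12 @x0 (@Nat.mul (nat_lit 2) @x2)) @x1))) ?_); rewrite [← Cfsg.Agent.KOb1a996b.e12, ← Cfsg.Agent.KOb1a996b.e11]; (try delta Cfsg.Agent.H943.E7V.Alc.invW); (try generalize @Cfsg.Agent.H943.E7V.Alc.sumW = g0); (try generalize @Cfsg.Agent.H944.Tab.hh = g1); rfl') | exact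 @Cfsg.Agent.H943.E7V.Alc.invW | exact ()
private theorem _root_.Cfsg.Agent.KOb1a996b.e13 : (by first | exact @Cfsg.Agent.H943.E7V.Alc.invW = @_root_.Cfsg.Agent.KOb1a996b.k13 | exact True : Prop) := by first | (delta _root_.Cfsg.Agent.KOb1a996b.k13; exact @Subtype.property _ (fun g => @Cfsg.Agent.H943.E7V.Alc.invW = @g) _) | rfl | trivial
private noncomputable def _root_.Cfsg.Agent.KOb1a996b.k14 : type_of% @Bool.or := @(fun x0 x1 => @Bool.rec.{1} @(fun x2 => @Bool) @x1 @Bool.true @x0)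
private theorem _root_.Cfsg.Agent.KOb1a996b.e14 : @Bool.or = @_root_.Cfsg.Agent.KOb1a996b.k14 := by delta _root_.Cfsg.Agent.KOb1a996b.k14; rfl'
private noncomputable def _root_.Cfsg.Agent.KOb1a996b.k15 : (by first | exact type_of% @Cfsg.Agent.H949.E7G.Nine.g9 | exact Unit : Sort _) := by first | (refine @Subtype.val _ (fun g => @Cfsg.Agent.H949.E7G.Nine.g9 = @g) (@Subtype.mk _ _ (@(fun x0 x1 => @Bool.rec.{1} @(fun x2 => @Bool) (@Bool.rec.{1} @(fun x2 => @Bool) @Bool.false (@Nat.beq @x1 (nat_lit 12)) (@Nat.beq @x0 (nat_lit 4))) @Bool.true (@Bool.rec.{1} @(fun x2 => @Bool) (@Bool.rec.{1} @(fun x2 => @Bool) @Bool.false (@Nat.beq @x1 (nat_lit 4)) (@Nat.beq @x0 (nat_lit 7))) @Bool.true (@Bool.rec.{1} @(fun x2 => @Bool) (@Bool.rec.{1} @(fun x2 => @Bool) @Bool.false (@Nat.beq @x1 (nat_lit 0)) (@Nat.beq @x0 (nat_lit 9))) @Bool.true (@Bool.rec.{1} @(fun x2 => @Bool) (@Nat.beq @x0 (nat_lit 6)) @Bool.true (@Nat.beq @x0 (nat_lit 0))))))) ?_); rfl')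 | exact @Cfsg.Agent.H949.E7G.Nine.g9 | exact ()
private theorem _root_.Cfsg.Agent.KOb1a996b.e15 : (by first | exact @Cfsg.Agent.H949.E7G.Nine.g9 = @_root_.Cfsg.Agent.KOb1a996b.k15 | exact True : Prop) := by first | (delta _root_.Cfsg.Agent.KOb1a996b.k15; exact @Subtype.property _ (fun g => @Cfsg.Agent.H949.E7G.Nine.g9 = @g) _) | rfl | trivial
private noncomputable def _root_.Cfsg.Agent.KOb1a996b.k16 : (by first | exact type_of% @Cfsg.Agent.H949.E7G.Nine.cntk | exact Unit : Sort _) := by first | (refine @Subtype.val _ (fun g => @Cfsg.Agent.H949.E7G.Nine.cntk = @g) (@Subtype.mk _ _ (@(fun x0 x1 x2 => @Cfsg.Agent.KOb1a996b.k11 @x0 @(fun x3 => @Nat.add (@Bool.rec.{1} @(fun x4 => ℕ) (nat_lit 0) (nat_lit 1) (@Nat.beq (@Nat.mod @x3 @x0) @x1)) (@Bool.rec.{1} @(fun x4 => ℕ) (nat_lit 0) (nat_lit 1) (@Nat.beq (@Nat.mod (@Nat.sub @x0 (@Nat.mod @x3 @x0)) @x0) @x1))) @x2)) ?_); rewrite [← Cfsg.Agent.KOb1a996b.e11]; (try delta Cfsg.Agent.H949.E7G.Nine.cntk);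 (try generalize @Cfsg.Agent.H943.E7V.Alc.sumW = g0); rfl') | exact @Cfsg.Agent.H949.E7G.Nine.cntk | exact ()
private theorem _root_.Cfsg.Agent.KOb1a996b.e16 : (by first | exact @Cfsg.Agent.H949.E7G.Nine.cntk = @_root_.Cfsg.Agent.KOb1a996b.k16 | exact True : Prop) := by first | (delta _root_.Cfsg.Agent.KOb1a996b.k16; exact @Subtype.property _ (fun g => @Cfsg.Agent.H949.E7G.Nine.cntk = @g) _) | rfl | trivial

theorem chk9 : allAlc th7 9 (fun y => bif invW 9 y then ((y.all fun x => Nat.beq (x % 9) 0) ||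
    g9 (cntk 9 1 y) (cntk 9 0 y)) else true) = true := by
  (first | (rewrite [Cfsg.Agent.KOb1a996b.e4, Cfsg.Agent.KOb1a996b.e5.{1}, Cfsg.Agent.KOb1a996b.e13, Cfsg.Agent.KOb1a996b.e14, Cfsg.Agent.KOb1a996b.e1.{0}, Cfsg.Agent.KOb1a996b.e15, Cfsg.Agent.KOb1a996b.e16]; decide +kernel) | decide +kernel)

theorem counts_nine {v : Fin 7 → ZMod 9} (hv : v ≠ 0) (hs : Stab (ms56 v)) :
    (ms56 v).count 1 = 0 ∨ (ms56 v).count 1 = 6 ∨ ((ms56 v).count 1 = 9 ∧ (ms56 v).count 0 = 0) ∨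
      ((ms56 v).count 1 = 7 ∧ (ms56 v).count 0 = 4) ∨ ((ms56 v).count 1 = 4 ∧ (ms56 v).count 0 = 12) := by
  obtain ⟨Y, h1, h2⟩ := alc_spec (f := fun y => g9 (cntk 9 1 y) (cntk 9 0 y)) (by norm_num) chk9 hv hs
  have h3 := cntk_eq (N := 9) (by norm_num) (k := 1) (by norm_num) Y
  have h4 := cntk_eq (N := 9) (by norm_num) (k := 0) (by norm_num) Y
  rw [h1] at h3 h4
  rw [Nat.cast_one] at h3
  rw [Nat.cast_zero] at h4
  have h5 := g9_spec h2
  rw [← h3, ← h4] at h5
  exact h5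

theorem gen9 : Gen 9 := by
  have h : ∀ u : ZMod 9, IsUnit u → ∃ i < 6, u = 2 ^ i ∨ u = -2 ^ i := by decide +kernel
  exact fun u hu => (h u hu).imp fun i hi => hi.2

set_option maxHeartbeats 1000000 in
/-- the sums over a stable multiset modulo 9 -/
theorem sm_nine {m : Multiset (ZMod 9)} (h : Stb m) {ξ : ℂ} (hξ : IsPrimitiveRoot ξ 9) :
    sm ξ m = (m.count 0 : ℂ) - m.count 3 ∧
      sm ξ (m.map fun a => 3 * a) = (m.count 0 : ℂ) + 2 * m.count 3 - 3 * m.count 1 ∧
      (Multiset.card m : ℂ) = m.count 0 + 6 * m.count 1 + 2 * m.count 3 := by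
  classical
  have hc : ∀ (u a b : ZMod 9), IsUnit u → u * a = b → (m.count b : ℂ) = (m.count a : ℂ) := by
    rintro u a b hu rfl
    rw [h.count gen9 hu]
  have u2 : IsUnit (2 : ZMod 9) := by decide +kernel
  have u4 : IsUnit (4 : ZMod 9) := by decide +kernel
  have u5 : IsUnit (5 : ZMod 9) := by decide +kernel
  have u7 : IsUnit (7 : ZMod 9) := by decide +kernel
  have u8 : IsUnit (8 : ZMod 9) := by decide +kernel
  have e1 : ξ ^ 3 ≠ 1 := hξ.pow_ne_one_of_pos_of_lt (by norm_num) (by norm_num)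
  have e0 : ξ ^ 9 = 1 := hξ.pow_eq_one
  have f1 : 1 + ξ ^ 3 + ξ ^ 6 = 0 := by
    have : (ξ ^ 3 - 1) * (1 + ξ ^ 3 + ξ ^ 6) = 0 := by linear_combination e0
    exact (mul_eq_zero.1 this).resolve_left (sub_ne_zero.2 e1)
  have g2 := hc 2 1 2 u2 (by decide)
  have g4 := hc 4 1 4 u4 (by decide)
  have g5 := hc 5 1 5 u5 (by decide)
  have g7 := hc 7 1 7 u7 (by decide)
  have g8 := hc 8 1 8 u8 (by decide)
  have g6 := hc 2 3 6 u2 (by decide)
  have w0 : (0 : ZMod 9).val = 0 := rfl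
  have w1 : (1 : ZMod 9).val = 1 := rfl
  have w2 : (2 : ZMod 9).val = 2 := rfl
  have w3 : (3 : ZMod 9).val = 3 := rfl
  have w4 : (4 : ZMod 9).val = 4 := rfl
  have w5 : (5 : ZMod 9).val = 5 := rfl
  have w6 : (6 : ZMod 9).val = 6 := rfl
  have w7 : (7 : ZMod 9).val = 7 := rfl
  have w8 : (8 : ZMod 9).val = 8 := rfl
  refine ⟨?_, ?_, ?_⟩
  · rw [sm_eq, sum_range_zmod]
    simp only [Finset.sum_range_succ, Finset.sum_range_zero, zero_add, Nat.cast_ofNat, Nat.cast_zero, Nat.cast_one]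
    rw [g2, g4, g5, g7, g8, g6, w0, w1, w2, w3, w4, w5, w6, w7, w8]
    linear_combination (m.count 1 : ℂ) * (ξ + ξ ^ 2) * f1 + (m.count 3 : ℂ) * f1
  · have h1 : sm ξ (m.map fun a => 3 * a) = ∑ u : ZMod 9, (m.count u : ℂ) * ξ ^ (3 * u).val := by
      unfold sm
      rw [Multiset.map_map, Finset.sum_multiset_map_count]
      simp only [nsmul_eq_mul]
      refine Finset.sum_subset (Finset.subset_univ _) fun u _ hu => ?_
      rw [Multiset.mem_toFinset, ← Multiset.count_eq_zero] at hu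
      rw [hu, Nat.cast_zero, zero_mul]
    rw [h1, sum_range_zmod]
    simp only [Finset.sum_range_succ, Finset.sum_range_zero, zero_add, Nat.cast_ofNat, Nat.cast_zero, Nat.cast_one]
    have v0 : (3 * 0 : ZMod 9).val = 0 := rfl
    have v1 : (3 * 1 : ZMod 9).val = 3 := rfl
    have v2 : (3 * 2 : ZMod 9).val = 6 := rfl
    have v3 : (3 * 3 : ZMod 9).val = 0 := rfl
    have v4 : (3 * 4 : ZMod 9).val = 3 := rfl
    have v5 : (3 * 5 : ZMod 9).val = 6 := rfl
    have v6 : (3 * 6 : ZMod 9).val = 0 := rfl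
    have v7 : (3 * 7 : ZMod 9).val = 3 := rfl
    have v8 : (3 * 8 : ZMod 9).val = 6 := rfl
    rw [g2, g4, g5, g7, g8, g6, v0, v1, v2, v3, v4, v5, v6, v7, v8]
    linear_combination 3 * (m.count 1 : ℂ) * f1
  · rw [card_eq, sum_range_zmod]
    simp only [Finset.sum_range_succ, Finset.sum_range_zero, zero_add, Nat.cast_ofNat, Nat.cast_zero, Nat.cast_one]
    rw [g2, g4, g5, g7, g8, g6]
    ring

open Cfsg.Agent.H943.E7V.AdmMain

attribute [local instance] Above.isAlgClosed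

variable {V : ValuationSubring ℂ} [CharP (ResidueField V) 2]

/-- **Elements of order 9.** -/
theorem nine {x : ↥(chevE7.group (ZMod 2))} (hx : x ^ 9 = 1) (h3 : x ^ 3 ≠ 1) :
    bc 2 (sg V) (x ^ 3) = 2 ∨ (bc 2 (sg V) (x ^ 3) = -25 ∧ bc 2 (sg V) x = -1) ∨
      (bc 2 (sg V) (x ^ 3) = -7 ∧ bc 2 (sg V) x = -1) ∨ (bc 2 (sg V) (x ^ 3) = 20 ∧ bc 2 (sg V) x = 2) := by
  obtain ⟨v, h1, h2, ξ, hξ, h4⟩ := bc_sg (V := V) (by norm_num) (by norm_num) hx
  have hv : v ≠ 0 := by
    intro h0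
    rw [h1 h0, one_pow] at h3
    exact h3 rfl
  obtain ⟨s1, s2, s3⟩ := sm_nine h2 hξ
  rw [card_ms56] at s3
  have h5 := h4 1
  simp only [pow_one, Nat.cast_one, one_mul, Multiset.map_id'] at h5
  have h6 := h4 3
  rw [Nat.cast_ofNat] at h6
  have ho : orderOf (x ^ 3) = 3 := by
    refine orderOf_eq_prime ?_ h3
    rw [← pow_mul]
    exact hx
  have h8 := (vals (V := V)).three (x ^ 3) ho
  rw [h6, s2] at h8
  rw [h5, h6, s1, s2]
  generalize hc0 : (ms56 v).count 0 = c0 at *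
  generalize hc1 : (ms56 v).count 1 = c1 at *
  generalize hc3 : (ms56 v).count 3 = c3 at *
  have h7 := counts_nine hv h2.dbl
  rw [hc0, hc1] at h7
  rcases h7 with h7 | h7 | ⟨h7, h9⟩ | ⟨h7, h9⟩ | ⟨h7, h9⟩
  · exfalso
    subst h7
    push_cast at s3 h8
    have h9 : (c0 : ℂ) + 2 * (c3 : ℂ) - 3 * 0 = 56 := by
      linear_combination -s3
    rw [h9] at h8
    norm_num at h8
  · left
    subst h7
    push_cast at s3 ⊢
    linear_combination -s3
  · right; left
    subst h7 h9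
    push_cast at s3 ⊢
    refine ⟨?_, ?_⟩
    · linear_combination -s3
    · linear_combination (1 / 2 : ℂ) * s3
  · right; right; left
    subst h7 h9
    push_cast at s3 ⊢
    refine ⟨?_, ?_⟩
    · linear_combination -s3
    · linear_combination (1 / 2 : ℂ) * s3
  · right; right; right
    subst h7 h9
    push_cast at s3 ⊢
    refine ⟨?_, ?_⟩
    · linear_combination -s3
    · linear_combination (1 / 2 : ℂ) * s3

/-- the value does not depend on the generator -/
theorem bc_unit {x : ↥(chevE7.group (ZMod 2))} (hx : x ^ 9 = 1) {j : ℕ} (hj : Nat.Coprime j 9) :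
    bc 2 (sg V) (x ^ j) = bc 2 (sg V) x :=
  bc_gen (by norm_num) (by norm_num) gen9 hx hj

end Cfsg.Agent.H949.E7G.Nine
end

-- part: H949/E7G/Rot
section
/-!
# `E₇(2)` has no subgroup `(9 × 9) : 3` as in `SU₃(8)`

`no_rot` : there are no `x`, `c` in `E₇(2)` with `x ^ 9 = 1`, `x` commuting with `c x c⁻¹`, `x (c x c⁻¹) (c² x c⁻²) = 1` and
`x ^ 3` not commuting with `c`.
-/

set_option autoImplicit false
set_option maxRecDepth 100000
set_option linter.unusedSimpArgs false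

namespace Cfsg.Agent.H949.E7G.Rot

open Cfsg Cfsg.Lie Cfsg.Agent.H657 Cfsg.Agent.H943.E7V.AdmMain Cfsg.Agent.H949.E7G.Nine IsLocalRing
open scoped ComplexConjugate

/-! ### the torus -/

abbrev Z2 : Type := ZMod 9 × ZMod 9

/-- the rotation -/
def rot (p : Z2) : Z2 := (-p.2, p.1 - p.2)

def clsT : List ℕ := [0, 4, 4, 2, 4, 4, 2, 4, 4, 4, 4, 3, 5, 5, 3, 6, 6, 3, 4, 3, 4, 6, 3, 6, 5, 3, 5, 2, 6, 5, 2, 6,
  5, 1, 6, 5, 4, 6, 3, 5, 4, 3, 6, 5, 3, 4, 3, 5, 6, 3, 4, 5, 3, 6, 2, 5, 6, 1, 5, 6, 2, 5, 6, 4, 5, 3, 5, 6, 3, 6, 4,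
  3, 4, 3, 6, 6, 3, 5, 5, 3, 4]

/-- the class of an element -/
def cls (p : Z2) : ℕ := clsT.getD (9 * p.1.val + p.2.val) 0

def rep (c : ℕ) : Z2 := [((0 : ZMod 9), (0 : ZMod 9)), (3, 6), (3, 0), (1, 8), (1, 0), (1, 3), (1, 6)].getD c (0, 0)

theorem cls_spec : ∀ p : Z2, ∃ u ∈ [1, 2, 4, 5, 7, 8], ∃ i ∈ [0, 1, 2],
    p = ((u : ℕ) : ZMod 9) • (rot^[i] (rep (cls p))) := by
  (delta Cfsg.Agent.H949.E7G.Rot.rot Cfsg.Agent.H949.E7G.Rot.rep Cfsg.Agent.H949.E7G.Rot.cls; set_option synthInstance.maxSize 20000 in open scoped Cfsg.Agent.Lib.MatDec in decide +kernel)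

theorem ms3 : (Finset.univ : Finset Z2).val.map (fun p => (cls p, 2 * p.1 - p.2)) =
    (([(0, 0)] ++ List.replicate 2 (1, 0) ++ List.replicate 3 (2, 3) ++ List.replicate 3 (2, 6) ++
      List.replicate 6 (3, 0) ++ List.replicate 6 (3, 3) ++ List.replicate 6 (3, 6) ++
      List.replicate 3 (4, 1) ++ List.replicate 3 (4, 2) ++ List.replicate 3 (4, 4) ++
      List.replicate 3 (4, 5) ++ List.replicate 3 (4, 7) ++ List.replicate 3 (4, 8) ++
      List.replicate 3 (5, 1) ++ List.replicate 3 (5, 2) ++ List.replicate 3 (5, 4) ++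
      List.replicate 3 (5, 5) ++ List.replicate 3 (5, 7) ++ List.replicate 3 (5, 8) ++
      List.replicate 3 (6, 1) ++ List.replicate 3 (6, 2) ++ List.replicate 3 (6, 4) ++
      List.replicate 3 (6, 5) ++ List.replicate 3 (6, 7) ++ List.replicate 3 (6, 8) : List (ℕ × ZMod 9)) :
      Multiset (ℕ × ZMod 9)) := by
  (set_option synthInstance.maxSize 20000 in open scoped Cfsg.Agent.Lib.MatDec in decide +kernel)

theorem ms2 : (Finset.univ : Finset Z2).val.map (fun p => (cls p, 3 * p.1)) =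
    (([(0, 0)] ++ List.replicate 2 (1, 0) ++ List.replicate 6 (2, 0) ++ List.replicate 9 (3, 3) ++
      List.replicate 9 (3, 6) ++
      List.replicate 6 (4, 0) ++ List.replicate 6 (4, 3) ++ List.replicate 6 (4, 6) ++
      List.replicate 6 (5, 0) ++ List.replicate 6 (5, 3) ++ List.replicate 6 (5, 6) ++
      List.replicate 6 (6, 0) ++ List.replicate 6 (6, 3) ++ List.replicate 6 (6, 6) : List (ℕ × ZMod 9)) :
      Multiset (ℕ × ZMod 9)) := by
  (set_option synthInstance.maxSize 20000 in open scoped Cfsg.Agent.Lib.MatDec in decide +kernel)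

theorem ms1 : (Finset.univ : Finset Z2).val.map (fun p => (min (cls p) 4, p.1)) =
    (([(0, 0)] ++ List.replicate 1 (1, 3) ++ List.replicate 1 (1, 6) ++ List.replicate 2 (2, 0) ++
      List.replicate 2 (2, 3) ++ List.replicate 2 (2, 6) ++
      List.replicate 3 (3, 1) ++ List.replicate 3 (3, 2) ++ List.replicate 3 (3, 4) ++
      List.replicate 3 (3, 5) ++ List.replicate 3 (3, 7) ++ List.replicate 3 (3, 8) ++
      List.replicate 6 (4, 0) ++ List.replicate 6 (4, 1) ++ List.replicate 6 (4, 2) ++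
      List.replicate 6 (4, 3) ++ List.replicate 6 (4, 4) ++ List.replicate 6 (4, 5) ++
      List.replicate 6 (4, 6) ++ List.replicate 6 (4, 7) ++ List.replicate 6 (4, 8) : List (ℕ × ZMod 9)) :
      Multiset (ℕ × ZMod 9)) := by
  decide +kernel

theorem gen_z : ∀ p : Z2, p ≠ 0 → ∃ i j : ZMod 9, i • p + j • rot p = (3, 6) := by
  (delta Cfsg.Agent.H949.E7G.Rot.rot; set_option synthInstance.maxSize 20000 in open scoped Cfsg.Agent.Lib.MatDec in decide +kernel)

theorem sum_cls {ι : Type*} [Fintype ι] {g : ι → ℕ × ZMod 9} {L : List (ℕ × ZMod 9)}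
    (h : (Finset.univ : Finset ι).val.map g = (L : Multiset (ℕ × ZMod 9))) (f : ℕ × ZMod 9 → ℂ) :
    ∑ p, f (g p) = (L.map f).sum := by
  have h1 := congrArg (fun m : Multiset (ℕ × ZMod 9) => (m.map f).sum) h
  simp only [Multiset.map_map, Multiset.map_coe, Multiset.sum_coe] at h1
  exact h1

section

variable {G : Type*} [Group G] {x x' : G}

/-- the homomorphism from `9 × 9` -/
def phi (hx : x ^ 9 = 1) (hx' : x' ^ 9 = 1) (hc : Commute x x') : Multiplicative Z2 →* G where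
  toFun p := x ^ (Multiplicative.toAdd p).1.val * x' ^ (Multiplicative.toAdd p).2.val
  map_one' := by
    show x ^ (0 : ZMod 9).val * x' ^ (0 : ZMod 9).val = 1
    simp
  map_mul' p q := by
    show x ^ ((Multiplicative.toAdd p).1 + (Multiplicative.toAdd q).1).val *
      x' ^ ((Multiplicative.toAdd p).2 + (Multiplicative.toAdd q).2).val = _
    have h : ∀ {y : G}, y ^ 9 = 1 → ∀ a b : ZMod 9, y ^ (a + b).val = y ^ a.val * y ^ b.val := by
      intro y hy a b
      rw [ZMod.val_add, ← pow_eq_pow_mod _ hy, pow_add]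
    rw [h hx, h hx']
    have h2 := (hc.pow_pow (Multiplicative.toAdd q).1.val (Multiplicative.toAdd p).2.val).eq
    rw [mul_assoc, mul_assoc]
    congr 1
    rw [← mul_assoc, h2, mul_assoc]

theorem phi_apply (hx : x ^ 9 = 1) (hx' : x' ^ 9 = 1) (hc : Commute x x') (m n : ℤ) :
    phi hx hx' hc (Multiplicative.ofAdd ((m : ZMod 9), (n : ZMod 9))) = x ^ m * x' ^ n := by
  show x ^ (m : ZMod 9).val * x' ^ (n : ZMod 9).val = _
  have h : ∀ {y : G}, y ^ 9 = 1 → ∀ m : ℤ, y ^ (m : ZMod 9).val = y ^ m := by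
    intro y hy m
    rw [← zpow_natCast, ZMod.val_intCast]
    have h1 : y ^ (9 : ℤ) = 1 := by
      have := hy
      rw [← zpow_natCast] at this
      exact this
    conv_rhs => rw [← Int.emod_add_mul_ediv m 9]
    rw [zpow_add, zpow_mul, h1, one_zpow, mul_one]
    rfl
  rw [h hx, h hx']

end

/-- the torus and the rotation -/
theorem setup {G : Type*} [Group G] {x c : G} (hx : x ^ 9 = 1) (hcomm : Commute x (c * x * c⁻¹))
    (hprod : x * (c * x * c⁻¹) * (c * (c * x * c⁻¹) * c⁻¹) = 1) (hne : ¬ Commute c (x ^ 3)) :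
    ∃ f : Multiplicative Z2 →* G, (∀ p, f (Multiplicative.ofAdd (rot p)) = c * f (Multiplicative.ofAdd p) * c⁻¹) ∧
      (∀ p : Z2, p ≠ 0 → f (Multiplicative.ofAdd p) ≠ 1) := by
  obtain ⟨x', hx'def⟩ : ∃ x', x' = c * x * c⁻¹ := ⟨_, rfl⟩
  rw [← hx'def] at hcomm hprod
  have hx' : x' ^ 9 = 1 := by rw [hx'def, conj_pow, hx, mul_one, mul_inv_cancel]
  have h2 : c * x' * c⁻¹ = x⁻¹ * x'⁻¹ := by
    have h3 : c * x' * c⁻¹ = (x * x')⁻¹ := eq_inv_of_mul_eq_one_right hprod
    rw [h3, hcomm.eq, mul_inv_rev]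
  have hrot : ∀ p : Z2, phi hx hx' hcomm (Multiplicative.ofAdd (rot p)) =
      c * phi hx hx' hcomm (Multiplicative.ofAdd p) * c⁻¹ := by
    intro p
    obtain ⟨a, b⟩ := p
    obtain ⟨m, rfl⟩ := ZMod.intCast_surjective a
    obtain ⟨n, rfl⟩ := ZMod.intCast_surjective b
    have h1 : rot ((m : ZMod 9), (n : ZMod 9)) = (((-n : ℤ) : ZMod 9), ((m - n : ℤ) : ZMod 9)) := by
      unfold rot
      push_cast
      rfl
    rw [h1, phi_apply, phi_apply]
    calc x ^ (-n) * x' ^ (m - n) = x' ^ m * (x⁻¹ * x'⁻¹) ^ n := by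
          rw [(hcomm.inv_inv).mul_zpow, inv_zpow', inv_zpow', ← mul_assoc, ← (hcomm.zpow_zpow (-n) m).eq, mul_assoc,
            ← zpow_add, sub_eq_add_neg]
      _ = (c * x * c⁻¹) ^ m * (c * x' * c⁻¹) ^ n := by rw [h2, ← hx'def]
      _ = c * (x ^ m * x' ^ n) * c⁻¹ := by
          rw [conj_zpow, conj_zpow]
          group
  have hz : phi hx hx' hcomm (Multiplicative.ofAdd ((3 : ZMod 9), (6 : ZMod 9))) ≠ 1 := by
    intro h
    apply hne
    have h1 := phi_apply hx hx' hcomm 3 (-3)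
    have e : (((3 : ℤ) : ZMod 9), ((-3 : ℤ) : ZMod 9)) = ((3 : ZMod 9), (6 : ZMod 9)) := by decide
    rw [e, h] at h1
    have h2 : x' ^ (3 : ℤ) = x ^ (3 : ℤ) := by
      rw [zpow_neg, eq_comm, mul_inv_eq_one] at h1
      exact h1.symm
    rw [hx'def, conj_zpow] at h2
    have h3 : c * x ^ (3 : ℤ) = x ^ (3 : ℤ) * c := by
      conv_rhs => rw [← h2]
      group
    have e3 : x ^ (3 : ℤ) = x ^ (3 : ℕ) := zpow_natCast x 3
    rw [e3] at h3
    exact h3
  refine ⟨phi hx hx' hcomm, hrot, fun p hp h => ?_⟩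
  obtain ⟨i, j, hij⟩ := gen_z p hp
  apply hz
  rw [← hij]
  have h1 : phi hx hx' hcomm (Multiplicative.ofAdd (rot p)) = 1 := by rw [hrot, h, mul_one, mul_inv_cancel]
  have h2 : ∀ (i : ZMod 9) (q : Z2), phi hx hx' hcomm (Multiplicative.ofAdd q) = 1 →
      phi hx hx' hcomm (Multiplicative.ofAdd (i • q)) = 1 := by
    intro i q hq
    rw [← ZMod.natCast_zmod_val i, Nat.cast_smul_eq_nsmul, ofAdd_nsmul, map_pow, hq, one_pow]
  rw [ofAdd_add, map_mul, h2 i p h, h2 j _ h1, one_mul]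

/-- positivity for a character of `9 × 9` -/
theorem pos {Θ : Multiplicative Z2 → ℂ} (hΘ : IsCharacter (Multiplicative Z2) Θ) {ξ : ℂ} (hξ9 : ξ ^ 9 = 1)
    (l : Z2 →+ ZMod 9) : ∃ n : ℕ, ∑ p : Z2, Θ (Multiplicative.ofAdd p) * ξ ^ (l p).val = n * 81 := by
  classical
  let χ0 : Multiplicative Z2 →* ℂ :=
    { toFun := fun p => ξ ^ (l (- Multiplicative.toAdd p)).val
      map_one' := by simp
      map_mul' := fun p q => by
        show ξ ^ (l (-(Multiplicative.toAdd p + Multiplicative.toAdd q))).val = _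
        rw [neg_add, map_add, ZMod.val_add, ← pow_eq_pow_mod _ hξ9, pow_add] }
  have h1 := CharDeep.LinearChar.isCharacter_of_hom χ0.toHomUnits
  obtain ⟨n, hn⟩ := Characters.Core.classInner_isNat hΘ h1
  refine ⟨n, ?_⟩
  rw [← hn]
  unfold classInner
  have h2 : (Nat.card (Multiplicative Z2) : ℂ) = 81 := by
    rw [Nat.card_eq_fintype_card, Fintype.card_multiplicative, Fintype.card_prod, ZMod.card]
    norm_num
  rw [h2]
  have h3 : ∀ g : Multiplicative Z2, Θ g * conj ((χ0.toHomUnits g : ℂˣ) : ℂ) =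
      Θ g * ξ ^ (l (Multiplicative.toAdd g)).val := by
    intro g
    have h4 := Characters.Core.isCharacter_apply_inv h1 g
    rw [← h4]
    congr 1
    show ξ ^ (l (- -Multiplicative.toAdd g)).val = _
    rw [neg_neg]
  rw [Finset.sum_congr rfl fun g _ => h3 g]
  have h5 : ∑ g : Multiplicative Z2, Θ g * ξ ^ (l (Multiplicative.toAdd g)).val =
      ∑ p : Z2, Θ (Multiplicative.ofAdd p) * ξ ^ (l p).val := by
    exact Fintype.sum_equiv Multiplicative.toAdd _ _ fun g => rfl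
  rw [h5]
  ring

section Arith

variable {F : Z2 → ℂ} {ξ : ℂ}

theorem w_val : (0 : ZMod 9).val = 0 ∧ (1 : ZMod 9).val = 1 ∧ (2 : ZMod 9).val = 2 ∧ (3 : ZMod 9).val = 3 ∧
    (4 : ZMod 9).val = 4 ∧ (5 : ZMod 9).val = 5 ∧ (6 : ZMod 9).val = 6 ∧ (7 : ZMod 9).val = 7 ∧
    (8 : ZMod 9).val = 8 := ⟨rfl, rfl, rfl, rfl, rfl, rfl, rfl, rfl, rfl⟩

theorem r_val : rep 0 = (0, 0) ∧ rep 1 = (3, 6) ∧ rep 2 = (3, 0) ∧ rep 3 = (1, 8) ∧ rep 4 = (1, 0) ∧ rep 5 = (1, 3) ∧
    rep 6 = (1, 6) := ⟨rfl, rfl, rfl, rfl, rfl, rfl, rfl⟩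

theorem sum3 (hF0 : F (0, 0) = 56) (hFrep : ∀ p, F p = F (rep (cls p))) (hf1 : 1 + ξ ^ 3 + ξ ^ 6 = 0) :
    ∑ p : Z2, F p * ξ ^ (2 * p.1 - p.2).val = 56 - 3 * F (3, 0) + 2 * F (3, 6) := by
  obtain ⟨w0, w1, w2, w3, w4, w5, w6, w7, w8⟩ := w_val
  obtain ⟨r0, r1, r2, r3, r4, r5, r6⟩ := r_val
  have h1 : ∀ p : Z2, F p * ξ ^ (2 * p.1 - p.2).val =
      (fun q : ℕ × ZMod 9 => F (rep q.1) * ξ ^ q.2.val) (cls p, 2 * p.1 - p.2) := by
    intro p
    show _ = F (rep (cls p)) * _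
    rw [← hFrep]
  rw [Finset.sum_congr rfl fun p _ => h1 p]
  refine (sum_cls ms3 (fun q : ℕ × ZMod 9 => F (rep q.1) * ξ ^ q.2.val)).trans ?_
  simp only [List.map_append, List.sum_append, List.map_replicate, List.sum_replicate, List.map_cons, List.map_nil,
    List.sum_cons, List.sum_nil, r0, r1, r2, r3, r4, r5, r6, w0, w1, w2, w3, w4, w5, w6, w7, w8, hF0, nsmul_eq_mul]
  push_cast
  linear_combination (3 * F (3, 0) + 6 * F (1, 8) + 3 * (ξ + ξ ^ 2) * (F (1, 0) + F (1, 3) + F (1, 6))) * hf1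

theorem sum2 (hF0 : F (0, 0) = 56) (hFrep : ∀ p, F p = F (rep (cls p))) (hf1 : 1 + ξ ^ 3 + ξ ^ 6 = 0) :
    ∑ p : Z2, F p * ξ ^ (3 * p.1).val = 56 + 6 * F (3, 0) + 2 * F (3, 6) - 9 * F (1, 8) := by
  obtain ⟨w0, w1, w2, w3, w4, w5, w6, w7, w8⟩ := w_val
  obtain ⟨r0, r1, r2, r3, r4, r5, r6⟩ := r_val
  have h1 : ∀ p : Z2, F p * ξ ^ (3 * p.1).val =
      (fun q : ℕ × ZMod 9 => F (rep q.1) * ξ ^ q.2.val) (cls p, 3 * p.1) := by
    intro p
    show _ = F (rep (cls p)) * _
    rw [← hFrep]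
  rw [Finset.sum_congr rfl fun p _ => h1 p]
  refine (sum_cls ms2 (fun q : ℕ × ZMod 9 => F (rep q.1) * ξ ^ q.2.val)).trans ?_
  simp only [List.map_append, List.sum_append, List.map_replicate, List.sum_replicate, List.map_cons, List.map_nil,
    List.sum_cons, List.sum_nil, r0, r1, r2, r3, r4, r5, r6, w0, w1, w2, w3, w4, w5, w6, w7, w8, hF0, nsmul_eq_mul]
  push_cast
  linear_combination (9 * F (1, 8) + 6 * (F (1, 0) + F (1, 3) + F (1, 6))) * hf1

theorem cls_le : ∀ p : Z2, cls p ≤ 6 := by decide +kernel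

theorem sum1 (hF0 : F (0, 0) = 56) (hFrep : ∀ p, F p = F (rep (cls p))) (hf1 : 1 + ξ ^ 3 + ξ ^ 6 = 0) {w : ℂ}
    (hw4 : F (1, 0) = w) (hw5 : F (1, 3) = w) (hw6 : F (1, 6) = w) :
    ∑ p : Z2, F p * ξ ^ (p.1).val = 56 - F (3, 6) := by
  obtain ⟨w0, w1, w2, w3, w4, w5, w6, w7, w8⟩ := w_val
  obtain ⟨r0, r1, r2, r3, r4, r5, r6⟩ := r_val
  have h1 : ∀ p : Z2, F p * ξ ^ (p.1).val =
      (fun q : ℕ × ZMod 9 => F (rep q.1) * ξ ^ q.2.val) (min (cls p) 4, p.1) := by
    intro p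
    show _ = F (rep (min (cls p) 4)) * _
    have h2 : F (rep (min (cls p) 4)) = F p := by
      rw [hFrep p]
      have h3 := cls_le p
      have h4 : cls p ≤ 4 ∨ cls p = 5 ∨ cls p = 6 := by omega
      rcases h4 with h4 | h4 | h4
      · rw [min_eq_left h4]
      · rw [h4]
        show F (rep 4) = F (rep 5)
        rw [r4, r5, hw4, hw5]
      · rw [h4]
        show F (rep 4) = F (rep 6)
        rw [r4, r6, hw4, hw6]
    rw [h2]
  rw [Finset.sum_congr rfl fun p _ => h1 p]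
  refine (sum_cls ms1 (fun q : ℕ × ZMod 9 => F (rep q.1) * ξ ^ q.2.val)).trans ?_
  simp only [List.map_append, List.sum_append, List.map_replicate, List.sum_replicate, List.map_cons, List.map_nil,
    List.sum_cons, List.sum_nil, r0, r1, r2, r3, r4, r5, r6, w0, w1, w2, w3, w4, w5, w6, w7, w8, hF0, nsmul_eq_mul,
    hw4]
  push_cast
  linear_combination (F (3, 6) + 2 * F (3, 0) + 3 * F (1, 8) * (ξ + ξ ^ 2) + 6 * w * (1 + ξ + ξ ^ 2)) * hf1

theorem key (n : ℕ) (r : ℤ) (h : (n : ℂ) * 81 = r) : (n : ℤ) * 81 = r := by exact_mod_cast h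

/-- the arithmetic -/
theorem arith (hF0 : F (0, 0) = 56) (hFrep : ∀ p, F p = F (rep (cls p))) (hf1 : 1 + ξ ^ 3 + ξ ^ 6 = 0)
    (hpos : ∀ l : Z2 →+ ZMod 9, ∃ n : ℕ, ∑ p : Z2, F p * ξ ^ (l p).val = n * 81)
    (hnine : ∀ p : Z2, (3 : ZMod 9) • p ≠ 0 → F ((3 : ZMod 9) • p) = 2 ∨ (F ((3 : ZMod 9) • p) = -25 ∧ F p = -1) ∨
      (F ((3 : ZMod 9) • p) = -7 ∧ F p = -1) ∨ (F ((3 : ZMod 9) • p) = 20 ∧ F p = 2)) : False := by
  obtain ⟨n3, hn3⟩ := hpos ((AddMonoidHom.mulLeft (2 : ZMod 9)).comp (AddMonoidHom.fst _ _) - AddMonoidHom.snd _ _)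
  have h3 : (n3 : ℂ) * 81 = 56 - 3 * F (3, 0) + 2 * F (3, 6) := by
    rw [← hn3, ← sum3 hF0 hFrep hf1]
    rfl
  obtain ⟨n2, hn2⟩ := hpos ((AddMonoidHom.mulLeft (3 : ZMod 9)).comp (AddMonoidHom.fst _ _))
  have h2 : (n2 : ℂ) * 81 = 56 + 6 * F (3, 0) + 2 * F (3, 6) - 9 * F (1, 8) := by
    rw [← hn2, ← sum2 hF0 hFrep hf1]
    rfl
  obtain ⟨n1, hn1⟩ := hpos (AddMonoidHom.fst _ _)
  have h1 : ∀ w : ℂ, F (1, 0) = w → F (1, 3) = w → F (1, 6) = w → (n1 : ℂ) * 81 = 56 - F (3, 6) := by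
    intro w hw4 hw5 hw6
    rw [← hn1, ← sum1 hF0 hFrep hf1 hw4 hw5 hw6]
    rfl
  have hy' : F (3, 6) = 2 ∨ (F (3, 6) = -25 ∧ F (1, 8) = -1) ∨ (F (3, 6) = -7 ∧ F (1, 8) = -1) ∨
      (F (3, 6) = 20 ∧ F (1, 8) = 2) := by
    have h1 := hnine (1, 8) (by decide)
    have e : (3 : ZMod 9) • ((1 : ZMod 9), (8 : ZMod 9)) = ((3 : ZMod 9), (6 : ZMod 9)) := by decide
    rw [e] at h1
    exact h1
  have hx : ∀ k : ZMod 9, (3 : ZMod 9) * k = 0 → F (3, 0) = 2 ∨ (F (3, 0) = -25 ∧ F (1, k) = -1) ∨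
      (F (3, 0) = -7 ∧ F (1, k) = -1) ∨ (F (3, 0) = 20 ∧ F (1, k) = 2) := by
    intro k hk
    have e : (3 : ZMod 9) • ((1 : ZMod 9), k) = ((3 : ZMod 9), (0 : ZMod 9)) := Prod.ext (by show (3 : ZMod 9) * 1 = 3; decide) hk
    have h1 := hnine (1, k) (by rw [e]; decide)
    rw [e] at h1
    exact h1
  have hx4 := hx 0 (by decide)
  have hx5 := hx 3 (by decide)
  have hx6 := hx 6 (by decide)
  generalize F (3, 0) = A at *
  generalize F (3, 6) = B at *
  generalize F (1, 8) = y at *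
  generalize F (1, 0) = x4 at *
  generalize F (1, 3) = x5 at *
  generalize F (1, 6) = x6 at *
  rcases hx4 with rfl | ⟨rfl, b4⟩ | ⟨rfl, b4⟩ | ⟨rfl, b4⟩
  · rcases hy' with rfl | ⟨rfl, rfl⟩ | ⟨rfl, rfl⟩ | ⟨rfl, rfl⟩
    · have := key n3 54 (h3.trans (by norm_num)); omega
    · have := key n2 27 (h2.trans (by norm_num)); omega
    · have := key n3 36 (h3.trans (by norm_num)); omega
    · have := key n3 90 (h3.trans (by norm_num)); omega
  · rcases hy' with rfl | ⟨rfl, rfl⟩ | ⟨rfl, rfl⟩ | ⟨rfl, rfl⟩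
    · have := key n3 135 (h3.trans (by norm_num)); omega
    · have := key n2 (-135) (h2.trans (by norm_num)); omega
    · have := key n3 117 (h3.trans (by norm_num)); omega
    · have := key n3 171 (h3.trans (by norm_num)); omega
  · have b5 : x5 = -1 := by norm_num at hx5; exact hx5
    have b6 : x6 = -1 := by norm_num at hx6; exact hx6
    rcases hy' with rfl | ⟨rfl, rfl⟩ | ⟨rfl, rfl⟩ | ⟨rfl, rfl⟩
    · have := key n1 54 ((h1 (-1) b4 b5 b6).trans (by norm_num)); omega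
    · have := key n3 27 (h3.trans (by norm_num)); omega
    · have := key n3 63 (h3.trans (by norm_num)); omega
    · have := key n3 117 (h3.trans (by norm_num)); omega
  · have b5 : x5 = 2 := by norm_num at hx5; exact hx5
    have b6 : x6 = 2 := by norm_num at hx6; exact hx6
    rcases hy' with rfl | ⟨rfl, rfl⟩ | ⟨rfl, rfl⟩ | ⟨rfl, rfl⟩
    · have := key n1 54 ((h1 2 b4 b5 b6).trans (by norm_num)); omega
    · have := key n3 (-54) (h3.trans (by norm_num)); omega
    · have := key n3 (-18) (h3.trans (by norm_num)); omega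
    · have := key n3 36 (h3.trans (by norm_num)); omega

end Arith

/-- **There is no `(9 × 9) : 3` as in `SU₃(8)`.** -/
theorem no_rot {x c : ↥(chevE7.group (ZMod 2))} (hx : x ^ 9 = 1) (hcomm : Commute x (c * x * c⁻¹))
    (hprod : x * (c * x * c⁻¹) * (c * (c * x * c⁻¹) * c⁻¹) = 1) (hne : ¬ Commute c (x ^ 3)) : False := by
  classical
  have hfact : Fact (Nat.Prime 2) := ⟨Nat.prime_two⟩
  obtain ⟨M, hM⟩ := Cfsg.Agent.Blocks.ExistsModular.exists_isPModular Nat.prime_two
  obtain ⟨V, hV⟩ := exists_above hM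
  have : CharP (ResidueField V) 2 := hV.charP hM
  obtain ⟨f, hrot, hinj⟩ := setup hx hcomm hprod hne
  obtain ⟨ξ, hξ⟩ : ∃ ξ : ℂ, IsPrimitiveRoot ξ 9 := ⟨_, Complex.isPrimitiveRoot_exp 9 (by norm_num)⟩
  have hξ9 : ξ ^ 9 = 1 := hξ.pow_eq_one
  have hf1 : 1 + ξ ^ 3 + ξ ^ 6 = 0 := by
    have e1 : ξ ^ 3 ≠ 1 := hξ.pow_ne_one_of_pos_of_lt (by norm_num) (by norm_num)
    have : (ξ ^ 3 - 1) * (1 + ξ ^ 3 + ξ ^ 6) = 0 := by linear_combination hξ9
    exact (mul_eq_zero.1 this).resolve_left (sub_ne_zero.2 e1)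
  have hcard : ¬ 2 ∣ Nat.card (Multiplicative Z2) := by
    rw [Nat.card_eq_fintype_card, Fintype.card_multiplicative, Fintype.card_prod, ZMod.card]
    norm_num
  have hchar : IsCharacter (Multiplicative Z2) (bc 2 ((sg V).comp f)) :=
    Cfsg.Agent.H699.IBrLift.isCharacter_bc hM hV hcard ((sg V).comp f)
  have h9 : ∀ p : Z2, f (Multiplicative.ofAdd p) ^ 9 = 1 := by
    intro p
    rw [← map_pow, ← ofAdd_nsmul]
    have : (9 : ℕ) • p = 0 := by
      rw [← Nat.cast_smul_eq_nsmul (ZMod 9)]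
      have h0 : ((9 : ℕ) : ZMod 9) = 0 := by decide
      rw [h0, zero_smul]
    rw [this, ofAdd_zero, map_one]
  have hcube : ∀ p : Z2, f (Multiplicative.ofAdd p) ^ 3 = f (Multiplicative.ofAdd ((3 : ZMod 9) • p)) := by
    intro p
    have e : (3 : ZMod 9) • p = (3 : ℕ) • p := by
      rw [← Nat.cast_smul_eq_nsmul (ZMod 9)]
      rfl
    rw [e, ofAdd_nsmul, map_pow]
  obtain ⟨F, hF⟩ : ∃ F : Z2 → ℂ, F = fun p => bc 2 (sg V) (f (Multiplicative.ofAdd p)) := ⟨_, rfl⟩
  have hFrot : ∀ p, F (rot p) = F p := by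
    intro p
    rw [hF]
    show bc 2 (sg V) (f (Multiplicative.ofAdd (rot p))) = _
    rw [hrot]
    exact bc_conj 2 (sg V) _ _
  have hFu : ∀ (u : ℕ) (p : Z2), Nat.Coprime u 9 → F (((u : ℕ) : ZMod 9) • p) = F p := by
    intro u p hu
    rw [hF]
    show bc 2 (sg V) (f (Multiplicative.ofAdd _)) = _
    rw [Nat.cast_smul_eq_nsmul, ofAdd_nsmul, map_pow]
    exact bc_unit (h9 p) hu
  have hFi : ∀ i : ℕ, ∀ q, F (rot^[i] q) = F q := by
    intro i
    induction i with
    | zero => intro q; rfl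
    | succ i ih => intro q; rw [Function.iterate_succ_apply', hFrot, ih]
  have hFrep : ∀ p, F p = F (rep (cls p)) := by
    intro p
    obtain ⟨u, hu, i, hi, hp⟩ := cls_spec p
    have hu' : Nat.Coprime u 9 := by
      simp only [List.mem_cons, List.mem_nil_iff, or_false] at hu
      rcases hu with rfl | rfl | rfl | rfl | rfl | rfl <;> norm_num
    conv_lhs => rw [hp]
    rw [hFu u _ hu', hFi]
  refine arith (F := F) (ξ := ξ) ?_ hFrep hf1 ?_ ?_
  · rw [hF]
    show bc 2 (sg V) (f (Multiplicative.ofAdd ((0 : ZMod 9), (0 : ZMod 9)))) = 56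
    have : (((0 : ZMod 9), (0 : ZMod 9)) : Z2) = 0 := rfl
    rw [this, ofAdd_zero, map_one]
    exact bc_one
  · intro l
    rw [hF]
    exact pos hchar hξ9 l
  · intro p hp
    have h1 := nine (V := V) (h9 p) (by rw [hcube]; exact hinj _ hp)
    rw [hcube] at h1
    rw [hF]
    exact h1

end Cfsg.Agent.H949.E7G.Rot
end

-- part: H949/E7G/GTwo
section
/-!
# `G₂(8)` contains `(9 × 9) : 3`
-/

set_option autoImplicit false

namespace Cfsg.Agent.H949.E7G.GTwo

open Cfsg Cfsg.Lie Cfsg.Agent.H62.GTwoSU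

section

variable {F : Type*} [Field F] [Fintype F]

theorem two_eq_zero (hF : Fintype.card F = 8) : (2 : F) = 0 := by
  obtain ⟨p, hp⟩ := CharP.exists F
  obtain ⟨j, hj1, hj2⟩ := FiniteField.card F p
  have h1 : p ∣ 2 ^ 3 := by
    have : (2 : ℕ) ^ 3 = p ^ (j : ℕ) := by rw [← hj2, hF]; norm_num
    rw [this]
    exact dvd_pow_self p j.ne_zero
  have h2 := (Nat.prime_dvd_prime_iff_eq hj1 Nat.prime_two).1 (hj1.dvd_of_dvd_pow h1)
  subst h2
  exact CharP.cast_eq_zero F 2

theorem exists_u (hF : Fintype.card F = 8) : ∃ u : F, u ^ 3 = u + 1 := by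
  classical
  have h2 := two_eq_zero hF
  obtain ⟨w, hw⟩ : ∃ w : F, w ∉ ({0, 1} : Finset F) := by
    by_contra hcon
    push Not at hcon
    have h3 : (Finset.univ : Finset F) ⊆ {0, 1} := fun x _ => hcon x
    have h4 := Finset.card_le_card h3
    rw [Finset.card_univ, hF] at h4
    have h5 : ({0, 1} : Finset F).card ≤ 2 := Finset.card_le_two
    omega
  simp only [Finset.mem_insert, Finset.mem_singleton, not_or] at hw
  obtain ⟨h0, h1⟩ := hw
  have h8 : w ^ 8 = w := by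
    rw [← hF]
    exact FiniteField.pow_card w
  have h3 : w * ((w - 1) * ((w ^ 3 - w - 1) * (w ^ 3 - w ^ 2 - 1))) = 0 := by
    linear_combination h8 + (-w ^ 7 + w ^ 4) * h2
  rcases mul_eq_zero.1 h3 with h | h
  · exact absurd h h0
  rcases mul_eq_zero.1 h with h | h
  · exact absurd (sub_eq_zero.1 h) h1
  rcases mul_eq_zero.1 h with h | h
  · exact ⟨w, by linear_combination h⟩
  · -- the inverse of `w`
    refine ⟨w + 1, ?_⟩
    linear_combination h + (2 * w ^ 2 + w) * h2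
theorem irr (hF : Fintype.card F = 8) : ∀ r : F, r ^ 2 ≠ -1 + 1 * r := by
  intro r hr
  have h2 := two_eq_zero hF
  have h8 : r ^ 8 = r := by
    rw [← hF]
    exact FiniteField.pow_card r
  have h3 : r ^ 3 = -1 := by linear_combination (r + 1) * hr
  have h5 : r ^ 8 = r ^ 2 := by
    calc r ^ 8 = (r ^ 3) ^ 2 * r ^ 2 := by ring
      _ = r ^ 2 := by rw [h3]; ring
  have h6 : (1 : F) = 0 := by
    linear_combination hr - h8 + h5
  exact one_ne_zero h6

/-- the matrices of `SU₃` -/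
def UU (F : Type*) [Field F] : Subgroup (Matrix.SpecialLinearGroup (Fin 3) (LL F 1)) where
  carrier := {g | star (g : Matrix (Fin 3) (Fin 3) (LL F 1)) * (g : Matrix (Fin 3) (Fin 3) (LL F 1)) = 1}
  mul_mem' {a b} ha hb := by
    show star ((a : Matrix (Fin 3) (Fin 3) (LL F 1)) * (b : Matrix (Fin 3) (Fin 3) (LL F 1))) *
      ((a : Matrix (Fin 3) (Fin 3) (LL F 1)) * (b : Matrix (Fin 3) (Fin 3) (LL F 1))) = 1
    have ha' : star (a : Matrix (Fin 3) (Fin 3) (LL F 1)) * (a : Matrix (Fin 3) (Fin 3) (LL F 1)) = 1 := ha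
    have hb' : star (b : Matrix (Fin 3) (Fin 3) (LL F 1)) * (b : Matrix (Fin 3) (Fin 3) (LL F 1)) = 1 := hb
    rw [star_mul, mul_assoc, ← mul_assoc (star (a : Matrix (Fin 3) (Fin 3) (LL F 1))), ha', one_mul, hb']
  one_mem' := by
    show star (1 : Matrix (Fin 3) (Fin 3) (LL F 1)) * 1 = 1
    rw [star_one, one_mul]
  inv_mem' {a} ha := by
    have ha' : star (a : Matrix (Fin 3) (Fin 3) (LL F 1)) * (a : Matrix (Fin 3) (Fin 3) (LL F 1)) = 1 := ha
    have h1 : (a : Matrix (Fin 3) (Fin 3) (LL F 1)) * ((a⁻¹ : Matrix.SpecialLinearGroup (Fin 3) (LL F 1)) :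
        Matrix (Fin 3) (Fin 3) (LL F 1)) = 1 := by
      have := congrArg (fun g : Matrix.SpecialLinearGroup (Fin 3) (LL F 1) => (g : Matrix (Fin 3) (Fin 3) (LL F 1)))
        (mul_inv_cancel a)
      simpa only [Matrix.SpecialLinearGroup.coe_mul, Matrix.SpecialLinearGroup.coe_one] using this
    have h2 : ((a⁻¹ : Matrix.SpecialLinearGroup (Fin 3) (LL F 1)) : Matrix (Fin 3) (Fin 3) (LL F 1)) =
        star (a : Matrix (Fin 3) (Fin 3) (LL F 1)) := by
      calc _ = star (a : Matrix (Fin 3) (Fin 3) (LL F 1)) * ((a : Matrix (Fin 3) (Fin 3) (LL F 1)) *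
            ((a⁻¹ : Matrix.SpecialLinearGroup (Fin 3) (LL F 1)) : Matrix (Fin 3) (Fin 3) (LL F 1))) := by
            rw [← mul_assoc, ha', one_mul]
        _ = _ := by rw [h1, mul_one]
    show star ((a⁻¹ : Matrix.SpecialLinearGroup (Fin 3) (LL F 1)) : Matrix (Fin 3) (Fin 3) (LL F 1)) *
      ((a⁻¹ : Matrix.SpecialLinearGroup (Fin 3) (LL F 1)) : Matrix (Fin 3) (Fin 3) (LL F 1)) = 1
    rw [h2, star_star]
    rw [h2] at h1
    exact h1

end

section

variable {F : Type*} [Field F]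

/-- the element of order nine -/
def zz (u : F) : LL F 1 := ⟨u ^ 2, u⟩

/-- its inverse -/
def zi (u : F) : LL F 1 := ⟨u ^ 2 + u, -u⟩

theorem star_zz (u : F) : star (zz u) = zi u := by
  unfold zz zi
  ext <;> simp

theorem star_zi (u : F) : star (zi u) = zz u := by
  rw [← star_zz, star_star]

theorem zz_mul (h2 : (2 : F) = 0) {u : F} (hu : u ^ 3 = u + 1) : zz u * zi u = 1 := by
  unfold zz zi
  refine QuadraticAlgebra.ext ?_ ?_
  · show u ^ 2 * (u ^ 2 + u) + (-1) * u * (-u) = (1 : F)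
    linear_combination (u + 1) * hu + (u ^ 2 + u) * h2
  · show u ^ 2 * (-u) + u * (u ^ 2 + u) + 1 * u * (-u) = (0 : F)
    ring

theorem zz_sq (h2 : (2 : F) = 0) {u : F} (hu : u ^ 3 = u + 1) : zz u * zz u = ⟨u, u ^ 2⟩ := by
  unfold zz
  refine QuadraticAlgebra.ext ?_ ?_
  · show u ^ 2 * u ^ 2 + (-1) * u * u = u
    linear_combination u * hu
  · show u ^ 2 * u + u * u ^ 2 + 1 * u * u = u ^ 2
    linear_combination u ^ 3 * h2

theorem zz_cube (h2 : (2 : F) = 0) {u : F} (hu : u ^ 3 = u + 1) : zz u ^ 3 = ⟨0, 1⟩ := by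
  rw [pow_succ, pow_two, zz_sq h2 hu]
  unfold zz
  refine QuadraticAlgebra.ext ?_ ?_
  · show u * u ^ 2 + (-1) * u ^ 2 * u = 0
    ring
  · show u * u + u ^ 2 * u ^ 2 + 1 * u ^ 2 * u = 1
    linear_combination (u + 1) * hu + (u ^ 2 + u) * h2

theorem zz_nine (h2 : (2 : F) = 0) {u : F} (hu : u ^ 3 = u + 1) : zz u ^ 9 = 1 := by
  rw [show (9 : ℕ) = 3 * 3 from rfl, pow_mul, zz_cube h2 hu]
  rw [pow_succ, pow_two]
  refine QuadraticAlgebra.ext ?_ ?_
  · show (0 * 0 + (-1) * 1 * 1) * 0 + (-1) * (0 * 1 + 1 * 0 + 1 * 1 * 1) * 1 = (1 : F)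
    linear_combination -h2
  · show (0 * 0 + (-1) * 1 * 1) * 1 + (0 * 1 + 1 * 0 + 1 * 1 * 1) * 0 + 1 * (0 * 1 + 1 * 0 + 1 * 1 * 1) * 1 = (0 : F)
    ring

/-- a diagonal matrix -/
def dm (a b c : LL F 1) : Matrix (Fin 3) (Fin 3) (LL F 1) := !![a, 0, 0; 0, b, 0; 0, 0, c]

theorem dm_det (a b c : LL F 1) : (dm a b c).det = a * b * c := by
  rw [dm, Matrix.det_fin_three]
  simp

theorem dm_star (a b c : LL F 1) : star (dm a b c) = dm (star a) (star b) (star c) := by
  unfold dm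
  refine Matrix.ext fun i j => ?_
  (revert i j; simp only [Matrix.star_apply, _root_.Fin.forall_fin_succ, _root_.Matrix.of_apply, _root_.Matrix.cons_val', _root_.Matrix.cons_val_fin_one, Fin.isValue, _root_.Matrix.cons_val_zero, _root_.Matrix.cons_val_succ, _root_.forall_const, _root_.star_zero, _root_.and_self, _root_.implies_true])

theorem dm_mul (a b c a' b' c' : LL F 1) : dm a b c * dm a' b' c' = dm (a * a') (b * b') (c * c') := by
  unfold dm
  refine Matrix.ext fun i j => ?_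
  (revert i j; simp only [Matrix.mul_apply, Fin.sum_univ_three, _root_.Fin.forall_fin_succ, _root_.Matrix.of_apply, _root_.Matrix.cons_val', _root_.Matrix.cons_val_fin_one, Fin.isValue, _root_.Matrix.cons_val_zero, _root_.Matrix.cons_val_one, _root_.Matrix.cons_val, _root_.MulZeroClass.mul_zero, _root_.add_zero, _root_.Matrix.cons_val_succ, _root_.zero_add, _root_.forall_const, _root_.MulZeroClass.zero_mul, _root_.and_self, _root_.implies_true])

theorem dm_one : dm (1 : LL F 1) 1 1 = 1 := by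
  unfold dm
  refine Matrix.ext fun i j => ?_
  (revert i j; simp only [_root_.Fin.forall_fin_succ, _root_.Matrix.of_apply, _root_.Matrix.cons_val', _root_.Matrix.cons_val_fin_one, Fin.isValue, _root_.Matrix.cons_val_zero, _root_.Matrix.cons_val_succ, _root_.IsEmpty.forall_iff, _root_.and_true, _root_.Matrix.one_apply_eq, Nat.reduceAdd, _root_.Fin.succ_zero_eq_one, _root_.ne_eq, _root_.zero_ne_one, _root_.not_false_eq_true, _root_.Matrix.one_apply_ne, _root_.Fin.succ_one_eq_two, Fin.reduceEq, _root_.and_self, _root_.Fin.succ_ne_zero, _root_.true_and])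

/-- the rotation -/
def cm : Matrix (Fin 3) (Fin 3) (LL F 1) := !![0, 0, 1; 1, 0, 0; 0, 1, 0]

theorem cm_det : (cm : Matrix (Fin 3) (Fin 3) (LL F 1)).det = 1 := by
  rw [cm, Matrix.det_fin_three]
  simp

theorem cm_star : star (cm : Matrix (Fin 3) (Fin 3) (LL F 1)) * cm = 1 := by
  unfold cm
  refine Matrix.ext fun i j => ?_
  (revert i j; simp only [Matrix.mul_apply, Fin.sum_univ_three, Matrix.star_apply, _root_.Fin.forall_fin_succ, _root_.Matrix.of_apply, _root_.Matrix.cons_val', _root_.Matrix.cons_val_fin_one, Fin.isValue, _root_.Matrix.cons_val_zero, _root_.Matrix.cons_val_one, _root_.Matrix.cons_val, _root_.MulZeroClass.mul_zero, _root_.mul_one, _root_.zero_add, _root_.add_zero, _root_.Matrix.cons_val_succ, _root_.IsEmpty.forall_iff, _root_.and_true, _root_.star_one, _root_.Matrix.one_apply_eq, _root_.star_zero, Nat.reduceAdd, _root_.Fin.succ_zero_eq_one, _root_.ne_eq, _root_.zero_ne_one, _root_.not_false_eq_true, _root_.Matrix.one_apply_ne,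 _root_.Fin.succ_one_eq_two, Fin.reduceEq, _root_.and_self, _root_.Fin.succ_ne_zero, _root_.star_eq_zero, _root_.true_and])

theorem cm_dm (a b c : LL F 1) : cm * dm a b c = dm c a b * cm := by
  unfold cm dm
  refine Matrix.ext fun i j => ?_
  (revert i j; simp only [Matrix.mul_apply, Fin.sum_univ_three, _root_.Fin.forall_fin_succ, _root_.Matrix.of_apply, _root_.Matrix.cons_val', _root_.Matrix.cons_val_fin_one, Fin.isValue, _root_.Matrix.cons_val_zero, _root_.Matrix.cons_val_one, _root_.Matrix.cons_val, _root_.MulZeroClass.mul_zero, _root_.add_zero, _root_.mul_one, _root_.zero_add, _root_.Matrix.cons_val_succ, _root_.forall_const, _root_.MulZeroClass.zero_mul, _root_.one_mul, _root_.and_self, _root_.implies_true])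

end

section

variable {F : Type*} [Field F]

/-- the elements of the group -/
def du (a b c : LL F 1) (h1 : a * b * c = 1) (h2 : star a * a = 1) (h3 : star b * b = 1) (h4 : star c * c = 1) :
    ↥(UU F) :=
  ⟨⟨dm a b c, by rw [dm_det, h1]⟩, by
    show star (dm a b c) * dm a b c = 1
    rw [dm_star, dm_mul, h2, h3, h4, dm_one]⟩

def cu : ↥(UU F) := ⟨⟨cm, cm_det⟩, cm_star⟩

/-- the matrix -/
def mt : ↥(UU F) →* Matrix (Fin 3) (Fin 3) (LL F 1) where
  toFun g := ((g : Matrix.SpecialLinearGroup (Fin 3) (LL F 1)) : Matrix (Fin 3) (Fin 3) (LL F 1))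
  map_one' := rfl
  map_mul' _ _ := rfl

theorem mt_inj : Function.Injective (mt (F := F)) := fun _ _ h => Subtype.ext (Subtype.ext h)

theorem mt_du (a b c : LL F 1) (h1 h2 h3 h4) : mt (du a b c h1 h2 h3 h4) = dm a b c := rfl

theorem mt_cu : mt (cu : ↥(UU F)) = cm := rfl

theorem exists_uu (h2 : (2 : F) = 0) {u : F} (hu : u ^ 3 = u + 1) : ∃ x c : ↥(UU F), x ^ 9 = 1 ∧
    Commute x (c * x * c⁻¹) ∧ x * (c * x * c⁻¹) * (c * (c * x * c⁻¹) * c⁻¹) = 1 ∧ ¬ Commute c (x ^ 3) := by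
  have e1 : zz u * zi u = 1 := zz_mul h2 hu
  have e2 : zi u * zz u = 1 := by rw [mul_comm]; exact e1
  have s1 : star (zz u) * zz u = 1 := by rw [star_zz]; exact e2
  have s2 : star (zi u) * zi u = 1 := by rw [star_zi]; exact e1
  have s0 : star (1 : LL F 1) * 1 = 1 := by rw [star_one, mul_one]
  let x : ↥(UU F) := du 1 (zz u) (zi u) (by rw [one_mul]; exact e1) s0 s1 s2
  let x' : ↥(UU F) := du (zi u) 1 (zz u) (by rw [mul_one]; exact e2) s2 s0 s1
  let x'' : ↥(UU F) := du (zz u) (zi u) 1 (by rw [mul_one]; exact e1) s1 s2 s0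
  have hx' : cu * x * cu⁻¹ = x' := by
    rw [mul_inv_eq_iff_eq_mul]
    apply mt_inj
    rw [map_mul, map_mul, mt_cu, mt_du, mt_du, cm_dm]
  have hx'' : cu * x' * cu⁻¹ = x'' := by
    rw [mul_inv_eq_iff_eq_mul]
    apply mt_inj
    rw [map_mul, map_mul, mt_cu, mt_du, mt_du, cm_dm]
  refine ⟨x, cu, ?_, ?_, ?_, ?_⟩
  · apply mt_inj
    have h : ∀ n : ℕ, mt (x ^ n) = dm 1 (zz u ^ n) (zi u ^ n) := by
      intro n
      induction n with
      | zero => rw [pow_zero, map_one, pow_zero, pow_zero, dm_one]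
      | succ n ih => rw [pow_succ, map_mul, ih, mt_du, dm_mul, mul_one, pow_succ, pow_succ]
    have h9 : zi u ^ 9 = 1 := by
      have : (zz u * zi u) ^ 9 = 1 := by rw [e1, one_pow]
      rw [mul_pow, zz_nine h2 hu, one_mul] at this
      exact this
    rw [h, zz_nine h2 hu, h9, map_one, dm_one]
  · rw [hx']
    apply mt_inj
    rw [map_mul, map_mul, mt_du, mt_du, dm_mul, dm_mul, e1, mul_one, one_mul, one_mul, mul_one, e2]
  · rw [hx', hx'']
    apply mt_inj
    rw [map_mul, map_mul, map_one, mt_du, mt_du, mt_du, dm_mul, dm_mul, one_mul, mul_one, e2, e1, mul_one, dm_one]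
  · intro h
    have h1 : mt (cu * x ^ 3) = mt (x ^ 3 * cu) := congrArg mt h
    have h3 : mt (x ^ 3) = dm 1 (zz u ^ 3) (zi u ^ 3) := by
      rw [pow_succ, pow_two, map_mul, map_mul, mt_du, dm_mul, dm_mul]
      rw [pow_succ, pow_two, pow_succ, pow_two, one_mul, one_mul]
    rw [map_mul, map_mul, h3, mt_cu, cm_dm] at h1
    have h4 : zz u ^ 3 = 1 := by
      have := congrFun (congrFun h1 2) 1
      simp only [dm, cm, Matrix.mul_apply, Fin.sum_univ_three, _root_.Fin.isValue, _root_.Matrix.of_apply, _root_.Matrix.cons_val', _root_.Matrix.cons_val_fin_one, _root_.Matrix.cons_val, _root_.Matrix.cons_val_one, _root_.Matrix.cons_val_zero, _root_.MulZeroClass.mul_zero, _root_.add_zero, _root_.mul_one, _root_.zero_add] at this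
      have h5 : (zz u * zi u) ^ 3 = 1 := by rw [e1, one_pow]
      rw [mul_pow, ← this, ← pow_add] at h5
      have h9 := zz_nine h2 hu
      calc zz u ^ 3 = zz u ^ 3 * 1 := (mul_one _).symm
        _ = zz u ^ 3 * zz u ^ (3 + 3) := by rw [h5]
        _ = zz u ^ 9 := by rw [← pow_add]
        _ = 1 := h9
    rw [zz_cube h2 hu] at h4
    have h5 := congrArg QuadraticAlgebra.re h4
    exact zero_ne_one h5

/-- **`G₂(8)` contains the group `(9 × 9) : 3`.** -/
theorem exists_rot [Fintype F] (hF : Fintype.card F = 8) : ∃ x c : ↥(chevG2.group F), x ^ 9 = 1 ∧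
    Commute x (c * x * c⁻¹) ∧ x * (c * x * c⁻¹) * (c * (c * x * c⁻¹) * c⁻¹) = 1 ∧ ¬ Commute c (x ^ 3) := by
  have h2 := two_eq_zero hF
  obtain ⟨u, hu⟩ := exists_u hF
  have hirr : Fact (∀ r : F, r ^ 2 ≠ -1 + 1 * r) := ⟨irr hF⟩
  obtain ⟨f0, hf0⟩ := exists_act (F := F) (n := 1) h2 (mt (F := F)) mt_inj
    (fun g => g.2) (fun g => (g : Matrix.SpecialLinearGroup (Fin 3) (LL F 1)).2)
  obtain ⟨e⟩ := Cfsg.Agent.H638.G2Iso.equiv (F := F)
  obtain ⟨x, c, h3, h4, h5, h6⟩ := exists_uu h2 hu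
  let f : ↥(UU F) →* ↥(chevG2.group F) := e.toMonoidHom.comp f0
  have hf : Function.Injective f := e.injective.comp hf0
  refine ⟨f x, f c, ?_, ?_, ?_, ?_⟩
  · rw [← map_pow, h3, map_one]
  · rw [← map_inv, ← map_mul, ← map_mul]
    exact h4.map f
  · rw [← map_inv, ← map_mul, ← map_mul, ← map_mul, ← map_mul, ← map_mul, ← map_mul, h5, map_one]
  · intro h
    apply h6
    apply hf
    rw [map_mul, map_mul, map_pow]
    exact h

end

end Cfsg.Agent.H949.E7G.GTwo
end

-- part: H949/E7G/Row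
section
/-!
# `G₂(8)` is not a subgroup of `E₇(2)` (S5935)
-/

set_option autoImplicit false

namespace Cfsg.Agent.H949.E7G.Row

open Cfsg Cfsg.Lie

/-- **`G₂(8)` does not embed in `E₇(2)`.** -/
theorem not_g2_eight {F : Type*} [Field F] [Fintype F] (hF : Fintype.card F = 8)
    (f : ↥(chevG2.group F) →* ↥(chevE7.group (ZMod 2))) (hf : Function.Injective f) : False := by
  obtain ⟨x, c, h3, h4, h5, h6⟩ := GTwo.exists_rot hF
  refine Rot.no_rot (x := f x) (c := f c) ?_ ?_ ?_ ?_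
  · rw [← map_pow, h3, map_one]
  · rw [← map_inv, ← map_mul, ← map_mul]
    exact h4.map f
  · rw [← map_inv, ← map_mul, ← map_mul, ← map_mul, ← map_mul, ← map_mul, ← map_mul, h5, map_one]
  · intro h
    apply h6
    apply hf
    rw [map_mul, map_mul, map_pow]
    exact h

/-- **The row `G₂(8)` of S5935**: for every subgroup, maximal or not. -/
theorem row {F : Type*} [Field F] [Fintype F] (hF : Fintype.card F = 8)
    (H : Subgroup ↥(chevE7.group (ZMod 2))) :
    IsEmpty (↥(Cfsg.generalizedFittingSubgroup ↥H) ≃* ↥(chevG2.group F)) := by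
  refine ⟨fun e => not_g2_eight hF
    (H.subtype.comp ((Cfsg.generalizedFittingSubgroup ↥H).subtype.comp e.symm.toMonoidHom)) ?_⟩
  exact H.subtype_injective.comp ((Subgroup.subtype_injective _).comp e.symm.injective)

end Cfsg.Agent.H949.E7G.Row
end

-- part: S5935
section
set_option autoImplicit false
open Cfsg

namespace Cfsg.Agent.S5935

/-- The Chevalley group of type E₇ over the field with two elements (generated by its root elements in the adjoint representation; the simple group E₇(2)) has no maximal subgroup H whose generalized Fitting subgroup F*(H) is isomorphic to any of: PSL₂(19), PSL₂(27), PSL₄(3), PSU₄(3), Ω₇(3) (commutator subgroup of the isometry group of a non-degenerate quadratic form in dimension 7 over the field with three elements), the Chevalley group G₂(3), the alternating group of degree 13, the Hall–Janko sporadic group J₂, or the Chevalley group G₂(8). Here F₁₉, F₂₇, F₉, F₈ denote fields with 19, 27, 9 and 8 elements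 (PSU₄(3) is realised over F₉). -/
theorem result
    {F₁₉ F₂₇ F₉ F₈ : Type*} [Field F₁₉] [Fintype F₁₉] (h19 : Fintype.card F₁₉ = 19) [Field F₂₇] [Fintype F₂₇] (h27 : Fintype.card F₂₇ = 27)
    [Field F₉] [Fintype F₉] (h9 : Fintype.card F₉ = 9) [Field F₈] [Fintype F₈] (h8 : Fintype.card F₈ = 8) (H : Subgroup ↥(Cfsg.Lie.chevE7.group (ZMod 2))) (hH : IsCoatom H) :
    IsEmpty (↥(Cfsg.generalizedFittingSubgroup ↥H) ≃* Matrix.ProjectiveSpecialLinearGroup (Fin 2) F₁₉) ∧ IsEmpty (↥(Cfsg.generalizedFittingSubgroup ↥H) ≃* Matrix.ProjectiveSpecialLinearGroup (Fin 2) F₂₇) ∧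
    IsEmpty (↥(Cfsg.generalizedFittingSubgroup ↥H) ≃* Matrix.ProjectiveSpecialLinearGroup (Fin 4) (ZMod 3)) ∧ IsEmpty (↥(Cfsg.generalizedFittingSubgroup ↥H) ≃* Cfsg.PSU 4 F₉ 3) ∧
    IsEmpty (↥(Cfsg.generalizedFittingSubgroup ↥H) ≃* ↥(Cfsg.Omega (ZMod 3) (Cfsg.quadFormOdd 3 (ZMod 3)))) ∧ IsEmpty (↥(Cfsg.generalizedFittingSubgroup ↥H) ≃* ↥(Cfsg.Lie.chevG2.group (ZMod 3))) ∧
    IsEmpty (↥(Cfsg.generalizedFittingSubgroup ↥H) ≃* ↥(alternatingGroup (Fin 13))) ∧ ¬ Cfsg.Spor.IsoJ2 ↥(Cfsg.generalizedFittingSubgroup ↥H) ∧ IsEmpty (↥(Cfsg.generalizedFittingSubgroup ↥H) ≃* ↥(Cfsg.Lie.chevG2.group F₈)) := by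
  refine ⟨H540.E72.row_l2_19 h19 H hH, ⟨fun e => H943.E7V.L27.no_psl227 h27 H hH e⟩,
    ⟨fun e => H943.E7V.Rows.no_psl43 H hH e⟩, H540.E72.empty_of_not_adm (H248.E7U.not_psu43 h9) H,
    H540.E72.empty_of_not_adm H174.E72.not_omega7 H, H540.E72.empty_of_not_adm H299.E7V.not_chevG2_three H,
    H540.E72.row_a13 H hH, fun h => H846.E72.not_j2 h (H540.E72.adm_sub H _), H949.E7G.Row.row h8 H⟩

end Cfsg.Agent.S5935
end

private theorem dce_47ad87d74386 : _root_.True := by
  try have : _root_.True := by simp only [_root_.Cfsg.Agent.H949.E7G.GTwo.dm.eq_1]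
  try have : _root_.True := by simp only [_root_.Cfsg.Agent.H949.E7G.GTwo.cm.eq_1]
  exact _root_.True.intro
end
end
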